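import Mathlib

set_option autoImplicit false

namespace Cfsg.Agent.Lib.Helper90

/-- If an involution `t` normalizes the finite subgroup `K` and centralizes no non-trivial
element of `K`, then `t` inverts every element of `K`. -/
theorem inverts_of_fixedPointFree {G : Type*} [Group G] (K : Subgroup G) [Finite K] (t : G)
    (ht : t * t = 1) (htK : t ∈ Subgroup.normalizer (K : Set G))
    (hfix : ∀ k ∈ K, t * k = k * t → k = 1) : ∀ k ∈ K, t * k * t⁻¹ = k⁻¹ := by
  have htinv : t⁻¹ = t := inv_eq_of_mul_eq_one_left ht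
  have hmem : ∀ k ∈ K, k⁻¹ * (t * k * t⁻¹) ∈ K := fun k hk =>
    K.mul_mem (K.inv_mem hk) ((htK k).mp hk)
  let φ : K → K := fun k => ⟨(k : G)⁻¹ * (t * k * t⁻¹), hmem k k.2⟩
  have hinj : Function.Injective φ := by
    intro k l hkl
    have h1 : (k : G)⁻¹ * (t * k * t⁻¹) = (l : G)⁻¹ * (t * l * t⁻¹) := congrArg Subtype.val hkl
    have h2 : t * ((l : G) * (k : G)⁻¹) = ((l : G) * (k : G)⁻¹) * t := by
      have e1 : t * ((l : G) * (k : G)⁻¹) = (l : G) * ((l : G)⁻¹ * (t * l * t⁻¹)) * (t * (k : G)⁻¹) := by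
        group
      rw [e1, ← h1]
      group
    have h3 := hfix _ (K.mul_mem l.2 (K.inv_mem k.2)) h2
    have h4 : (l : G) = k := by
      have : (l : G) = ((l : G) * (k : G)⁻¹) * k := by group
      rw [this, h3, one_mul]
    exact Subtype.ext h4.symm
  have hsurj : Function.Surjective φ := Finite.injective_iff_surjective.mp hinj
  intro k hk
  obtain ⟨m, hm⟩ := hsurj ⟨k, hk⟩
  have hm' : (m : G)⁻¹ * (t * m * t⁻¹) = k := congrArg Subtype.val hm
  rw [← hm', htinv]
  have e : t * ((m : G)⁻¹ * (t * ↑m * t)) * t = t * (m : G)⁻¹ * t * m * (t * t) := by group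
  rw [e, ht, mul_one]
  have e2 : ((m : G)⁻¹ * (t * ↑m * t))⁻¹ = t⁻¹ * (m : G)⁻¹ * t⁻¹ * m := by group
  rw [e2, htinv]

/-- If `t` inverts every element of the subgroup `K` (by conjugation), `K` is commutative. -/
theorem commute_of_inverts {G : Type*} [Group G] (K : Subgroup G) (t : G)
    (hinv : ∀ k ∈ K, t * k * t⁻¹ = k⁻¹) {k l : G} (hk : k ∈ K) (hl : l ∈ K) : k * l = l * k := by
  have h1 := hinv _ (K.mul_mem hk hl)
  have h2 : t * (k * l) * t⁻¹ = (t * k * t⁻¹) * (t * l * t⁻¹) := by group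
  rw [h2, hinv k hk, hinv l hl] at h1
  have h3 : (k⁻¹ * l⁻¹)⁻¹ = ((k * l)⁻¹)⁻¹ := by rw [h1]
  simpa using h3.symm

end Cfsg.Agent.Lib.Helper90
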