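import Mathlib

set_option autoImplicit false

namespace Cfsg.Agent.Lib.Helper90

section

variable {G : Type*} [Group G]

/-- Conjugation by an element of the normalizer, as an automorphism of the subgroup. -/
def conjNormalizer (Q : Subgroup G) (g : G) (hg : g ∈ Subgroup.normalizer (Q : Set G)) :
    ↥Q ≃* ↥Q where
  toFun q := ⟨g * q * g⁻¹, (Subgroup.mem_normalizer_iff.mp hg q).mp q.2⟩
  invFun q := ⟨g⁻¹ * q * g, (Subgroup.mem_normalizer_iff''.mp hg q).mp q.2⟩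
  left_inv q := by
    apply Subtype.ext
    show g⁻¹ * (g * q * g⁻¹) * g = q
    group
  right_inv q := by
    apply Subtype.ext
    show g * (g⁻¹ * q * g) * g⁻¹ = q
    group
  map_mul' a b := by
    apply Subtype.ext
    show g * (a * b : G) * g⁻¹ = (g * a * g⁻¹) * (g * b * g⁻¹)
    group

/-- The normalizer of `Q` normalizes the Frattini subgroup of `Q`. -/
theorem conj_mem_frattini_map (Q : Subgroup G) {g : G}
    (hg : g ∈ Subgroup.normalizer (Q : Set G)) {x : G}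
    (hx : x ∈ (frattini ↥Q).map Q.subtype) : g * x * g⁻¹ ∈ (frattini ↥Q).map Q.subtype := by
  obtain ⟨f, hf, rfl⟩ := hx
  have hchar := (Subgroup.characteristic_iff_map_eq.mp (frattini_characteristic (G := ↥Q)))
    (conjNormalizer Q g hg)
  have hmem : (conjNormalizer Q g hg) f ∈ frattini ↥Q := by
    rw [← hchar]
    exact Subgroup.mem_map_of_mem _ hf
  exact ⟨_, hmem, rfl⟩

/-- An element of order prime to 6 normalizing a subgroup `Q` whose Frattini quotient has order at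
most 4 acts trivially on the Frattini quotient. -/
theorem comm_mem_frattini_of_index_le_four [Finite G] (Q : Subgroup G)
    (hidx : (frattini ↥Q).index ≤ 4) (g : G) (hg : g ∈ Subgroup.normalizer (Q : Set G))
    (hodd : Odd (orderOf g)) (h3 : ¬ 3 ∣ orderOf g) {q : G} (hq : q ∈ Q) :
    g * q * g⁻¹ * q⁻¹ ∈ (frattini ↥Q).map Q.subtype := by
  classical
  set Φ := (frattini ↥Q).map Q.subtype with hΦ
  have hΦQ : Φ ≤ Q := Subgroup.map_subtype_le _
  have hQN : Q ≤ Subgroup.normalizer (Q : Set G) := Subgroup.le_normalizer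
  -- the stabilizer of the coset `qΦ`
  let S : Subgroup G :=
    { carrier := {h | h ∈ Subgroup.normalizer (Q : Set G) ∧ h * q * h⁻¹ * q⁻¹ ∈ Φ}
      one_mem' := by
        refine ⟨Subgroup.one_mem _, ?_⟩
        have : (1 : G) * q * 1⁻¹ * q⁻¹ = 1 := by group
        rw [this]; exact Φ.one_mem
      mul_mem' := by
        rintro a b ⟨ha1, ha2⟩ ⟨hb1, hb2⟩
        refine ⟨Subgroup.mul_mem _ ha1 hb1, ?_⟩
        have h1 := conj_mem_frattini_map Q ha1 hb2
        have e : a * b * q * (a * b)⁻¹ * q⁻¹ =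
            a * (b * q * b⁻¹ * q⁻¹) * a⁻¹ * (a * q * a⁻¹ * q⁻¹) := by group
        rw [e]; exact Φ.mul_mem h1 ha2
      inv_mem' := by
        rintro a ⟨ha1, ha2⟩
        refine ⟨Subgroup.inv_mem _ ha1, ?_⟩
        have h1 := conj_mem_frattini_map Q (Subgroup.inv_mem _ ha1) (Φ.inv_mem ha2)
        have e : a⁻¹ * q * a⁻¹⁻¹ * q⁻¹ = a⁻¹ * (a * q * a⁻¹ * q⁻¹)⁻¹ * a⁻¹⁻¹ := by group
        rw [e]; exact h1 }
  have hSmem : ∀ h : G, h ∈ S ↔
      (h ∈ Subgroup.normalizer (Q : Set G) ∧ h * q * h⁻¹ * q⁻¹ ∈ Φ) := fun h => Iff.rfl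
  suffices hgS : g ∈ S from ((hSmem g).mp hgS).2
  by_cases hqΦ : q ∈ Φ
  · rw [hSmem]
    refine ⟨hg, ?_⟩
    have h1 := conj_mem_frattini_map Q hg hqΦ
    have e : g * q * g⁻¹ * q⁻¹ = (g * q * g⁻¹) * q⁻¹ := by group
    rw [e]; exact Φ.mul_mem h1 (Φ.inv_mem hqΦ)
  -- the conjugates `g^i q g^-i`
  have hpowN : ∀ i : ℕ, g ^ i ∈ Subgroup.normalizer (Q : Set G) := fun i =>
    Subgroup.pow_mem _ hg i
  have hqi : ∀ i : ℕ, g ^ i * q * (g ^ i)⁻¹ ∈ Q := fun i =>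
    (Subgroup.mem_normalizer_iff.mp (hpowN i) q).mp hq
  have hcard : Nat.card (↥Q ⧸ frattini ↥Q) ≤ 4 := by
    rw [← Subgroup.index_eq_card]; exact hidx
  have : Fintype (↥Q ⧸ frattini ↥Q) := Fintype.ofFinite _
  let f : Option (Fin 4) → (↥Q ⧸ frattini ↥Q) := fun o =>
    match o with
    | none => 1
    | some i => QuotientGroup.mk (⟨g ^ (i : ℕ) * q * (g ^ (i : ℕ))⁻¹, hqi i⟩ : ↥Q)
  have hlt : Fintype.card (↥Q ⧸ frattini ↥Q) < Fintype.card (Option (Fin 4)) := by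
    rw [← Nat.card_eq_fintype_card]
    simp only [Fintype.card_option, Fintype.card_fin]
    omega
  obtain ⟨x, y, hxy, hfxy⟩ := Fintype.exists_ne_map_eq_of_card_lt f hlt
  -- key: two distinct indices with equal cosets give a power of `g` in `S`
  have hne1 : ∀ i : Fin 4, f (some i) ≠ 1 := by
    intro i hc
    have h1 : (⟨g ^ (i : ℕ) * q * (g ^ (i : ℕ))⁻¹, hqi i⟩ : ↥Q) ∈ frattini ↥Q :=
      (QuotientGroup.eq_one_iff _).mp hc
    have h2 : g ^ (i : ℕ) * q * (g ^ (i : ℕ))⁻¹ ∈ Φ := ⟨_, h1, rfl⟩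
    have h3' := conj_mem_frattini_map Q (Subgroup.inv_mem _ (hpowN i)) h2
    have e : (g ^ (i : ℕ))⁻¹ * (g ^ (i : ℕ) * q * (g ^ (i : ℕ))⁻¹) * (g ^ (i : ℕ))⁻¹⁻¹ = q := by
      group
    rw [e] at h3'
    exact hqΦ h3'
  have key : ∀ i j : ℕ, i < j → j < 4 →
      (QuotientGroup.mk (⟨g ^ i * q * (g ^ i)⁻¹, hqi i⟩ : ↥Q) : ↥Q ⧸ frattini ↥Q) =
        QuotientGroup.mk (⟨g ^ j * q * (g ^ j)⁻¹, hqi j⟩ : ↥Q) → g ∈ S := by
    intro i j hij hj4 heq
    obtain ⟨d, rfl⟩ : ∃ d, j = i + d := ⟨j - i, by omega⟩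
    have hd1 : 1 ≤ d := by omega
    have hd4 : d < 4 := by omega
    have h1 : (⟨g ^ i * q * (g ^ i)⁻¹, hqi i⟩ : ↥Q)⁻¹ * ⟨g ^ (i + d) * q * (g ^ (i + d))⁻¹, hqi (i + d)⟩
        ∈ frattini ↥Q := QuotientGroup.eq.mp heq
    have h2 : (g ^ i * q * (g ^ i)⁻¹)⁻¹ * (g ^ (i + d) * q * (g ^ (i + d))⁻¹) ∈ Φ := ⟨_, h1, rfl⟩
    have h3' := conj_mem_frattini_map Q (Subgroup.inv_mem _ (hpowN i)) h2
    have e : (g ^ i)⁻¹ * ((g ^ i * q * (g ^ i)⁻¹)⁻¹ * (g ^ (i + d) * q * (g ^ (i + d))⁻¹)) *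
        (g ^ i)⁻¹⁻¹ = q⁻¹ * (g ^ d * q * (g ^ d)⁻¹) := by
      rw [pow_add]; group
    rw [e] at h3'
    have h4 := conj_mem_frattini_map Q (hQN hq) h3'
    have e2 : q * (q⁻¹ * (g ^ d * q * (g ^ d)⁻¹)) * q⁻¹ = g ^ d * q * (g ^ d)⁻¹ * q⁻¹ := by group
    rw [e2] at h4
    have hgdS : g ^ d ∈ S := (hSmem _).mpr ⟨hpowN d, h4⟩
    -- `g` is a power of `g ^ d`
    have hcop : (orderOf g).Coprime d := by
      have : d = 1 ∨ d = 2 ∨ d = 3 := by omega
      rcases this with rfl | rfl | rfl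
      · exact Nat.coprime_one_right _
      · exact (Nat.coprime_two_right).mpr hodd
      · exact ((Nat.Prime.coprime_iff_not_dvd Nat.prime_three).mpr h3).symm
    have hord : orderOf (g ^ d) = orderOf g := hcop.orderOf_pow
    have hle : Subgroup.zpowers (g ^ d) ≤ Subgroup.zpowers g :=
      Subgroup.zpowers_le.mpr (Subgroup.pow_mem _ (Subgroup.mem_zpowers g) d)
    have heq' : Subgroup.zpowers (g ^ d) = Subgroup.zpowers g :=
      Subgroup.eq_of_le_of_card_ge hle (by rw [Nat.card_zpowers, Nat.card_zpowers, hord])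
    have hgz : g ∈ Subgroup.zpowers (g ^ d) := by rw [heq']; exact Subgroup.mem_zpowers g
    exact (Subgroup.zpowers_le.mpr hgdS) hgz
  cases x with
  | none =>
    cases y with
    | none => exact absurd rfl hxy
    | some j => exact absurd hfxy.symm (hne1 j)
  | some i =>
    cases y with
    | none => exact absurd hfxy (hne1 i)
    | some j =>
      have hij : (i : ℕ) ≠ (j : ℕ) := by
        intro h; apply hxy; rw [Fin.ext h]
      rcases Nat.lt_or_gt_of_ne hij with h | h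
      · exact key i j h j.2 hfxy
      · exact key j i h i.2 hfxy.symm

end

end Cfsg.Agent.Lib.Helper90
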