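import Mathlib

set_option autoImplicit false

namespace Cfsg.Agent.Lib.Helper90.ReeW

/-- [W-SYLCONJ]: a subgroup `C` carrying the full `p`-part of `|G|` contains a conjugate of every
`p`-subgroup. -/
theorem exists_conj_mem_of_factorization {G : Type*} [Group G] [Finite G] {p : ℕ} [Fact p.Prime]
    (C : Subgroup G) (h : (Nat.card G).factorization p = (Nat.card ↥C).factorization p)
    (R : Subgroup G) (hR : IsPGroup p ↥R) : ∃ g : G, ∀ x ∈ R, g * x * g⁻¹ ∈ C := by
  classical
  -- a Sylow p-subgroup of C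
  obtain ⟨Q⟩ : Nonempty (Sylow p ↥C) := inferInstance
  have hQcard : Nat.card ↥(Q : Subgroup ↥C) = p ^ (Nat.card ↥C).factorization p :=
    Sylow.card_eq_multiplicity Q
  -- its image in G
  set Q' : Subgroup G := (Q : Subgroup ↥C).map C.subtype with hQ'
  have hQ'card : Nat.card ↥Q' = p ^ (Nat.card G).factorization p := by
    rw [h, ← hQcard]
    exact Nat.card_congr ((Q : Subgroup ↥C).equivMapOfInjective C.subtype
      C.subtype_injective).symm.toEquiv
  let S : Sylow p G := Sylow.ofCard Q' hQ'card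
  obtain ⟨P, hRP⟩ := hR.exists_le_sylow
  obtain ⟨g, hg⟩ := MulAction.exists_smul_eq G P S
  refine ⟨g, fun x hx => ?_⟩
  have hxP : x ∈ (P : Subgroup G) := hRP hx
  have : g * x * g⁻¹ ∈ ((g • P : Sylow p G) : Subgroup G) := by
    rw [Sylow.coe_subgroup_smul]
    rw [Subgroup.mem_pointwise_smul_iff_inv_smul_mem]
    simpa [MulAut.smul_def, mul_assoc] using hxP
  rw [hg] at this
  have h2 : g * x * g⁻¹ ∈ Q' := this
  rw [hQ', Subgroup.mem_map] at h2
  obtain ⟨y, _, hy⟩ := h2
  rw [← hy]
  exact y.2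

end Cfsg.Agent.Lib.Helper90.ReeW
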