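/-
helper90: module SAF-[BURN] of helper2's project SAF (S4025): Burnside's fusion argument for subgroups of an abelian
Sylow subgroup.
-/
import Mathlib
import Cfsg.Prelude.Def_Transfer
import Cfsg.Prelude.Def_CaseTheorems
import Cfsg.Prelude.Def_Perm
import Cfsg.Agent.Lib.Helper2.SafDefs

set_option autoImplicit false

namespace Cfsg.Agent.Lib.Helper90.Saf

open Cfsg Cfsg.Agent.Lib.Helper2.Saf

theorem burnside_subgroup {G : Type*} [Group G] [Finite G] {p : ℕ} [Fact p.Prime] (P : Sylow p G)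
    (hP : ∀ x ∈ (P : Subgroup G), ∀ y ∈ (P : Subgroup G), x * y = y * x)
    (H₁ H₂ : Subgroup G) (h₁ : H₁ ≤ P) (h₂ : H₂ ≤ P) (g : G)
    (hg : H₂ = H₁.map (MulAut.conj g).toMonoidHom) :
    ∃ n ∈ Subgroup.normalizer ((P : Subgroup G) : Set G),
      H₂ = H₁.map (MulAut.conj n).toMonoidHom := by
  have h1 : (P : Subgroup G) ≤ Subgroup.centralizer (H₂ : Set G) := by
    intro x hx y hy
    exact hP y (h₂ hy) x hx
  have h2 : ((g • P : Sylow p G) : Subgroup G) ≤ Subgroup.centralizer (H₂ : Set G) := by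
    intro x hx y hy
    rw [Sylow.coe_subgroup_smul, Subgroup.mem_pointwise_smul_iff_inv_smul_mem] at hx
    -- `y = g z g⁻¹` with `z ∈ H₁ ≤ P`, and `g⁻¹ x g ∈ P`
    rw [hg] at hy
    obtain ⟨z, hz, rfl⟩ := Subgroup.mem_map.mp hy
    have hx' : g⁻¹ * x * g ∈ (P : Subgroup G) := by
      simpa [MulAut.smul_def, MulAut.conj_apply] using hx
    have hc := hP z (h₁ hz) _ hx'
    show (MulAut.conj g) z * x = x * (MulAut.conj g) z
    rw [MulAut.conj_apply]
    calc g * z * g⁻¹ * x = g * (z * (g⁻¹ * x * g)) * g⁻¹ := by group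
      _ = g * ((g⁻¹ * x * g) * z) * g⁻¹ := by rw [hc]
      _ = x * (g * z * g⁻¹) := by group
  obtain ⟨c, hc⟩ := MulAction.exists_smul_eq (Subgroup.centralizer (H₂ : Set G))
    ((g • P).subtype h2) (P.subtype h1)
  simp_rw [Sylow.smul_subtype, Subgroup.smul_def, smul_smul] at hc
  refine ⟨c * g, Sylow.smul_eq_iff_mem_normalizer.mp (Sylow.subtype_injective hc), ?_⟩
  ext x
  constructor
  · intro hx
    rw [hg] at hx
    obtain ⟨z, hz, rfl⟩ := Subgroup.mem_map.mp hx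
    refine Subgroup.mem_map.mpr ⟨z, hz, ?_⟩
    have hcz := c.prop ((MulAut.conj g) z) (by rw [hg]; exact Subgroup.mem_map.mpr ⟨z, hz, rfl⟩)
    show (MulAut.conj (↑c * g)) z = (MulAut.conj g) z
    rw [MulAut.conj_apply, MulAut.conj_apply] at *
    calc ↑c * g * z * (↑c * g)⁻¹ = (↑c * (g * z * g⁻¹)) * (↑c : G)⁻¹ := by group
      _ = ((g * z * g⁻¹) * ↑c) * (↑c : G)⁻¹ := by rw [hcz]
      _ = g * z * g⁻¹ := by group
  · intro hx
    obtain ⟨z, hz, rfl⟩ := Subgroup.mem_map.mp hx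
    have hmem : (MulAut.conj g) z ∈ H₂ := by rw [hg]; exact Subgroup.mem_map.mpr ⟨z, hz, rfl⟩
    have hcz := c.prop ((MulAut.conj g) z) hmem
    have e : (MulAut.conj (↑c * g)) z = (MulAut.conj g) z := by
      rw [MulAut.conj_apply, MulAut.conj_apply] at *
      calc ↑c * g * z * (↑c * g)⁻¹ = (↑c * (g * z * g⁻¹)) * (↑c : G)⁻¹ := by group
        _ = ((g * z * g⁻¹) * ↑c) * (↑c : G)⁻¹ := by rw [hcz]
        _ = g * z * g⁻¹ := by group
    show (MulAut.conj (↑c * g)) z ∈ H₂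
    rw [e]
    exact hmem

end Cfsg.Agent.Lib.Helper90.Saf
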