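/-
helper90: module SAF-[STRUCT] of helper2's project SAF (S4025): for `N = N_G(P)`, `P` an elementary abelian Sylow
`p`-subgroup of order `p ^ n` and all `p`-subgroups of equal order conjugate, the image of `P` in `N / O_{p'}(N)` is a
self-centralizing normal elementary abelian subgroup of `p'`-index whose subgroups of equal order are conjugate.
-/
import Mathlib
import Cfsg.Prelude.Def_Transfer
import Cfsg.Prelude.Def_CaseTheorems
import Cfsg.Prelude.Def_Perm
import Cfsg.Agent.Lib.Helper2.SafDefs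
import Cfsg.Agent.Lib.Helper22.PPrimeCore
import Cfsg.Agent.Lib.Helper90.SafBurn

set_option autoImplicit false

namespace Cfsg.Agent.Lib.Helper90.Saf

open Cfsg Cfsg.Agent.Lib.Helper2.Saf

section abstract

variable {M : Type*} [Group M] [Finite M] {p : ℕ} [Fact p.Prime]

/-- The image of a subgroup meeting the kernel trivially has the same order. -/
theorem card_map_of_inf_ker {Q : Type*} [Group Q] (f : M →* Q) (S : Subgroup M) (h : S ⊓ f.ker = ⊥) :
    Nat.card (S.map f) = Nat.card S := by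
  have hinj : Function.Injective (f.domRestrict S) := by
    rw [← MonoidHom.ker_eq_bot_iff, eq_bot_iff]
    intro x hx
    rw [MonoidHom.mem_ker, MonoidHom.domRestrict_apply] at hx
    have : (x : M) ∈ S ⊓ f.ker := ⟨x.2, hx⟩
    rw [h, Subgroup.mem_bot] at this
    exact Subtype.ext this
  rw [← MonoidHom.domRestrict_range]
  exact (Nat.card_congr (MonoidHom.ofInjective hinj).toEquiv).symm

/-- The centralizer of a normal abelian Sylow `p`-subgroup is the product of it with a normal `p'`-subgroup. -/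
theorem centralizer_le_sup_pPrimeCore (P : Sylow p M) [(P : Subgroup M).Normal]
    (hcomm : ∀ x ∈ (P : Subgroup M), ∀ y ∈ (P : Subgroup M), x * y = y * x) (m : M)
    (hm : m ∈ Subgroup.centralizer ((P : Subgroup M) : Set M)) :
    ∃ t ∈ pPrimeCore p M, ∃ x ∈ (P : Subgroup M), m = t * x := by
  set C : Subgroup M := Subgroup.centralizer ((P : Subgroup M) : Set M) with hC
  have hPC : (P : Subgroup M) ≤ C := by
    intro x hx y hy
    exact hcomm y hy x hx
  let P'' : Sylow p C := P.subtype hPC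
  have hcen : Subgroup.normalizer ((P'' : Subgroup C) : Set C) ≤ Subgroup.centralizer ((P'' : Subgroup C) : Set C) := by
    intro c _ y hy
    have hy' : (y : M) ∈ (P : Subgroup M) := by
      have : y ∈ (P : Subgroup M).subgroupOf C := hy
      exact Subgroup.mem_subgroupOf.mp this
    exact Subtype.ext (c.2 (y : M) hy')
  have hcomp := MonoidHom.ker_transferSylow_isComplement' P'' hcen
  set T : Subgroup C := (MonoidHom.transferSylow P'' hcen).ker with hT
  have hTcard : (Nat.card T).Coprime p := by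
    have h1 : (P'' : Subgroup C).index = Nat.card T := hcomp.index_eq_card
    rw [← h1]
    exact ((Nat.Prime.coprime_iff_not_dvd (Fact.out : p.Prime)).mpr P''.not_dvd_index).symm
  have hTle : T ≤ pPrimeCore p C := Cfsg.Agent.Lib.Helper1.le_pPrimeCore (MonoidHom.normal_ker _) hTcard
  have hmap : (pPrimeCore p C).map C.subtype ≤ pPrimeCore p M :=
    Cfsg.Agent.Lib.Helper22.pPrimeCore_map_subtype_le_of_normal p C
  obtain ⟨⟨⟨t, ht⟩, ⟨x, hx⟩⟩, hprod, -⟩ := hcomp.existsUnique (⟨m, hm⟩ : C)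
  refine ⟨(t : M), hmap ⟨t, hTle ht, rfl⟩, (x : M), ?_, ?_⟩
  · have : x ∈ (P : Subgroup M).subgroupOf C := hx
    exact Subgroup.mem_subgroupOf.mp this
  · have := congrArg (fun c : C => (c : M)) hprod
    simpa using this.symm

/-- The image of a normal elementary abelian Sylow `p`-subgroup in the quotient by the `p'`-core. -/
theorem normalEA_of_sylow (P : Sylow p M) [(P : Subgroup M).Normal] (n : ℕ)
    (hcomm : ∀ x ∈ (P : Subgroup M), ∀ y ∈ (P : Subgroup M), x * y = y * x)
    (hexp : ∀ x ∈ (P : Subgroup M), x ^ p = 1) (hcard : Nat.card (P : Subgroup M) = p ^ n)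
    (htr : ∀ H₁ H₂ : Subgroup M, H₁ ≤ P → H₂ ≤ P → Nat.card H₁ = Nat.card H₂ →
      ∃ m : M, H₂ = H₁.map (MulAut.conj m).toMonoidHom) :
    NormalEA p n ((P : Subgroup M).map (QuotientGroup.mk' (pPrimeCore p M))) := by
  set K := pPrimeCore p M with hK
  set mk := QuotientGroup.mk' K with hmk
  have hsurj : Function.Surjective mk := QuotientGroup.mk'_surjective K
  have hker : mk.ker = K := QuotientGroup.ker_mk' K
  have hinf : (P : Subgroup M) ⊓ K = ⊥ := by
    apply Disjoint.eq_bot
    apply Subgroup.disjoint_of_coprime_natCard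
    rw [hcard]
    exact Nat.Coprime.pow_left n (Cfsg.Agent.Lib.Helper22.pPrimeCore_card_coprime p).symm
  have hinfS : ∀ S : Subgroup M, S ≤ P → S ⊓ mk.ker = ⊥ := by
    intro S hS
    rw [hker, eq_bot_iff, ← hinf]
    exact inf_le_inf_right K hS
  refine ⟨?_, ?_, ?_, ?_, ?_, ?_, ?_⟩
  · -- normal
    exact Subgroup.Normal.map inferInstance mk hsurj
  · -- commutative
    rintro _ ⟨x, hx, rfl⟩ _ ⟨y, hy, rfl⟩
    rw [← map_mul, ← map_mul, hcomm x hx y hy]
  · -- exponent
    rintro _ ⟨x, hx, rfl⟩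
    rw [← map_pow, hexp x hx, map_one]
  · -- order
    rw [card_map_of_inf_ker mk _ (hinfS _ le_rfl), hcard]
  · -- self-centralizing
    intro q hq
    obtain ⟨m, rfl⟩ := hsurj q
    have hm : m ∈ Subgroup.centralizer ((P : Subgroup M) : Set M) := by
      intro x hx
      have h1 : mk x * mk m = mk m * mk x := hq (mk x) ⟨x, hx, rfl⟩
      have hc : x * m * x⁻¹ * m⁻¹ ∈ (P : Subgroup M) ⊓ K := by
        refine Subgroup.mem_inf.mpr ⟨?_, ?_⟩
        · have hn : m * x⁻¹ * m⁻¹ ∈ (P : Subgroup M) :=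
            (inferInstance : (P : Subgroup M).Normal).conj_mem _ (inv_mem hx) m
          have : x * m * x⁻¹ * m⁻¹ = x * (m * x⁻¹ * m⁻¹) := by group
          rw [this]
          exact mul_mem hx hn
        · rw [← hker, MonoidHom.mem_ker, map_mul, map_mul, map_mul, map_inv, map_inv, h1]
          group
      rw [hinf, Subgroup.mem_bot] at hc
      calc x * m = (x * m * x⁻¹ * m⁻¹) * (m * x) := by group
        _ = m * x := by rw [hc, one_mul]
    obtain ⟨t, ht, x, hx, rfl⟩ := centralizer_le_sup_pPrimeCore P hcomm m hm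
    refine ⟨x, hx, ?_⟩
    have : mk t = 1 := by rw [← MonoidHom.mem_ker, hker]; exact ht
    rw [map_mul, this, one_mul]
  · -- index prime to `p`
    intro hdvd
    exact P.not_dvd_index (dvd_trans hdvd (Subgroup.index_map_dvd (P : Subgroup M) hsurj))
  · -- transitivity
    intro H₁ H₂ h₁ h₂ hc
    have key : ∀ H : Subgroup (M ⧸ K), H ≤ (P : Subgroup M).map mk →
        (H.comap mk ⊓ (P : Subgroup M)).map mk = H := by
      intro H hH
      apply le_antisymm
      · rintro _ ⟨x, hx, rfl⟩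
        exact hx.1
      · intro y hy
        obtain ⟨x, hx, rfl⟩ := hH hy
        exact ⟨x, ⟨hy, hx⟩, rfl⟩
    have c1 : Nat.card (H₁.comap mk ⊓ (P : Subgroup M) : Subgroup M) = Nat.card H₁ := by
      rw [← card_map_of_inf_ker mk _ (hinfS _ inf_le_right), key H₁ h₁]
    have c2 : Nat.card (H₂.comap mk ⊓ (P : Subgroup M) : Subgroup M) = Nat.card H₂ := by
      rw [← card_map_of_inf_ker mk _ (hinfS _ inf_le_right), key H₂ h₂]
    obtain ⟨m, hm⟩ := htr _ _ inf_le_right inf_le_right (c1.trans (hc.trans c2.symm))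
    refine ⟨mk m, ?_⟩
    have e1 := key H₁ h₁
    have e2 := key H₂ h₂
    calc H₂ = (H₂.comap mk ⊓ (P : Subgroup M)).map mk := e2.symm
      _ = ((H₁.comap mk ⊓ (P : Subgroup M)).map (MulAut.conj m).toMonoidHom).map mk := by rw [hm]
      _ = ((H₁.comap mk ⊓ (P : Subgroup M)).map mk).map (MulAut.conj (mk m)).toMonoidHom := by
          rw [Subgroup.map_map, Subgroup.map_map]
          congr 1
      _ = H₁.map (MulAut.conj (mk m)).toMonoidHom := by rw [e1]

end abstract

/-- Conjugacy in `G` of subgroups of the abelian Sylow subgroup `P` descends to `N = N_G(P)`. -/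
theorem trans_in_normalizer {G : Type*} [Group G] [Finite G] {p : ℕ} [Fact p.Prime]
    (hC : ∀ H K : Subgroup G, IsPGroup p H → IsPGroup p K → Nat.card H = Nat.card K →
      ∃ g : G, K = H.map (MulAut.conj g).toMonoidHom) (P : Sylow p G)
    (hcomm : ∀ x ∈ (P : Subgroup G), ∀ y ∈ (P : Subgroup G), x * y = y * x)
    (N : Subgroup G) (hN : N = Subgroup.normalizer ((P : Subgroup G) : Set G))
    (H₁ H₂ : Subgroup N) (h₁ : H₁ ≤ (P : Subgroup G).subgroupOf N) (h₂ : H₂ ≤ (P : Subgroup G).subgroupOf N)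
    (hc : Nat.card H₁ = Nat.card H₂) :
    ∃ m : N, H₂ = H₁.map (MulAut.conj m).toMonoidHom := by
  have hle : ∀ H : Subgroup N, H ≤ (P : Subgroup G).subgroupOf N → H.map N.subtype ≤ (P : Subgroup G) := by
    rintro H hH _ ⟨x, hx, rfl⟩
    exact Subgroup.mem_subgroupOf.mp (hH hx)
  have hcard' : ∀ H : Subgroup N, Nat.card (H.map N.subtype) = Nat.card H := fun H =>
    Subgroup.card_map_of_injective N.subtype_injective
  obtain ⟨g, hg⟩ := hC (H₁.map N.subtype) (H₂.map N.subtype) (P.isPGroup'.to_le (hle H₁ h₁))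
    (P.isPGroup'.to_le (hle H₂ h₂)) (by rw [hcard', hcard', hc])
  obtain ⟨nn, hnn, hn⟩ := burnside_subgroup P hcomm _ _ (hle H₁ h₁) (hle H₂ h₂) g hg
  have hnnN : nn ∈ N := by rw [hN]; exact hnn
  refine ⟨⟨nn, hnnN⟩, ?_⟩
  ext x
  rw [Subgroup.mem_map]
  constructor
  · intro hx
    have hx' : (x : G) ∈ H₂.map N.subtype := ⟨x, hx, rfl⟩
    rw [hn] at hx'
    obtain ⟨_, ⟨z, hz, rfl⟩, hzx⟩ := hx'
    refine ⟨z, hz, Subtype.ext ?_⟩
    simpa [MulAut.conj_apply] using hzx
  · rintro ⟨z, hz, rfl⟩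
    have hmem : (MulAut.conj nn) (z : G) ∈ H₂.map N.subtype := by
      rw [hn]
      exact ⟨(z : G), ⟨z, hz, rfl⟩, rfl⟩
    obtain ⟨y, hy, hyz⟩ := hmem
    have e : y = (MulAut.conj (⟨nn, hnnN⟩ : N)).toMonoidHom z := by
      apply Subtype.ext
      rw [Subgroup.coe_subtype] at hyz
      rw [hyz]
      simp [MulAut.conj_apply]
    rw [← e]
    exact hy

/-- SAF-[STRUCT]. -/
theorem exists_normalEA {G : Type*} [Group G] [Finite G] {p : ℕ} [Fact p.Prime]
    (hC : ∀ H K : Subgroup G, IsPGroup p H → IsPGroup p K → Nat.card H = Nat.card K →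
      ∃ g : G, K = H.map (MulAut.conj g).toMonoidHom) (P : Sylow p G) (n : ℕ)
    (hel : Cfsg.IsElementaryAbelian p (P : Subgroup G)) (hcard : Nat.card P = p ^ n)
    (N : Subgroup G) (hN : N = Subgroup.normalizer ((P : Subgroup G) : Set G)) :
    ∃ V : Subgroup (↥N ⧸ Cfsg.pPrimeCore p ↥N), NormalEA p n V := by
  have hPN : (P : Subgroup G) ≤ N := by rw [hN]; exact Subgroup.le_normalizer
  obtain ⟨hcommI, hexp⟩ := hel
  have hcomm : ∀ x ∈ (P : Subgroup G), ∀ y ∈ (P : Subgroup G), x * y = y * x := by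
    intro x hx y hy
    have := hcommI.is_comm.comm (⟨x, hx⟩ : (P : Subgroup G)) ⟨y, hy⟩
    simpa using congrArg Subtype.val this
  have hnorm : ((P : Subgroup G).subgroupOf N).Normal := by
    subst hN
    exact Subgroup.normal_in_normalizer
  have hmem : ∀ x : N, x ∈ ((P.subtype hPN : Sylow p N) : Subgroup N) ↔ (x : G) ∈ (P : Subgroup G) := by
    intro x
    rw [Sylow.coe_subtype, Subgroup.mem_subgroupOf]
  have hnorm' : ((P.subtype hPN : Sylow p N) : Subgroup N).Normal := by
    rw [Sylow.coe_subtype]; exact hnorm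
  refine ⟨((P.subtype hPN : Sylow p N) : Subgroup N).map (QuotientGroup.mk' (pPrimeCore p N)),
    normalEA_of_sylow (P.subtype hPN) n ?_ ?_ ?_ ?_⟩
  · intro x hx y hy
    exact Subtype.ext (hcomm x ((hmem x).mp hx) y ((hmem y).mp hy))
  · intro x hx
    exact Subtype.ext (by simpa using hexp x ((hmem x).mp hx))
  · rw [Sylow.coe_subtype, ← hcard]
    exact Nat.card_congr (Subgroup.subgroupOfEquivOfLe hPN).toEquiv
  · intro H₁ H₂ h₁ h₂ hc
    rw [Sylow.coe_subtype] at h₁ h₂
    exact trans_in_normalizer hC P hcomm N hN H₁ H₂ h₁ h₂ hc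

end Cfsg.Agent.Lib.Helper90.Saf
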