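/-
helper90: definitions for S3043 (a TI-subgroup `M` of odd type inverted by an involution `z` of its
normalizer, with more involutions than `|G : M|`).  Namespace `Cfsg.Agent.Lib.Helper90.TIInv`.
Notation of the paper proof (Lib/Helper90/TIInvSPINE.md):
`N = Nm M = N_G(M)`, `H = Hz M z = C_N(z)`, `C = Cz z = C_G(z)`, `cj g K = g K g⁻¹`,
`m = |M|`, `h = |H|`, `n = |G : N|`, "involution" = `orderOf = 2`.
-/
import Mathlib

set_option autoImplicit false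

namespace Cfsg.Agent.Lib.Helper90.TIInv

variable {G : Type*} [Group G]

/-- The conjugate `g K g⁻¹`. -/
abbrev cj (g : G) (K : Subgroup G) : Subgroup G := K.map (MulAut.conj g).toMonoidHom

/-- `N = N_G(M)`. -/
abbrev Nm (M : Subgroup G) : Subgroup G := Subgroup.normalizer (M : Set G)

/-- `C = C_G(z)`. -/
abbrev Cz (z : G) : Subgroup G := Subgroup.centralizer ({z} : Set G)

/-- `H = C_N(z) = N_G(M) ∩ C_G(z)`. -/
abbrev Hz (M : Subgroup G) (z : G) : Subgroup G := Nm M ⊓ Cz z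

/-- The hypotheses of S3043 together with the negations of its first two alternatives. -/
structure Hyp (M : Subgroup G) (z : G) : Prop where
  ne : M ≠ ⊥
  ti : ∀ g : G, M ⊓ cj g M ≠ ⊥ → cj g M = M
  hz : orderOf z = 2
  zN : z ∈ Nm M
  fac : M ⊔ Hz M z = Nm M
  odd : ∀ x ∈ M, x ≠ 1 → Odd (Nat.card ↥(Subgroup.centralizer ({x} : Set G)))
  nn : ¬ M.Normal
  cnt : M.index < Nat.card {g : G // orderOf g = 2}

/-- [F1] basic facts: `M` abelian of odd order inverted by `z`, `N = M ⋊ H`. -/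
structure Basic (M : Subgroup G) (z : G) : Prop where
  oddM : Odd (Nat.card M)
  inv : ∀ x ∈ M, z * x * z⁻¹ = x⁻¹
  comm : ∀ x ∈ M, ∀ y ∈ M, x * y = y * x
  zM : z ∉ M
  MH : M ⊓ Hz M z = ⊥
  mulH : ∀ n ∈ Nm M, ∃ a ∈ M, ∃ k ∈ Hz M z, n = a * k
  cardN : Nat.card (Nm M) = Nat.card M * Nat.card (Hz M z)

/-- [F2] the involutions of `N` are the `m` elements of `M z`, all `M`-conjugate to `z`, all
inverting `M`; `z` is the only involution of `H`. -/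
structure InvN (M : Subgroup G) (z : G) : Prop where
  invs : ∀ u ∈ Nm M, orderOf u = 2 → ∃ a ∈ M, u = a * z
  isInv : ∀ a ∈ M, orderOf (a * z) = 2
  conj : ∀ a ∈ M, ∃ b ∈ M, a * z = b * z * b⁻¹
  invM : ∀ u ∈ Nm M, orderOf u = 2 → ∀ x ∈ M, u * x * u⁻¹ = x⁻¹
  zuniq : ∀ k ∈ Hz M z, orderOf k = 2 → k = z
  cardInv : Nat.card {u : G // orderOf u = 2 ∧ u ∈ Nm M} = Nat.card M

/-- [F3] a coset `M g` outside `N` contains at most one involution. -/
def Uniq (M : Subgroup G) : Prop :=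
  ∀ g : G, g ∉ Nm M → ∀ a ∈ M, ∀ b ∈ M, orderOf (a * g) = 2 → orderOf (b * g) = 2 → a = b

/-- [F4] every coset `M g` outside `N` contains an involution. -/
def Full (M : Subgroup G) : Prop :=
  ∀ g : G, g ∉ Nm M → ∃ a ∈ M, orderOf (a * g) = 2

/-- [F5] for an involution `u ∉ N`, the elements of `N ∩ uNu⁻¹` inverted by `u` cover `N / M`. -/
def Cover (M : Subgroup G) : Prop :=
  ∀ u : G, orderOf u = 2 → u ∉ Nm M → ∀ n ∈ Nm M,
    ∃ a ∈ M, a * n ∈ cj u (Nm M) ∧ u * (a * n) * u⁻¹ = (a * n)⁻¹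

/-- [F6] `M` meets every other conjugate of `N` trivially (`M` is semiregular on `G/N` off `N`). -/
def Semi (M : Subgroup G) : Prop :=
  ∀ g : G, g ∉ Nm M → M ⊓ cj g (Nm M) = ⊥

/-- [F7] every involution `u ∉ N` inverts `N ∩ uNu⁻¹`. -/
def DInv (M : Subgroup G) : Prop :=
  ∀ u : G, orderOf u = 2 → u ∉ Nm M → ∀ d ∈ Nm M ⊓ cj u (Nm M), u * d * u⁻¹ = d⁻¹

/-- [F8] the two-point stabilizers `N ∩ gNg⁻¹` are the `M`-conjugates of `H`. -/
def TwoPt (M : Subgroup G) (z : G) : Prop :=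
  ∀ g : G, g ∉ Nm M → ∃ a ∈ M, Nm M ⊓ cj g (Nm M) = cj a (Hz M z)

/-- `H` is abelian. -/
def HComm (M : Subgroup G) (z : G) : Prop :=
  ∀ k ∈ Hz M z, ∀ k' ∈ Hz M z, k * k' = k' * k

/-- [F9] the elements of `C_G(z)` outside `N` are involutions inverting `H`, they exist, and
`N ∩ cNc⁻¹ = H` for them. -/
structure CzFacts (M : Subgroup G) (z : G) : Prop where
  out : ∀ c ∈ Cz z, c ∉ Nm M → orderOf c = 2 ∧ ∀ k ∈ Hz M z, c * k * c⁻¹ = k⁻¹
  stab : ∀ c ∈ Cz z, c ∉ Nm M → Nm M ⊓ cj c (Nm M) = Hz M z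
  ex : ∃ c ∈ Cz z, c ∉ Nm M

/-- Case A: `|C_G(z) : H| = 2`. -/
def CaseA (M : Subgroup G) (z : G) : Prop :=
  Nat.card (Cz z) = 2 * Nat.card (Hz M z)

/-- Case B: `H = ⟨z⟩` and `C_G(z)` is elementary abelian of order `2^(e+1)`, `e ≥ 2`. -/
def CaseB (M : Subgroup G) (z : G) (e : ℕ) : Prop :=
  2 ≤ e ∧ Nat.card (Hz M z) = 2 ∧ Nat.card (Cz z) = 2 ^ (e + 1) ∧ ∀ c ∈ Cz z, c * c = 1

/-- [F11] `n·h + m·h = h + |C|·m`, i.e. `n = 1 + (f - 1) m` with `f = |C : H|`. -/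
def IndexEq (M : Subgroup G) (z : G) : Prop :=
  (Nm M).index * Nat.card (Hz M z) + Nat.card M * Nat.card (Hz M z) =
    Nat.card (Hz M z) + Nat.card (Cz z) * Nat.card M

/-- [F12] `J + h = m + h·n` for the number `J` of involutions of `G`. -/
def InvCount (M : Subgroup G) (z : G) : Prop :=
  Nat.card {g : G // orderOf g = 2} + Nat.card (Hz M z) =
    Nat.card M + Nat.card (Hz M z) * (Nm M).index

/-- [A2] `H` acts fixed-point-freely on `M`. -/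
def Frob (M : Subgroup G) (z : G) : Prop :=
  ∀ x ∈ M, x ≠ 1 → ∀ k ∈ Hz M z, k * x = x * k → k = 1

/-- [A1r] `M` is transitive on the cosets `gN ≠ N`. -/
def Reg (M : Subgroup G) : Prop :=
  ∀ g g' : G, g ∉ Nm M → g' ∉ Nm M → ∃ a ∈ M, (a * g)⁻¹ * g' ∈ Nm M

/-- The third alternative of S3043. -/
def Alt3 (G : Type*) [Group G] (M : Subgroup G) : Prop :=
  ∃ (F : Type) (_ : Field F) (_ : Fintype F) (p : ℕ) (_ : Fact p.Prime) (_ : CharP F p),
    Fintype.card F = Nat.card M ∧ (IsMulCommutative M ∧ ∀ a ∈ M, a ^ p = 1) ∧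
      (Nonempty (G ≃* (GL (Fin 2) F ⧸ Subgroup.center (GL (Fin 2) F))) ∨
        (Fintype.card F % 4 = 1 ∧ Nonempty (G ≃* Matrix.ProjectiveSpecialLinearGroup (Fin 2) F)))

/-- The fourth alternative of S3043. -/
def Alt4 (G : Type*) [Group G] (M : Subgroup G) : Prop :=
  ∃ (F : Type) (_ : Field F) (_ : Fintype F) (e : ℕ), 1 < e ∧ Fintype.card F = 2 ^ e ∧
    IsCyclic ↥M ∧ Nat.card M = 2 ^ e + 1 ∧
      Nonempty (G ≃* Matrix.ProjectiveSpecialLinearGroup (Fin 2) F)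

/-- The fifth alternative of S3043. -/
def Alt5 (G : Type*) [Group G] (M : Subgroup G) : Prop :=
  ∃ (d : ℕ) (E : Subgroup G), 1 ≤ d ∧ E.Normal ∧ (IsMulCommutative E ∧ ∀ a ∈ E, a ^ 2 = 1) ∧
    Nat.card E = 2 ^ (2 * d) ∧ E ⊓ Nm M = ⊥ ∧ E ⊔ Nm M = ⊤ ∧
      Nonempty (↥(Nm M) ≃* DihedralGroup (2 ^ d + 1))

end Cfsg.Agent.Lib.Helper90.TIInv
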