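import Mathlib
import Cfsg.Prelude.Def_MonsterType
import Cfsg.Agent.S0012
import Cfsg.Agent.Lib.Helper96.ElemAb

set_option autoImplicit false

namespace Cfsg.Agent.Lib.Helper90

open Cfsg

/-- Membership in the cyclic group generated by an involution. -/
theorem mem_zpowers_of_involution {P : Type*} [Group P] (z : P) (hzz : z * z = 1) (x : P) :
    x ∈ Subgroup.zpowers z ↔ (x = 1 ∨ x = z) := by
  constructor
  · rintro ⟨k, rfl⟩
    have h2 : z ^ (2 : ℤ) = 1 := by
      rw [zpow_ofNat, pow_two]; exact hzz
    have hk : z ^ k = z ^ (k % 2) := by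
      conv_lhs => rw [← Int.mul_ediv_add_emod k 2]
      rw [zpow_add, zpow_mul, h2, one_zpow, one_mul]
    rcases Int.emod_two_eq_zero_or_one k with h | h
    · left; show z ^ k = 1; rw [hk, h, zpow_zero]
    · right; show z ^ k = z; rw [hk, h, zpow_one]
  · rintro (h | h)
    · rw [h]; exact Subgroup.one_mem _
    · rw [h]; exact Subgroup.mem_zpowers z

/-- Criterion for a finite 2-group to be extraspecial: centre `{1, z}`, commutators and squares in
`{1, z}`, non-abelian. -/
theorem isExtraspecial_two_of {P : Type*} [Group P] [Finite P] (hP : IsPGroup 2 P) (z : P)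
    (hz1 : z ≠ 1) (hcenter : ∀ x : P, x ∈ Subgroup.center P ↔ (x = 1 ∨ x = z))
    (hcomm : ∀ a b : P, a * b * a⁻¹ * b⁻¹ = 1 ∨ a * b * a⁻¹ * b⁻¹ = z)
    (hsq : ∀ a : P, a * a = 1 ∨ a * a = z)
    (hna : ∃ a b : P, a * b ≠ b * a) : Cfsg.IsExtraspecial 2 P := by
  have : Fact (Nat.Prime 2) := ⟨Nat.prime_two⟩
  have hzz : z * z = 1 := by
    rcases hsq z with h | h
    · exact h
    · exfalso; apply hz1
      have : z * z = z * 1 := by rw [h, mul_one]
      exact mul_left_cancel this
  have hcommC : commutator P = Subgroup.center P := by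
    apply le_antisymm
    · rw [commutator_def, Subgroup.commutator_le]
      intro a _ b _
      rw [commutatorElement_def, hcenter]
      exact hcomm a b
    · intro x hx
      rcases (hcenter x).mp hx with h | h
      · rw [h]; exact Subgroup.one_mem _
      · obtain ⟨a, b, hab⟩ := hna
        rcases hcomm a b with h1 | h1
        · exfalso; apply hab
          calc a * b = (a * b * a⁻¹ * b⁻¹) * (b * a) := by group
            _ = b * a := by rw [h1, one_mul]
        · rw [h, ← h1, ← commutatorElement_def, commutator_def]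
          exact Subgroup.commutator_mem_commutator (Subgroup.mem_top a) (Subgroup.mem_top b)
  have hfrat : frattini P = Subgroup.center P := by
    apply le_antisymm
    · have hq : frattini (P ⧸ Subgroup.center P) = ⊥ := by
        apply Cfsg.Agent.Lib.Helper96.frattini_eq_bot_of_elemAb 2
        · intro a b
          obtain ⟨a, rfl⟩ := QuotientGroup.mk_surjective a
          obtain ⟨b, rfl⟩ := QuotientGroup.mk_surjective b
          rw [← QuotientGroup.mk_mul, ← QuotientGroup.mk_mul, QuotientGroup.eq, hcenter]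
          have e : (a * b)⁻¹ * (b * a) = b⁻¹ * a⁻¹ * b⁻¹⁻¹ * a⁻¹⁻¹ := by group
          rw [e]
          exact hcomm b⁻¹ a⁻¹
        · intro x
          obtain ⟨a, rfl⟩ := QuotientGroup.mk_surjective x
          rw [← QuotientGroup.mk_pow, QuotientGroup.eq_one_iff, pow_two, hcenter]
          exact hsq a
      have hle := frattini_le_comap_frattini_of_surjective
        (QuotientGroup.mk'_surjective (Subgroup.center P))
      rw [hq] at hle
      intro x hx
      have h1 := hle hx
      rw [Subgroup.mem_comap, Subgroup.mem_bot] at h1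
      exact (QuotientGroup.eq_one_iff x).mp h1
    · rw [← hcommC]; exact (Cfsg.Agent.S0012.result 2 hP).1
  have hcard : Nat.card (Subgroup.center P) = 2 := by
    have : Subgroup.center P = Subgroup.zpowers z := by
      ext x; rw [hcenter, mem_zpowers_of_involution z hzz]
    rw [this, Nat.card_zpowers, orderOf_eq_prime (by rw [pow_two]; exact hzz) hz1]
  exact ⟨⟨hP, hfrat, hcommC⟩, hcard⟩

/-- Subgroup version of the criterion. -/
theorem isExtraspecial_two_subgroup {G : Type*} [Group G] [Finite G] (D : Subgroup G) (z : G)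
    (hzD : z ∈ D) (hz1 : z ≠ 1) (h2 : IsPGroup 2 D)
    (hzc : ∀ y ∈ D, y * z = z * y)
    (hcent : ∀ x ∈ D, (∀ y ∈ D, y * x = x * y) → (x = 1 ∨ x = z))
    (hcomm : ∀ a ∈ D, ∀ b ∈ D, a * b * a⁻¹ * b⁻¹ = 1 ∨ a * b * a⁻¹ * b⁻¹ = z)
    (hsq : ∀ a ∈ D, a * a = 1 ∨ a * a = z)
    (hna : ∃ a ∈ D, ∃ b ∈ D, a * b ≠ b * a) : Cfsg.IsExtraspecial 2 ↥D := by
  apply isExtraspecial_two_of h2 ⟨z, hzD⟩
  · intro h; exact hz1 (congrArg Subtype.val h)
  · intro x
    rw [Subgroup.mem_center_iff]
    constructor
    · intro h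
      have := hcent x x.2 (fun y hy => congrArg Subtype.val (h ⟨y, hy⟩))
      rcases this with h1 | h1
      · left; exact Subtype.ext h1
      · right; exact Subtype.ext h1
    · rintro (h | h)
      · intro y; rw [h]; simp
      · intro y; rw [h]; exact Subtype.ext (hzc y y.2)
  · intro a b
    rcases hcomm a a.2 b b.2 with h | h
    · left; exact Subtype.ext h
    · right; exact Subtype.ext h
  · intro a
    rcases hsq a a.2 with h | h
    · left; exact Subtype.ext h
    · right; exact Subtype.ext h
  · obtain ⟨a, ha, b, hb, hab⟩ := hna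
    exact ⟨⟨a, ha⟩, ⟨b, hb⟩, fun h => hab (congrArg Subtype.val h)⟩

end Cfsg.Agent.Lib.Helper90
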