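/-
helper90: interface for the group 3^{1+2}_+ : 2 of order 54 (the derived group of SU_3(2)),
given by generators and relations.  Used by S5559.
-/
import Mathlib

set_option autoImplicit false

namespace Cfsg.Agent.Lib.Helper90

/-- Relations of the group `3^{1+2}_+ : 2` of order 54 on generators `x, y, d` with `z = [y, x]`
central: `x, y, z` have order dividing 3, `d` order dividing 2, `d` inverts `x` and `y` and
centralises `z`, and `y * x = x * y * z`. -/
structure Rel54 {G : Type*} [Group G] (x y z d : G) : Prop where
  x3 : x ^ 3 = 1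
  y3 : y ^ 3 = 1
  z3 : z ^ 3 = 1
  d2 : d ^ 2 = 1
  zx : z * x = x * z
  zy : z * y = y * z
  zd : z * d = d * z
  yx : y * x = x * y * z
  dx : d * x = x⁻¹ * d
  dy : d * y = y⁻¹ * d

end Cfsg.Agent.Lib.Helper90
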