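/-
helper90: project SMALL (helper35, S2103), generic part of the table modules SMALL-[T-F4] / SMALL-[T-D4B2]:
Boolean checks on the packed tables for `HdN`, `SepN`, `ComSep`, `ComSepTop`, `AllTop` and their specifications.
-/
import Cfsg.Agent.Lib.Helper35.SmallDefs
import Cfsg.Agent.Lib.Helper89.St3Sep
import Cfsg.Agent.Lib.Helper18.ChevDataAll
import Cfsg.Agent.Lib.Helper18.BN1

set_option autoImplicit false

namespace Cfsg.Agent.Lib.Helper90.Small

open Cfsg.Lie Cfsg.Agent.Lib.Helper35.St Cfsg.Agent.Lib.Helper60.St3 Cfsg.Agent.Lib.Helper35.Small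
  Cfsg.Agent.Lib.Helper18 Cfsg.Agent.Lib.Helper89.St3

variable {D : ChevalleyDatum}

/-- the commutator formula of the datum, read off the packed tables -/
theorem ct_eq' (C : ChevData.{0} D) {r s : ℕ} (hr : r < D.nroots) (hs : s < D.nroots) :
    C.T.commTermsFast r s = D.commTerms r s := by
  rw [C.T.commTermsFast_eq, C.T.commTermsF_eq D C.hag C.hin r s hr hs]

theorem lt_D (C : ChevData.{0} D) {x : ℕ} (h : x ∈ List.range C.T.nroots) : x < D.nroots := by
  have := List.mem_range.1 h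
  rw [C.nroots_eq] at this
  exact this

theorem mem_T (C : ChevData.{0} D) {x : ℕ} (h : x < D.nroots) : x ∈ List.range C.T.nroots := by
  rw [List.mem_range, C.nroots_eq]
  exact h

theorem not_dvd_of_emod {n x : ℤ} (h : x % n ≠ 0) : ¬ n ∣ x := fun hd => h (Int.emod_eq_zero_of_dvd hd)

/-! ### the Boolean building blocks -/

/-- some root coweight `t∨` has `n ∤ ⟨s, t∨⟩` -/
def hdB (T : FastDatum) (n : ℤ) (s : ℕ) : Bool :=
  (List.range T.nroots).any fun t => decide (nF T s t % n ≠ 0)

/-- some root coweight `t∨` has `n ∣ ⟨a, t∨⟩` and `n ∤ ⟨k, t∨⟩` -/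
def sepB (T : FastDatum) (n : ℤ) (a k : ℕ) : Bool :=
  (List.range T.nroots).any fun t => decide (nF T a t % n = 0) && decide (nF T k t % n ≠ 0)

/-- `c ≠ ± a` and the commutator formula of `(a, c)` is empty -/
def comB (T : FastDatum) (a c : ℕ) : Bool :=
  c != a && c != T.neg a && (T.commTermsFast a c == [])

/-- `L = [(b, C, 1, 1)]` with `C ∈ {± 1, ± 2}` -/
def isTop (L : List (ℕ × ℤ × ℕ × ℕ)) (b : ℕ) : Bool :=
  L == [(b, 1, 1, 1)] || L == [(b, -1, 1, 1)] || L == [(b, 2, 1, 1)] || L == [(b, -2, 1, 1)]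

/-- `L = [(b, C, 1, 1)]` with `C = ± 1` -/
def isTop1 (L : List (ℕ × ℤ × ℕ × ℕ)) (b : ℕ) : Bool :=
  L == [(b, 1, 1, 1)] || L == [(b, -1, 1, 1)]

def topCB (T : FastDatum) (a b : ℕ) : Bool :=
  (List.range T.nroots).any fun c => comB T a c &&
    (List.range T.nroots).any fun d =>
      d != c && d != T.neg c && comB T a d && isTop (T.commTermsFast c d) b

def topCertB (T : FastDatum) (a : ℕ) : Bool :=
  (List.range T.nroots).any fun c => comB T a c &&
    (List.range T.nroots).any fun d =>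
      d != c && d != T.neg c && comB T a d && isTop1 (T.commTermsFast c d) a

theorem hd_of_B (C : ChevData.{0} D) {n : ℤ} {s : ℕ} (hs : s < D.nroots) (h : hdB C.T n s = true) :
    ∃ m : ℕ → ℤ, ¬ n ∣ pair D m s := by
  unfold hdB at h
  rw [List.any_eq_true] at h
  obtain ⟨t, -, ht⟩ := h
  rw [decide_eq_true_eq] at ht
  refine ⟨fun i => C.T.coroot t i, ?_⟩
  rw [pair_eq_nF C t s hs]
  exact not_dvd_of_emod ht

theorem sepAt_of_B (C : ChevData.{0} D) {n : ℤ} {a k : ℕ} (ha : a < D.nroots) (hk : k < D.nroots)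
    (h : sepB C.T n a k = true) : SepAt D n a k := by
  unfold sepB at h
  rw [List.any_eq_true] at h
  obtain ⟨t, -, ht⟩ := h
  rw [Bool.and_eq_true, decide_eq_true_eq, decide_eq_true_eq] at ht
  refine ⟨fun i => C.T.coroot t i, ?_, ?_⟩
  · rw [pair_eq_nF C t a ha]
    exact Int.dvd_of_emod_eq_zero ht.1
  · rw [pair_eq_nF C t k hk]
    exact not_dvd_of_emod ht.2

theorem comPair_of_B (C : ChevData.{0} D) {a c : ℕ} (ha : a < D.nroots) (hc : c < D.nroots)
    (h : comB C.T a c = true) : ComPair D a c := by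
  unfold comB at h
  simp only [Bool.and_eq_true, bne_iff_ne, ne_eq, beq_iff_eq] at h
  obtain ⟨⟨h1, h2⟩, h3⟩ := h
  refine ⟨hc, h1, ?_, ?_⟩
  · rw [C.neg_eq a ha]
    exact h2
  · rw [← ct_eq' C ha hc]
    exact h3

theorem comB_of_comPair (C : ChevData.{0} D) {a c : ℕ} (ha : a < D.nroots) (h : ComPair D a c) :
    comB C.T a c = true := by
  obtain ⟨hc, h1, h2, h3⟩ := h
  unfold comB
  simp only [Bool.and_eq_true, bne_iff_ne, ne_eq, beq_iff_eq]
  refine ⟨⟨h1, ?_⟩, ?_⟩
  · rw [← C.neg_eq a ha]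
    exact h2
  · rw [ct_eq' C ha hc]
    exact h3

theorem topC_of_B (C : ChevData.{0} D) {a b : ℕ} (ha : a < D.nroots) (h : topCB C.T a b = true) :
    TopC D a b := by
  unfold topCB at h
  rw [List.any_eq_true] at h
  obtain ⟨c, hc, h1⟩ := h
  rw [Bool.and_eq_true, List.any_eq_true] at h1
  obtain ⟨hac, d, hd, h2⟩ := h1
  simp only [Bool.and_eq_true, bne_iff_ne, ne_eq] at h2
  obtain ⟨⟨⟨hdc, hdn⟩, had⟩, htop⟩ := h2
  have hc' := lt_D C hc
  have hd' := lt_D C hd
  unfold isTop at htop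
  simp only [Bool.or_eq_true, beq_iff_eq] at htop
  rw [ct_eq' C hc' hd'] at htop
  have hneg : d ≠ D.neg c := by
    rw [C.neg_eq c hc']
    exact hdn
  rcases htop with ((h3 | h3) | h3) | h3
  · exact ⟨c, d, 1, hc', hd', hdc, hneg, h3, Or.inl rfl, comPair_of_B C ha hc' hac,
      comPair_of_B C ha hd' had⟩
  · exact ⟨c, d, -1, hc', hd', hdc, hneg, h3, Or.inr (Or.inl rfl), comPair_of_B C ha hc' hac,
      comPair_of_B C ha hd' had⟩
  · exact ⟨c, d, 2, hc', hd', hdc, hneg, h3, Or.inr (Or.inr (Or.inl rfl)), comPair_of_B C ha hc' hac,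
      comPair_of_B C ha hd' had⟩
  · exact ⟨c, d, -2, hc', hd', hdc, hneg, h3, Or.inr (Or.inr (Or.inr rfl)), comPair_of_B C ha hc' hac,
      comPair_of_B C ha hd' had⟩

theorem topCert_of_B (C : ChevData.{0} D) {a : ℕ} (ha : a < D.nroots) (h : topCertB C.T a = true) :
    TopCert D a := by
  unfold topCertB at h
  rw [List.any_eq_true] at h
  obtain ⟨c, hc, h1⟩ := h
  rw [Bool.and_eq_true, List.any_eq_true] at h1
  obtain ⟨hac, d, hd, h2⟩ := h1
  simp only [Bool.and_eq_true, bne_iff_ne, ne_eq] at h2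
  obtain ⟨⟨⟨hdc, hdn⟩, had⟩, htop⟩ := h2
  have hc' := lt_D C hc
  have hd' := lt_D C hd
  unfold isTop1 at htop
  simp only [Bool.or_eq_true, beq_iff_eq] at htop
  rw [ct_eq' C hc' hd'] at htop
  have hneg : d ≠ D.neg c := by
    rw [C.neg_eq c hc']
    exact hdn
  rcases htop with h3 | h3
  · refine ⟨c, d, [], [], 1, 1, hc', hd', hdc, hneg, Or.inl rfl, ?_, comPair_of_B C ha hc' hac,
      comPair_of_B C ha hd' had, ?_⟩
    · rw [h3]; rfl
    · intro x hx; simp at hx
  · refine ⟨c, d, [], [], -1, 1, hc', hd', hdc, hneg, Or.inr rfl, ?_, comPair_of_B C ha hc' hac,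
      comPair_of_B C ha hd' had, ?_⟩
    · rw [h3]; rfl
    · intro x hx; simp at hx

/-! ### the table checks -/

def hdOK (T : FastDatum) (n : ℤ) : Bool := (List.range T.nroots).all fun s => hdB T n s

def sepNOK (T : FastDatum) (n : ℤ) : Bool :=
  (List.range T.nroots).all fun a => (List.range T.nroots).all fun k =>
    k == a || k == T.neg a || (T.commTermsFast a k == []) || sepB T n a k

def comSepOK (T : FastDatum) (n : ℤ) : Bool :=
  (List.range T.nroots).all fun a => (List.range T.nroots).all fun b =>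
    !(comB T a b) || sepB T n a b || sepB T n b a

def comSepTopOK (T : FastDatum) (n : ℤ) : Bool :=
  (List.range T.nroots).all fun a => (List.range T.nroots).all fun b =>
    !(comB T a b) || sepB T n a b || sepB T n b a || topCB T a b

def allTopOK (T : FastDatum) : Bool := (List.range T.nroots).all fun s => topCertB T s

theorem hdN_of_ok (C : ChevData.{0} D) {n : ℤ} (h : hdOK C.T n = true) : HdN D n := by
  intro s hs
  unfold hdOK at h
  rw [List.all_eq_true] at h
  exact hd_of_B C hs (h s (mem_T C hs))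

theorem sepN_of_ok (C : ChevData.{0} D) {n : ℤ} (h : sepNOK C.T n = true) : SepN D n := by
  intro a k ha hk hka hkn hct
  unfold sepNOK at h
  rw [List.all_eq_true] at h
  have h1 := h a (mem_T C ha)
  rw [List.all_eq_true] at h1
  have h2 := h1 k (mem_T C hk)
  simp only [Bool.or_eq_true, beq_iff_eq] at h2
  rcases h2 with ((h2 | h2) | h2) | h2
  · exact (hka h2).elim
  · exact (hkn (by rw [C.neg_eq a ha]; exact h2)).elim
  · exact (hct (by rw [← ct_eq' C ha hk]; exact h2)).elim
  · exact sepAt_of_B C ha hk h2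

theorem comSep_of_ok (C : ChevData.{0} D) {n : ℤ} (h : comSepOK C.T n = true) : ComSep D n := by
  intro a b ha hab
  have hb := hab.1
  unfold comSepOK at h
  rw [List.all_eq_true] at h
  have h1 := h a (mem_T C ha)
  rw [List.all_eq_true] at h1
  have h2 := h1 b (mem_T C hb)
  rw [comB_of_comPair C ha hab] at h2
  simp only [Bool.not_true, Bool.false_or, Bool.or_eq_true] at h2
  rcases h2 with h2 | h2
  · exact Or.inl (sepAt_of_B C ha hb h2)
  · exact Or.inr (sepAt_of_B C hb ha h2)

theorem comSepTop_of_ok (C : ChevData.{0} D) {n : ℤ} (h : comSepTopOK C.T n = true) :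
    ComSepTop D n := by
  intro a b ha hab
  have hb := hab.1
  unfold comSepTopOK at h
  rw [List.all_eq_true] at h
  have h1 := h a (mem_T C ha)
  rw [List.all_eq_true] at h1
  have h2 := h1 b (mem_T C hb)
  rw [comB_of_comPair C ha hab] at h2
  simp only [Bool.not_true, Bool.false_or, Bool.or_eq_true] at h2
  rcases h2 with (h2 | h2) | h2
  · exact Or.inl (sepAt_of_B C ha hb h2)
  · exact Or.inr (Or.inl (sepAt_of_B C hb ha h2))
  · exact Or.inr (Or.inr (topC_of_B C ha h2))

theorem allTop_of_ok (C : ChevData.{0} D) (h : allTopOK C.T = true) : AllTop D := by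
  intro s hs
  unfold allTopOK at h
  rw [List.all_eq_true] at h
  exact topCert_of_B C hs (h s (mem_T C hs))

end Cfsg.Agent.Lib.Helper90.Small
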