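/-
helper90: project SMALL (helper35, S2103 / phase 2 S2400), module SMALL-[T-D4B2]: the table facts for `chevD4`
(mod 2 and 3) and `chevB2` (mod 3).
-/
import Cfsg.Agent.Lib.Helper90.SmallTab

set_option autoImplicit false

namespace Cfsg.Agent.Lib.Helper90.Small

open Cfsg.Lie Cfsg.Agent.Lib.Helper35.St Cfsg.Agent.Lib.Helper60.St3 Cfsg.Agent.Lib.Helper35.Small
  Cfsg.Agent.Lib.Helper18

set_option maxRecDepth 1000000 in
theorem hdOK_D4_2 : hdOK fastD4 2 = true := by decide +kernel

set_option maxRecDepth 1000000 in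
theorem hdOK_D4_3 : hdOK fastD4 3 = true := by decide +kernel

set_option maxRecDepth 1000000 in
theorem sepNOK_D4_2 : sepNOK fastD4 2 = true := by decide +kernel

set_option maxRecDepth 1000000 in
theorem sepNOK_D4_3 : sepNOK fastD4 3 = true := by decide +kernel

set_option maxRecDepth 1000000 in
theorem comSepOK_D4_3 : comSepOK fastD4 3 = true := by decide +kernel

set_option maxRecDepth 1000000 in
theorem allTopOK_D4 : allTopOK fastD4 = true := by decide +kernel

set_option maxRecDepth 1000000 in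
theorem hdOK_B2_3 : hdOK fastB2 3 = true := by decide +kernel

set_option maxRecDepth 1000000 in
theorem sepNOK_B2_3 : sepNOK fastB2 3 = true := by decide +kernel

set_option maxRecDepth 1000000 in
theorem comSepOK_B2_3 : comSepOK fastB2 3 = true := by decide +kernel

theorem hdN_D4_2 : HdN chevD4 2 := hdN_of_ok chevData_D4.{0} hdOK_D4_2

theorem hdN_D4_3 : HdN chevD4 3 := hdN_of_ok chevData_D4.{0} hdOK_D4_3

theorem sepN_D4_2 : SepN chevD4 2 := sepN_of_ok chevData_D4.{0} sepNOK_D4_2

theorem sepN_D4_3 : SepN chevD4 3 := sepN_of_ok chevData_D4.{0} sepNOK_D4_3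

theorem comSep_D4_3 : ComSep chevD4 3 := comSep_of_ok chevData_D4.{0} comSepOK_D4_3

theorem allTop_D4 : AllTop chevD4 := allTop_of_ok chevData_D4.{0} allTopOK_D4

theorem hdN_B2_3 : HdN chevB2 3 := hdN_of_ok chevData_B2.{0} hdOK_B2_3

theorem sepN_B2_3 : SepN chevB2 3 := sepN_of_ok chevData_B2.{0} sepNOK_B2_3

theorem comSep_B2_3 : ComSep chevB2 3 := comSep_of_ok chevData_B2.{0} comSepOK_B2_3

end Cfsg.Agent.Lib.Helper90.Small
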