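/-
helper90: project SMALL (helper35, S2103), module SMALL-[T-F4]: the table facts for `chevF4` mod 2 and mod 3.
-/
import Cfsg.Agent.Lib.Helper90.SmallTab

set_option autoImplicit false

namespace Cfsg.Agent.Lib.Helper90.Small

open Cfsg.Lie Cfsg.Agent.Lib.Helper35.St Cfsg.Agent.Lib.Helper60.St3 Cfsg.Agent.Lib.Helper35.Small
  Cfsg.Agent.Lib.Helper18

set_option maxRecDepth 1000000 in
theorem hdOK_F4_2 : hdOK fastF4 2 = true := by decide +kernel

set_option maxRecDepth 1000000 in
theorem hdOK_F4_3 : hdOK fastF4 3 = true := by decide +kernel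

set_option maxRecDepth 1000000 in
theorem sepNOK_F4_2 : sepNOK fastF4 2 = true := by decide +kernel

set_option maxRecDepth 1000000 in
theorem sepNOK_F4_3 : sepNOK fastF4 3 = true := by decide +kernel

set_option maxRecDepth 1000000 in
theorem comSepOK_F4_3 : comSepOK fastF4 3 = true := by decide +kernel

set_option maxRecDepth 1000000 in
theorem comSepTopOK_F4_2 : comSepTopOK fastF4 2 = true := by decide +kernel

set_option maxRecDepth 1000000 in
theorem allTopOK_F4 : allTopOK fastF4 = true := by decide +kernel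

theorem hdN_F4_2 : HdN chevF4 2 := hdN_of_ok chevData_F4.{0} hdOK_F4_2

theorem hdN_F4_3 : HdN chevF4 3 := hdN_of_ok chevData_F4.{0} hdOK_F4_3

theorem sepN_F4_2 : SepN chevF4 2 := sepN_of_ok chevData_F4.{0} sepNOK_F4_2

theorem sepN_F4_3 : SepN chevF4 3 := sepN_of_ok chevData_F4.{0} sepNOK_F4_3

theorem comSep_F4_3 : ComSep chevF4 3 := comSep_of_ok chevData_F4.{0} comSepOK_F4_3

theorem comSepTop_F4_2 : ComSepTop chevF4 2 := comSepTop_of_ok chevData_F4.{0} comSepTopOK_F4_2

theorem allTop_F4 : AllTop chevF4 := allTop_of_ok chevData_F4.{0} allTopOK_F4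

end Cfsg.Agent.Lib.Helper90.Small
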