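/-
helper90: S3043 modules [F3] uniq, [F5] cover, [F6] semi, [A0] caseA_index, [B-ORDER] caseB_card.
See Lib/Helper90/TIInvSPINE.md.
-/
import Mathlib
import Cfsg.Agent.Lib.Helper90.TIInvDefs

set_option autoImplicit false

namespace Cfsg.Agent.Lib.Helper90.TIInvSmall

open Cfsg.Agent.Lib.Helper90.TIInv

variable {G : Type*} [Group G] {M : Subgroup G} {z : G}

theorem mem_cj_iff (g : G) (K : Subgroup G) (x : G) : x ∈ cj g K ↔ g⁻¹ * x * g ∈ K := by
  constructor
  · rintro ⟨y, hy, rfl⟩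
    have : g⁻¹ * (MulAut.conj g).toMonoidHom y * g = y := by
      simp [MulAut.conj_apply, mul_assoc]
    rw [this]; exact hy
  · intro h
    refine ⟨g⁻¹ * x * g, h, ?_⟩
    simp [MulAut.conj_apply, mul_assoc]

theorem conj_mem_cj (g : G) (K : Subgroup G) {x : G} (hx : x ∈ K) : g * x * g⁻¹ ∈ cj g K :=
  ⟨x, hx, by simp [MulAut.conj_apply]⟩

theorem mem_Nm_of_cj_eq {u : G} (h : cj u M = M) : u ∈ Nm M := by
  rw [Subgroup.mem_normalizer_iff]
  intro x
  constructor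
  · intro hx
    have : u * x * u⁻¹ ∈ cj u M := conj_mem_cj u M hx
    rw [h] at this
    exact this
  · intro hx
    rw [← h, mem_cj_iff] at hx
    simpa [mul_assoc] using hx

theorem le_Nm (M : Subgroup G) : M ≤ Nm M := Subgroup.le_normalizer

theorem sq_eq_one_of_order {u : G} (hu : orderOf u = 2) : u * u = 1 := by
  have := pow_orderOf_eq_one u
  rw [hu, pow_two] at this
  exact this

theorem inv_eq_self_of_order {u : G} (hu : orderOf u = 2) : u⁻¹ = u :=
  inv_eq_of_mul_eq_one_right (sq_eq_one_of_order hu)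

/-- [F3] -/
theorem uniq (h : Hyp M z) : Uniq M := by
  intro g hg a ha b hb hu hv
  by_contra hab
  have hu2 := sq_eq_one_of_order hu
  have hv2 := sq_eq_one_of_order hv
  have hvi := inv_eq_self_of_order hv
  have hc : a * b⁻¹ ∈ M := M.mul_mem ha (M.inv_mem hb)
  have hc1 : a * b⁻¹ ≠ 1 := fun h1 => hab (mul_inv_eq_one.mp h1)
  have hcuv : a * b⁻¹ = (a * g) * (b * g)⁻¹ := by group
  have hinv : (a * g) * (a * b⁻¹) * (a * g)⁻¹ = (a * b⁻¹)⁻¹ := by
    have h1 : (a * g) * (a * b⁻¹) * (a * g)⁻¹ = (a * g * (a * g)) * (b * g)⁻¹ * (a * g)⁻¹ := by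
      group
    have h2 : (a * b⁻¹)⁻¹ = (b * g) * (a * g)⁻¹ := by group
    rw [h1, h2, hu2, one_mul, hvi]
  have hmem : (a * b⁻¹)⁻¹ ∈ M ⊓ cj (a * g) M := by
    refine ⟨M.inv_mem hc, ?_⟩
    rw [← hinv]
    exact conj_mem_cj _ _ hc
  have hne : M ⊓ cj (a * g) M ≠ ⊥ := by
    intro h0
    rw [h0, Subgroup.mem_bot, inv_eq_one] at hmem
    exact hc1 hmem
  have hN : a * g ∈ Nm M := mem_Nm_of_cj_eq (h.ti _ hne)
  apply hg
  have : g = a⁻¹ * (a * g) := by group
  rw [this]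
  exact (Nm M).mul_mem ((Nm M).inv_mem (le_Nm M ha)) hN

/-- [F5] -/
theorem cover (f : Full M) : Cover M := by
  intro u hu huN n hn
  have hnu : n * u ∉ Nm M := by
    intro h
    apply huN
    have : u = n⁻¹ * (n * u) := by group
    rw [this]
    exact (Nm M).mul_mem ((Nm M).inv_mem hn) h
  obtain ⟨a, ha, hord⟩ := f (n * u) hnu
  have h2 := sq_eq_one_of_order hord
  have hui := inv_eq_self_of_order hu
  have hdN : a * n ∈ Nm M := (Nm M).mul_mem (le_Nm M ha) hn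
  have hkey : u * (a * n) * u⁻¹ = (a * n)⁻¹ := by
    rw [hui]
    have h3 : (a * n) * (u * (a * n) * u) = 1 := by
      calc (a * n) * (u * (a * n) * u) = (a * (n * u)) * (a * (n * u)) := by group
        _ = 1 := h2
    exact (inv_eq_of_mul_eq_one_right h3).symm
  refine ⟨a, ha, ?_, hkey⟩
  rw [mem_cj_iff]
  have : u⁻¹ * (a * n) * u = (a * n)⁻¹ := by
    have h4 : u⁻¹ * (a * n) * u = u * (a * n) * u⁻¹ := by rw [hui]
    rw [h4, hkey]
  rw [this]
  exact (Nm M).inv_mem hdN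

/-- [F6] -/
theorem semi (f : Full M)
    (s : ∀ u : G, orderOf u = 2 → u ∉ Nm M → M ⊓ cj u (Nm M) = ⊥) : Semi M := by
  intro g hg
  obtain ⟨a, ha, hord⟩ := f g hg
  have hu : a * g ∉ Nm M := by
    intro h
    apply hg
    have : g = a⁻¹ * (a * g) := by group
    rw [this]
    exact (Nm M).mul_mem ((Nm M).inv_mem (le_Nm M ha)) h
  have h0 := s (a * g) hord hu
  rw [eq_bot_iff]
  intro x hx
  rw [Subgroup.mem_inf] at hx
  obtain ⟨hxM, hxN⟩ := hx
  rw [Subgroup.mem_bot]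
  have hx' : a * x * a⁻¹ ∈ M ⊓ cj (a * g) (Nm M) := by
    rw [Subgroup.mem_inf]
    refine ⟨M.mul_mem (M.mul_mem ha hxM) (M.inv_mem ha), ?_⟩
    rw [mem_cj_iff] at hxN
    rw [mem_cj_iff]
    have : (a * g)⁻¹ * (a * x * a⁻¹) * (a * g) = g⁻¹ * x * g := by group
    rw [this]
    exact hxN
  rw [h0, Subgroup.mem_bot] at hx'
  have : x = a⁻¹ * (a * x * a⁻¹) * a := by group
  rw [this, hx']
  group

variable [Finite G]

/-- [A0] -/
theorem caseA_index (_b : Basic M z) (ie : IndexEq M z) (hA : CaseA M z) :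
    (Nm M).index = Nat.card M + 1 := by
  unfold IndexEq at ie
  unfold CaseA at hA
  rw [hA] at ie
  have hpos : 0 < Nat.card (Hz M z) := Nat.card_pos
  have h1 : ((Nm M).index + Nat.card M) * Nat.card (Hz M z) =
      (1 + 2 * Nat.card M) * Nat.card (Hz M z) := by
    nlinarith [ie]
  have h2 := Nat.eq_of_mul_eq_mul_right hpos h1
  omega

/-- [B-ORDER] -/
theorem caseB_card (b : Basic M z) (ie : IndexEq M z) {e : ℕ} (hB : CaseB M z e)
    (hm : Nat.card M = 2 ^ e + 1) : Nat.card G = 2 * (2 ^ e + 1) * 2 ^ (2 * e) := by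
  obtain ⟨_, hh, hC, _⟩ := hB
  unfold IndexEq at ie
  rw [hh, hC, hm] at ie
  have hidx : (Nm M).index = 2 ^ (2 * e) := by
    have h1 : (2 : ℕ) ^ (e + 1) = 2 * 2 ^ e := by rw [pow_succ]; ring
    have h2 : (2 : ℕ) ^ (2 * e) = 2 ^ e * 2 ^ e := by rw [two_mul, pow_add]
    rw [h1] at ie
    rw [h2]
    nlinarith [ie]
  have hN : Nat.card (Nm M) = (2 ^ e + 1) * 2 := by rw [b.cardN, hm, hh]
  have := (Nm M).index_mul_card
  rw [hidx, hN] at this
  rw [← this]
  ring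

end Cfsg.Agent.Lib.Helper90.TIInvSmall
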