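import Mathlib
import Cfsg.Agent.Lib.Helper48.Hig.Act
import Cfsg.Agent.Lib.Helper19.NatSL2Main

/-!
# HIG-[Q4] (helper90, for helper48's project S3050): quadratic action of `U` when `|F| = 4`

`F` a field with four elements, `φ : SL(2,F) →* MulAut M` with all elements of order `3` fixed point free.
We pass to the ring `AddMonoid.End (Additive M)`; the elements `h = hh t` (`t ≠ 0, 1`), `h u(a)` and `u(a) h` have
order three, so `1 + g + g² = 0` for them, and a computation in that ring gives `2 (X_s - 1) = 0` and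
`(X_{s'} - 1)(X_s - 1) = 0`.
-/

set_option autoImplicit false

namespace Cfsg.Agent.Lib.Helper90.Hig

open Matrix Matrix.SpecialLinearGroup
open scoped MatrixGroups
open Cfsg.Agent.Lib.Helper19.NatSL2
open Cfsg.Agent.Lib.Helper48.Hig

/-- The computation in a (noncommutative) ring. -/
theorem q4_ring {R : Type*} [Ring R] (H X1 X2 X3 : R)
    (a1 : X1 - 1 = -(H * (X2 - 1))) (a2 : X2 - 1 = -(H * (X3 - 1))) (a3 : X3 - 1 = -(H * (X1 - 1)))
    (b1 : X1 - 1 = -((X3 - 1) * H)) (b2 : X2 - 1 = -((X1 - 1) * H))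
    (d1 : (X1 - 1) * H = H * (X3 - 1)) (d2 : (X2 - 1) * H = H * (X1 - 1)) (d3 : (X3 - 1) * H = H * (X2 - 1))
    (q1 : (X1 - 1) * (X1 - 1) = -(2 * (X1 - 1))) (q2 : (X2 - 1) * (X2 - 1) = -(2 * (X2 - 1)))
    (q3 : (X3 - 1) * (X3 - 1) = -(2 * (X3 - 1)))
    (c12 : (X1 - 1) * (X2 - 1) = (X2 - 1) * (X1 - 1)) (c23 : (X2 - 1) * (X3 - 1) = (X3 - 1) * (X2 - 1))
    (hsum : X3 - 1 = (X1 - 1) + (X2 - 1) + (X1 - 1) * (X2 - 1)) :
    2 * (X1 - 1) = 0 ∧ (X1 - 1) * (X1 - 1) = 0 ∧ (X2 - 1) * (X1 - 1) = 0 ∧ (X3 - 1) * (X1 - 1) = 0 := by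
  generalize X1 - 1 = P1 at *
  generalize X2 - 1 = P2 at *
  generalize X3 - 1 = P3 at *
  -- `P_i P_{i+1} = -2 P_{i+1}`
  have A : P1 * P2 = -(2 * P2) := by
    calc P1 * P2 = P1 * (-(H * P3)) := by rw [← a2]
      _ = -((P1 * H) * P3) := by noncomm_ring
      _ = -((H * P3) * P3) := by rw [d1]
      _ = -(H * (P3 * P3)) := by noncomm_ring
      _ = 2 * (H * P3) := by rw [q3]; noncomm_ring
      _ = 2 * (-P2) := by rw [a2]; noncomm_ring
      _ = -(2 * P2) := by noncomm_ring
  have A' : P2 * P3 = -(2 * P3) := by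
    calc P2 * P3 = P2 * (-(H * P1)) := by rw [← a3]
      _ = -((P2 * H) * P1) := by noncomm_ring
      _ = -((H * P1) * P1) := by rw [d2]
      _ = -(H * (P1 * P1)) := by noncomm_ring
      _ = 2 * (H * P1) := by rw [q1]; noncomm_ring
      _ = 2 * (-P3) := by rw [a3]; noncomm_ring
      _ = -(2 * P3) := by noncomm_ring
  have A'' : P3 * P1 = -(2 * P1) := by
    calc P3 * P1 = P3 * (-(H * P2)) := by rw [← a1]
      _ = -((P3 * H) * P2) := by noncomm_ring
      _ = -((H * P2) * P2) := by rw [d3]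
      _ = -(H * (P2 * P2)) := by noncomm_ring
      _ = 2 * (H * P2) := by rw [q2]; noncomm_ring
      _ = 2 * (-P1) := by rw [a1]; noncomm_ring
      _ = -(2 * P1) := by noncomm_ring
  -- `P_{i+1} P_i = -2 P_i`
  have B : P2 * P1 = -(2 * P1) := by
    calc P2 * P1 = P2 * (-(P3 * H)) := by rw [← b1]
      _ = -((P2 * P3) * H) := by noncomm_ring
      _ = 2 * (P3 * H) := by rw [A']; noncomm_ring
      _ = 2 * (-P1) := by rw [b1]; noncomm_ring
      _ = -(2 * P1) := by noncomm_ring
  have B' : P3 * P2 = -(2 * P2) := by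
    calc P3 * P2 = P3 * (-(P1 * H)) := by rw [← b2]
      _ = -((P3 * P1) * H) := by noncomm_ring
      _ = 2 * (P1 * H) := by rw [A'']; noncomm_ring
      _ = 2 * (-P2) := by rw [b2]; noncomm_ring
      _ = -(2 * P2) := by noncomm_ring
  have e12 : 2 * P1 = 2 * P2 := by
    have h := c12
    rw [A, B] at h
    exact (neg_injective h).symm
  have e23 : 2 * P2 = 2 * P3 := by
    have h := c23
    rw [A', B'] at h
    exact (neg_injective h).symm
  have e3 : 2 * P3 = 0 := by
    calc 2 * P3 = 2 * (P1 + P2 + P1 * P2) := by rw [← hsum]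
      _ = 2 * (P1 + P2 + -(2 * P2)) := by rw [A]
      _ = 2 * P1 - 2 * P2 := by noncomm_ring
      _ = 0 := by rw [e12, sub_self]
  have e1 : 2 * P1 = 0 := by rw [e12, e23, e3]
  refine ⟨e1, ?_, ?_, ?_⟩
  · rw [q1, e1, neg_zero]
  · rw [B, e1, neg_zero]
  · rw [A'', e1, neg_zero]


/-- `X - 1 = -H (Y - 1)` from the relations of the elements of order three. -/
theorem q4_a {R : Type*} [Ring R] (H X Y Z : R) (E1 : 1 + H + H * H = 0)
    (e : 1 + H * X + H * X * (H * X) = 0) (c : H * Z = X * H) (m : Z * X = Y) :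
    X - 1 = -(H * (Y - 1)) := by
  have H3 : H * H * H = 1 := by
    calc H * H * H = (H - 1) * (1 + H + H * H) + 1 := by noncomm_ring
      _ = 1 := by rw [E1, mul_zero, zero_add]
  have hsq : H * X * (H * X) = H * H * Y := by
    calc H * X * (H * X) = H * (X * H) * X := by simp only [mul_assoc]
      _ = H * (H * Z) * X := by rw [c]
      _ = H * H * (Z * X) := by simp only [mul_assoc]
      _ = H * H * Y := by rw [m]
  rw [hsq] at e
  have hz : H * ((X - 1) + H * (Y - 1)) = 0 := by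
    calc H * ((X - 1) + H * (Y - 1)) = (1 + H * X + H * H * Y) - (1 + H + H * H) := by noncomm_ring
      _ = 0 := by rw [e, E1, sub_zero]
  have h0 : (X - 1) + H * (Y - 1) = 0 := by
    calc (X - 1) + H * (Y - 1) = (H * H) * (H * ((X - 1) + H * (Y - 1))) := by
          rw [← mul_assoc, H3, one_mul]
      _ = 0 := by rw [hz, mul_zero]
  exact eq_neg_of_add_eq_zero_left h0

/-- `X - 1 = -(Y - 1) H` from the relations of the elements of order three. -/
theorem q4_b {R : Type*} [Ring R] (H X Y W : R) (E1 : 1 + H + H * H = 0)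
    (f : 1 + X * H + X * H * (X * H) = 0) (c : H * X = W * H) (m : X * W = Y) :
    X - 1 = -((Y - 1) * H) := by
  have H3 : H * H * H = 1 := by
    calc H * H * H = (H - 1) * (1 + H + H * H) + 1 := by noncomm_ring
      _ = 1 := by rw [E1, mul_zero, zero_add]
  have hsq : X * H * (X * H) = Y * H * H := by
    calc X * H * (X * H) = X * (H * X) * H := by simp only [mul_assoc]
      _ = X * (W * H) * H := by rw [c]
      _ = (X * W) * H * H := by simp only [mul_assoc]
      _ = Y * H * H := by rw [m]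
  rw [hsq] at f
  have hz : ((X - 1) + (Y - 1) * H) * H = 0 := by
    calc ((X - 1) + (Y - 1) * H) * H = (1 + X * H + Y * H * H) - (1 + H + H * H) := by noncomm_ring
      _ = 0 := by rw [f, E1, sub_zero]
  have h0 : (X - 1) + (Y - 1) * H = 0 := by
    calc (X - 1) + (Y - 1) * H = (((X - 1) + (Y - 1) * H) * H) * (H * H) := by
          rw [mul_assoc, ← mul_assoc H H H, H3, mul_one]
      _ = 0 := by rw [hz, zero_mul]
  exact eq_neg_of_add_eq_zero_left h0

/-- The computation from the group relations. -/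
theorem q4_ring' {R : Type*} [Ring R] (H X1 X2 X3 : R) (E1 : 1 + H + H * H = 0)
    (c1 : H * X1 = X2 * H) (c2 : H * X2 = X3 * H) (c3 : H * X3 = X1 * H)
    (s1 : X1 * X1 = 1) (s2 : X2 * X2 = 1) (s3 : X3 * X3 = 1)
    (m12 : X1 * X2 = X3) (m21 : X2 * X1 = X3) (m23 : X2 * X3 = X1) (m32 : X3 * X2 = X1) (m31 : X3 * X1 = X2)
    (e1 : 1 + H * X1 + H * X1 * (H * X1) = 0) (e2 : 1 + H * X2 + H * X2 * (H * X2) = 0)
    (e3 : 1 + H * X3 + H * X3 * (H * X3) = 0)
    (f1 : 1 + X1 * H + X1 * H * (X1 * H) = 0) (f2 : 1 + X2 * H + X2 * H * (X2 * H) = 0) :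
    (X1 - 1) + (X1 - 1) = 0 ∧ (X1 - 1) * (X1 - 1) = 0 ∧ (X2 - 1) * (X1 - 1) = 0 ∧ (X3 - 1) * (X1 - 1) = 0 := by
  have a1 := q4_a H X1 X2 X3 E1 e1 c3 m31
  have a2 := q4_a H X2 X3 X1 E1 e2 c1 m12
  have a3 := q4_a H X3 X1 X2 E1 e3 c2 m23
  have b1 := q4_b H X1 X3 X2 E1 f1 c1 m12
  have b2 := q4_b H X2 X1 X3 E1 f2 c2 m23
  have d1 : (X1 - 1) * H = H * (X3 - 1) := by rw [sub_mul, one_mul, ← c3, mul_sub, mul_one]
  have d2 : (X2 - 1) * H = H * (X1 - 1) := by rw [sub_mul, one_mul, ← c1, mul_sub, mul_one]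
  have d3 : (X3 - 1) * H = H * (X2 - 1) := by rw [sub_mul, one_mul, ← c2, mul_sub, mul_one]
  have q : ∀ X : R, X * X = 1 → (X - 1) * (X - 1) = -(2 * (X - 1)) := by
    intro X hX
    calc (X - 1) * (X - 1) = X * X - 2 * X + 1 := by noncomm_ring
      _ = -(2 * (X - 1)) := by rw [hX]; noncomm_ring
  have c12 : (X1 - 1) * (X2 - 1) = (X2 - 1) * (X1 - 1) := by
    calc (X1 - 1) * (X2 - 1) = X1 * X2 - X1 - X2 + 1 := by noncomm_ring
      _ = X2 * X1 - X1 - X2 + 1 := by rw [m12, m21]
      _ = (X2 - 1) * (X1 - 1) := by noncomm_ring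
  have c23 : (X2 - 1) * (X3 - 1) = (X3 - 1) * (X2 - 1) := by
    calc (X2 - 1) * (X3 - 1) = X2 * X3 - X2 - X3 + 1 := by noncomm_ring
      _ = X3 * X2 - X2 - X3 + 1 := by rw [m23, m32]
      _ = (X3 - 1) * (X2 - 1) := by noncomm_ring
  have hsum : X3 - 1 = (X1 - 1) + (X2 - 1) + (X1 - 1) * (X2 - 1) := by
    rw [← m12]; noncomm_ring
  obtain ⟨h1, h2, h3, h4⟩ := q4_ring H X1 X2 X3 a1 a2 a3 b1 b2 d1 d2 d3 (q X1 s1) (q X2 s2) (q X3 s3) c12 c23 hsum
  exact ⟨by rw [← two_mul]; exact h1, h2, h3, h4⟩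

section act

variable {F : Type*} [Field F] {M : Type*} [CommGroup M] (φ : SL(2, F) →* MulAut M)

/-- The action in the endomorphism ring of `Additive M`. -/
def rho (g : SL(2, F)) : AddMonoid.End (Additive M) := MonoidHom.toAdditive ((φ g : M ≃* M) : M →* M)

theorem rho_apply (g : SL(2, F)) (m : M) : rho φ g (Additive.ofMul m) = Additive.ofMul (φ g m) := rfl

theorem rho_mul (g h : SL(2, F)) : rho φ (g * h) = rho φ g * rho φ h := by
  refine DFunLike.ext _ _ (fun x => ?_)
  obtain ⟨m, rfl⟩ := Additive.ofMul.surjective x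
  show Additive.ofMul (φ (g * h) m) = Additive.ofMul (φ g (φ h m))
  rw [phi_mul]

theorem rho_one : rho φ (1 : SL(2, F)) = 1 := by
  refine DFunLike.ext _ _ (fun x => ?_)
  obtain ⟨m, rfl⟩ := Additive.ofMul.surjective x
  show Additive.ofMul (φ 1 m) = Additive.ofMul m
  rw [map_one]
  rfl

/-- An element of order three acting without fixed points satisfies `1 + g + g² = 0`. -/
theorem rho_rel (hf : FPF φ) (g : SL(2, F)) (hg : orderOf g = 3) :
    1 + rho φ g + rho φ g * rho φ g = 0 := by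
  refine DFunLike.ext _ _ (fun x => ?_)
  obtain ⟨m, rfl⟩ := Additive.ofMul.surjective x
  have hg3 : g * g * g = 1 := by
    have := pow_orderOf_eq_one g
    rw [hg, pow_three'] at this
    exact this
  have h3 : φ g (φ g (φ g m)) = m := by
    rw [← phi_mul, ← phi_mul, hg3, map_one]
    rfl
  have hy : m * φ g m * φ g (φ g m) = 1 := by
    apply hf g hg
    rw [map_mul, map_mul, h3, mul_comm, mul_assoc]
  show Additive.ofMul m + Additive.ofMul (φ g m) + Additive.ofMul (φ g (φ g m)) = 0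
  rw [← ofMul_mul, ← ofMul_mul, hy]
  rfl

end act

section main

variable {F : Type*} [Field F] [CharP F 2] {M : Type*} [CommGroup M] (φ : SL(2, F) →* MulAut M)

theorem units_cube {t : Fˣ} (ht : (t : F) * t + t + 1 = 0) : t * t * t = 1 := by
  apply Units.ext
  push_cast
  linear_combination ((t : F) - 1) * ht

theorem hh_cube {t : Fˣ} (ht : (t : F) * t + t + 1 = 0) : (hh t : SL(2, F)) * (hh t * hh t) = 1 := by
  rw [← hh_mul, ← hh_mul, ← mul_assoc, units_cube ht, hh_one]

/-- `hh t * uu a` has order three when `t² + t + 1 = 0`. -/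
theorem orderOf_hh_uu (t : Fˣ) (ht : (t : F) * t + t + 1 = 0) (ht1 : (t : F) ≠ 1) (a : F) :
    orderOf (hh t * uu a) = 3 := by
  have : Fact (Nat.Prime 3) := ⟨by norm_num⟩
  apply orderOf_eq_prime
  · have push : ∀ (s : F) (Z : SL(2, F)), hh t * (uu s * Z) = uu ((t : F) * t * s) * (hh t * Z) := by
      intro s Z
      rw [← mul_assoc, hh_uu, mul_assoc]
    rw [pow_three]
    simp only [mul_assoc, push, hh_uu]
    rw [hh_cube ht, mul_one, ← uu_add, ← uu_add, ← uu_zero]
    congr 1
    linear_combination (a * (t : F) ^ 2 * ((t : F) ^ 2 - (t : F) + 1)) * ht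
  · intro h
    have := congrArg (fun A : SL(2, F) => (A : Matrix (Fin 2) (Fin 2) F) 0 0) h
    simp [Matrix.mul_apply, Fin.sum_univ_two] at this
    exact ht1 (by rw [this, Units.val_one])


theorem orderOf_uu_hh (t : Fˣ) (ht : (t : F) * t + t + 1 = 0) (ht1 : (t : F) ≠ 1) (a : F) :
    orderOf (uu a * hh t) = 3 := by
  rw [uu_hh]
  exact orderOf_hh_uu t ht ht1 _

theorem orderOf_hh' (t : Fˣ) (ht : (t : F) * t + t + 1 = 0) (ht1 : (t : F) ≠ 1) :
    orderOf (hh t : SL(2, F)) = 3 := by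
  have := orderOf_hh_uu t ht ht1 0
  rwa [uu_zero, mul_one] at this

/-- The ring identities for the triple `s, t² s, t s`. -/
theorem quad_ring_facts (hf : FPF φ) (t : Fˣ) (ht : (t : F) * t + t + 1 = 0) (ht1 : (t : F) ≠ 1) (s : F) :
    (rho φ (uu s) - 1) + (rho φ (uu s) - 1) = 0 ∧
      (rho φ (uu s) - 1) * (rho φ (uu s) - 1) = 0 ∧
      (rho φ (uu ((t : F) * t * s)) - 1) * (rho φ (uu s) - 1) = 0 ∧
      (rho φ (uu ((t : F) * s)) - 1) * (rho φ (uu s) - 1) = 0 := by
  have h2 : (2 : F) = 0 := CharTwo.two_eq_zero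
  have hX : ∀ a : F, rho φ (uu a) * rho φ (uu a) = 1 := by
    intro a
    rw [← rho_mul, uu_mul_self, rho_one]
  have hadd : ∀ a b c : F, a + b = c → rho φ (uu a) * rho φ (uu b) = rho φ (uu c) := by
    intro a b c h
    rw [← rho_mul, ← uu_add, h]
  have hconj : ∀ a b : F, (t : F) * t * a = b → rho φ (hh t) * rho φ (uu a) = rho φ (uu b) * rho φ (hh t) := by
    intro a b h
    rw [← rho_mul, ← rho_mul, hh_uu, h]
  have he : ∀ a : F, 1 + rho φ (hh t) * rho φ (uu a)
      + rho φ (hh t) * rho φ (uu a) * (rho φ (hh t) * rho φ (uu a)) = 0 := by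
    intro a
    have := rho_rel φ hf (hh t * uu a) (orderOf_hh_uu t ht ht1 a)
    rwa [rho_mul] at this
  have hf' : ∀ a : F, 1 + rho φ (uu a) * rho φ (hh t)
      + rho φ (uu a) * rho φ (hh t) * (rho φ (uu a) * rho φ (hh t)) = 0 := by
    intro a
    have := rho_rel φ hf (uu a * hh t) (orderOf_uu_hh t ht ht1 a)
    rwa [rho_mul] at this
  have E1 := rho_rel φ hf (hh t) (orderOf_hh' t ht ht1)
  exact q4_ring' (rho φ (hh t)) (rho φ (uu s)) (rho φ (uu ((t : F) * t * s))) (rho φ (uu ((t : F) * s))) E1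
    (hconj _ _ rfl)
    (hconj _ _ (by linear_combination ((t : F) * s * ((t : F) - 1)) * ht))
    (hconj _ _ (by linear_combination (s * ((t : F) - 1)) * ht))
    (hX _) (hX _) (hX _)
    (hadd _ _ _ (by linear_combination s * ht - ((t : F) * s) * h2))
    (hadd _ _ _ (by linear_combination s * ht - ((t : F) * s) * h2))
    (hadd _ _ _ (by linear_combination s * ht - s * h2))
    (hadd _ _ _ (by linear_combination s * ht - s * h2))
    (hadd _ _ _ (by linear_combination (-s) * ht + ((t : F) * s + s) * h2))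
    (he _) (he _) (he _) (hf' _) (hf' _)

/-- HIG-[Q4]. -/
theorem quad_of_card_four [Fintype F] (hF : Fintype.card F = 4) (hf : FPF φ) (m : M) (s : F) :
    φ (uu s) m / m ∈ fixU φ ∧ (φ (uu s) m / m) * (φ (uu s) m / m) = 1 := by
  classical
  -- an element `t₀ ≠ 0, 1`
  obtain ⟨t0, ht0, ht1⟩ : ∃ t0 : F, t0 ≠ 0 ∧ t0 ≠ 1 := by
    by_contra hcon
    push Not at hcon
    have hsub : (Finset.univ : Finset F) ⊆ {0, 1} := by
      intro x _
      by_cases hx : x = 0
      · simp [hx]
      · simp [hcon x hx]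
    have : Fintype.card F ≤ 2 :=
      calc Fintype.card F = (Finset.univ : Finset F).card := rfl
        _ ≤ ({0, 1} : Finset F).card := Finset.card_le_card hsub
        _ ≤ 2 := Finset.card_le_two
    omega
  have hcube : ∀ a : F, a ≠ 0 → a ≠ 1 → a * a + a + 1 = 0 := by
    intro a ha0 ha1
    have h3 : a ^ 3 = 1 := by
      have := FiniteField.pow_card_sub_one_eq_one a ha0
      rwa [hF] at this
    have : (a - 1) * (a * a + a + 1) = 0 := by linear_combination h3
    rcases mul_eq_zero.mp this with h | h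
    · exact absurd (sub_eq_zero.mp h) ha1
    · exact h
  have hq := hcube t0 ht0 ht1
  have henum : ∀ a : F, a = 0 ∨ a = 1 ∨ a = t0 ∨ a = t0 * t0 := by
    intro a
    by_cases ha0 : a = 0
    · exact Or.inl ha0
    by_cases ha1 : a = 1
    · exact Or.inr (Or.inl ha1)
    have haq := hcube a ha0 ha1
    have : (a - t0) * (a + t0 + 1) = 0 := by linear_combination haq - hq
    rcases mul_eq_zero.mp this with h | h
    · exact Or.inr (Or.inr (Or.inl (sub_eq_zero.mp h)))
    · exact Or.inr (Or.inr (Or.inr (by linear_combination h - hq)))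
  set t : Fˣ := Units.mk0 t0 ht0 with ht_def
  have htv : (t : F) = t0 := Units.val_mk0 ht0
  obtain ⟨h1, h2, h3, h4⟩ := quad_ring_facts φ hf t (by rw [htv]; exact hq) (by rw [htv]; exact ht1) s
  rw [htv] at h3 h4
  -- translation
  have tr : ∀ a : F, (rho φ (uu a) - 1) * (rho φ (uu s) - 1) = 0 →
      φ (uu a) (φ (uu s) m / m) = φ (uu s) m / m := by
    intro a h
    have := DFunLike.congr_fun h (Additive.ofMul m)
    have h' : Additive.ofMul (φ (uu a) (φ (uu s) m / m) / (φ (uu s) m / m)) = Additive.ofMul 1 := this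
    exact div_eq_one.mp (Additive.ofMul.injective h')
  constructor
  · intro a
    by_cases hs : s = 0
    · rw [hs, uu_zero, map_one]
      simp
    rcases henum (a / s) with h | h | h | h
    · have ha : a = 0 := by
        rcases div_eq_zero_iff.mp h with h | h
        · exact h
        · exact absurd h hs
      rw [ha, uu_zero, map_one]
      rfl
    · have ha : a = s := by
        field_simp at h
        linear_combination h
      rw [ha]
      exact tr s h2
    · have ha : a = t0 * s := by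
        field_simp at h
        linear_combination h
      rw [ha]
      exact tr _ h4
    · have ha : a = t0 * t0 * s := by
        field_simp at h
        linear_combination h
      rw [ha]
      exact tr _ h3
  · have := DFunLike.congr_fun h1 (Additive.ofMul m)
    have h' : Additive.ofMul ((φ (uu s) m / m) * (φ (uu s) m / m)) = Additive.ofMul 1 := this
    exact Additive.ofMul.injective h'

end main

end Cfsg.Agent.Lib.Helper90.Hig
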