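import Mathlib
import Cfsg.Prelude.Def_MonsterType

set_option autoImplicit false

namespace Cfsg.Agent.Lib.Helper90

open Cfsg

/-- The p-core is contained in every Sylow p-subgroup. -/
theorem pCore_le_sylow (p : ℕ) {G : Type*} [Group G] (P : Sylow p G) : pCore p G ≤ P := by
  refine sSup_le ?_
  rintro N ⟨hN, hp⟩
  have := hN
  exact hp.le_sylow_of_normal P

/-- The p-core is a p-group. -/
theorem pCore_isPGroup (p : ℕ) (G : Type*) [Group G] : IsPGroup p (pCore p G) :=
  Sylow.sSup_of_normal _ (fun _ h => h.2) (fun _ h => h.1)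

/-- The p-core is normal. -/
theorem pCore_normal (p : ℕ) (G : Type*) [Group G] : (pCore p G).Normal :=
  Subgroup.sSup_normal _ (fun _ h => h.1)

/-- A normal p-subgroup lies in the p-core. -/
theorem le_pCore {p : ℕ} {G : Type*} [Group G] (N : Subgroup G) (hN : N.Normal) (hp : IsPGroup p N) :
    N ≤ pCore p G :=
  le_sSup ⟨hN, hp⟩

/-- An odd-order subgroup meets a 2-subgroup trivially. -/
theorem inf_eq_bot_of_odd_of_isPGroup {G : Type*} [Group G] [Finite G] (K P : Subgroup G)
    (hK : Odd (Nat.card K)) (hP : IsPGroup 2 P) : K ⊓ P = ⊥ := by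
  obtain ⟨n, hn⟩ := hP.exists_card_eq
  apply (Subgroup.disjoint_of_coprime_natCard ?_).eq_bot
  rw [hn]
  exact Nat.Coprime.pow_right n (Nat.coprime_two_right.mpr hK)

end Cfsg.Agent.Lib.Helper90
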