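import Mathlib
import Cfsg.Prelude.Def_MonsterType
import Cfsg.Agent.Lib.Helper90.Basic

set_option autoImplicit false

namespace Cfsg.Agent.Lib.Helper90

open Cfsg

/-- A subgroup of order two is `{1, z}`. -/
theorem exists_gen_of_card_two {G : Type*} [Group G] (Z : Subgroup G) (h : Nat.card Z = 2) :
    ∃ z : G, z ∈ Z ∧ z ≠ 1 ∧ z * z = 1 ∧ ∀ x ∈ Z, x = 1 ∨ x = z := by
  obtain ⟨y, hy, huniq⟩ := (Nat.card_eq_two_iff' (1 : Z)).mp h
  have hall : ∀ x ∈ Z, x = 1 ∨ x = (y : G) := by
    intro x hx
    by_cases hx1 : x = 1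
    · exact Or.inl hx1
    · right
      have : (⟨x, hx⟩ : Z) = y := huniq ⟨x, hx⟩ (by
        intro hc; apply hx1; exact congrArg Subtype.val hc)
      exact congrArg Subtype.val this
  have hy1 : (y : G) ≠ 1 := by
    intro hc; apply hy; exact Subtype.ext hc
  refine ⟨y, y.2, hy1, ?_, hall⟩
  rcases hall _ (Z.mul_mem y.2 y.2) with h1 | h1
  · exact h1
  · exfalso; apply hy1
    have : (y : G) * y = y * 1 := by rw [h1, mul_one]
    exact mul_left_cancel this

/-- The image in `G` of the centre of `Q` has the same cardinality. -/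
theorem card_center_map {G : Type*} [Group G] (Q : Subgroup G) :
    Nat.card ((Subgroup.center ↥Q).map Q.subtype) = Nat.card (Subgroup.center ↥Q) :=
  Subgroup.card_map_of_injective Q.subtype_injective

/-- Membership in the image of the centre of `Q`. -/
theorem mem_center_map_iff {G : Type*} [Group G] (Q : Subgroup G) (x : G) :
    x ∈ (Subgroup.center ↥Q).map Q.subtype ↔ x ∈ Q ∧ ∀ q ∈ Q, q * x = x * q := by
  constructor
  · rintro ⟨y, hy, rfl⟩
    refine ⟨y.2, ?_⟩
    intro q hq
    have := Subgroup.mem_center_iff.mp hy ⟨q, hq⟩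
    exact congrArg Subtype.val this
  · rintro ⟨hx, hc⟩
    refine ⟨⟨x, hx⟩, ?_, rfl⟩
    rw [SetLike.mem_coe, Subgroup.mem_center_iff]
    intro q
    exact Subtype.ext (hc q q.2)

/-- The image of the centre of `Q` is contained in the centralizer of `Q`. -/
theorem center_map_le_centralizer {G : Type*} [Group G] (Q : Subgroup G) :
    (Subgroup.center ↥Q).map Q.subtype ≤ Subgroup.centralizer (Q : Set G) := by
  intro x hx
  rw [Subgroup.mem_centralizer_iff]
  intro q hq
  exact ((mem_center_map_iff Q x).mp hx).2 q hq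

end Cfsg.Agent.Lib.Helper90
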