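import Mathlib

set_option autoImplicit false

namespace Cfsg.Agent.Lib.Helper90

/-- Membership in a conjugate subgroup. -/
theorem mem_map_conj_iff {G : Type*} [Group G] (H : Subgroup G) (g x : G) :
    x ∈ H.map (MulAut.conj g).toMonoidHom ↔ g⁻¹ * x * g ∈ H := by
  rw [Subgroup.mem_map_equiv]
  simp [MulAut.conj_symm_apply]

/-- Conjugating a member gives a member of the conjugate subgroup. -/
theorem conj_mem_map_conj {G : Type*} [Group G] (H : Subgroup G) (g : G) {y : G} (hy : y ∈ H) :
    g * y * g⁻¹ ∈ H.map (MulAut.conj g).toMonoidHom := by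
  rw [mem_map_conj_iff]
  have : g⁻¹ * (g * y * g⁻¹) * g = y := by group
  rw [this]; exact hy

/-- An element fixes the coset `gH` iff its conjugate by `g⁻¹` lies in `H`. -/
theorem smul_coset_eq_iff {G : Type*} [Group G] (H : Subgroup G) (x g : G) :
    x • (g : G ⧸ H) = (g : G ⧸ H) ↔ g⁻¹ * x * g ∈ H := by
  rw [MulAction.Quotient.smul_mk, eq_comm, QuotientGroup.eq]
  simp only [smul_eq_mul]
  constructor
  · intro h; simpa [mul_assoc] using h
  · intro h; simpa [mul_assoc] using h

end Cfsg.Agent.Lib.Helper90
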