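import Mathlib
import Cfsg.Prelude.Def_MonsterType
import Cfsg.Agent.Lib.Helper90.OrderTwo

set_option autoImplicit false

namespace Cfsg.Agent.Lib.Helper90

open Cfsg
open scoped commutatorElement

/-- The centre of an extraspecial 2-subgroup is `{1, z}`. -/
theorem exists_center_gen {G : Type*} [Group G] (Q : Subgroup G) (hL1 : IsExtraspecial 2 ↥Q) :
    ∃ z : G, z ∈ (Subgroup.center ↥Q).map Q.subtype ∧ z ≠ 1 ∧ z * z = 1 ∧
      ∀ x ∈ (Subgroup.center ↥Q).map Q.subtype, x = 1 ∨ x = z :=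
  exists_gen_of_card_two _ (by rw [card_center_map]; exact hL1.2)

/-- Commutators of elements of an extraspecial subgroup lie in its centre. -/
theorem comm_mem_center_map {G : Type*} [Group G] (Q : Subgroup G) (hL1 : IsExtraspecial 2 ↥Q)
    {a b : G} (ha : a ∈ Q) (hb : b ∈ Q) :
    a * b * a⁻¹ * b⁻¹ ∈ (Subgroup.center ↥Q).map Q.subtype := by
  have h : ⁅(⟨a, ha⟩ : Q), (⟨b, hb⟩ : Q)⁆ ∈ commutator Q := by
    rw [commutator_def]
    exact Subgroup.commutator_mem_commutator (Subgroup.mem_top _) (Subgroup.mem_top _)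
  rw [hL1.1.2.2] at h
  refine ⟨_, h, ?_⟩
  simp [commutatorElement_def]

/-- A non-central element `b` of an extraspecial 2-subgroup is conjugate in `Q` to `z * b`. -/
theorem exists_conj_eq_gen_mul {G : Type*} [Group G] (Q : Subgroup G) (hL1 : IsExtraspecial 2 ↥Q)
    (z : G) (hall : ∀ x ∈ (Subgroup.center ↥Q).map Q.subtype, x = 1 ∨ x = z)
    {b : G} (hbQ : b ∈ Q) (hbZ : b ∉ (Subgroup.center ↥Q).map Q.subtype) :
    ∃ q ∈ Q, q * b * q⁻¹ = z * b := by
  have : ¬ ∀ q ∈ Q, q * b = b * q := fun h => hbZ ((mem_center_map_iff Q b).mpr ⟨hbQ, h⟩)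
  push Not at this
  obtain ⟨q, hq, hne⟩ := this
  refine ⟨q, hq, ?_⟩
  rcases hall _ (comm_mem_center_map Q hL1 hq hbQ) with h | h
  · exfalso; apply hne
    have : q * b = (q * b * q⁻¹ * b⁻¹) * (b * q) := by group
    rw [this, h, one_mul]
  · have : q * b * q⁻¹ = (q * b * q⁻¹ * b⁻¹) * b := by group
    rw [this, h]

end Cfsg.Agent.Lib.Helper90
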