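import Mathlib
import Cfsg.Prelude.Def_MonsterType
import Cfsg.Agent.Lib.Helper90.Extraspecial
import Cfsg.Agent.Lib.Helper90.Conj

set_option autoImplicit false

namespace Cfsg.Agent.Lib.Helper90

open Cfsg

/-- Elementwise package of the hypotheses "Q is a 2-group with centre `{1,z}` of order two containing
all commutators, `C_G(Q) = {1,z}` and `C_G(z) ≤ N_G(Q)`". -/
structure ESData {G : Type*} [Group G] (Q : Subgroup G) (z : G) : Prop where
  two : IsPGroup 2 Q
  zQ : z ∈ Q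
  z1 : z ≠ 1
  zz : z * z = 1
  zc : ∀ q ∈ Q, q * z = z * q
  comm : ∀ a ∈ Q, ∀ b ∈ Q, a * b * a⁻¹ * b⁻¹ = 1 ∨ a * b * a⁻¹ * b⁻¹ = z
  cent : ∀ x : G, (∀ q ∈ Q, q * x = x * q) → x = 1 ∨ x = z
  norm : ∀ c : G, c * z = z * c → c ∈ Subgroup.normalizer (Q : Set G)

/-- Build the package from the hypotheses as they appear in the statements. -/
theorem ESData.of_hyps {G : Type*} [Group G] (Q : Subgroup G)
    (hL1 : Cfsg.IsExtraspecial 2 ↥Q)
    (hL2 : Subgroup.centralizer (Q : Set G) = ((Subgroup.center ↥Q).map Q.subtype))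
    (hL3 : Subgroup.centralizer (((Subgroup.center ↥Q).map Q.subtype) : Set G)
      ≤ Subgroup.normalizer (Q : Set G)) :
    ∃ z : G, ESData Q z ∧ ∀ x : G, x ∈ (Subgroup.center ↥Q).map Q.subtype ↔ (x = 1 ∨ x = z) := by
  obtain ⟨z, hzZ, hz1, hzz, hall⟩ := exists_center_gen Q hL1
  have hiff : ∀ x : G, x ∈ (Subgroup.center ↥Q).map Q.subtype ↔ (x = 1 ∨ x = z) := by
    intro x
    constructor
    · exact hall x
    · rintro (h | h)
      · rw [h]; exact Subgroup.one_mem _
      · rw [h]; exact hzZ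
  refine ⟨z, ?_, hiff⟩
  refine ⟨hL1.1.1, Subgroup.map_subtype_le _ hzZ, hz1, hzz, ((mem_center_map_iff Q z).mp hzZ).2, ?_, ?_, ?_⟩
  · intro a ha b hb
    exact hall _ (comm_mem_center_map Q hL1 ha hb)
  · intro x hx
    apply hall
    rw [← hL2, Subgroup.mem_centralizer_iff]
    exact hx
  · intro c hc
    apply hL3
    rw [Subgroup.mem_centralizer_iff]
    intro y hy
    rcases hall y hy with h | h
    · rw [h]; group
    · rw [h]; exact hc.symm

namespace ESData

variable {G : Type*} [Group G] {Q : Subgroup G} {z : G}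

theorem zinv (h : ESData Q z) : z⁻¹ = z := inv_eq_of_mul_eq_one_left h.zz

/-- Conjugating the package. -/
theorem conj (h : ESData Q z) (g : G) :
    ESData (Q.map (MulAut.conj g).toMonoidHom) (g * z * g⁻¹) := by
  have hmem : ∀ x : G, x ∈ Q.map (MulAut.conj g).toMonoidHom ↔ g⁻¹ * x * g ∈ Q :=
    fun x => mem_map_conj_iff Q g x
  refine ⟨h.two.map _, ?_, ?_, ?_, ?_, ?_, ?_, ?_⟩
  · exact conj_mem_map_conj Q g h.zQ
  · intro hc
    apply h.z1
    calc z = g⁻¹ * (g * z * g⁻¹) * g := by group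
      _ = 1 := by rw [hc]; group
  · calc g * z * g⁻¹ * (g * z * g⁻¹) = g * (z * z) * g⁻¹ := by group
      _ = 1 := by rw [h.zz]; group
  · intro q hq
    rw [hmem] at hq
    have := h.zc _ hq
    calc q * (g * z * g⁻¹) = g * ((g⁻¹ * q * g) * z) * g⁻¹ := by group
      _ = g * (z * (g⁻¹ * q * g)) * g⁻¹ := by rw [this]
      _ = g * z * g⁻¹ * q := by group
  · intro a ha b hb
    rw [hmem] at ha hb
    have e : a * b * a⁻¹ * b⁻¹ =
        g * ((g⁻¹ * a * g) * (g⁻¹ * b * g) * (g⁻¹ * a * g)⁻¹ * (g⁻¹ * b * g)⁻¹) * g⁻¹ := by group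
    rcases h.comm _ ha _ hb with h1 | h1
    · left; rw [e, h1]; group
    · right; rw [e, h1]
  · intro x hx
    have hx' : ∀ q ∈ Q, q * (g⁻¹ * x * g) = (g⁻¹ * x * g) * q := by
      intro q hq
      have := hx (g * q * g⁻¹) (conj_mem_map_conj Q g hq)
      calc q * (g⁻¹ * x * g) = g⁻¹ * ((g * q * g⁻¹) * x) * g := by group
        _ = g⁻¹ * (x * (g * q * g⁻¹)) * g := by rw [this]
        _ = (g⁻¹ * x * g) * q := by group
    rcases h.cent _ hx' with h1 | h1
    · left
      calc x = g * (g⁻¹ * x * g) * g⁻¹ := by group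
        _ = 1 := by rw [h1]; group
    · right
      calc x = g * (g⁻¹ * x * g) * g⁻¹ := by group
        _ = g * z * g⁻¹ := by rw [h1]
  · intro c hc
    have hc' : (g⁻¹ * c * g) * z = z * (g⁻¹ * c * g) := by
      calc (g⁻¹ * c * g) * z = g⁻¹ * (c * (g * z * g⁻¹)) * g := by group
        _ = g⁻¹ * ((g * z * g⁻¹) * c) * g := by rw [hc]
        _ = z * (g⁻¹ * c * g) := by group
    have hn := h.norm _ hc'
    rw [Subgroup.mem_normalizer_iff]
    intro x
    rw [hmem, hmem]
    have := (Subgroup.mem_normalizer_iff.mp hn) (g⁻¹ * x * g)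
    rw [this]
    have e : g⁻¹ * c * g * (g⁻¹ * x * g) * (g⁻¹ * c * g)⁻¹ = g⁻¹ * (c * x * c⁻¹) * g := by group
    rw [e]

/-- Commutator value `1` means the elements commute. -/
theorem commute_of_comm_eq_one {a b : G} (h1 : a * b * a⁻¹ * b⁻¹ = 1) : a * b = b * a := by
  have : a * b = (a * b * a⁻¹ * b⁻¹) * (b * a) := by group
  rw [this, h1, one_mul]

/-- Commutator value `z` means conjugation multiplies by `z`. -/
theorem conj_of_comm_eq {a b : G} (h1 : a * b * a⁻¹ * b⁻¹ = z) : a * b * a⁻¹ = z * b := by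
  have : a * b * a⁻¹ = (a * b * a⁻¹ * b⁻¹) * b := by group
  rw [this, h1]

/-- For `a, b ∈ Q`: either they commute or `a b a⁻¹ = z b`. -/
theorem commute_or_conj (h : ESData Q z) {a b : G} (ha : a ∈ Q) (hb : b ∈ Q) :
    a * b = b * a ∨ a * b * a⁻¹ = z * b := by
  rcases h.comm a ha b hb with h1 | h1
  · exact Or.inl (commute_of_comm_eq_one h1)
  · exact Or.inr (conj_of_comm_eq h1)

/-- A non-central element `s` of `Q` is conjugate in `Q` to `z s`. -/
theorem exists_conj_noncentral (h : ESData Q z) {s : G} (hsQ : s ∈ Q) (hs1 : s ≠ 1) (hsz : s ≠ z) :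
    ∃ a ∈ Q, a * s * a⁻¹ = z * s := by
  by_contra hcon
  push Not at hcon
  have : ∀ q ∈ Q, q * s = s * q := by
    intro q hq
    rcases h.commute_or_conj hq hsQ with h1 | h1
    · exact h1
    · exact absurd h1 (hcon q hq)
  rcases h.cent s this with h1 | h1
  · exact hs1 h1
  · exact hsz h1

end ESData

end Cfsg.Agent.Lib.Helper90
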