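import Mathlib
import Cfsg.Prelude.Def_MonsterType
import Cfsg.Agent.Lib.Helper90.ES
import Cfsg.Agent.Lib.Helper90.Basic
import Cfsg.Agent.Lib.Helper90.ESCriterion
import Cfsg.Agent.S0026
import Cfsg.Agent.S0027

set_option autoImplicit false

namespace Cfsg.Agent.Lib.Helper90

open Cfsg

namespace ESData

variable {G : Type*} [Group G] {Q : Subgroup G} {z : G}

/-- Elements normalizing `Q` centralize `z`. -/
theorem conj_z_of_mem_normalizer (h : ESData Q z) {a : G}
    (ha : a ∈ Subgroup.normalizer (Q : Set G)) : a * z * a⁻¹ = z := by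
  have hmem : a * z * a⁻¹ ∈ Q := (Subgroup.mem_normalizer_iff.mp ha z).mp h.zQ
  have hc : ∀ q ∈ Q, q * (a * z * a⁻¹) = (a * z * a⁻¹) * q := by
    intro q hq
    have hq' : a⁻¹ * q * a ∈ Q := (Subgroup.mem_normalizer_iff''.mp ha q).mp hq
    have := h.zc _ hq'
    calc q * (a * z * a⁻¹) = a * ((a⁻¹ * q * a) * z) * a⁻¹ := by group
      _ = a * (z * (a⁻¹ * q * a)) * a⁻¹ := by rw [this]
      _ = (a * z * a⁻¹) * q := by group
  rcases h.cent _ hc with h1 | h1
  · exfalso; apply h.z1
    calc z = a⁻¹ * (a * z * a⁻¹) * a := by group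
      _ = 1 := by rw [h1]; group
  · exact h1

/-- Coprime action of an odd-order group `A ≤ N_G(Q)` on the extraspecial-type group `Q`:
`Q = C_Q(A) ∘ [Q, A]` with `[Q, A]` extraspecial and `C_Q(A)` equal to `{1, z}` or extraspecial. -/
theorem coprime_decomp [Finite G] (h : ESData Q z) (hsq : ∀ q ∈ Q, q * q = 1 ∨ q * q = z)
    (A : Subgroup G) (hA : A ≤ Subgroup.normalizer (Q : Set G)) (hAodd : Odd (Nat.card ↥A))
    (hA1 : A ≠ ⊥) :
    (Q ⊓ Subgroup.centralizer (A : Set G)) ⊔ ⁅Q, A⁆ = Q ∧
    (∀ x ∈ Q ⊓ Subgroup.centralizer (A : Set G), ∀ y ∈ ⁅Q, A⁆, x * y = y * x) ∧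
    Cfsg.IsExtraspecial 2 ↥⁅Q, A⁆ ∧
    ((∀ x : G, x ∈ Q ⊓ Subgroup.centralizer (A : Set G) ↔ (x = 1 ∨ x = z)) ∨
      Cfsg.IsExtraspecial 2 ↥(Q ⊓ Subgroup.centralizer (A : Set G))) := by
  have : Fact (Nat.Prime 2) := ⟨Nat.prime_two⟩
  set C := Q ⊓ Subgroup.centralizer (A : Set G) with hC
  set D := ⁅Q, A⁆ with hD
  have hcop : (Nat.card ↥A).Coprime (Nat.card ↥Q) := by
    obtain ⟨n, hn⟩ := h.two.exists_card_eq
    rw [hn]
    exact Nat.Coprime.pow_right n (Nat.coprime_two_right.mpr hAodd)
  have hsolv : Group.IsSolvable ↥A ∨ Group.IsSolvable ↥Q := by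
    right
    have : Group.IsNilpotent ↥Q := h.two.isNilpotent
    infer_instance
  have c1 : C ⊔ D = Q := by
    rw [sup_comm]; exact Cfsg.Agent.S0026.result A Q hA hcop hsolv
  have hDD : ⁅D, A⁆ = D := Cfsg.Agent.S0027.result A Q hA hcop hsolv
  have hzA : ∀ a ∈ A, a * z = z * a := by
    intro a ha
    have := h.conj_z_of_mem_normalizer (hA ha)
    calc a * z = (a * z * a⁻¹) * a := by group
      _ = z * a := by rw [this]
  have hzz := h.zz
  set Z := Subgroup.zpowers z with hZ
  have hZmem : ∀ x : G, x ∈ Z ↔ (x = 1 ∨ x = z) := mem_zpowers_of_involution z hzz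
  have hZA : ⁅Z, A⁆ = ⊥ := by
    rw [Subgroup.commutator_eq_bot_iff_le_centralizer]
    intro x hx
    rw [Subgroup.mem_centralizer_iff]
    intro a ha
    rcases (hZmem x).mp hx with h1 | h1
    · rw [h1]; group
    · rw [h1]; exact hzA a ha
  have hDQ : D ≤ Q := by
    rw [hD, Subgroup.commutator_le]
    intro q hq a ha
    rw [commutatorElement_def]
    have : a * q⁻¹ * a⁻¹ ∈ Q := (Subgroup.mem_normalizer_iff.mp (hA ha) _).mp (Q.inv_mem hq)
    have e : q * a * q⁻¹ * a⁻¹ = q * (a * q⁻¹ * a⁻¹) := by group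
    rw [e]; exact Q.mul_mem hq this
  have hCQ : C ≤ Q := inf_le_left
  -- three subgroups lemma
  have h3 : ⁅D, C⁆ = ⊥ := by
    apply Subgroup.commutator_commutator_eq_bot_of_rotate
    · have : ⁅A, C⁆ = ⊥ := by
        rw [Subgroup.commutator_eq_bot_iff_le_centralizer, Subgroup.le_centralizer_iff]
        exact inf_le_right
      rw [this, Subgroup.commutator_bot_left]
    · have hle : ⁅C, Q⁆ ≤ Z := by
        rw [Subgroup.commutator_le]
        intro c hc q hq
        rw [commutatorElement_def, hZmem]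
        exact h.comm c (hCQ hc) q hq
      have := Subgroup.commutator_mono hle (le_refl A)
      rw [hZA] at this
      exact le_bot_iff.mp this
  have c2 : ∀ x ∈ C, ∀ y ∈ D, x * y = y * x := by
    rw [Subgroup.commutator_eq_bot_iff_le_centralizer] at h3
    intro x hx y hy
    exact Subgroup.mem_centralizer_iff.mp (h3 hy) x hx
  -- an element commuting with `C` and `D` commutes with `Q`
  have hCDQ : ∀ x : G, (∀ c ∈ C, c * x = x * c) → (∀ d ∈ D, d * x = x * d) →
      ∀ q ∈ Q, q * x = x * q := by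
    intro x hxc hxd q hq
    have hle : C ⊔ D ≤ Subgroup.centralizer ({x} : Set G) := by
      apply sup_le
      · intro c hc; exact Subgroup.mem_centralizer_singleton_iff.mpr (hxc c hc)
      · intro d hd; exact Subgroup.mem_centralizer_singleton_iff.mpr (hxd d hd)
    rw [c1] at hle
    exact Subgroup.mem_centralizer_singleton_iff.mp (hle hq)
  -- `D` is non-abelian
  have hDna : ∃ a ∈ D, ∃ b ∈ D, a * b ≠ b * a := by
    by_contra hcon
    push Not at hcon
    have hDZ : D ≤ Z := by
      intro y hy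
      rw [hZmem]
      apply h.cent
      apply hCDQ y
      · intro c hc; exact c2 c hc y hy
      · intro d hd; exact hcon d hd y hy
    have hbot : D = ⊥ := by
      have := Subgroup.commutator_mono hDZ (le_refl A)
      rw [hDD, hZA] at this
      exact le_bot_iff.mp this
    have hQA : Q ≤ Subgroup.centralizer (A : Set G) := by
      rw [← Subgroup.commutator_eq_bot_iff_le_centralizer]; exact hbot
    have hAQ : A ≤ Q := by
      intro a ha
      have hac : ∀ q ∈ Q, q * a = a * q := by
        intro q hq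
        exact (Subgroup.mem_centralizer_iff.mp (hQA hq) a ha).symm
      rcases h.cent a hac with h1 | h1
      · rw [h1]; exact Q.one_mem
      · rw [h1]; exact h.zQ
    apply hA1
    have := inf_eq_bot_of_odd_of_isPGroup A Q hAodd h.two
    rwa [inf_eq_left.mpr hAQ] at this
  have hzD : z ∈ D := by
    obtain ⟨a, ha, b, hb, hab⟩ := hDna
    rcases h.comm a (hDQ ha) b (hDQ hb) with h1 | h1
    · exact absurd (commute_of_comm_eq_one h1) hab
    · rw [← h1]
      exact D.mul_mem (D.mul_mem (D.mul_mem ha hb) (D.inv_mem ha)) (D.inv_mem hb)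
  have c3 : Cfsg.IsExtraspecial 2 ↥D := by
    apply isExtraspecial_two_subgroup D z hzD h.z1 (h.two.to_le hDQ)
    · intro y hy; exact h.zc y (hDQ hy)
    · intro x hx hxd
      apply h.cent
      apply hCDQ x
      · intro c hc; exact c2 c hc x hx
      · exact hxd
    · intro a ha b hb; exact h.comm a (hDQ ha) b (hDQ hb)
    · intro a ha; exact hsq a (hDQ ha)
    · exact hDna
  have hzC : z ∈ C := by
    have hzcent : z ∈ Subgroup.centralizer (A : Set G) := by
      rw [Subgroup.mem_centralizer_iff]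
      intro a ha
      exact hzA a ha
    exact Subgroup.mem_inf.mpr ⟨h.zQ, hzcent⟩
  have c4 : (∀ x : G, x ∈ C ↔ (x = 1 ∨ x = z)) ∨ Cfsg.IsExtraspecial 2 ↥C := by
    by_cases hab : ∀ a ∈ C, ∀ b ∈ C, a * b = b * a
    · left
      intro x
      constructor
      · intro hx
        apply h.cent
        apply hCDQ x
        · intro c hc; exact hab c hc x hx
        · intro d hd; exact (c2 x hx d hd).symm
      · rintro (h1 | h1)
        · rw [h1]; exact C.one_mem
        · rw [h1]; exact hzC
    · right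
      push Not at hab
      apply isExtraspecial_two_subgroup C z hzC h.z1 (h.two.to_le hCQ)
      · intro y hy; exact h.zc y (hCQ hy)
      · intro x hx hxc
        apply h.cent
        apply hCDQ x
        · exact hxc
        · intro d hd; exact (c2 x hx d hd).symm
      · intro a ha b hb; exact h.comm a (hCQ ha) b (hCQ hb)
      · intro a ha; exact hsq a (hCQ ha)
      · exact hab
  exact ⟨c1, c2, c3, c4⟩

end ESData

end Cfsg.Agent.Lib.Helper90
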