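/-
helper90: module S2244-[T3-F4] of helper5's project S2244 (weakly closed subgroups of `U`), written for any datum with a
certificate (so it also covers `B2`): every root element of a non-fundamental positive root outside `Φ_J` lies in
`⁅U_J, U⁆` when the field has more than two elements.  For every non-fundamental positive root `k` the certificate
gives a pair `(a, b)` of positive roots such that the commutator formula of `(a, b)` is either the single term
`x_k(± t u)`, or the two terms `x_{k₁}(± t u) x_{k₂}(± t u²)` with `k ∈ {k₁, k₂}`; in the second case the two factors are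
separated by comparing the parameters `(t, 1)` and `(t λ, λ⁻¹)` with `λ ≠ 0, 1`.
-/
import Cfsg.Agent.Lib.Helper18.Bruhat1
import Cfsg.Agent.S1045
import Mathlib

set_option autoImplicit false

namespace Cfsg.Agent.Lib.Helper90.WC

open Cfsg.Lie Cfsg.Agent.Lib.Helper18

open scoped commutatorElement

universe u

/-- Separation of the two factors of `X₁(ε₁ t u) X₂(ε₂ t u²)`. -/
theorem two_term_trick {G : Type*} [Group G] {F : Type*} [Field F] (C : Subgroup G) (X₁ X₂ : F → G)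
    (h2 : ∀ s t, X₂ s * X₂ t = X₂ (s + t))
    (ε₁ ε₂ : F) (hε₁ : ε₁ * ε₁ = 1) (hε₂ : ε₂ * ε₂ = 1)
    (hW : ∀ t u : F, X₁ (ε₁ * t * u) * X₂ (ε₂ * t * u ^ 2) ∈ C)
    (lam : F) (hl0 : lam ≠ 0) (hl1 : lam ≠ 1) (v : F) : X₁ v ∈ C ∧ X₂ v ∈ C := by
  have z2 : X₂ 0 = 1 := by
    have := h2 0 0
    rw [add_zero] at this
    exact mul_eq_left.mp this
  have i2 : ∀ t, (X₂ t)⁻¹ = X₂ (-t) := by
    intro t
    rw [inv_eq_iff_mul_eq_one, h2, add_neg_cancel, z2]
  have hne : lam - 1 ≠ 0 := sub_ne_zero.mpr hl1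
  have step2 : ∀ w, X₂ w ∈ C := by
    intro w
    set t := ε₂ * w * lam / (lam - 1) with ht
    have hA := hW (t * lam) lam⁻¹
    have hB := hW t 1
    have e1 : ε₁ * (t * lam) * lam⁻¹ = ε₁ * t * 1 := by field_simp
    have hmem := mul_mem (inv_mem hA) hB
    rw [e1, mul_inv_rev, mul_assoc, ← mul_assoc _ (X₁ (ε₁ * t * 1)), inv_mul_cancel, one_mul, i2, h2] at hmem
    have e2 : -(ε₂ * (t * lam) * lam⁻¹ ^ 2) + ε₂ * t * 1 ^ 2 = w := by
      rw [ht]
      field_simp
      linear_combination (w * (lam - 1)) * hε₂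
    rwa [e2] at hmem
  refine ⟨?_, step2 v⟩
  have hB := hW (ε₁ * v) 1
  have e3 : ε₁ * (ε₁ * v) * 1 = v := by rw [mul_one, ← mul_assoc, hε₁, one_mul]
  rw [e3] at hB
  have := mul_mem hB (inv_mem (step2 (ε₂ * (ε₁ * v) * 1 ^ 2)))
  rwa [mul_inv_cancel_right] at this

/-- The support check: a fundamental coroot occurring in `k` occurs in `a` or in `b`. -/
def suppOK (D : ChevalleyDatum) (k a b : ℕ) : Bool :=
  (List.range D.rank).all fun j =>
    decide ((D.coroot.getD k #[]).getD j 0 = 0) || decide ((D.coroot.getD a #[]).getD j 0 ≠ 0) ||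
      decide ((D.coroot.getD b #[]).getD j 0 ≠ 0)

/-- The check of one certificate entry `(a, b, k₁, k₂)` (`k₂ = 0` for a single term). -/
def dlEntryOK (D : ChevalleyDatum) (k : ℕ) (c : ℕ × ℕ × ℕ × ℕ) : Bool :=
  decide (D.nroots / 2 ≤ c.1) && decide (c.1 < D.nroots) && decide (D.nroots / 2 ≤ c.2.1) &&
    decide (c.2.1 < D.nroots) && decide (c.2.1 ≠ c.1) && suppOK D k c.1 c.2.1 &&
    (if c.2.2.2 = 0 then
      decide (D.commTerms c.1 c.2.1 = [(k, 1, 1, 1)]) || decide (D.commTerms c.1 c.2.1 = [(k, -1, 1, 1)])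
    else
      (decide (c.2.2.1 = k) || decide (c.2.2.2 = k)) &&
        (decide (D.commTerms c.1 c.2.1 = [(c.2.2.1, 1, 1, 1), (c.2.2.2, 1, 1, 2)]) ||
          decide (D.commTerms c.1 c.2.1 = [(c.2.2.1, 1, 1, 1), (c.2.2.2, -1, 1, 2)]) ||
          decide (D.commTerms c.1 c.2.1 = [(c.2.2.1, -1, 1, 1), (c.2.2.2, 1, 1, 2)]) ||
          decide (D.commTerms c.1 c.2.1 = [(c.2.2.1, -1, 1, 1), (c.2.2.2, -1, 1, 2)])))

/-- The check of a certificate. -/
def dlCertOK (D : ChevalleyDatum) (cert : List (ℕ × ℕ × ℕ × ℕ)) : Bool :=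
  (List.range (D.nroots / 2)).all fun k0 =>
    (List.range D.rank).any (fun i => decide (D.simple i = k0 + D.nroots / 2)) ||
      dlEntryOK D (k0 + D.nroots / 2) (cert.getD k0 (0, 0, 0, 0))

theorem dlEntryOK_spec {D : ChevalleyDatum} {k : ℕ} {c : ℕ × ℕ × ℕ × ℕ} (h : dlEntryOK D k c = true) :
    ∃ a b : ℕ, D.nroots / 2 ≤ a ∧ a < D.nroots ∧ D.nroots / 2 ≤ b ∧ b < D.nroots ∧ b ≠ a ∧
      (∀ j < D.rank, (D.coroot.getD a #[]).getD j 0 = 0 → (D.coroot.getD b #[]).getD j 0 = 0 →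
        (D.coroot.getD k #[]).getD j 0 = 0) ∧
      ((∃ ε : ℤ, (ε = 1 ∨ ε = -1) ∧ D.commTerms a b = [(k, ε, 1, 1)]) ∨
        (∃ (k₁ k₂ : ℕ) (ε₁ ε₂ : ℤ), (k₁ = k ∨ k₂ = k) ∧ (ε₁ = 1 ∨ ε₁ = -1) ∧ (ε₂ = 1 ∨ ε₂ = -1) ∧
          D.commTerms a b = [(k₁, ε₁, 1, 1), (k₂, ε₂, 1, 2)])) := by
  unfold dlEntryOK at h
  simp only [Bool.and_eq_true, decide_eq_true_eq] at h
  obtain ⟨⟨⟨⟨⟨⟨h1, h2⟩, h3⟩, h4⟩, h5⟩, h6⟩, h7⟩ := h
  refine ⟨c.1, c.2.1, h1, h2, h3, h4, h5, ?_, ?_⟩
  · intro j hj ha hb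
    unfold suppOK at h6
    rw [List.all_eq_true] at h6
    have := h6 j (List.mem_range.2 hj)
    simp only [Bool.or_eq_true, decide_eq_true_eq] at this
    rcases this with (h | h) | h
    · exact h
    · exact absurd ha h
    · exact absurd hb h
  · split_ifs at h7 with h0
    · left
      simp only [Bool.or_eq_true, decide_eq_true_eq] at h7
      rcases h7 with h7 | h7
      · exact ⟨1, Or.inl rfl, h7⟩
      · exact ⟨-1, Or.inr rfl, h7⟩
    · right
      simp only [Bool.and_eq_true, Bool.or_eq_true, decide_eq_true_eq] at h7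
      obtain ⟨hk, h7⟩ := h7
      rcases h7 with ((h7 | h7) | h7) | h7
      · exact ⟨_, _, 1, 1, hk, Or.inl rfl, Or.inl rfl, h7⟩
      · exact ⟨_, _, 1, -1, hk, Or.inl rfl, Or.inr rfl, h7⟩
      · exact ⟨_, _, -1, 1, hk, Or.inr rfl, Or.inl rfl, h7⟩
      · exact ⟨_, _, -1, -1, hk, Or.inr rfl, Or.inr rfl, h7⟩

theorem dlCertOK_spec {D : ChevalleyDatum} {cert : List (ℕ × ℕ × ℕ × ℕ)} (h : dlCertOK D cert = true) (k : ℕ)
    (hk1 : D.nroots / 2 ≤ k) (hk2 : k < D.nroots) (hev : D.nroots % 2 = 0)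
    (hns : ∀ i < D.rank, k ≠ D.simple i) :
    ∃ c : ℕ × ℕ × ℕ × ℕ, dlEntryOK D k c = true := by
  unfold dlCertOK at h
  rw [List.all_eq_true] at h
  have hk0 : k - D.nroots / 2 < D.nroots / 2 := by omega
  have e : k - D.nroots / 2 + D.nroots / 2 = k := Nat.sub_add_cancel hk1
  have h1 := h (k - D.nroots / 2) (List.mem_range.2 hk0)
  rw [e, Bool.or_eq_true, List.any_eq_true] at h1
  rcases h1 with ⟨i, hi, h1⟩ | h1
  · rw [decide_eq_true_eq] at h1
    exact absurd h1.symm (hns i (List.mem_range.1 hi))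
  · exact ⟨_, h1⟩

theorem exists_ne_zero_one {F : Type*} [Field F] [Fintype F] (h2 : Fintype.card F ≠ 2) :
    ∃ lam : F, lam ≠ 0 ∧ lam ≠ 1 := by
  classical
  by_contra hcon
  push Not at hcon
  apply h2
  apply le_antisymm
  · have hsub : (Finset.univ : Finset F) ⊆ {0, 1} := by
      intro x _
      by_cases hx : x = 0
      · simp [hx]
      · simp [hcon x hx]
    calc Fintype.card F = (Finset.univ : Finset F).card := rfl
      _ ≤ ({0, 1} : Finset F).card := Finset.card_le_card hsub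
      _ ≤ 2 := Finset.card_le_two
  · exact Fintype.one_lt_card

/-- The commutator step from a certificate. -/
theorem comm_of_dlCert {F : Type u} [Field F] [Fintype F] {D : ChevalleyDatum}
    (hD : D ∈ [chevG2, chevB2, chevD4, chevF4, chevE6, chevE7, chevE8]) (cert : List (ℕ × ℕ × ℕ × ℕ))
    (hcert : dlCertOK D cert = true) (h2 : Fintype.card F ≠ 2)
    (J : Set ℕ) (r : ℕ) (hr : D.IsPosRoot r) (hJ : ¬ D.InRootSub J r)
    (hns : ∀ i < D.rank, r ≠ D.simple i) (t : F) :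
    xG hD r t ∈ ⁅D.unipotentRadical F J, D.posUnipotent F⁆ := by
  obtain ⟨C⟩ := nonempty_chevData.{u} D hD
  have hrp := (isPosRoot_iff hD r).mp hr
  have hn := C.nroots_eq
  have hev : D.nroots % 2 = 0 := by rw [← hn]; exact C.heven
  obtain ⟨c, hc⟩ := dlCertOK_spec hcert r hrp.2 hrp.1 hev hns
  obtain ⟨a, b, ha1, ha2, hb1, hb2, hba, hsupp, hterms⟩ := dlEntryOK_spec hc
  have ha : D.IsPosRoot a := (isPosRoot_iff hD a).mpr ⟨ha2, ha1⟩
  have hb : D.IsPosRoot b := (isPosRoot_iff hD b).mpr ⟨hb2, hb1⟩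
  have hbn : b ≠ C.T.neg a := by unfold FastDatum.neg; omega
  -- one of the two roots is outside `Φ_J`
  have hor : ¬ D.InRootSub J a ∨ ¬ D.InRootSub J b := by
    by_contra hcon
    push Not at hcon
    apply hJ
    exact ⟨hr.1, fun i hi hiJ => hsupp i hi (hcon.1.2 i hi hiJ) (hcon.2.2 i hi hiJ)⟩
  -- the commutators of the root elements of `a` and `b` lie in `⁅U_J, U⁆`
  have hcm : ∀ t' u' : F, ⁅(xG hD b u')⁻¹, (xG hD a t')⁻¹⁆ ∈ ⁅D.unipotentRadical F J, D.posUnipotent F⁆ := by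
    intro t' u'
    have haU : xG hD a t' ∈ D.posUnipotent F := Subgroup.subset_closure ⟨a, _, ha, rfl⟩
    have hbU : xG hD b u' ∈ D.posUnipotent F := Subgroup.subset_closure ⟨b, _, hb, rfl⟩
    rcases hor with hJa | hJb
    · have haJ : xG hD a t' ∈ D.unipotentRadical F J := Subgroup.subset_closure ⟨a, _, ha, hJa, rfl⟩
      have h1 : ⁅(xG hD a t')⁻¹, (xG hD b u')⁻¹⁆ ∈ ⁅D.unipotentRadical F J, D.posUnipotent F⁆ :=
        Subgroup.commutator_mem_commutator (inv_mem haJ) (inv_mem hbU)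
      rw [← commutatorElement_inv]
      exact inv_mem h1
    · have hbJ : xG hD b u' ∈ D.unipotentRadical F J := Subgroup.subset_closure ⟨b, _, hb, hJb, rfl⟩
      exact Subgroup.commutator_mem_commutator (inv_mem hbJ) (inv_mem haU)
  -- the commutator as a word
  have hword : ∀ t' u' : F, wordG hD (D.commWord F a b t' u') = ⁅(xG hD b u')⁻¹, (xG hD a t')⁻¹⁆ := by
    intro t' u'
    have hcomm := C.comm F a b ha2 hb2 hba hbn t' u'
    have hG : xG hD b u' * xG hD a t' = xG hD a t' * xG hD b u' * wordG hD (D.commWord F a b t' u') := by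
      apply Units.ext
      rw [Units.val_mul, Units.val_mul, Units.val_mul, coe_xG, coe_xG, coe_wordG, hcomm]
    rw [commutatorElement_def, inv_inv, inv_inv, mul_assoc, mul_assoc, hG]
    group
  rcases hterms with ⟨ε, hε, hterms⟩ | ⟨k₁, k₂, ε₁, ε₂, hk, hε₁, hε₂, hterms⟩
  · -- a single term
    have hε2 : ((ε : ℤ) : F) * (ε : F) = 1 := by
      rcases hε with h | h <;> rw [h] <;> simp
    have hw := hword (-((ε : ℤ) : F) * t) 1
    have e : wordG hD (D.commWord F a b (-((ε : ℤ) : F) * t) 1) = xG hD r t := by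
      unfold ChevalleyDatum.commWord
      rw [hterms, List.map_cons, List.map_nil, wordG_cons, wordG_nil, mul_one]
      congr 1
      simp only [pow_one, mul_one]
      rw [neg_mul, neg_neg, ← mul_assoc, hε2, one_mul]
    rw [← e, hw]
    exact hcm _ _
  · -- two terms
    obtain ⟨lam, hl0, hl1⟩ := exists_ne_zero_one h2
    have hε₁2 : ((ε₁ : ℤ) : F) * (ε₁ : F) = 1 := by
      rcases hε₁ with h | h <;> rw [h] <;> simp
    have hε₂2 : ((ε₂ : ℤ) : F) * (ε₂ : F) = 1 := by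
      rcases hε₂ with h | h <;> rw [h] <;> simp
    have hW : ∀ t' u' : F, xG hD k₁ ((ε₁ : F) * t' * u') * xG hD k₂ ((ε₂ : F) * t' * u' ^ 2)
        ∈ ⁅D.unipotentRadical F J, D.posUnipotent F⁆ := by
      intro t' u'
      have hw := hword (-t') u'
      have e : wordG hD (D.commWord F a b (-t') u')
          = xG hD k₁ ((ε₁ : F) * t' * u') * xG hD k₂ ((ε₂ : F) * t' * u' ^ 2) := by
        unfold ChevalleyDatum.commWord
        rw [hterms, List.map_cons, List.map_cons, List.map_nil, wordG_cons, wordG_cons, wordG_nil, mul_one]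
        simp only [pow_one, neg_neg]
      rw [← e, hw]
      exact hcm _ _
    have key := two_term_trick ⁅D.unipotentRadical F J, D.posUnipotent F⁆ (fun s => xG hD k₁ s)
      (fun s => xG hD k₂ s) (fun s s' => xG_mul hD k₂ s s')
      (ε₁ : F) (ε₂ : F) hε₁2 hε₂2 hW lam hl0 hl1 t
    rcases hk with rfl | rfl
    · exact key.1
    · exact key.2

/-- The certificate of type `B2`. -/
def dlCert_B2 : List (ℕ × ℕ × ℕ × ℕ) :=
  [(0, 0, 0, 0), (0, 0, 0, 0), (4, 5, 6, 7), (4, 5, 6, 7)]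

set_option maxRecDepth 1000000 in
theorem dlCertOK_B2 : dlCertOK chevB2 dlCert_B2 = true := by decide +kernel

/-- The certificate of type `F4`. -/
def dlCert_F4 : List (ℕ × ℕ × ℕ × ℕ) :=
  [(0, 0, 0, 0), (0, 0, 0, 0), (24, 25, 0, 0), (0, 0, 0, 0), (25, 27, 28, 30), (24, 28, 29, 32), (25, 27, 28, 30),
   (24, 30, 0, 0), (25, 31, 0, 0), (0, 0, 0, 0), (27, 33, 0, 0), (28, 33, 0, 0), (29, 33, 0, 0), (27, 35, 0, 0),
   (27, 36, 0, 0), (28, 36, 0, 0), (27, 39, 0, 0), (25, 34, 35, 41), (24, 41, 0, 0), (25, 42, 0, 0), (33, 40, 0, 0),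
   (30, 42, 0, 0), (25, 45, 0, 0), (24, 46, 0, 0)]

set_option maxRecDepth 1000000 in
theorem dlCertOK_F4 : dlCertOK chevF4 dlCert_F4 = true := by decide +kernel

/-- The type `B2` (a by-product of the certificate method; the module S2244-[T3-B2] belongs to helper46). -/
theorem comm_T3_B2_of_cert {F : Type u} [Field F] {D : ChevalleyDatum} [Fintype F]
    (hD : D ∈ [chevG2, chevB2, chevD4, chevF4, chevE6, chevE7, chevE8])
    (hB2 : D = chevB2) (h2 : Fintype.card F ≠ 2)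
    (J : Set ℕ) (r : ℕ) (hr : D.IsPosRoot r) (hJ : ¬ D.InRootSub J r)
    (hns : ∀ i < D.rank, r ≠ D.simple i) (t : F) :
    xG hD r t ∈ ⁅D.unipotentRadical F J, D.posUnipotent F⁆ := by
  subst hB2
  exact comm_of_dlCert hD dlCert_B2 dlCertOK_B2 h2 J r hr hJ hns t

/-- S2244-[T3-F4]: the type `F4`. -/
theorem comm_T3_F4 {F : Type u} [Field F] {D : ChevalleyDatum} [Fintype F]
    (hD : D ∈ [chevG2, chevB2, chevD4, chevF4, chevE6, chevE7, chevE8])
    (hF4 : D = chevF4) (h2 : Fintype.card F ≠ 2)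
    (J : Set ℕ) (r : ℕ) (hr : D.IsPosRoot r) (hJ : ¬ D.InRootSub J r)
    (hns : ∀ i < D.rank, r ≠ D.simple i) (t : F) :
    xG hD r t ∈ ⁅D.unipotentRadical F J, D.posUnipotent F⁆ := by
  subst hF4
  exact comm_of_dlCert hD dlCert_F4 dlCertOK_F4 h2 J r hr hJ hns t

end Cfsg.Agent.Lib.Helper90.WC
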