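/-
helper90: module S2244-[T3-SL] of helper5's project S2244 (weakly closed subgroups of `U`): in the simply laced types
`D4`, `E6`, `E7`, `E8` every root element of a non-fundamental positive root outside `Φ_J` is a commutator of a root
element of `U_J` and a root element of `U`.  A certificate (for every non-fundamental positive root `k` a pair of positive
roots `(a, b)` whose commutator formula has the single term `x_k(± t u)`, and whose coroot coordinates add up to those of
`k`) is checked on the tables of the datum.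
-/
import Cfsg.Agent.Lib.Helper18.Bruhat1
import Cfsg.Agent.S1045
import Mathlib

set_option autoImplicit false

namespace Cfsg.Agent.Lib.Helper90.WC

open Cfsg.Lie Cfsg.Agent.Lib.Helper18

open scoped commutatorElement

universe u


/-- The check of one certificate entry. -/
def slPairOK (D : ChevalleyDatum) (k : ℕ) (p : ℕ × ℕ) : Bool :=
  decide (D.nroots / 2 ≤ p.1) && decide (p.1 < D.nroots) && decide (D.nroots / 2 ≤ p.2) &&
    decide (p.2 < D.nroots) && decide (p.2 ≠ p.1) &&
    (decide (D.commTerms p.1 p.2 = [(k, 1, 1, 1)]) || decide (D.commTerms p.1 p.2 = [(k, -1, 1, 1)])) &&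
    (List.range D.rank).all fun j =>
      decide ((D.coroot.getD k #[]).getD j 0 = (D.coroot.getD p.1 #[]).getD j 0 + (D.coroot.getD p.2 #[]).getD j 0)

/-- The check of a certificate. -/
def slCertOK (D : ChevalleyDatum) (cert : List (ℕ × ℕ)) : Bool :=
  (List.range (D.nroots / 2)).all fun k0 =>
    (List.range D.rank).any (fun i => decide (D.simple i = k0 + D.nroots / 2)) ||
      slPairOK D (k0 + D.nroots / 2) (cert.getD k0 (0, 0))

/-- The certificate of type D4. -/
def slCert_D4 : List (ℕ × ℕ) :=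
  [(0, 0), (0, 0), (0, 0), (12, 14), (13, 14), (12, 16), (0, 0), (14, 18), (12, 19), (13, 19), (12, 21),
   (14, 22)]

set_option maxRecDepth 1000000 in
theorem slCertOK_D4 : slCertOK chevD4 slCert_D4 = true := by decide +kernel

/-- The certificate of type E6. -/
def slCert_E6 : List (ℕ × ℕ) :=
  [(0, 0), (0, 0), (36, 37), (0, 0), (37, 39), (36, 40), (0, 0), (39, 42), (37, 43), (36, 44), (0, 0),
   (39, 46), (37, 47), (36, 48), (42, 47), (37, 50), (36, 51), (39, 51), (36, 53), (37, 54), (0, 0),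
   (42, 56), (39, 57), (37, 58), (36, 59), (46, 58), (37, 61), (36, 62), (39, 62), (36, 64), (37, 65),
   (42, 64), (36, 67), (37, 68), (39, 69), (46, 70)]

set_option maxRecDepth 1000000 in
theorem slCertOK_E6 : slCertOK chevE6 slCert_E6 = true := by decide +kernel

/-- The certificate of type E7. -/
def slCert_E7 : List (ℕ × ℕ) :=
  [(0, 0), (0, 0), (63, 64), (0, 0), (64, 66), (63, 67), (0, 0), (66, 69), (64, 70), (63, 71), (0, 0),
   (69, 73), (66, 74), (64, 75), (63, 76), (0, 0), (69, 78), (66, 79), (64, 80), (63, 81), (73, 79),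
   (66, 83), (64, 84), (63, 85), (69, 84), (64, 87), (63, 88), (66, 88), (63, 90), (64, 91), (0, 0),
   (73, 93), (69, 94), (66, 95), (64, 96), (63, 97), (78, 95), (66, 99), (64, 100), (63, 101), (69, 100),
   (64, 103), (63, 104), (66, 104), (63, 106), (64, 107), (73, 103), (64, 109), (63, 110), (66, 110),
   (63, 112), (64, 113), (69, 112), (63, 115), (64, 116), (66, 117), (78, 115), (63, 119), (64, 120),
   (66, 121), (69, 122), (73, 123), (93, 124)]

set_option maxRecDepth 1000000 in
theorem slCertOK_E7 : slCertOK chevE7 slCert_E7 = true := by decide +kernel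

/-- The certificate of type E8. -/
def slCert_E8 : List (ℕ × ℕ) :=
  [(0, 0), (0, 0), (120, 121), (0, 0), (121, 123), (120, 124), (0, 0), (123, 126), (121, 127), (120, 128),
   (0, 0), (126, 130), (123, 131), (121, 132), (120, 133), (0, 0), (130, 135), (126, 136), (123, 137),
   (121, 138), (120, 139), (0, 0), (130, 141), (126, 142), (123, 143), (121, 144), (120, 145), (135, 142),
   (126, 147), (123, 148), (121, 149), (120, 150), (130, 148), (123, 152), (121, 153), (120, 154),
   (126, 153), (121, 156), (120, 157), (123, 157), (120, 159), (121, 160), (0, 0), (135, 162), (130, 163),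
   (126, 164), (123, 165), (121, 166), (120, 167), (141, 164), (126, 169), (123, 170), (121, 171),
   (120, 172), (130, 170), (123, 174), (121, 175), (120, 176), (126, 175), (121, 178), (120, 179),
   (123, 179), (120, 181), (121, 182), (135, 174), (123, 184), (121, 185), (120, 186), (126, 185),
   (121, 188), (120, 189), (123, 189), (120, 191), (121, 192), (130, 188), (121, 194), (120, 195),
   (123, 195), (120, 197), (121, 198), (126, 197), (120, 200), (121, 201), (123, 202), (141, 194),
   (121, 204), (120, 205), (123, 205), (120, 207), (121, 208), (126, 207), (120, 210), (121, 211),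
   (123, 212), (130, 210), (120, 214), (121, 215), (123, 216), (126, 217), (135, 214), (120, 219),
   (121, 220), (123, 221), (126, 222), (130, 223), (141, 224), (162, 219), (120, 226), (121, 227),
   (123, 228), (126, 229), (130, 230), (135, 231), (141, 231), (135, 233), (130, 234), (126, 235),
   (123, 236), (121, 237), (120, 238)]

set_option maxRecDepth 1000000 in
theorem slCertOK_E8 : slCertOK chevE8 slCert_E8 = true := by decide +kernel


theorem slPairOK_spec {D : ChevalleyDatum} {k : ℕ} {p : ℕ × ℕ} (h : slPairOK D k p = true) :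
    D.nroots / 2 ≤ p.1 ∧ p.1 < D.nroots ∧ D.nroots / 2 ≤ p.2 ∧ p.2 < D.nroots ∧ p.2 ≠ p.1 ∧
      (∃ ε : ℤ, (ε = 1 ∨ ε = -1) ∧ D.commTerms p.1 p.2 = [(k, ε, 1, 1)]) ∧
      ∀ j < D.rank, (D.coroot.getD k #[]).getD j 0
        = (D.coroot.getD p.1 #[]).getD j 0 + (D.coroot.getD p.2 #[]).getD j 0 := by
  unfold slPairOK at h
  simp only [Bool.and_eq_true, Bool.or_eq_true, decide_eq_true_eq, List.all_eq_true, List.mem_range] at h
  obtain ⟨⟨⟨⟨⟨⟨h1, h2⟩, h3⟩, h4⟩, h5⟩, h6⟩, h7⟩ := h
  refine ⟨h1, h2, h3, h4, h5, ?_, h7⟩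
  rcases h6 with h6 | h6
  · exact ⟨1, Or.inl rfl, h6⟩
  · exact ⟨-1, Or.inr rfl, h6⟩

theorem slCertOK_spec {D : ChevalleyDatum} {cert : List (ℕ × ℕ)} (h : slCertOK D cert = true) (k : ℕ)
    (hk1 : D.nroots / 2 ≤ k) (hk2 : k < D.nroots) (hev : D.nroots % 2 = 0)
    (hns : ∀ i < D.rank, k ≠ D.simple i) :
    ∃ p : ℕ × ℕ, slPairOK D k p = true := by
  unfold slCertOK at h
  rw [List.all_eq_true] at h
  have hk0 : k - D.nroots / 2 < D.nroots / 2 := by omega
  have e : k - D.nroots / 2 + D.nroots / 2 = k := Nat.sub_add_cancel hk1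
  have h1 := h (k - D.nroots / 2) (List.mem_range.2 hk0)
  rw [e, Bool.or_eq_true, List.any_eq_true] at h1
  rcases h1 with ⟨i, hi, h1⟩ | h1
  · rw [decide_eq_true_eq] at h1
    exact absurd h1.symm (hns i (List.mem_range.1 hi))
  · exact ⟨_, h1⟩

/-- The commutator step from a certificate. -/
theorem comm_of_cert {F : Type u} [Field F] {D : ChevalleyDatum}
    (hD : D ∈ [chevG2, chevB2, chevD4, chevF4, chevE6, chevE7, chevE8]) (cert : List (ℕ × ℕ))
    (hcert : slCertOK D cert = true)
    (J : Set ℕ) (r : ℕ) (hr : D.IsPosRoot r) (hJ : ¬ D.InRootSub J r)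
    (hns : ∀ i < D.rank, r ≠ D.simple i) (t : F) :
    xG hD r t ∈ ⁅D.unipotentRadical F J, D.posUnipotent F⁆ := by
  obtain ⟨C⟩ := nonempty_chevData.{u} D hD
  have hrp := (isPosRoot_iff hD r).mp hr
  have hn := C.nroots_eq
  have hev : D.nroots % 2 = 0 := by rw [← hn]; exact C.heven
  obtain ⟨p, hp⟩ := slCertOK_spec hcert r hrp.2 hrp.1 hev hns
  obtain ⟨ha1, ha2, hb1, hb2, hba, ⟨ε, hε, hterms⟩, hsum⟩ := slPairOK_spec hp
  set a := p.1 with ha_def
  set b := p.2 with hb_def
  have ha : D.IsPosRoot a := (isPosRoot_iff hD a).mpr ⟨ha2, ha1⟩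
  have hb : D.IsPosRoot b := (isPosRoot_iff hD b).mpr ⟨hb2, hb1⟩
  have hbn : b ≠ C.T.neg a := by unfold FastDatum.neg; omega
  -- the commutator formula
  have hε2 : ((ε : ℤ) : F) * (ε : F) = 1 := by
    rcases hε with h | h <;> rw [h] <;> simp
  have hcomm := C.comm F a b ha2 hb2 hba hbn (-((ε : ℤ) : F) * t) 1
  have hword : D.wordMat F (D.commWord F a b (-((ε : ℤ) : F) * t) 1) = D.x F r t := by
    unfold ChevalleyDatum.commWord
    rw [hterms, List.map_cons, List.map_nil, wordMat_cons', wordMat_nil', mul_one]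
    congr 1
    simp only [pow_one, mul_one]
    rw [neg_mul, neg_neg, ← mul_assoc, hε2, one_mul]
  rw [hword] at hcomm
  have hG : xG hD b (1 : F) * xG hD a (-((ε : ℤ) : F) * t)
      = xG hD a (-((ε : ℤ) : F) * t) * xG hD b 1 * xG hD r t := by
    apply Units.ext
    rw [Units.val_mul, Units.val_mul, Units.val_mul, coe_xG, coe_xG, coe_xG, hcomm]
  have hx : xG hD r t = ⁅(xG hD b (1 : F))⁻¹, (xG hD a (-((ε : ℤ) : F) * t))⁻¹⁆ := by
    rw [commutatorElement_def, inv_inv, inv_inv, mul_assoc, mul_assoc, hG]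
    group
  have haU : xG hD a (-((ε : ℤ) : F) * t) ∈ D.posUnipotent F :=
    Subgroup.subset_closure ⟨a, _, ha, rfl⟩
  have hbU : xG hD b (1 : F) ∈ D.posUnipotent F := Subgroup.subset_closure ⟨b, _, hb, rfl⟩
  -- one of the two roots is outside `Φ_J`
  have hor : ¬ D.InRootSub J a ∨ ¬ D.InRootSub J b := by
    by_contra hcon
    push Not at hcon
    apply hJ
    refine ⟨hr.1, fun i hi hiJ => ?_⟩
    rw [hsum i hi, hcon.1.2 i hi hiJ, hcon.2.2 i hi hiJ, add_zero]
  rcases hor with hJa | hJb
  · have haJ : xG hD a (-((ε : ℤ) : F) * t) ∈ D.unipotentRadical F J :=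
      Subgroup.subset_closure ⟨a, _, ha, hJa, rfl⟩
    have h1 : ⁅(xG hD a (-((ε : ℤ) : F) * t))⁻¹, (xG hD b (1 : F))⁻¹⁆
        ∈ ⁅D.unipotentRadical F J, D.posUnipotent F⁆ :=
      Subgroup.commutator_mem_commutator (inv_mem haJ) (inv_mem hbU)
    rw [hx, ← commutatorElement_inv]
    exact inv_mem h1
  · have hbJ : xG hD b (1 : F) ∈ D.unipotentRadical F J :=
      Subgroup.subset_closure ⟨b, _, hb, hJb, rfl⟩
    rw [hx]
    exact Subgroup.commutator_mem_commutator (inv_mem hbJ) (inv_mem haU)

/-- S2244-[T3-SL]: the simply laced types. -/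
theorem comm_T3_SL {F : Type u} [Field F] {D : ChevalleyDatum}
    (hD : D ∈ [chevG2, chevB2, chevD4, chevF4, chevE6, chevE7, chevE8])
    (hSL : D ∈ [chevD4, chevE6, chevE7, chevE8])
    (J : Set ℕ) (r : ℕ) (hr : D.IsPosRoot r) (hJ : ¬ D.InRootSub J r)
    (hns : ∀ i < D.rank, r ≠ D.simple i) (t : F) :
    xG hD r t ∈ ⁅D.unipotentRadical F J, D.posUnipotent F⁆ := by
  simp only [List.mem_cons, List.not_mem_nil, or_false] at hSL
  rcases hSL with rfl | rfl | rfl | rfl
  · exact comm_of_cert hD slCert_D4 slCertOK_D4 J r hr hJ hns t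
  · exact comm_of_cert hD slCert_E6 slCertOK_E6 J r hr hJ hns t
  · exact comm_of_cert hD slCert_E7 slCertOK_E7 J r hr hJ hns t
  · exact comm_of_cert hD slCert_E8 slCertOK_E8 J r hr hJ hns t

end Cfsg.Agent.Lib.Helper90.WC
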