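import Mathlib
import Cfsg.Prelude.Def_FischerSpaces
set_option autoImplicit false

/-!
Triples of 3-transpositions forming a line of `threeTranspositionLines D`; the line system is a partial
linear space with three points on every line.
-/

namespace Cfsg.Agent.Lib.Helper90

open Cfsg Cfsg.LineSystem

variable {G : Type*} [Group G] {D : Set G}

theorem tt_sq (hT : IsThreeTranspositionSet D) {x : G} (hx : x ∈ D) : x * x = 1 := by
  have h := pow_orderOf_eq_one x
  rw [hT.1 x hx, pow_two] at h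
  exact h

theorem tt_inv (hT : IsThreeTranspositionSet D) {x : G} (hx : x ∈ D) : x⁻¹ = x :=
  inv_eq_of_mul_eq_one_right (tt_sq hT hx)

theorem tt_ne_one (hT : IsThreeTranspositionSet D) {x : G} (hx : x ∈ D) : x ≠ 1 := by
  intro h
  have := hT.1 x hx
  rw [h, orderOf_one] at this
  omega

theorem tt_cube (hT : IsThreeTranspositionSet D) {x y : G} (hx : x ∈ D) (hy : y ∈ D)
    (nc : ¬ Commute x y) : (x * y) ^ 3 = 1 := by
  rcases hT.2 x hx y hy with h | h
  · exfalso
    apply nc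
    rw [pow_two] at h
    have := eq_inv_of_mul_eq_one_left h
    rw [mul_inv_rev, tt_inv hT hy, tt_inv hT hx] at this
    exact this
  · exact h

/-- braid relation -/
theorem tt_braid (hT : IsThreeTranspositionSet D) {x y : G} (hx : x ∈ D) (hy : y ∈ D)
    (nc : ¬ Commute x y) : y * x * y = x * y * x := by
  have h3 := tt_cube hT hx hy nc
  rw [pow_three'] at h3
  have h4 := eq_inv_of_mul_eq_one_left h3
  rw [mul_inv_rev, tt_inv hT hy, tt_inv hT hx] at h4
  -- h4 : x * y * (x * y) = y * x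
  have hyy := tt_sq hT hy
  calc y * x * y = x * y * (x * y) * y := by rw [h4]
    _ = x * y * x * (y * y) := by simp only [mul_assoc]
    _ = x * y * x := by rw [hyy, mul_one]

/-- `x, y, z` are the three transpositions of a line: `x, y ∈ D` do not commute and `z = y x y⁻¹`. -/
structure Tri (D : Set G) (x y z : G) : Prop where
  hx : x ∈ D
  hy : y ∈ D
  nc : ¬ Commute x y
  hz : z = y * x * y⁻¹

theorem Tri.hz' (hT : IsThreeTranspositionSet D) {x y z : G} (h : Tri D x y z) : z = y * x * y := by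
  have := h.hz
  rwa [tt_inv hT h.hy] at this

theorem Tri.mem_z (hc : ∀ g : G, ∀ d ∈ D, g * d * g⁻¹ ∈ D) {x y z : G} (h : Tri D x y z) : z ∈ D := by
  rw [h.hz]; exact hc y x h.hx

theorem Tri.mk' (hT : IsThreeTranspositionSet D) {x y : G} (hx : x ∈ D) (hy : y ∈ D)
    (nc : ¬ Commute x y) : Tri D x y (y * x * y) :=
  ⟨hx, hy, nc, by rw [tt_inv hT hy]⟩

theorem Tri.swap12 (hT : IsThreeTranspositionSet D) {x y z : G} (h : Tri D x y z) : Tri D y x z := by
  refine ⟨h.hy, h.hx, fun hc => h.nc hc.symm, ?_⟩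
  rw [h.hz' hT, tt_inv hT h.hx]
  exact tt_braid hT h.hx h.hy h.nc

theorem Tri.swap23 (hT : IsThreeTranspositionSet D) (hc : ∀ g : G, ∀ d ∈ D, g * d * g⁻¹ ∈ D)
    {x y z : G} (h : Tri D x y z) : Tri D x z y := by
  have hxx := tt_sq hT h.hx
  have hyy := tt_sq hT h.hy
  have hz := h.hz' hT
  have hzD := h.mem_z hc
  have hb := tt_braid hT h.hx h.hy h.nc
  refine ⟨h.hx, hzD, ?_, ?_⟩
  · intro hcom
    apply h.nc
    -- x commutes with z = x y x  → x y = y x
    have h1 : x * z = z * x := hcom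
    rw [hz, hb] at h1
    -- x * (x*y*x) = x*y*x*x
    have h2 : x * (x * y * x) = y * x := by
      simp only [← mul_assoc]; rw [hxx, one_mul]
    have h3 : x * y * x * x = x * y := by
      rw [mul_assoc, hxx, mul_one]
    rw [h2, h3] at h1
    exact h1.symm
  · rw [tt_inv hT hzD, hz]
    -- y = (y x y) x (y x y)
    have h3 := tt_cube hT h.hx h.hy h.nc
    rw [pow_three'] at h3
    calc y = y * (x * y * (x * y) * (x * y)) := by rw [h3, mul_one]
      _ = y * x * y * x * (y * x * y) := by simp only [mul_assoc]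

theorem Tri.ne12 {x y z : G} (h : Tri D x y z) : x ≠ y := by
  intro hxy; apply h.nc; rw [hxy]

theorem Tri.ne13 (hT : IsThreeTranspositionSet D) (hc : ∀ g : G, ∀ d ∈ D, g * d * g⁻¹ ∈ D)
    {x y z : G} (h : Tri D x y z) : x ≠ z := (h.swap23 hT hc).ne12

theorem Tri.ne23 (hT : IsThreeTranspositionSet D) (hc : ∀ g : G, ∀ d ∈ D, g * d * g⁻¹ ∈ D)
    {x y z : G} (h : Tri D x y z) : y ≠ z := ((h.swap12 hT).swap23 hT hc).ne12

/-- the third point is determined by the first two -/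
theorem Tri.third_unique {x y z z' : G} (h : Tri D x y z) (h' : Tri D x y z') : z = z' := by
  rw [h.hz, h'.hz]

/-- conjugation by any group element maps lines to lines -/
theorem Tri.conj (hc : ∀ g : G, ∀ d ∈ D, g * d * g⁻¹ ∈ D) {x y z : G} (h : Tri D x y z) (g : G) :
    Tri D (g * x * g⁻¹) (g * y * g⁻¹) (g * z * g⁻¹) := by
  refine ⟨hc g x h.hx, hc g y h.hy, ?_, ?_⟩
  · intro hcom
    apply h.nc
    have h1 : g * x * g⁻¹ * (g * y * g⁻¹) = g * y * g⁻¹ * (g * x * g⁻¹) := hcom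
    have h2 : g * x * g⁻¹ * (g * y * g⁻¹) = g * (x * y) * g⁻¹ := by group
    have h3 : g * y * g⁻¹ * (g * x * g⁻¹) = g * (y * x) * g⁻¹ := by group
    rw [h2, h3] at h1
    exact mul_left_cancel (mul_right_cancel h1)
  · rw [h.hz]; group

/-- The set of points of `D` (as a subtype) given by three elements. -/
def lineSet (D : Set G) (x y z : G) : Set D := {w : D | (w : G) = x ∨ (w : G) = y ∨ (w : G) = z}

theorem Tri.mem_lines {x y z : G} (h : Tri D x y z) : lineSet D x y z ∈ threeTranspositionLines D := by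
  refine ⟨⟨x, h.hx⟩, ⟨y, h.hy⟩, h.nc, ?_⟩
  ext w
  simp only [lineSet, Set.mem_setOf_eq, h.hz]

theorem exists_tri_of_mem_lines {l : Set D} (hl : l ∈ threeTranspositionLines D) :
    ∃ x y z : G, Tri D x y z ∧ l = lineSet D x y z := by
  obtain ⟨x, y, nc, rfl⟩ := hl
  exact ⟨x, y, (y : G) * x * (y : G)⁻¹, ⟨x.2, y.2, nc, rfl⟩, rfl⟩

theorem lineSet_swap12 (x y z : G) : lineSet D x y z = lineSet D y x z := by
  ext w; simp only [lineSet, Set.mem_setOf_eq]; tauto

theorem lineSet_swap23 (x y z : G) : lineSet D x y z = lineSet D x z y := by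
  ext w; simp only [lineSet, Set.mem_setOf_eq]; tauto

/-- re-present a line with any two distinct points of it first -/
theorem Tri.repr (hT : IsThreeTranspositionSet D) (hc : ∀ g : G, ∀ d ∈ D, g * d * g⁻¹ ∈ D)
    {x y z : G} (h : Tri D x y z) {u v : D} (hu : u ∈ lineSet D x y z) (hv : v ∈ lineSet D x y z)
    (huv : u ≠ v) : ∃ w : G, Tri D u v w ∧ lineSet D x y z = lineSet D u v w := by
  have huv' : (u : G) ≠ (v : G) := fun h => huv (Subtype.ext h)
  simp only [lineSet, Set.mem_setOf_eq] at hu hv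
  rcases hu with hu | hu | hu <;> rcases hv with hv | hv | hv
  · exact absurd (hu.trans hv.symm) huv'
  · exact ⟨z, by rw [hu, hv]; exact h, by rw [hu, hv]⟩
  · refine ⟨y, by rw [hu, hv]; exact h.swap23 hT hc, ?_⟩
    rw [hu, hv]; exact lineSet_swap23 x y z
  · refine ⟨z, by rw [hu, hv]; exact h.swap12 hT, ?_⟩
    rw [hu, hv]; exact lineSet_swap12 x y z
  · exact absurd (hu.trans hv.symm) huv'
  · refine ⟨x, by rw [hu, hv]; exact (h.swap12 hT).swap23 hT hc, ?_⟩
    rw [hu, hv, lineSet_swap12 x y z, lineSet_swap23 y x z]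
  · refine ⟨y, by rw [hu, hv]; exact (h.swap23 hT hc).swap12 hT, ?_⟩
    rw [hu, hv, lineSet_swap23 x y z, lineSet_swap12 x z y]
  · refine ⟨x, by rw [hu, hv]; exact ((h.swap12 hT).swap23 hT hc).swap12 hT, ?_⟩
    rw [hu, hv, lineSet_swap12 x y z, lineSet_swap23 y x z, lineSet_swap12 y z x]
  · exact absurd (hu.trans hv.symm) huv'

theorem tt_partialLinear (hT : IsThreeTranspositionSet D) (hc : ∀ g : G, ∀ d ∈ D, g * d * g⁻¹ ∈ D) :
    IsPartialLinear (threeTranspositionLines D) := by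
  intro l hl m hm u v huv hul hvl hum hvm
  obtain ⟨x, y, z, h, rfl⟩ := exists_tri_of_mem_lines hl
  obtain ⟨x', y', z', h', rfl⟩ := exists_tri_of_mem_lines hm
  obtain ⟨w, hw, e1⟩ := h.repr hT hc hul hvl huv
  obtain ⟨w', hw', e2⟩ := h'.repr hT hc hum hvm huv
  rw [e1, e2, hw.third_unique hw']

/-- two distinct points of `D` on a common line do not commute -/
theorem not_commute_of_collinear (hT : IsThreeTranspositionSet D)
    (hc : ∀ g : G, ∀ d ∈ D, g * d * g⁻¹ ∈ D) {u v : D} (huv : u ≠ v)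
    (h : ∃ l ∈ threeTranspositionLines D, u ∈ l ∧ v ∈ l) : ¬ Commute (u : G) (v : G) := by
  obtain ⟨l, hl, hu, hv⟩ := h
  obtain ⟨x, y, z, h, rfl⟩ := exists_tri_of_mem_lines hl
  obtain ⟨w, hw, -⟩ := h.repr hT hc hu hv huv
  exact hw.nc

theorem lineSet_eq_triple {x y z : G} (hx : x ∈ D) (hy : y ∈ D) (hz : z ∈ D) :
    lineSet D x y z = {⟨x, hx⟩, ⟨y, hy⟩, ⟨z, hz⟩} := by
  ext w
  simp only [lineSet, Set.mem_setOf_eq, Set.mem_insert_iff, Set.mem_singleton_iff, Subtype.ext_iff]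

theorem Tri.ncard (hT : IsThreeTranspositionSet D) (hc : ∀ g : G, ∀ d ∈ D, g * d * g⁻¹ ∈ D)
    {x y z : G} (h : Tri D x y z) : (lineSet D x y z).ncard = 3 := by
  rw [lineSet_eq_triple h.hx h.hy (h.mem_z hc)]
  rw [Set.ncard_eq_three]
  refine ⟨_, _, _, ?_, ?_, ?_, rfl⟩
  · intro e; exact h.ne12 (congrArg Subtype.val e)
  · intro e; exact h.ne13 hT hc (congrArg Subtype.val e)
  · intro e; exact h.ne23 hT hc (congrArg Subtype.val e)

theorem tt_two_points (hT : IsThreeTranspositionSet D) (hc : ∀ g : G, ∀ d ∈ D, g * d * g⁻¹ ∈ D) :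
    ∀ l ∈ threeTranspositionLines D, ∃ u v : D, u ≠ v ∧ u ∈ l ∧ v ∈ l := by
  intro l hl
  obtain ⟨x, y, z, h, rfl⟩ := exists_tri_of_mem_lines hl
  refine ⟨⟨x, h.hx⟩, ⟨y, h.hy⟩, ?_, ?_, ?_⟩
  · intro e; exact h.ne12 (congrArg Subtype.val e)
  · simp [lineSet]
  · simp [lineSet]

end Cfsg.Agent.Lib.Helper90
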