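import Mathlib
import Cfsg.Prelude.Def_FischerSpaces
import Cfsg.Agent.Lib.Helper90.FischerTri
set_option autoImplicit false

/-!
Conjugation-invariant equivalence relations on a set of 3-transpositions: the subgroup generated by
the products of equivalent members fixes every equivalence class.  Blocks of imprimitivity.
-/

namespace Cfsg.Agent.Lib.Helper90

open Cfsg

variable {G : Type*} [Group G] {D : Set G}

/-- a conjugation-invariant equivalence relation on `D` (reflexivity only on `D`) -/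
structure InvEquiv (D : Set G) (R : G → G → Prop) : Prop where
  refl : ∀ x ∈ D, R x x
  symm : ∀ {x y : G}, R x y → R y x
  trans : ∀ {x y z : G}, R x y → R y z → R x z
  conj : ∀ {x y : G} (g : G), R x y → R (g * x * g⁻¹) (g * y * g⁻¹)

/-- key: conjugating any member of `D` by two equivalent members gives equivalent members -/
theorem InvEquiv.conj_elem {R : G → G → Prop} (hR : InvEquiv D R)
    (hT : IsThreeTranspositionSet D) (hc : ∀ g : G, ∀ d ∈ D, g * d * g⁻¹ ∈ D)
    {a b e : G} (h : R a b) (ha : a ∈ D) (hb : b ∈ D) (he : e ∈ D) :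
    R (a * e * a⁻¹) (b * e * b⁻¹) := by
  have haa := tt_sq hT ha
  have hbb := tt_sq hT hb
  have hee := tt_sq hT he
  by_cases hab : a = b
  · rw [hab]; exact hR.refl _ (hc b e he)
  by_cases hea : e = a
  · rw [hea]
    have h1 : R (b * a * b⁻¹) (b * b * b⁻¹) := hR.conj b h
    have e1 : b * b * b⁻¹ = b := by group
    have e2 : a * a * a⁻¹ = a := by group
    rw [e1] at h1
    rw [e2]
    exact hR.trans h (hR.symm h1)
  by_cases heb : e = b
  · rw [heb]
    have h1 : R (a * a * a⁻¹) (a * b * a⁻¹) := hR.conj a h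
    have e1 : b * b * b⁻¹ = b := by group
    have e2 : a * a * a⁻¹ = a := by group
    rw [e2] at h1
    rw [e1]
    exact hR.trans (hR.symm h1) h
  by_cases hcoma : Commute a e
  · have e1 : a * e * a⁻¹ = e := by rw [hcoma.eq]; group
    rw [e1]
    by_cases hcomb : Commute b e
    · have e2 : b * e * b⁻¹ = e := by rw [hcomb.eq]; group
      rw [e2]; exact hR.refl e he
    · -- `e` commutes with `a` but not with `b`
      have nc : ¬ Commute e b := fun h => hcomb h.symm
      have b2 := tt_braid hT he hb nc  -- b * e * b = e * b * e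
      have e2 : b * e * b⁻¹ = e * b * e⁻¹ := by rw [tt_inv hT hb, tt_inv hT he]; exact b2
      -- f = e b e⁻¹ is equivalent to a (conjugate `R a b` by `e`)
      have h1 : R (e * a * e⁻¹) (e * b * e⁻¹) := hR.conj e h
      have e3 : e * a * e⁻¹ = a := by rw [← hcoma.eq]; group
      rw [e3] at h1
      -- so `R b f`
      have h2 : R b (e * b * e⁻¹) := hR.trans (hR.symm h) h1
      -- conjugate by `b`: `R b e`
      have h3 : R (b * b * b⁻¹) (b * (e * b * e⁻¹) * b⁻¹) := hR.conj b h2
      have e4 : b * b * b⁻¹ = b := by group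
      have e5 : b * (e * b * e⁻¹) * b⁻¹ = e := by
        rw [← e2, tt_inv hT hb]
        calc b * (b * e * b) * b = (b * b) * e * (b * b) := by simp only [mul_assoc]
          _ = e := by rw [hbb, one_mul, mul_one]
      rw [e4, e5] at h3
      rw [e2]
      exact hR.trans (hR.symm h3) h2
  · have nca : ¬ Commute e a := fun h => hcoma h.symm
    have b1 := tt_braid hT he ha nca
    have e1 : a * e * a⁻¹ = e * a * e⁻¹ := by rw [tt_inv hT ha, tt_inv hT he]; exact b1
    by_cases hcomb : Commute b e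
    · have e2 : b * e * b⁻¹ = e := by rw [hcomb.eq]; group
      rw [e2]
      have h1 : R (e * a * e⁻¹) (e * b * e⁻¹) := hR.conj e h
      have e3 : e * b * e⁻¹ = b := by rw [← hcomb.eq]; group
      rw [e3] at h1
      -- `R f b` with `f = e a e⁻¹`, so `R a f`
      have h2 : R a (e * a * e⁻¹) := hR.trans h (hR.symm h1)
      have h3 : R (a * a * a⁻¹) (a * (e * a * e⁻¹) * a⁻¹) := hR.conj a h2
      have e4 : a * a * a⁻¹ = a := by group
      have e5 : a * (e * a * e⁻¹) * a⁻¹ = e := by
        rw [← e1, tt_inv hT ha]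
        calc a * (a * e * a) * a = (a * a) * e * (a * a) := by simp only [mul_assoc]
          _ = e := by rw [haa, one_mul, mul_one]
      rw [e4, e5] at h3
      rw [e1]
      exact hR.trans (hR.symm h2) h3
    · have ncb : ¬ Commute e b := fun h => hcomb h.symm
      have b2 := tt_braid hT he hb ncb
      have e2 : b * e * b⁻¹ = e * b * e⁻¹ := by rw [tt_inv hT hb, tt_inv hT he]; exact b2
      rw [e1, e2]
      exact hR.conj e h

/-- generators `a * b` with `a`, `b` equivalent -/
def relGens (D : Set G) (R : G → G → Prop) : Set G :=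
  {x : G | ∃ a ∈ D, ∃ b ∈ D, R a b ∧ x = a * b}

/-- the subgroup generated by the products of equivalent members -/
def relSub (D : Set G) (R : G → G → Prop) : Subgroup G := Subgroup.closure (relGens D R)

theorem relSub_normal {R : G → G → Prop} (hR : InvEquiv D R)
    (hc : ∀ g : G, ∀ d ∈ D, g * d * g⁻¹ ∈ D) : (relSub D R).Normal := by
  constructor
  intro n hn g
  unfold relSub at hn ⊢
  induction hn using Subgroup.closure_induction with
  | mem x hx =>
    apply Subgroup.subset_closure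
    obtain ⟨a, ha, b, hb, hab, rfl⟩ := hx
    exact ⟨g * a * g⁻¹, hc g a ha, g * b * g⁻¹, hc g b hb, hR.conj g hab, by group⟩
  | one => simp
  | mul x y _ _ hx hy =>
    have : g * (x * y) * g⁻¹ = (g * x * g⁻¹) * (g * y * g⁻¹) := by group
    rw [this]; exact mul_mem hx hy
  | inv x _ hx =>
    have : g * x⁻¹ * g⁻¹ = (g * x * g⁻¹)⁻¹ := by group
    rw [this]; exact inv_mem hx

/-- `relSub D R` maps every member of `D` to an equivalent one -/
theorem relSub_fix {R : G → G → Prop} (hR : InvEquiv D R)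
    (hT : IsThreeTranspositionSet D) (hc : ∀ g : G, ∀ d ∈ D, g * d * g⁻¹ ∈ D)
    {m : G} (hm : m ∈ relSub D R) : ∀ e ∈ D, R (m * e * m⁻¹) e := by
  unfold relSub at hm
  induction hm using Subgroup.closure_induction with
  | mem x hx =>
    intro e he
    obtain ⟨a, ha, b, hb, hab, rfl⟩ := hx
    have he' : b * e * b⁻¹ ∈ D := hc b e he
    have h1 := hR.conj_elem hT hc hab ha hb he'
    have e1 : a * b * e * (a * b)⁻¹ = a * (b * e * b⁻¹) * a⁻¹ := by group
    have e2 : b * (b * e * b⁻¹) * b⁻¹ = e := by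
      rw [tt_inv hT hb]
      calc b * (b * e * b) * b = (b * b) * e * (b * b) := by simp only [mul_assoc]
        _ = e := by rw [tt_sq hT hb, one_mul, mul_one]
    rw [e1]
    rw [e2] at h1
    exact h1
  | one =>
    intro e he
    have : (1 : G) * e * 1⁻¹ = e := by group
    rw [this]; exact hR.refl e he
  | mul x y _ _ hx hy =>
    intro e he
    have he' : y * e * y⁻¹ ∈ D := hc y e he
    have e1 : x * y * e * (x * y)⁻¹ = x * (y * e * y⁻¹) * x⁻¹ := by group
    rw [e1]
    exact hR.trans (hx _ he') (hy e he)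
  | inv x _ hx =>
    intro e he
    have he' : x⁻¹ * e * x⁻¹⁻¹ ∈ D := hc x⁻¹ e he
    have h1 := hx _ he'
    have e1 : x * (x⁻¹ * e * x⁻¹⁻¹) * x⁻¹ = e := by group
    rw [e1] at h1
    exact hR.symm h1

/-! ### blocks -/

/-- `a` and `b` lie in a common translate of `B` -/
def SameBlock (B : Set G) (a b : G) : Prop := ∃ g : G, g⁻¹ * a * g ∈ B ∧ g⁻¹ * b * g ∈ B

theorem mem_image_conj_iff (B : Set G) (g x : G) :
    x ∈ (fun y => g * y * g⁻¹) '' B ↔ g⁻¹ * x * g ∈ B := by
  constructor
  · rintro ⟨y, hy, rfl⟩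
    have : g⁻¹ * (g * y * g⁻¹) * g = y := by group
    rw [this]; exact hy
  · intro h
    exact ⟨g⁻¹ * x * g, h, by group⟩

/-- elementwise form of the block property -/
theorem block_elementwise {B : Set G}
    (hB : ∀ g : G, (fun x => g * x * g⁻¹) '' B = B ∨ Disjoint ((fun x => g * x * g⁻¹) '' B) B)
    (g : G) : (∀ x, g⁻¹ * x * g ∈ B ↔ x ∈ B) ∨ (∀ x, g⁻¹ * x * g ∈ B → x ∉ B) := by
  rcases hB g with h | h
  · left
    intro x
    rw [← mem_image_conj_iff, h]
  · right
    intro x hx hxB
    rw [← mem_image_conj_iff] at hx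
    exact (Set.disjoint_left.mp h) hx hxB

theorem sameBlock_invEquiv {B : Set G}
    (hB : ∀ g : G, (fun x => g * x * g⁻¹) '' B = B ∨ Disjoint ((fun x => g * x * g⁻¹) '' B) B)
    (hcover : ∀ x ∈ D, ∃ g : G, g⁻¹ * x * g ∈ B) : InvEquiv D (SameBlock B) := by
  refine ⟨?_, ?_, ?_, ?_⟩
  · intro x hx
    obtain ⟨g, hg⟩ := hcover x hx
    exact ⟨g, hg, hg⟩
  · rintro x y ⟨g, h1, h2⟩
    exact ⟨g, h2, h1⟩
  · rintro x y z ⟨g₁, hx1, hy1⟩ ⟨g₂, hy2, hz2⟩
    refine ⟨g₁, hx1, ?_⟩
    -- compare the translates by `g₁` and `g₂` through `y`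
    rcases block_elementwise hB (g₁⁻¹ * g₂) with h | h
    · have e1 : (g₁⁻¹ * g₂)⁻¹ * (g₁⁻¹ * z * g₁) * (g₁⁻¹ * g₂) = g₂⁻¹ * z * g₂ := by group
      rw [← h, e1]; exact hz2
    · exfalso
      have e1 : (g₁⁻¹ * g₂)⁻¹ * (g₁⁻¹ * y * g₁) * (g₁⁻¹ * g₂) = g₂⁻¹ * y * g₂ := by group
      exact h (g₁⁻¹ * y * g₁) (by rw [e1]; exact hy2) hy1
  · rintro x y h ⟨g, h1, h2⟩
    refine ⟨h * g, ?_, ?_⟩
    · have : (h * g)⁻¹ * (h * x * h⁻¹) * (h * g) = g⁻¹ * x * g := by group
      rw [this]; exact h1
    · have : (h * g)⁻¹ * (h * y * h⁻¹) * (h * g) = g⁻¹ * y * g := by group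
      rw [this]; exact h2

/-- a member equivalent to a member of the block lies in the block -/
theorem mem_block_of_sameBlock {B : Set G}
    (hB : ∀ g : G, (fun x => g * x * g⁻¹) '' B = B ∨ Disjoint ((fun x => g * x * g⁻¹) '' B) B)
    {d x : G} (hd : d ∈ B) (h : SameBlock B x d) : x ∈ B := by
  obtain ⟨g, hx, hdg⟩ := h
  rcases block_elementwise hB g with h1 | h1
  · exact (h1 x).mp hx
  · exact absurd hd (h1 d hdg)

end Cfsg.Agent.Lib.Helper90
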