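import Mathlib
import Cfsg.Prelude.Def_FischerSpaces
import Cfsg.Agent.Lib.Helper90.Basic
import Cfsg.Agent.Lib.Helper90.FischerTri
import Cfsg.Agent.Lib.Helper58.ZStarProd
import Cfsg.Agent.Lib.Helper97.Cores2
set_option autoImplicit false

/-!
3-transposition groups: the members of `D` with the same commuting partners as `d` are exactly
`D ∩ d O₃(G) = d ^ O₃(G)` (from the Z*-theorem, via helper58's `ZStarProd`).
-/

namespace Cfsg.Agent.Lib.Helper90

open Cfsg

variable {G : Type*} [Group G] {D : Set G}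

/-- commuting partners of `a` in `D`, other than `a` -/
def cpart (D : Set G) (a : G) : Set G := {y : G | y ∈ D ∧ y ≠ a ∧ Commute a y}

/-- same commuting partners -/
def Sim (D : Set G) (a b : G) : Prop := cpart D a = cpart D b

theorem Sim.rfl' (a : G) : Sim D a a := rfl
theorem Sim.symm' {a b : G} (h : Sim D a b) : Sim D b a := Eq.symm h
theorem Sim.trans' {a b c : G} (h : Sim D a b) (h' : Sim D b c) : Sim D a c := Eq.trans h h'

theorem mem_cpart_conj (hc : ∀ g : G, ∀ d ∈ D, g * d * g⁻¹ ∈ D) (g a y : G) :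
    y ∈ cpart D (g * a * g⁻¹) ↔ g⁻¹ * y * g ∈ cpart D a := by
  unfold cpart
  simp only [Set.mem_setOf_eq]
  constructor
  · rintro ⟨hy, hne, hcom⟩
    refine ⟨?_, ?_, ?_⟩
    · have := hc g⁻¹ y hy
      rwa [inv_inv] at this
    · intro h
      apply hne
      rw [← h]; group
    · have h1 : g * a * g⁻¹ * y = y * (g * a * g⁻¹) := hcom
      show a * (g⁻¹ * y * g) = (g⁻¹ * y * g) * a
      calc a * (g⁻¹ * y * g) = g⁻¹ * (g * a * g⁻¹ * y) * g := by group
        _ = g⁻¹ * (y * (g * a * g⁻¹)) * g := by rw [h1]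
        _ = (g⁻¹ * y * g) * a := by group
  · rintro ⟨hy, hne, hcom⟩
    refine ⟨?_, ?_, ?_⟩
    · have := hc g _ hy
      have e : g * (g⁻¹ * y * g) * g⁻¹ = y := by group
      rwa [e] at this
    · intro h
      apply hne
      rw [h]; group
    · have h1 : a * (g⁻¹ * y * g) = (g⁻¹ * y * g) * a := hcom
      show g * a * g⁻¹ * y = y * (g * a * g⁻¹)
      calc g * a * g⁻¹ * y = g * (a * (g⁻¹ * y * g)) * g⁻¹ := by group
        _ = g * ((g⁻¹ * y * g) * a) * g⁻¹ := by rw [h1]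
        _ = y * (g * a * g⁻¹) := by group

theorem Sim.conj (hc : ∀ g : G, ∀ d ∈ D, g * d * g⁻¹ ∈ D) {a b : G} (h : Sim D a b) (g : G) :
    Sim D (g * a * g⁻¹) (g * b * g⁻¹) := by
  unfold Sim
  ext y
  rw [mem_cpart_conj hc, mem_cpart_conj hc, h]

theorem Sim.not_commute {a b : G} (h : Sim D a b) (hb : b ∈ D) (hab : a ≠ b) : ¬ Commute a b := by
  intro hcom
  have h1 : b ∈ cpart D a := ⟨hb, fun h => hab h.symm, hcom⟩
  rw [h] at h1
  exact h1.2.1 rfl

theorem Sim.commute_imp {a b e : G} (h : Sim D a b) (he : e ∈ D) (hea : e ≠ a) (heb : e ≠ b)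
    (hcom : Commute a e) : Commute b e := by
  have h1 : e ∈ cpart D a := ⟨he, hea, hcom⟩
  rw [h] at h1
  exact h1.2.2

/-- key: conjugating any member of `D` by two equivalent members gives equivalent members -/
theorem Sim.conj_elem (hT : IsThreeTranspositionSet D) (hc : ∀ g : G, ∀ d ∈ D, g * d * g⁻¹ ∈ D)
    {a b e : G} (h : Sim D a b) (ha : a ∈ D) (hb : b ∈ D) (he : e ∈ D) :
    Sim D (a * e * a⁻¹) (b * e * b⁻¹) := by
  by_cases hab : a = b
  · rw [hab]; exact Sim.rfl' _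
  by_cases hea : e = a
  · -- a * a * a⁻¹ = a ; b * a * b⁻¹ ~ b ~ a
    rw [hea]
    have h1 : Sim D (b * a * b⁻¹) (b * b * b⁻¹) := h.conj hc b
    have e1 : b * b * b⁻¹ = b := by group
    have e2 : a * a * a⁻¹ = a := by group
    rw [e1] at h1
    rw [e2]
    exact h.trans' h1.symm'
  by_cases heb : e = b
  · rw [heb]
    have h1 : Sim D (a * a * a⁻¹) (a * b * a⁻¹) := h.conj hc a
    have e1 : b * b * b⁻¹ = b := by group
    have e2 : a * a * a⁻¹ = a := by group
    rw [e2] at h1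
    rw [e1]
    exact h1.symm'.trans' h
  by_cases hcom : Commute a e
  · have hcom' : Commute b e := h.commute_imp he hea heb hcom
    have e1 : a * e * a⁻¹ = e := by rw [hcom.eq]; group
    have e2 : b * e * b⁻¹ = e := by rw [hcom'.eq]; group
    rw [e1, e2]; exact Sim.rfl' _
  · have hcom' : ¬ Commute b e := fun hbe => hcom (h.symm'.commute_imp he heb hea hbe)
    have nc1 : ¬ Commute e a := fun h => hcom h.symm
    have nc2 : ¬ Commute e b := fun h => hcom' h.symm
    have b1 := tt_braid hT he ha nc1  -- a * e * a = e * a * e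
    have b2 := tt_braid hT he hb nc2
    have e1 : a * e * a⁻¹ = e * a * e⁻¹ := by rw [tt_inv hT ha, tt_inv hT he]; exact b1
    have e2 : b * e * b⁻¹ = e * b * e⁻¹ := by rw [tt_inv hT hb, tt_inv hT he]; exact b2
    rw [e1, e2]
    exact h.conj hc e

/-- generators `a * b` with `a ~ b` -/
def simGens (D : Set G) : Set G := {x : G | ∃ a ∈ D, ∃ b ∈ D, Sim D a b ∧ x = a * b}

/-- the subgroup generated by the products of equivalent members -/
def simSub (D : Set G) : Subgroup G := Subgroup.closure (simGens D)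

theorem simSub_normal (hc : ∀ g : G, ∀ d ∈ D, g * d * g⁻¹ ∈ D) : (simSub D).Normal := by
  constructor
  intro n hn g
  unfold simSub at hn ⊢
  induction hn using Subgroup.closure_induction with
  | mem x hx =>
    apply Subgroup.subset_closure
    obtain ⟨a, ha, b, hb, hab, rfl⟩ := hx
    exact ⟨g * a * g⁻¹, hc g a ha, g * b * g⁻¹, hc g b hb, hab.conj hc g, by group⟩
  | one => simp
  | mul x y _ _ hx hy =>
    have : g * (x * y) * g⁻¹ = (g * x * g⁻¹) * (g * y * g⁻¹) := by group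
    rw [this]; exact mul_mem hx hy
  | inv x _ hx =>
    have : g * x⁻¹ * g⁻¹ = (g * x * g⁻¹)⁻¹ := by group
    rw [this]; exact inv_mem hx

/-- the subgroup `simSub D` maps every member of `D` to an equivalent one -/
theorem simSub_fix (hT : IsThreeTranspositionSet D) (hc : ∀ g : G, ∀ d ∈ D, g * d * g⁻¹ ∈ D)
    {m : G} (hm : m ∈ simSub D) : ∀ e ∈ D, Sim D (m * e * m⁻¹) e := by
  unfold simSub at hm
  induction hm using Subgroup.closure_induction with
  | mem x hx =>
    intro e he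
    obtain ⟨a, ha, b, hb, hab, rfl⟩ := hx
    have he' : b * e * b⁻¹ ∈ D := hc b e he
    have h1 := hab.conj_elem hT hc ha hb he'
    have e1 : a * b * e * (a * b)⁻¹ = a * (b * e * b⁻¹) * a⁻¹ := by group
    have e2 : b * (b * e * b⁻¹) * b⁻¹ = e := by
      rw [tt_inv hT hb]
      calc b * (b * e * b) * b = (b * b) * e * (b * b) := by simp only [mul_assoc]
        _ = e := by rw [tt_sq hT hb, one_mul, mul_one]
    rw [e1]
    rw [e2] at h1
    exact h1
  | one =>
    intro e _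
    have : (1 : G) * e * 1⁻¹ = e := by group
    rw [this]; exact Sim.rfl' _
  | mul x y _ _ hx hy =>
    intro e he
    have he' : y * e * y⁻¹ ∈ D := hc y e he
    have e1 : x * y * e * (x * y)⁻¹ = x * (y * e * y⁻¹) * x⁻¹ := by group
    rw [e1]
    exact (hx _ he').trans' (hy e he)
  | inv x _ hx =>
    intro e he
    have he' : x⁻¹ * e * x⁻¹⁻¹ ∈ D := hc x⁻¹ e he
    have h1 := hx _ he'
    have e1 : x * (x⁻¹ * e * x⁻¹⁻¹) * x⁻¹ = e := by group
    rw [e1] at h1
    exact h1.symm'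

/-- if `d ~ w` are different then `(d * w) * d * (d * w)⁻¹ = w` -/
theorem conj_mul_eq (hT : IsThreeTranspositionSet D) {d w : G} (hd : d ∈ D) (hw : w ∈ D)
    (nc : ¬ Commute d w) : (d * w) * d * (d * w)⁻¹ = w := by
  have hb := tt_braid hT hd hw nc  -- w * d * w = d * w * d
  rw [mul_inv_rev, tt_inv hT hd, tt_inv hT hw]
  calc d * w * d * (w * d) = d * (w * d * w) * d := by simp only [mul_assoc]
    _ = d * (d * w * d) * d := by rw [hb]
    _ = (d * d) * w * (d * d) := by simp only [mul_assoc]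
    _ = w := by rw [tt_sq hT hd, one_mul, mul_one]

section Finite

variable [Finite G]

/-- main claim: equivalent members are congruent modulo `O₃(G)` -/
theorem sim_mul_mem_pCore
    (hZ : ∀ H : Subgroup G, Cfsg.Agent.Lib.Helper58.ZStarProd.ZStarHyp ↥H)
    (hT : IsThreeTranspositionSet D) (hc : ∀ g : G, ∀ d ∈ D, g * d * g⁻¹ ∈ D)
    {d w : G} (hd : d ∈ D) (hw : w ∈ D) (h : Sim D d w) : d * w ∈ pCore 3 G := by
  by_cases hdw : d = w
  · rw [← hdw, tt_sq hT hd]; exact one_mem _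
  have nc : ¬ Commute d w := h.not_commute hw hdw
  have hMn : (simSub D).Normal := simSub_normal hc
  set M := simSub D with hM
  set G₁ : Subgroup G := M ⊔ Subgroup.zpowers d with hG₁
  have hMle : M ≤ G₁ := le_sup_left
  have hdG₁ : d ∈ G₁ := (le_sup_right : Subgroup.zpowers d ≤ G₁) (Subgroup.mem_zpowers d)
  have hdwM : d * w ∈ M := Subgroup.subset_closure ⟨d, hd, w, hw, h, rfl⟩
  -- conjugates of `d` under `G₁` are equivalent to `d`
  have hA : ∀ g ∈ G₁, Sim D (g * d * g⁻¹) d := by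
    intro g hg
    rw [hG₁, Subgroup.mem_sup_of_normal_left] at hg
    obtain ⟨m, hm, z, hz, rfl⟩ := hg
    obtain ⟨i, rfl⟩ := Subgroup.mem_zpowers_iff.mp hz
    have hcz : Commute (d ^ i) d := (Commute.refl d).zpow_left i
    have e1 : m * d ^ i * d * (m * d ^ i)⁻¹ = m * d * m⁻¹ := by
      rw [mul_assoc m, hcz.eq]; group
    rw [e1]
    exact simSub_fix hT hc hm d hd
  -- pass to the group `G₁`
  let d₁ : ↥G₁ := ⟨d, hdG₁⟩
  have hd₁ : orderOf d₁ = 2 := by
    rw [← Subgroup.orderOf_coe]; exact hT.1 d hd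
  have hconjD : ∀ a ∈ conjugatesOf d₁, (a : G) ∈ D ∧ Sim D (a : G) d := by
    intro a ha
    rw [Cfsg.Agent.Lib.Helper58.ZStarProd.mem_conjOf, isConj_iff] at ha
    obtain ⟨c, rfl⟩ := ha
    have e1 : ((c * d₁ * c⁻¹ : ↥G₁) : G) = (c : G) * d * (c : G)⁻¹ := by
      simp [d₁]
    rw [e1]
    exact ⟨hc _ d hd, hA _ c.2⟩
  have hprod : ∀ a ∈ conjugatesOf d₁, ∀ b ∈ conjugatesOf d₁, ∃ k : ℕ, orderOf (a * b) = 3 ^ k := by
    intro a ha b hb
    obtain ⟨haD, hsa⟩ := hconjD a ha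
    obtain ⟨hbD, hsb⟩ := hconjD b hb
    have hsab : Sim D (a : G) (b : G) := hsa.trans' hsb.symm'
    by_cases hab : (a : G) = (b : G)
    · refine ⟨0, ?_⟩
      have : a * b = 1 := by
        apply Subtype.ext
        rw [Subgroup.coe_mul, hab, tt_sq hT hbD, Subgroup.coe_one]
      rw [this, orderOf_one, pow_zero]
    · refine ⟨1, ?_⟩
      have nc' := hsab.not_commute hbD hab
      have h3 := tt_cube hT haD hbD nc'
      have hne : (a : G) * (b : G) ≠ 1 := by
        intro h1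
        apply hab
        have := eq_inv_of_mul_eq_one_left h1
        rw [tt_inv hT hbD] at this
        exact this
      rw [pow_one, ← Subgroup.orderOf_coe, Subgroup.coe_mul]
      exact orderOf_eq_prime h3 hne
  obtain ⟨R, hRn, hRp, hR⟩ := Cfsg.Agent.Lib.Helper58.ZStarProd.exists_normal_pGroup (hZ G₁)
    Nat.prime_three (by norm_num) d₁ hd₁ hprod
  -- `w` as a conjugate of `d` in `G₁`
  let g₁ : ↥G₁ := ⟨d * w, hMle hdwM⟩
  have hw₁ : g₁ * d₁ * g₁⁻¹ ∈ conjugatesOf d₁ := by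
    rw [Cfsg.Agent.Lib.Helper58.ZStarProd.mem_conjOf, isConj_iff]
    exact ⟨g₁, rfl⟩
  have hd₁c : d₁ ∈ conjugatesOf d₁ := by
    rw [Cfsg.Agent.Lib.Helper58.ZStarProd.mem_conjOf]
  have hmemR := hR d₁ hd₁c _ hw₁
  have hval : ((d₁ * (g₁ * d₁ * g₁⁻¹) : ↥G₁) : G) = d * w := by
    have : ((g₁ * d₁ * g₁⁻¹ : ↥G₁) : G) = (d * w) * d * (d * w)⁻¹ := by simp [g₁, d₁]
    rw [Subgroup.coe_mul, this, conj_mul_eq hT hd hw nc]
  -- the subnormal `3`-subgroup
  set T : Subgroup G := R.map G₁.subtype ⊓ M with hTdef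
  have hdwT : d * w ∈ T := by
    refine ⟨?_, hdwM⟩
    rw [← hval]
    exact ⟨_, hmemR, rfl⟩
  have hT3 : IsPGroup 3 T := (hRp.map G₁.subtype).to_le inf_le_left
  have hTM : T ≤ M := inf_le_right
  have hTn : (T.subgroupOf M).Normal := by
    constructor
    intro n hn g
    rw [Subgroup.mem_subgroupOf] at hn ⊢
    refine ⟨?_, (g * n * g⁻¹).2⟩
    obtain ⟨⟨r, hr, hrn⟩, -⟩ := hn
    let g' : ↥G₁ := ⟨(g : G), hMle g.2⟩
    refine ⟨g' * r * g'⁻¹, hRn.conj_mem r hr g', ?_⟩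
    have hrn' : (r : G) = (n : G) := hrn
    simp [g', hrn']
  have hTsub : T.IsSubnormal :=
    Subgroup.IsSubnormal.step T M hTM
      (Subgroup.IsSubnormal.step M ⊤ le_top Subgroup.IsSubnormal.top (hMn.subgroupOf ⊤)) hTn
  exact Cfsg.Agent.Lib.Helper97.le_pCore_of_isSubnormal hTsub hT3 hdwT

/-- an element of `O₃(G)` whose square is trivial is trivial -/
theorem eq_one_of_sq_of_mem_pCore3 {x : G} (hx2 : x ^ 2 = 1) (hx : x ∈ pCore 3 G) : x = 1 := by
  obtain ⟨k, hk⟩ := (pCore_isPGroup 3 G) ⟨x, hx⟩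
  have hk' : x ^ 3 ^ k = 1 := by
    have := congrArg Subtype.val hk
    simpa using this
  have hord : orderOf x ∣ Nat.gcd (3 ^ k) 2 :=
    Nat.dvd_gcd (orderOf_dvd_of_pow_eq_one hk') (orderOf_dvd_of_pow_eq_one hx2)
  have hg : Nat.gcd (3 ^ k) 2 = 1 := by
    apply Nat.Coprime.pow_left; norm_num
  rw [hg, Nat.dvd_one, orderOf_eq_one_iff] at hord
  exact hord

/-- members of `D` congruent modulo `O₃(G)`: commuting partners of one are partners of the other -/
theorem cpart_subset_of_mem_pCore (hT : IsThreeTranspositionSet D) {d w : G} (hd : d ∈ D)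
    (hw : w ∈ D) (h : d⁻¹ * w ∈ pCore 3 G) : cpart D d ⊆ cpart D w := by
  rintro y ⟨hy, hyd, hcom⟩
  have hn := pCore_normal 3 G
  have hdd := tt_sq hT hd
  have hyy := tt_sq hT hy
  have hww := tt_sq hT hw
  -- `d * y` is an involution
  have hdy2 : (d * y) ^ 2 = 1 := by
    rw [pow_two]
    calc d * y * (d * y) = d * (y * d) * y := by simp only [mul_assoc]
      _ = d * (d * y) * y := by rw [hcom.eq]
      _ = (d * d) * (y * y) := by simp only [mul_assoc]
      _ = 1 := by rw [hdd, hyy, one_mul]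
  have hdy1 : d * y ≠ 1 := by
    intro h1
    apply hyd
    have := eq_inv_of_mul_eq_one_right h1
    rw [tt_inv hT hd] at this
    exact this
  have hdyQ : d * y ∉ pCore 3 G := fun hmem => hdy1 (eq_one_of_sq_of_mem_pCore3 hdy2 hmem)
  refine ⟨hy, ?_, ?_⟩
  · intro hyw
    apply hdyQ
    rw [hyw, ← tt_inv hT hd]
    exact h
  · rcases hT.2 w hw y hy with h2 | h3
    · -- `(w * y)^2 = 1` gives commuting
      show w * y = y * w
      rw [pow_two] at h2
      have : w * y = (w * y)⁻¹ := eq_inv_of_mul_eq_one_left h2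
      rw [this, mul_inv_rev, tt_inv hT hy, tt_inv hT hw]
    · exfalso
      apply hdyQ
      -- modulo `O₃(G)`: `w * y ≡ d * y`
      have hq : ((d * y : G) : G ⧸ pCore 3 G) = ((w * y : G) : G ⧸ pCore 3 G) := by
        rw [QuotientGroup.eq]
        have e1 : (d * y)⁻¹ * (w * y) = y⁻¹ * (d⁻¹ * w) * y⁻¹⁻¹ := by group
        rw [e1]
        exact hn.conj_mem _ h _
      have h3' : ((d * y : G) : G ⧸ pCore 3 G) ^ 3 = 1 := by
        rw [hq, ← QuotientGroup.mk_pow, h3, QuotientGroup.mk_one]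
      have h2' : ((d * y : G) : G ⧸ pCore 3 G) ^ 2 = 1 := by
        rw [← QuotientGroup.mk_pow, hdy2, QuotientGroup.mk_one]
      have h1' : ((d * y : G) : G ⧸ pCore 3 G) = 1 := by
        have : ((d * y : G) : G ⧸ pCore 3 G) ^ 3 = ((d * y : G) : G ⧸ pCore 3 G) ^ 2 * ((d * y : G) : G ⧸ pCore 3 G) :=
          pow_succ _ 2
        rw [h3', h2', one_mul] at this
        exact this.symm
      exact (QuotientGroup.eq_one_iff _).mp h1'

/-- **S5350 shape**: the members of `D` with the same commuting partners as `d` are the members of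
`D` in the coset `d O₃(G)`, and also the conjugates of `d` under `O₃(G)`. -/
theorem wclass_eq
    (hZ : ∀ H : Subgroup G, Cfsg.Agent.Lib.Helper58.ZStarProd.ZStarHyp ↥H)
    (hD : IsThreeTranspositionGroup D) {d : G} (hd : d ∈ D) :
    {w : G | w ∈ D ∧ {y : G | y ∈ D ∧ y ≠ d ∧ Commute d y} = {y : G | y ∈ D ∧ y ≠ w ∧ Commute w y}}
        = {w : G | w ∈ D ∧ d⁻¹ * w ∈ Cfsg.pCore 3 G} ∧
    {w : G | w ∈ D ∧ {y : G | y ∈ D ∧ y ≠ d ∧ Commute d y} = {y : G | y ∈ D ∧ y ≠ w ∧ Commute w y}}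
        = {w : G | ∃ g ∈ Cfsg.pCore 3 G, w = g * d * g⁻¹} := by
  obtain ⟨hT, hc, -⟩ := hD
  have hn := pCore_normal 3 G
  -- Set1 ⊆ Set3
  have h13 : ∀ w, (w ∈ D ∧ Sim D d w) → ∃ g ∈ Cfsg.pCore 3 G, w = g * d * g⁻¹ := by
    rintro w ⟨hw, hs⟩
    by_cases hdw : d = w
    · exact ⟨1, one_mem _, by rw [← hdw]; group⟩
    · have nc := hs.not_commute hw hdw
      exact ⟨d * w, sim_mul_mem_pCore hZ hT hc hd hw hs, (conj_mul_eq hT hd hw nc).symm⟩
  -- Set3 ⊆ Set2
  have h32 : ∀ w, (∃ g ∈ Cfsg.pCore 3 G, w = g * d * g⁻¹) → w ∈ D ∧ d⁻¹ * w ∈ Cfsg.pCore 3 G := by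
    rintro w ⟨g, hg, rfl⟩
    refine ⟨hc g d hd, ?_⟩
    have e1 : d⁻¹ * (g * d * g⁻¹) = (d⁻¹ * g * d⁻¹⁻¹) * g⁻¹ := by group
    rw [e1]
    exact mul_mem (hn.conj_mem g hg d⁻¹) (inv_mem hg)
  -- Set2 ⊆ Set1
  have h21 : ∀ w, (w ∈ D ∧ d⁻¹ * w ∈ Cfsg.pCore 3 G) → w ∈ D ∧ Sim D d w := by
    rintro w ⟨hw, hmem⟩
    refine ⟨hw, ?_⟩
    apply Set.Subset.antisymm
    · exact cpart_subset_of_mem_pCore hT hd hw hmem
    · apply cpart_subset_of_mem_pCore hT hw hd
      have e1 : w⁻¹ * d = (d⁻¹ * w)⁻¹ := by group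
      rw [e1]; exact inv_mem hmem
  constructor
  · ext w
    exact ⟨fun h => h32 w (h13 w h), fun h => h21 w h⟩
  · ext w
    exact ⟨fun h => h13 w h, fun h => h21 w (h32 w h)⟩

end Finite

/-- a class of 3-transpositions is in particular a conjugation-invariant generating set -/
theorem class_to_group (hD : IsThreeTranspositionClass D) : IsThreeTranspositionGroup D := by
  obtain ⟨hT, ⟨d, hd, hDd⟩, hgen⟩ := hD
  refine ⟨hT, ?_, hgen⟩
  intro g e he
  rw [hDd] at he ⊢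
  rw [Cfsg.Agent.Lib.Helper58.ZStarProd.mem_conjOf] at he ⊢
  exact he.trans (isConj_iff.mpr ⟨g, rfl⟩)

end Cfsg.Agent.Lib.Helper90
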