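import Mathlib
import Cfsg.Prelude.Def_FischerSpaces
import Cfsg.Agent.Lib.Helper90.Basic
import Cfsg.Agent.Lib.Helper90.FischerTri
import Cfsg.Agent.Lib.Helper58.ZStarProd
set_option autoImplicit false

/-!
3-transposition groups of width one: `G = ⟨d⟩ O₃(G)` (from the Z*-theorem, via helper58's `ZStarProd`).
-/

namespace Cfsg.Agent.Lib.Helper90

open Cfsg

variable {G : Type*} [Group G] [Finite G] {D : Set G}

/-- the defining set of `commutingWidth` -/
def widthSet (D : Set G) : Set ℕ :=
  {n : ℕ | ∃ E : Set G, E ⊆ D ∧ E.Finite ∧ (∀ a ∈ E, ∀ b ∈ E, Commute a b) ∧ E.ncard = n}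

omit [Finite G] in
theorem commutingWidth_eq (D : Set G) : commutingWidth D = sSup (widthSet D) := rfl

theorem widthSet_bddAbove (D : Set G) : BddAbove (widthSet D) := by
  refine ⟨Nat.card G, ?_⟩
  rintro n ⟨E, -, -, -, rfl⟩
  calc E.ncard ≤ (Set.univ : Set G).ncard := Set.ncard_le_ncard (Set.subset_univ E) (Set.toFinite _)
    _ = Nat.card G := Set.ncard_univ G

theorem one_mem_widthSet {d : G} (hd : d ∈ D) : 1 ∈ widthSet D :=
  ⟨{d}, by simpa using hd, Set.finite_singleton d, by
    intro a ha b hb
    rw [Set.mem_singleton_iff] at ha hb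
    rw [ha, hb], Set.ncard_singleton d⟩

/-- width one means that different members of `D` never commute -/
theorem not_commute_of_width_one (hw : commutingWidth D = 1) {a b : G} (ha : a ∈ D) (hb : b ∈ D)
    (hab : a ≠ b) : ¬ Commute a b := by
  intro hcom
  have h2 : 2 ∈ widthSet D := by
    refine ⟨{a, b}, ?_, Set.toFinite _, ?_, Set.ncard_pair hab⟩
    · intro x hx
      rcases hx with rfl | rfl
      · exact ha
      · exact hb
    · intro x hx y hy
      rcases hx with rfl | rfl <;> rcases hy with rfl | rfl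
      · exact Commute.refl _
      · exact hcom
      · exact hcom.symm
      · exact Commute.refl _
  have := le_csSup (widthSet_bddAbove D) h2
  rw [← commutingWidth_eq, hw] at this
  omega

theorem width_one_of_not_commute {d : G} (hd : d ∈ D)
    (h : ∀ a ∈ D, ∀ b ∈ D, a ≠ b → ¬ Commute a b) : commutingWidth D = 1 := by
  rw [commutingWidth_eq]
  apply le_antisymm
  · apply csSup_le ⟨1, one_mem_widthSet hd⟩
    rintro n ⟨E, hED, -, hcom, rfl⟩
    rw [Set.ncard_le_one_iff]
    intro a b ha hb
    by_contra hab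
    exact h a (hED ha) b (hED hb) hab (hcom a ha b hb)
  · exact le_csSup (widthSet_bddAbove D) (one_mem_widthSet hd)

theorem width_one_iff (hZ : Cfsg.Agent.Lib.Helper58.ZStarProd.ZStarHyp G)
    (hD : IsThreeTranspositionGroup D) {d : G} (hd : d ∈ D) :
    commutingWidth D = 1 ↔ Subgroup.zpowers d ⊔ pCore 3 G = ⊤ := by
  obtain ⟨hT, hc, hgen⟩ := hD
  have hd2 : orderOf d = 2 := hT.1 d hd
  constructor
  · intro hw
    have hnc := fun a ha b hb hab => not_commute_of_width_one hw (a := a) (b := b) ha hb hab
    -- `D` is the conjugacy class of `d`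
    have hDconj : ∀ e, e ∈ D ↔ e ∈ conjugatesOf d := by
      intro e
      constructor
      · intro he
        by_cases hde : d = e
        · rw [← hde]; exact IsConj.refl d
        · have nc := hnc d hd e he hde
          have hb := tt_braid hT hd he nc
          -- e * d * e = d * e * d
          have hdd := tt_sq hT hd
          have hee := tt_sq hT he
          rw [Cfsg.Agent.Lib.Helper58.ZStarProd.mem_conjOf, isConj_iff]
          refine ⟨d * e, ?_⟩
          rw [mul_inv_rev, tt_inv hT hd, tt_inv hT he]
          calc d * e * d * (e * d) = d * (e * d * e) * d := by simp only [mul_assoc]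
            _ = d * (d * e * d) * d := by rw [hb]
            _ = (d * d) * e * (d * d) := by simp only [mul_assoc]
            _ = e := by rw [hdd, one_mul, mul_one]
      · intro he
        rw [Cfsg.Agent.Lib.Helper58.ZStarProd.mem_conjOf, isConj_iff] at he
        obtain ⟨c, rfl⟩ := he
        exact hc c d hd
    have hprod : ∀ a ∈ conjugatesOf d, ∀ b ∈ conjugatesOf d, ∃ k : ℕ, orderOf (a * b) = 3 ^ k := by
      intro a ha b hb
      have haD := (hDconj a).mpr ha
      have hbD := (hDconj b).mpr hb
      by_cases hab : a = b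
      · refine ⟨0, ?_⟩
        rw [hab, tt_sq hT hbD, orderOf_one, pow_zero]
      · refine ⟨1, ?_⟩
        have nc := hnc a haD b hbD hab
        have h3 := tt_cube hT haD hbD nc
        have hne : a * b ≠ 1 := by
          intro h1
          apply hab
          have := eq_inv_of_mul_eq_one_left h1
          rw [tt_inv hT hbD] at this
          exact this
        rw [pow_one]
        exact orderOf_eq_prime h3 hne
    have key := Cfsg.Agent.Lib.Helper58.ZStarProd.prod_mem_pCore hZ Nat.prime_three (by norm_num) d hd2 hprod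
    rw [eq_top_iff, ← hgen, Subgroup.closure_le]
    intro e he
    have h1 : e * d ∈ pCore 3 G := key e ((hDconj e).mp he) d ((hDconj d).mp hd)
    have h2 : e = d⁻¹ * (d * (e * d) * d⁻¹) := by group
    rw [SetLike.mem_coe, h2]
    exact Subgroup.mul_mem_sup (Subgroup.inv_mem _ (Subgroup.mem_zpowers d))
      ((pCore_normal 3 G).conj_mem _ h1 _)
  · intro htop
    apply width_one_of_not_commute hd
    intro a ha b hb hab hcom
    have hn := pCore_normal 3 G
    have h3 : IsPGroup 3 (pCore 3 G) := pCore_isPGroup 3 G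
    -- elements of order two are not in `O₃(G)`
    have hnot : ∀ x ∈ D, x ∉ pCore 3 G := by
      intro x hx hmem
      obtain ⟨k, hk⟩ := h3 ⟨x, hmem⟩
      have hk' : x ^ 3 ^ k = 1 := by
        have := congrArg Subtype.val hk
        simpa using this
      have hdvd : orderOf x ∣ 3 ^ k := orderOf_dvd_of_pow_eq_one hk'
      rw [hT.1 x hx] at hdvd
      have : (2 : ℕ) ∣ 3 := Nat.Prime.dvd_of_dvd_pow Nat.prime_two hdvd
      omega
    -- every member of `D` is congruent to `d` modulo `O₃(G)`
    have hcoset : ∀ x ∈ D, d⁻¹ * x ∈ pCore 3 G := by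
      intro x hx
      have hxtop : x ∈ Subgroup.zpowers d ⊔ pCore 3 G := by rw [htop]; exact Subgroup.mem_top x
      rw [Subgroup.mem_sup_of_normal_right] at hxtop
      obtain ⟨y, hy, n, hn', rfl⟩ := hxtop
      obtain ⟨i, rfl⟩ := Subgroup.mem_zpowers_iff.mp hy
      rcases Int.even_or_odd i with ⟨j, rfl⟩ | ⟨j, rfl⟩
      · exfalso
        have hdd : d ^ (j + j) = 1 := by
          rw [zpow_add, ← (Commute.refl d).mul_zpow, tt_sq hT hd, one_zpow]
        rw [hdd, one_mul] at hx
        exact hnot n hx hn'
      · have hdd : d ^ (2 * j + 1) = d := by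
          rw [zpow_add, zpow_one, two_mul, zpow_add, ← (Commute.refl d).mul_zpow, tt_sq hT hd, one_zpow,
            one_mul]
        rw [hdd, inv_mul_cancel_left]
        exact hn'
    have hab3 : a * b ∈ pCore 3 G := by
      have h1 := hcoset a ha
      have h2 := hcoset b hb
      have e1 : (d * (d⁻¹ * a) * d⁻¹) * (d⁻¹ * b) = a * (d⁻¹ * d⁻¹) * b := by group
      have e2 : d⁻¹ * d⁻¹ = 1 := by rw [tt_inv hT hd, tt_sq hT hd]
      have : a * b = (d * (d⁻¹ * a) * d⁻¹) * (d⁻¹ * b) := by rw [e1, e2, mul_one]
      rw [this]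
      exact Subgroup.mul_mem _ (hn.conj_mem _ h1 d) h2
    obtain ⟨k, hk⟩ := h3 ⟨a * b, hab3⟩
    have hk' : (a * b) ^ 3 ^ k = 1 := by
      have := congrArg Subtype.val hk
      simpa using this
    have h2 : (a * b) ^ 2 = 1 := by
      rw [pow_two]
      calc a * b * (a * b) = a * (b * a) * b := by simp only [mul_assoc]
        _ = a * (a * b) * b := by rw [hcom.eq]
        _ = (a * a) * (b * b) := by simp only [mul_assoc]
        _ = 1 := by rw [tt_sq hT ha, tt_sq hT hb, one_mul]
    have hord : orderOf (a * b) ∣ Nat.gcd (3 ^ k) 2 :=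
      Nat.dvd_gcd (orderOf_dvd_of_pow_eq_one hk') (orderOf_dvd_of_pow_eq_one h2)
    have hg : Nat.gcd (3 ^ k) 2 = 1 := by
      apply Nat.Coprime.pow_left; norm_num
    rw [hg, Nat.dvd_one, orderOf_eq_one_iff] at hord
    apply hab
    have := eq_inv_of_mul_eq_one_left hord
    rw [tt_inv hT hb] at this
    exact this

end Cfsg.Agent.Lib.Helper90
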