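import Mathlib
import Cfsg.Prelude.Def_FischerSpaces
import Cfsg.Prelude.Def_Local
import Cfsg.Agent.Lib.Helper90.Basic
import Cfsg.Agent.Lib.Helper90.FischerTri
import Cfsg.Agent.Lib.Helper90.WidthOne
import Cfsg.Agent.Lib.Helper90.WClass
import Cfsg.Agent.Lib.Helper21.Components
import Cfsg.Agent.S0144
set_option autoImplicit false

/-!
3-transposition groups and components: every member of `D` normalizes every component, and does not
centralize it; consequences on the `L`-conjugates of `d`.
-/

namespace Cfsg.Agent.Lib.Helper90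

open Cfsg

universe u

section Orders

/-- a finite group in which every element satisfies `x^2 = 1` or `x^3 = 1` is solvable (Burnside) -/
theorem solvable_of_sq_or_cube {X : Type*} [Group X] [Finite X]
    (h : ∀ x : X, x ^ 2 = 1 ∨ x ^ 3 = 1) : Group.IsSolvable X := by
  have hn : Nat.card X ≠ 0 := Nat.card_pos.ne'
  -- every prime divisor of the order is 2 or 3
  have hq23 : ∀ q : ℕ, q.Prime → q ∣ Nat.card X → q = 2 ∨ q = 3 := by
    intro q hq hdvd
    have hfact : Fact q.Prime := ⟨hq⟩
    obtain ⟨x, hx⟩ := exists_prime_orderOf_dvd_card' q hdvd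
    rcases h x with h2 | h3
    · left
      have := orderOf_dvd_of_pow_eq_one h2
      rw [hx] at this
      exact (Nat.prime_dvd_prime_iff_eq hq Nat.prime_two).mp this
    · right
      have := orderOf_dvd_of_pow_eq_one h3
      rw [hx] at this
      exact (Nat.prime_dvd_prime_iff_eq hq Nat.prime_three).mp this
  obtain ⟨a, m, hm, hnm⟩ := Nat.exists_eq_two_pow_mul_odd hn
  have hm0 : m ≠ 0 := by
    rintro rfl
    simp at hm
  have hm3 : m = 3 ^ m.primeFactorsList.length := by
    apply Nat.eq_prime_pow_of_unique_prime_dvd hm0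
    intro q hq hdvd
    have hdvd' : q ∣ Nat.card X := by rw [hnm]; exact Dvd.dvd.mul_left hdvd _
    rcases hq23 q hq hdvd' with h2 | h3
    · exfalso
      rw [h2] at hdvd
      have := hm.not_two_dvd_nat
      exact this hdvd
    · exact h3
  exact Cfsg.Agent.S0144.result 2 3 a _ Nat.prime_two Nat.prime_three (by rw [hnm, ← hm3])

end Orders

variable {G : Type u} [Group G] {D : Set G}

theorem map_conj_eq_iff_mem_normalizer {L : Subgroup G} {d : G}
    (h : L.map (MulAut.conj d).toMonoidHom = L) : d ∈ Subgroup.normalizer (L : Set G) := by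
  rw [Subgroup.mem_normalizer_iff]
  intro x
  constructor
  · intro hx
    rw [← h]
    exact ⟨x, hx, by simp [MulAut.conj_apply]⟩
  · intro hx
    rw [← h] at hx
    obtain ⟨y, hy, hyx⟩ := hx
    have : d * y * d⁻¹ = d * x * d⁻¹ := by simpa [MulAut.conj_apply] using hyx
    have hxy : y = x := by
      have := congrArg (fun t => d⁻¹ * t * d) this
      simpa [mul_assoc] using this
    rw [← hxy]; exact hy

/-- a quasisimple subgroup is not solvable modulo its centre -/
theorem qs_not_solvable_mod_center {L : Subgroup G} (hL : IsQuasisimple L) :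
    ¬ Group.IsSolvable (↥L ⧸ Subgroup.center ↥L) := by
  intro hs
  apply Cfsg.Agent.Lib.Helper21.qs_not_isSolvable hL
  have hcs : Group.IsSolvable ↥(Subgroup.center ↥L) := by
    apply Group.isSolvable_of_comm
    intro a b
    apply Subtype.ext
    have := Subgroup.mem_center_iff.mp b.2 a.1
    simpa using this
  refine Group.isSolvable_of_ker_le_range (Subgroup.center ↥L).subtype
    (QuotientGroup.mk' (Subgroup.center ↥L)) ?_
  rw [QuotientGroup.ker_mk', Subgroup.range_subtype]

section Finite

variable [Finite G]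

/-- every member of `D` normalizes every component -/
theorem tt_mem_normalizer_component (hT : IsThreeTranspositionSet D)
    (hc : ∀ g : G, ∀ d ∈ D, g * d * g⁻¹ ∈ D) {d : G} (hd : d ∈ D) {L : Subgroup G}
    (hL : IsComponent L) : d ∈ Subgroup.normalizer (L : Set G) := by
  by_contra hnorm
  set L' := L.map (MulAut.conj d).toMonoidHom with hL'
  have hne : L ≠ L' := fun h => hnorm (map_conj_eq_iff_mem_normalizer h.symm)
  have hL'c : IsComponent L' := Cfsg.Agent.Lib.Helper21.isComponent_map_conj hL d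
  have hcomm := Cfsg.Agent.Lib.Helper21.component_commutator_eq_bot_of_ne hL hL'c hne
  rw [Cfsg.Agent.Lib.Helper21.commutator_eq_bot_iff_commute] at hcomm
  have hdd := tt_sq hT hd
  have hdinv := tt_inv hT hd
  -- every `l ∈ L` has `l^2` or `l^3` central in `L`
  have key : ∀ l ∈ L, (∀ m ∈ L, m * l ^ 2 = l ^ 2 * m) ∨ (∀ m ∈ L, m * l ^ 3 = l ^ 3 * m) := by
    intro l hl
    have he : l * d * l⁻¹ ∈ D := hc l d hd
    have hx : d * l * d⁻¹ ∈ L' := ⟨l, hl, by simp [MulAut.conj_apply]⟩
    have hlinv : l⁻¹ ∈ L := inv_mem hl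
    have hcx : Commute (d * l * d⁻¹) l⁻¹ := (hcomm l⁻¹ hlinv _ hx).symm
    have hprod : d * (l * d * l⁻¹) = (d * l * d⁻¹) * l⁻¹ := by
      rw [hdinv]; simp only [mul_assoc]
    have hpow : ∀ k : ℕ, (d * (l * d * l⁻¹)) ^ k = 1 → ∀ m ∈ L, m * l ^ k = l ^ k * m := by
      intro k hk m hm
      rw [hprod, hcx.mul_pow] at hk
      -- (d l d⁻¹)^k = l^k
      have h1 : (d * l * d⁻¹) ^ k = l ^ k := by
        have := mul_eq_one_iff_eq_inv.mp hk
        rw [this, ← inv_pow, inv_inv]
      have h2 : l ^ k ∈ L' := by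
        rw [← h1]; exact pow_mem hx k
      exact hcomm m hm _ h2
    rcases hT.2 d hd _ he with h2 | h3
    · left; exact hpow 2 h2
    · right; exact hpow 3 h3
  apply qs_not_solvable_mod_center hL.2
  apply solvable_of_sq_or_cube
  intro x
  induction x using QuotientGroup.induction_on with
  | H l =>
    rcases key l.1 l.2 with h2 | h3
    · left
      rw [← QuotientGroup.mk_pow, QuotientGroup.eq_one_iff, Subgroup.mem_center_iff]
      intro m
      apply Subtype.ext
      simpa using h2 m.1 m.2
    · right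
      rw [← QuotientGroup.mk_pow, QuotientGroup.eq_one_iff, Subgroup.mem_center_iff]
      intro m
      apply Subtype.ext
      simpa using h3 m.1 m.2

/-- a component is normal in a group generated by 3-transpositions -/
theorem tt_component_normal (hD : IsThreeTranspositionGroup D) {L : Subgroup G}
    (hL : IsComponent L) : L.Normal := by
  obtain ⟨hT, hc, hgen⟩ := hD
  rw [← Subgroup.normalizer_eq_top_iff, eq_top_iff, ← hgen, Subgroup.closure_le]
  intro d hd
  exact tt_mem_normalizer_component hT hc hd hL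

/-- in a class of 3-transpositions no member centralizes a component -/
theorem tt_not_centralizes_component (hD : IsThreeTranspositionClass D) {d : G} (hd : d ∈ D)
    {L : Subgroup G} (hL : IsComponent L) : ¬ ∀ l ∈ L, Commute d l := by
  intro hcen
  have hG := class_to_group hD
  have hLn : L.Normal := tt_component_normal hG hL
  obtain ⟨hT, ⟨d₀, hd₀, hDd⟩, hgen⟩ := hD
  -- every member of `D` centralizes `L`
  have hall : ∀ e ∈ D, ∀ l ∈ L, Commute e l := by
    intro e he l hl
    have h1 : IsConj d₀ d := by rw [hDd] at hd; exact hd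
    have h2 : IsConj d₀ e := by rw [hDd] at he; exact he
    obtain ⟨g, hg⟩ := isConj_iff.mp (h1.symm.trans h2)
    have hl' : g⁻¹ * l * g ∈ L := by
      have := hLn.conj_mem l hl g⁻¹
      rwa [inv_inv] at this
    have h3 := hcen _ hl'
    show e * l = l * e
    rw [← hg]
    have h3' : d * (g⁻¹ * l * g) = (g⁻¹ * l * g) * d := h3
    calc g * d * g⁻¹ * l = g * (d * (g⁻¹ * l * g)) * g⁻¹ := by group
      _ = g * ((g⁻¹ * l * g) * d) * g⁻¹ := by rw [h3']
      _ = l * (g * d * g⁻¹) := by group
  have hle : L ≤ Subgroup.center G := by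
    intro l hl
    rw [Subgroup.mem_center_iff]
    have : (⊤ : Subgroup G) ≤ Subgroup.centralizer {l} := by
      rw [← hgen, Subgroup.closure_le]
      intro e he
      rw [SetLike.mem_coe, Subgroup.mem_centralizer_iff]
      intro y hy
      rw [Set.mem_singleton_iff] at hy
      rw [hy]; exact ((hall e he l hl).eq).symm
    intro g
    have hg := this (Subgroup.mem_top g)
    rw [Subgroup.mem_centralizer_iff] at hg
    exact (hg l rfl).symm
  apply Cfsg.Agent.Lib.Helper21.qs_not_isMulCommutative hL.2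
  refine ⟨⟨fun a b => ?_⟩⟩
  apply Subtype.ext
  have := Subgroup.mem_center_iff.mp (hle a.2) b.1
  simpa using this.symm

/-- the `L`-conjugates of `d` -/
def lconj (L : Subgroup G) (d : G) : Set G := {x : G | ∃ l ∈ L, x = l * d * l⁻¹}

omit [Finite G] in
theorem lconj_conj {L : Subgroup G} {d : G} {m : G} (hm : m ∈ L) {x : G} (hx : x ∈ lconj L d) :
    m * x * m⁻¹ ∈ lconj L d := by
  obtain ⟨l, hl, rfl⟩ := hx
  exact ⟨m * l, mul_mem hm hl, by group⟩

omit [Finite G] in
theorem le_normalizer_closure_lconj (L : Subgroup G) (d : G) :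
    L ≤ Subgroup.normalizer ((Subgroup.closure (lconj L d) : Subgroup G) : Set G) := by
  intro m hm
  have hmap : ∀ n ∈ L, ∀ x ∈ Subgroup.closure (lconj L d),
      n * x * n⁻¹ ∈ Subgroup.closure (lconj L d) := by
    intro n hn x hx
    induction hx using Subgroup.closure_induction with
    | mem x hx => exact Subgroup.subset_closure (lconj_conj hn hx)
    | one => simp
    | mul x y _ _ hx hy =>
      have : n * (x * y) * n⁻¹ = (n * x * n⁻¹) * (n * y * n⁻¹) := by group
      rw [this]; exact mul_mem hx hy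
    | inv x _ hx =>
      have : n * x⁻¹ * n⁻¹ = (n * x * n⁻¹)⁻¹ := by group
      rw [this]; exact inv_mem hx
  rw [Subgroup.mem_normalizer_iff]
  intro x
  constructor
  · exact hmap m hm x
  · intro hx
    have := hmap m⁻¹ (inv_mem hm) _ hx
    have e : m⁻¹ * (m * x * m⁻¹) * m⁻¹⁻¹ = x := by group
    rwa [e] at this

/-- if the subgroup generated by the `L`-conjugates of `d` is solvable then `d` centralizes the
component `L` -/
theorem centralizes_of_solvable_closure_lconj {L : Subgroup G} (hL : IsComponent L) {d : G}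
    (hs : Group.IsSolvable ↥(Subgroup.closure (lconj L d))) : ∀ l ∈ L, Commute d l := by
  have h := Cfsg.Agent.Lib.Helper21.component_commutator_solvable_eq_bot hL hs
    (le_normalizer_closure_lconj L d)
  rw [Cfsg.Agent.Lib.Helper21.commutator_eq_bot_iff_commute] at h
  intro l hl
  have hd : d ∈ Subgroup.closure (lconj L d) :=
    Subgroup.subset_closure ⟨1, one_mem _, by group⟩
  exact (h l hl d hd).symm

/-- some `L`-conjugate of `d` does not commute with `d` -/
theorem exists_lconj_not_commute (hD : IsThreeTranspositionClass D) {d : G} (hd : d ∈ D)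
    {L : Subgroup G} (hL : IsComponent L) : ∃ l ∈ L, ¬ Commute d (l * d * l⁻¹) := by
  by_contra hcon
  push Not at hcon
  apply tt_not_centralizes_component hD hd hL
  apply centralizes_of_solvable_closure_lconj hL
  -- the closure is commutative
  have hcomm : ∀ x ∈ lconj L d, ∀ y ∈ lconj L d, x * y = y * x := by
    rintro x ⟨l, hl, rfl⟩ y ⟨m, hm, rfl⟩
    have h1 : Commute d ((l⁻¹ * m) * d * (l⁻¹ * m)⁻¹) := hcon _ (mul_mem (inv_mem hl) hm)
    have h1' : d * ((l⁻¹ * m) * d * (l⁻¹ * m)⁻¹) = ((l⁻¹ * m) * d * (l⁻¹ * m)⁻¹) * d := h1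
    calc l * d * l⁻¹ * (m * d * m⁻¹) = l * (d * ((l⁻¹ * m) * d * (l⁻¹ * m)⁻¹)) * l⁻¹ := by group
      _ = l * (((l⁻¹ * m) * d * (l⁻¹ * m)⁻¹) * d) * l⁻¹ := by rw [h1']
      _ = m * d * m⁻¹ * (l * d * l⁻¹) := by group
  have h1 : Subgroup.closure (lconj L d) ≤ Subgroup.centralizer (lconj L d) := by
    rw [Subgroup.closure_le]
    intro x hx
    rw [SetLike.mem_coe, Subgroup.mem_centralizer_iff]
    intro y hy
    exact hcomm y hy x hx
  have h2 : Subgroup.closure (lconj L d) ≤
      Subgroup.centralizer ((Subgroup.closure (lconj L d) : Subgroup G) : Set G) := by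
    rw [Subgroup.closure_le]
    intro x hx
    rw [SetLike.mem_coe, Subgroup.mem_centralizer_iff]
    intro y hy
    have := h1 hy
    rw [Subgroup.mem_centralizer_iff] at this
    exact (this x hx).symm
  apply Group.isSolvable_of_comm
  intro a b
  apply Subtype.ext
  have := h2 b.2
  rw [Subgroup.mem_centralizer_iff] at this
  simpa using this a.1 a.2

/-- some `L`-conjugate of `d` different from `d` commutes with `d` (from the Z*-theorem) -/
theorem exists_lconj_commute
    (hZ : ∀ H : Subgroup G, Cfsg.Agent.Lib.Helper58.ZStarProd.ZStarHyp ↥H)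
    (hD : IsThreeTranspositionClass D) {d : G} (hd : d ∈ D)
    {L : Subgroup G} (hL : IsComponent L) :
    ∃ l ∈ L, l * d * l⁻¹ ≠ d ∧ Commute d (l * d * l⁻¹) := by
  by_contra hcon
  push Not at hcon
  have hG := class_to_group hD
  obtain ⟨hT, hc, -⟩ := hG
  have hdn : d ∈ Subgroup.normalizer (L : Set G) := tt_mem_normalizer_component hT hc hd hL
  have hdd := tt_sq hT hd
  have hdinv := tt_inv hT hd
  apply tt_not_centralizes_component hD hd hL
  apply centralizes_of_solvable_closure_lconj hL
  set S := lconj L d with hS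
  set H := Subgroup.closure S with hH
  have hSD : S ⊆ D := by
    rintro x ⟨l, -, rfl⟩
    exact hc l d hd
  -- distinct members of `S` do not commute
  have hnc : ∀ x ∈ S, ∀ y ∈ S, x ≠ y → ¬ Commute x y := by
    rintro x ⟨l, hl, rfl⟩ y ⟨m, hm, rfl⟩ hxy hcom
    have hne : (l⁻¹ * m) * d * (l⁻¹ * m)⁻¹ ≠ d := by
      intro h
      apply hxy
      have : m * d * m⁻¹ = l * ((l⁻¹ * m) * d * (l⁻¹ * m)⁻¹) * l⁻¹ := by group
      rw [this, h]
    apply hcon _ (mul_mem (inv_mem hl) hm) hne
    have hcom' : l * d * l⁻¹ * (m * d * m⁻¹) = m * d * m⁻¹ * (l * d * l⁻¹) := hcom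
    show d * ((l⁻¹ * m) * d * (l⁻¹ * m)⁻¹) = ((l⁻¹ * m) * d * (l⁻¹ * m)⁻¹) * d
    calc d * ((l⁻¹ * m) * d * (l⁻¹ * m)⁻¹) = l⁻¹ * (l * d * l⁻¹ * (m * d * m⁻¹)) * l := by group
      _ = l⁻¹ * (m * d * m⁻¹ * (l * d * l⁻¹)) * l := by rw [hcom']
      _ = ((l⁻¹ * m) * d * (l⁻¹ * m)⁻¹) * d := by group
  -- `S` is closed under conjugation by its members
  have hSS : ∀ x ∈ S, ∀ y ∈ S, x * y * x⁻¹ ∈ S := by
    rintro x ⟨l, hl, rfl⟩ y ⟨m, hm, rfl⟩
    -- x * y * x⁻¹ = (l * (d * (l⁻¹ * m) * d⁻¹)) * d * (...)⁻¹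
    have hmem : d * (l⁻¹ * m) * d⁻¹ ∈ L :=
      ((Subgroup.mem_normalizer_iff.mp hdn) _).mp (mul_mem (inv_mem hl) hm)
    refine ⟨l * (d * (l⁻¹ * m) * d⁻¹), mul_mem hl hmem, ?_⟩
    group
  have hSH : ∀ h ∈ H, ∀ y ∈ S, h * y * h⁻¹ ∈ S := by
    intro h hh
    induction hh using Subgroup.closure_induction with
    | mem x hx => exact fun y hy => hSS x hx y hy
    | one => intro y hy; simpa using hy
    | mul a b _ _ ha hb =>
      intro y hy
      have : a * b * y * (a * b)⁻¹ = a * (b * y * b⁻¹) * a⁻¹ := by group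
      rw [this]; exact ha _ (hb y hy)
    | inv a _ ha =>
      intro y hy
      -- `S` finite and conjugation by `a` injective on `S`, so also surjective
      have hfin : S.Finite := Set.toFinite S
      have hinj : Set.InjOn (fun y => a * y * a⁻¹) S := by
        intro u _ v _ huv
        have := congrArg (fun t => a⁻¹ * t * a) huv
        simpa [mul_assoc] using this
      have hmaps : Set.MapsTo (fun y => a * y * a⁻¹) S S := fun u hu => ha u hu
      have hsurj : Set.SurjOn (fun y => a * y * a⁻¹) S S :=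
        ((hfin.injOn_iff_bijOn_of_mapsTo hmaps).mp hinj).surjOn
      obtain ⟨u, hu, huy⟩ := hsurj hy
      have : a⁻¹ * y * a⁻¹⁻¹ = u := by
        rw [← huy]; group
      rw [this]; exact hu
  -- the 3-transposition group `(H, S)`
  let D' : Set ↥H := {x : ↥H | (x : G) ∈ S}
  have hdS : d ∈ S := ⟨1, one_mem _, by group⟩
  have hdH : d ∈ H := Subgroup.subset_closure hdS
  have hD' : IsThreeTranspositionGroup D' := by
    refine ⟨⟨?_, ?_⟩, ?_, ?_⟩
    · intro x hx
      rw [← Subgroup.orderOf_coe]
      exact hT.1 _ (hSD hx)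
    · intro x hx y hy
      rcases hT.2 _ (hSD hx) _ (hSD hy) with h | h
      · left
        apply Subtype.ext
        simpa using h
      · right
        apply Subtype.ext
        simpa using h
    · intro g x hx
      show ((g * x * g⁻¹ : ↥H) : G) ∈ S
      have := hSH g.1 g.2 _ hx
      simpa using this
    · have : D' = ((↑) : ↥H → G) ⁻¹' S := rfl
      rw [this]
      exact Subgroup.closure_closure_coe_preimage
  have hw : commutingWidth D' = 1 := by
    apply width_one_of_not_commute (d := (⟨d, hdH⟩ : ↥H)) hdS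
    intro a ha b hb hab hcom
    apply hnc _ ha _ hb (fun h => hab (Subtype.ext h))
    have h1 : (a * b : ↥H) = b * a := hcom
    have h2 := congrArg Subtype.val h1
    show (a : G) * (b : G) = (b : G) * (a : G)
    simpa using h2
  have htop := (width_one_iff (hZ H) hD' (d := (⟨d, hdH⟩ : ↥H)) hdS).mp hw
  -- hence `H` is solvable
  set P := pCore 3 ↥H with hP
  have hPn : P.Normal := pCore_normal 3 ↥H
  have hf3 : Fact (Nat.Prime 3) := ⟨Nat.prime_three⟩
  have hPs : Group.IsSolvable ↥P := by
    have : Group.IsNilpotent ↥P := (pCore_isPGroup 3 ↥H).isNilpotent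
    exact IsNilpotent.to_isSolvable
  have hQs : Group.IsSolvable (↥H ⧸ P) := by
    apply Group.isSolvable_of_comm
    have hrep : ∀ x : ↥H ⧸ P, ∃ i : ℤ, x = ((⟨d, hdH⟩ : ↥H) ^ i : ↥H) := by
      intro x
      induction x using QuotientGroup.induction_on with
      | H g =>
        have hg : g ∈ Subgroup.zpowers (⟨d, hdH⟩ : ↥H) ⊔ P := by rw [htop]; exact Subgroup.mem_top g
        rw [Subgroup.mem_sup_of_normal_right] at hg
        obtain ⟨y, hy, n, hn, rfl⟩ := hg
        obtain ⟨i, rfl⟩ := Subgroup.mem_zpowers_iff.mp hy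
        refine ⟨i, ?_⟩
        rw [QuotientGroup.eq]
        have : ((⟨d, hdH⟩ : ↥H) ^ i * n)⁻¹ * (⟨d, hdH⟩ : ↥H) ^ i = n⁻¹ := by group
        rw [this]; exact inv_mem hn
    intro a b
    obtain ⟨i, rfl⟩ := hrep a
    obtain ⟨j, rfl⟩ := hrep b
    rw [← QuotientGroup.mk_mul, ← QuotientGroup.mk_mul, ← zpow_add, ← zpow_add, add_comm]
  refine Group.isSolvable_of_ker_le_range P.subtype (QuotientGroup.mk' P) ?_
  rw [QuotientGroup.ker_mk', Subgroup.range_subtype]

end Finite

end Cfsg.Agent.Lib.Helper90
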