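import Mathlib
import Cfsg.Prelude.Def_FischerSpaces
import Cfsg.Prelude.Def_Local
import Cfsg.Agent.Lib.Helper90.TTComp
import Cfsg.Agent.Lib.Helper21.GenFitting
import Cfsg.Agent.Lib.Helper1.Fitting
import Cfsg.Agent.S5347
import Cfsg.Agent.S5348
import Cfsg.Agent.S5349
set_option autoImplicit false

/-!
The Fitting trichotomy for groups generated by a class of 3-transpositions (S5351).
-/

namespace Cfsg.Agent.Lib.Helper90

open Cfsg

universe u

variable {G : Type u} [Group G] [Finite G] {D : Set G}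

omit [Finite G] in
/-- a subgroup all of whose elements commute with all members of a generating set is central -/
theorem le_center_of_commute_gens (hgen : Subgroup.closure D = ⊤) {N : Subgroup G}
    (h : ∀ x ∈ N, ∀ d ∈ D, Commute d x) : N ≤ Subgroup.center G := by
  intro x hx
  rw [Subgroup.mem_center_iff]
  have : (⊤ : Subgroup G) ≤ Subgroup.centralizer {x} := by
    rw [← hgen, Subgroup.closure_le]
    intro e he
    rw [SetLike.mem_coe, Subgroup.mem_centralizer_iff]
    intro y hy
    rw [Set.mem_singleton_iff] at hy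
    rw [hy]; exact ((h x hx e he).eq).symm
  intro g
  have hg := this (Subgroup.mem_top g)
  rw [Subgroup.mem_centralizer_iff] at hg
  exact (hg x rfl).symm

omit [Finite G] in
/-- if a normal subgroup is not central, some member of the generating set is moved by it -/
theorem exists_not_fixed_of_not_le_center (hgen : Subgroup.closure D = ⊤) {N : Subgroup G}
    (h : ¬ N ≤ Subgroup.center G) : ∃ d ∈ D, ∃ q ∈ N, q * d * q⁻¹ ≠ d := by
  by_contra hcon
  push Not at hcon
  apply h
  apply le_center_of_commute_gens hgen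
  intro x hx d hd
  have := hcon d hd x hx
  show d * x = x * d
  calc d * x = (x * d * x⁻¹) * x := by rw [this]
    _ = x * d := by group

/-- for `p > 3` the `p`-core is central -/
theorem tt_pCore_le_center (hD : IsThreeTranspositionGroup D) {p : ℕ} (hp : p.Prime) (hp3 : 3 < p) :
    pCore p G ≤ Subgroup.center G := by
  apply le_center_of_commute_gens hD.2.2
  intro x hx d hd
  have hn : (pCore p G).Normal := pCore_normal p G
  have hnorm : d ∈ Subgroup.normalizer ((pCore p G : Subgroup G) : Set G) := by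
    rw [Subgroup.normalizer_eq_top_iff.mpr hn]; exact Subgroup.mem_top d
  have hfact : Fact p.Prime := ⟨hp⟩
  exact Cfsg.Agent.S5347.result hD hp hp3 (pCore p G) (pCore_isPGroup p G) hd hnorm x hx

/-- if `O₂(G)` is not central then `G` has no component -/
theorem layer_eq_bot_of_pCore_two (hD : IsThreeTranspositionClass D)
    (hD2 : ∃ a ∈ D, ∃ b ∈ D, a ≠ b) (h2 : ¬ pCore 2 G ≤ Subgroup.center G) : layer G = ⊥ := by
  have hG := class_to_group hD
  obtain ⟨hT, hc, hgen⟩ := hG
  unfold layer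
  rw [sSup_eq_bot]
  intro L hL
  exfalso
  obtain ⟨d, hd, q, hq, hne⟩ := exists_not_fixed_of_not_le_center hgen h2
  set v := q * d * q⁻¹ with hv
  have hvD : v ∈ D := hc q d hd
  have hn2 : (pCore 2 G).Normal := pCore_normal 2 G
  -- `v` has the same commuting behaviour as `d`
  have hV := (Cfsg.Agent.S5349.result hD hD2 hd).2
  have hvV : v ∈ {v : G | v ∈ D ∧ ∀ e ∈ D, Commute v e ↔ Commute d e} := by
    rw [hV]; exact ⟨q, hq, rfl⟩
  have hvcom : ∀ e ∈ D, Commute v e ↔ Commute d e := hvV.2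
  -- `z = d⁻¹ v` lies in `O₂(G)` and centralizes `L`
  set z := d⁻¹ * v with hz
  have hzQ : z ∈ pCore 2 G := by
    have e1 : z = (d⁻¹ * q * d⁻¹⁻¹) * q⁻¹ := by rw [hz, hv]; group
    rw [e1]; exact mul_mem (hn2.conj_mem q hq d⁻¹) (inv_mem hq)
  have hf2 : Fact (Nat.Prime 2) := ⟨Nat.prime_two⟩
  have hsolv : Group.IsSolvable ↥(pCore 2 G) := by
    have : Group.IsNilpotent ↥(pCore 2 G) := (pCore_isPGroup 2 G).isNilpotent
    exact IsNilpotent.to_isSolvable
  have hLQ := Cfsg.Agent.Lib.Helper21.component_commutator_solvable_eq_bot hL hsolv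
    (by rw [Subgroup.normalizer_eq_top_iff.mpr hn2]; exact le_top)
  rw [Cfsg.Agent.Lib.Helper21.commutator_eq_bot_iff_commute] at hLQ
  obtain ⟨l, hl, hnc⟩ := exists_lconj_not_commute hD hd hL
  set e := l * d * l⁻¹ with he
  have heD : e ∈ D := hc l d hd
  have hdd := tt_sq hT hd
  have hdinv := tt_inv hT hd
  have hvv := tt_sq hT hvD
  -- `d` and `v` commute
  have hdv : Commute v d := (hvcom d hd).mpr (Commute.refl d)
  -- `z` commutes with `d`, `l`, hence `e`
  have hzd : Commute z d := by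
    show (d⁻¹ * v) * d = d * (d⁻¹ * v)
    rw [hdinv, mul_assoc, hdv.eq, ← mul_assoc, hdd, one_mul]
  have hzl : Commute z l := (hLQ l hl z hzQ).symm
  have hze : Commute z e := by
    rw [he]
    exact (hzl.mul_right hzd).mul_right hzl.inv_right
  -- `z` is an involution
  have hzz : z * z = 1 := by
    show (d⁻¹ * v) * (d⁻¹ * v) = 1
    rw [hdinv]
    calc d * v * (d * v) = d * (v * d) * v := by simp only [mul_assoc]
      _ = d * (d * v) * v := by rw [hdv.eq]
      _ = (d * d) * (v * v) := by simp only [mul_assoc]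
      _ = 1 := by rw [hdd, hvv, one_mul]
  have hz1 : z ≠ 1 := by
    intro h1
    apply hne
    have : v = d * z := by rw [hz]; group
    rw [this, h1, mul_one]
  -- orders
  have hncv : ¬ Commute e v := fun h => hnc ((hvcom e heD).mp h.symm)
  have hnce : ¬ Commute e d := fun h => hnc h.symm
  have h3d := tt_cube hT heD hd hnce
  have h3v := tt_cube hT heD hvD hncv
  have hvdz : v = d * z := by rw [hz]; group
  have hcz : Commute (e * d) z := (hze.symm.mul_left hzd.symm)
  have : (e * v) ^ 3 = z ^ 3 := by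
    rw [hvdz, ← mul_assoc, hcz.mul_pow, h3d, one_mul]
  rw [h3v] at this
  apply hz1
  have h3 : z ^ 3 = z := by
    rw [pow_succ, pow_two, hzz, one_mul]
  rw [h3] at this
  exact this.symm

/-- if `O₃(G)` is not central then `G` has no component (uses the Z*-theorem) -/
theorem layer_eq_bot_of_pCore_three
    (hZ : ∀ H : Subgroup G, Cfsg.Agent.Lib.Helper58.ZStarProd.ZStarHyp ↥H)
    (hD : IsThreeTranspositionClass D)
    (h3 : ¬ pCore 3 G ≤ Subgroup.center G) : layer G = ⊥ := by
  have hG := class_to_group hD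
  obtain ⟨hT, hc, hgen⟩ := hG
  unfold layer
  rw [sSup_eq_bot]
  intro L hL
  exfalso
  obtain ⟨d, hd, q, hq, hne⟩ := exists_not_fixed_of_not_le_center hgen h3
  set w := q * d * q⁻¹ with hw
  have hwD : w ∈ D := hc q d hd
  have hn3 : (pCore 3 G).Normal := pCore_normal 3 G
  have hW := (wclass_eq hZ (class_to_group hD) hd).2
  have hwW : w ∈ {w : G | w ∈ D ∧ {y : G | y ∈ D ∧ y ≠ d ∧ Commute d y} =
      {y : G | y ∈ D ∧ y ≠ w ∧ Commute w y}} := by
    rw [hW]; exact ⟨q, hq, rfl⟩
  have hsim : Sim D d w := hwW.2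
  have hncdw : ¬ Commute d w := hsim.not_commute hwD (fun h => hne h.symm)
  set y := d⁻¹ * w with hy
  have hyQ : y ∈ pCore 3 G := by
    have e1 : y = (d⁻¹ * q * d⁻¹⁻¹) * q⁻¹ := by rw [hy, hw]; group
    rw [e1]; exact mul_mem (hn3.conj_mem q hq d⁻¹) (inv_mem hq)
  have hf3 : Fact (Nat.Prime 3) := ⟨Nat.prime_three⟩
  have hsolv : Group.IsSolvable ↥(pCore 3 G) := by
    have : Group.IsNilpotent ↥(pCore 3 G) := (pCore_isPGroup 3 G).isNilpotent
    exact IsNilpotent.to_isSolvable
  have hLQ := Cfsg.Agent.Lib.Helper21.component_commutator_solvable_eq_bot hL hsolv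
    (by rw [Subgroup.normalizer_eq_top_iff.mpr hn3]; exact le_top)
  rw [Cfsg.Agent.Lib.Helper21.commutator_eq_bot_iff_commute] at hLQ
  obtain ⟨l, hl, hed, hcom⟩ := exists_lconj_commute hZ hD hd hL
  set e := l * d * l⁻¹ with he
  have heD : e ∈ D := hc l d hd
  have hdd := tt_sq hT hd
  have hdinv := tt_inv hT hd
  have hww := tt_sq hT hwD
  have hwinv := tt_inv hT hwD
  -- `e` commutes with `w`
  have hecp : e ∈ cpart D d := ⟨heD, hed, hcom⟩
  have hecw : e ∈ cpart D w := by
    have : cpart D d = cpart D w := hsim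
    rw [← this]; exact hecp
  have hwe : Commute w e := hecw.2.2
  -- `e` commutes with `y`
  have hey : Commute e y := by
    rw [hy]
    exact (hcom.symm.inv_right).mul_right hwe.symm
  -- `d` inverts `y`
  have hdy : d * y * d⁻¹ = y⁻¹ := by
    rw [hy, mul_inv_rev, inv_inv, hdinv, hwinv]
    simp only [mul_assoc]
    rw [← mul_assoc d d, hdd, one_mul]
  -- `y` commutes with `l`
  have hyl : Commute y l := (hLQ l hl y hyQ).symm
  -- `e` inverts `y`
  have hey' : e * y * e⁻¹ = y⁻¹ := by
    have h1 : e * y * e⁻¹ = l * (d * (l⁻¹ * y * l) * d⁻¹) * l⁻¹ := by rw [he]; group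
    have h2 : l⁻¹ * y * l = y := by
      rw [mul_assoc, hyl.eq, ← mul_assoc, inv_mul_cancel, one_mul]
    rw [h1, h2, hdy]
    have hyl' : Commute y⁻¹ l := hyl.inv_left
    calc l * y⁻¹ * l⁻¹ = (y⁻¹ * l) * l⁻¹ := by rw [hyl'.eq]
      _ = y⁻¹ := by group
  -- hence `y^2 = 1`
  have hy2 : y * y = 1 := by
    have h1 : e * y * e⁻¹ = y := by
      rw [hey.eq, mul_assoc, mul_inv_cancel, mul_one]
    rw [h1] at hey'
    calc y * y = y * y⁻¹ := by rw [← hey']
      _ = 1 := mul_inv_cancel y
  -- and `y^3 = 1`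
  have hy3 : y ^ 3 = 1 := by
    have := tt_cube hT hd hwD hncdw
    rwa [hy, hdinv]
  have hy1 : y = 1 := by
    have : y ^ 3 = y := by rw [pow_succ, pow_two, hy2, one_mul]
    rw [this] at hy3; exact hy3
  apply hne
  have : w = d * y := by rw [hy]; group
  rw [this, hy1, mul_one]

/-- if all `O_p(G)` are central and `G` has no component then `G` is abelian -/
theorem layer_ne_bot_of_central (hD : IsThreeTranspositionClass D)
    (hD2 : ∃ a ∈ D, ∃ b ∈ D, a ≠ b) (h2 : pCore 2 G ≤ Subgroup.center G)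
    (h3 : pCore 3 G ≤ Subgroup.center G) : layer G ≠ ⊥ := by
  intro hE
  have hG := class_to_group hD
  -- the Fitting subgroup is central
  have hF : fittingSubgroup G ≤ Subgroup.center G := by
    rw [Cfsg.Agent.Lib.Helper1.fittingSubgroup_eq_iSup_pCore]
    apply iSup_le
    intro p
    have hp : (p : ℕ).Prime := p.2
    by_cases hp2 : (p : ℕ) = 2
    · rw [hp2]; exact h2
    by_cases hp3 : (p : ℕ) = 3
    · rw [hp3]; exact h3
    have : 3 < (p : ℕ) := by
      have := hp.two_le
      omega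
    exact tt_pCore_le_center hG hp this
  have hFs : generalizedFittingSubgroup G ≤ Subgroup.center G := by
    unfold generalizedFittingSubgroup
    rw [hE, bot_sup_eq]; exact hF
  have hcen := Cfsg.Agent.Lib.Helper21.centralizer_generalizedFittingSubgroup_le (G := G)
  have htop : (⊤ : Subgroup G) ≤ Subgroup.center G := by
    intro g _
    apply hFs
    apply hcen
    rw [Subgroup.mem_centralizer_iff]
    intro x hx
    exact (Subgroup.mem_center_iff.mp (hFs hx) g).symm
  -- `G` abelian: the class `D` is a singleton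
  obtain ⟨a, ha, b, hb, hab⟩ := hD2
  obtain ⟨hT, ⟨d₀, hd₀, hDd⟩, hgen⟩ := hD
  apply hab
  have h1 : IsConj d₀ a := by rw [hDd] at ha; exact ha
  have h2' : IsConj d₀ b := by rw [hDd] at hb; exact hb
  obtain ⟨g, hg⟩ := isConj_iff.mp (h1.symm.trans h2')
  have hgc := Subgroup.mem_center_iff.mp (htop (Subgroup.mem_top a)) g
  rw [← hg, hgc, mul_assoc, mul_inv_cancel, mul_one]

/-- **S5351 shape** -/
theorem tt_fitting_trichotomy
    (hZ : ∀ H : Subgroup G, Cfsg.Agent.Lib.Helper58.ZStarProd.ZStarHyp ↥H)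
    (hD : IsThreeTranspositionClass D) (hD2 : ∃ a ∈ D, ∃ b ∈ D, a ≠ b) :
    (∀ p : ℕ, p.Prime → 3 < p → pCore p G ≤ Subgroup.center G) ∧
    ((¬ pCore 2 G ≤ Subgroup.center G ∧ pCore 3 G ≤ Subgroup.center G ∧ layer G = ⊥) ∨
     (pCore 2 G ≤ Subgroup.center G ∧ ¬ pCore 3 G ≤ Subgroup.center G ∧ layer G = ⊥) ∨
     (pCore 2 G ≤ Subgroup.center G ∧ pCore 3 G ≤ Subgroup.center G ∧ layer G ≠ ⊥)) := by
  have hG := class_to_group hD
  refine ⟨fun p hp hp3 => tt_pCore_le_center hG hp hp3, ?_⟩
  -- one of `O₂`, `O₃` is central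
  have hAB : pCore 2 G ≤ Subgroup.center G ∨ pCore 3 G ≤ Subgroup.center G := by
    obtain ⟨d, hd⟩ : ∃ d, d ∈ D := by
      obtain ⟨a, ha, -⟩ := hD2; exact ⟨a, ha⟩
    have hn2 : (pCore 2 G).Normal := pCore_normal 2 G
    have hn3 : (pCore 3 G).Normal := pCore_normal 3 G
    -- transport a fixed member to all members
    have hall : ∀ N : Subgroup G, N.Normal → (∀ q ∈ N, q * d * q⁻¹ = d) → N ≤ Subgroup.center G := by
      intro N hN hfix
      apply le_center_of_commute_gens hG.2.2
      intro x hx e he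
      obtain ⟨hT, ⟨d₀, hd₀, hDd⟩, hgen⟩ := hD
      have h1 : IsConj d₀ d := by rw [hDd] at hd; exact hd
      have h2' : IsConj d₀ e := by rw [hDd] at he; exact he
      obtain ⟨g, hg⟩ := isConj_iff.mp (h1.symm.trans h2')
      have hx' : g⁻¹ * x * g ∈ N := by
        have := hN.conj_mem x hx g⁻¹
        rwa [inv_inv] at this
      have h3 := hfix _ hx'
      show e * x = x * e
      rw [← hg]
      have h4 : (g⁻¹ * x * g) * d = d * (g⁻¹ * x * g) := by
        calc (g⁻¹ * x * g) * d = ((g⁻¹ * x * g) * d * (g⁻¹ * x * g)⁻¹) * (g⁻¹ * x * g) := by group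
          _ = d * (g⁻¹ * x * g) := by rw [h3]
      calc g * d * g⁻¹ * x = g * (d * (g⁻¹ * x * g)) * g⁻¹ := by group
        _ = g * ((g⁻¹ * x * g) * d) * g⁻¹ := by rw [h4]
        _ = x * (g * d * g⁻¹) := by group
    rcases Cfsg.Agent.S5348.result hG hd with hV | hW
    · left
      apply hall _ hn2
      intro q hq
      have h1 := (Cfsg.Agent.S5349.result hD hD2 hd).2
      rw [hV] at h1
      have : q * d * q⁻¹ ∈ ({d} : Set G) := by rw [h1]; exact ⟨q, hq, rfl⟩
      exact this
    · right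
      apply hall _ hn3
      intro q hq
      have h1 := (wclass_eq hZ hG hd).2
      rw [hW] at h1
      have : q * d * q⁻¹ ∈ ({d} : Set G) := by rw [h1]; exact ⟨q, hq, rfl⟩
      exact this
  by_cases h2 : pCore 2 G ≤ Subgroup.center G
  · by_cases h3 : pCore 3 G ≤ Subgroup.center G
    · right; right
      exact ⟨h2, h3, layer_ne_bot_of_central hD hD2 h2 h3⟩
    · right; left
      exact ⟨h2, h3, layer_eq_bot_of_pCore_three hZ hD h3⟩
  · left
    have h3 : pCore 3 G ≤ Subgroup.center G := by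
      rcases hAB with h | h
      · exact absurd h h2
      · exact h
    exact ⟨h2, h3, layer_eq_bot_of_pCore_two hD hD2 h2⟩

end Cfsg.Agent.Lib.Helper90
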