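import Mathlib
import Cfsg.Prelude.Def_FischerSpaces
import Cfsg.Prelude.Def_Local
import Cfsg.Agent.Lib.Helper90.TTComp
import Cfsg.Agent.Lib.Helper90.TTFitting
set_option autoImplicit false

/-!
Component structure of a group generated by a class of 3-transpositions with central `O₂` and `O₃`
(S5352): a unique component `L`, `F*(G) = L Z(G)`, and `D` has width one modulo `L`.
-/

namespace Cfsg.Agent.Lib.Helper90

open Cfsg
open scoped commutatorElement

universe u

variable {G : Type u} [Group G] [Finite G] {D : Set G}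

/-- the component `L` is generated by the `L`-conjugates of a member of `D` -/
theorem le_closure_lconj (hD : IsThreeTranspositionClass D) {a : G} (ha : a ∈ D)
    {L : Subgroup G} (hL : IsComponent L) : L ≤ Subgroup.closure (lconj L a) := by
  have hG := class_to_group hD
  have hLn : L.Normal := tt_component_normal hG hL
  set K := Subgroup.closure (lconj L a) with hK
  have hLK : L ≤ Subgroup.normalizer (K : Set G) := le_normalizer_closure_lconj L a
  have hKL : K ≤ Subgroup.normalizer (L : Set G) := by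
    rw [Subgroup.normalizer_eq_top_iff.mpr hLn]; exact le_top
  -- `⁅L, K⁆ ≤ L ⊓ K`
  have h1 : ⁅L, K⁆ ≤ L := by
    rw [Subgroup.commutator_le]
    intro l hl k _
    -- l * k * l⁻¹ * k⁻¹
    have : ⁅l, k⁆ = l * (k * l⁻¹ * k⁻¹) := by rw [commutatorElement_def]; group
    rw [this]
    exact mul_mem hl (hLn.conj_mem _ (inv_mem hl) k)
  have h2 : ⁅L, K⁆ ≤ K := by
    rw [Subgroup.commutator_le]
    intro l hl k hk
    have : ⁅l, k⁆ = (l * k * l⁻¹) * k⁻¹ := by rw [commutatorElement_def]
    rw [this]
    have hlk : l * k * l⁻¹ ∈ K := ((Subgroup.mem_normalizer_iff.mp (hLK hl)) k).mp hk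
    exact mul_mem hlk (inv_mem hk)
  have hnorm : L ≤ Subgroup.normalizer ((⁅L, K⁆ : Subgroup G) : Set G) := by
    intro l hl
    have hLK' : ⁅L, K⁆ = ⁅L, K⁆.map (MulAut.conj l).toMonoidHom := by
      rw [Subgroup.map_commutator]
      congr 1
      · -- L.map conj l = L
        apply le_antisymm
        · intro x hx
          refine ⟨l⁻¹ * x * l, ?_, by simp [MulAut.conj_apply]; group⟩
          have := hLn.conj_mem x hx l⁻¹
          rwa [inv_inv] at this
        · rintro _ ⟨x, hx, rfl⟩
          simpa [MulAut.conj_apply] using hLn.conj_mem x hx l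
      · apply le_antisymm
        · intro x hx
          refine ⟨l⁻¹ * x * l, ?_, by simp [MulAut.conj_apply]; group⟩
          have := ((Subgroup.mem_normalizer_iff.mp (hLK (inv_mem hl))) x).mp hx
          rwa [inv_inv] at this
        · rintro _ ⟨x, hx, rfl⟩
          simpa [MulAut.conj_apply] using ((Subgroup.mem_normalizer_iff.mp (hLK hl)) x).mp hx
    rw [Subgroup.mem_normalizer_iff]
    intro x
    constructor
    · intro hx
      rw [hLK']
      exact ⟨x, hx, by simp [MulAut.conj_apply]⟩
    · intro hx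
      rw [hLK'] at hx
      obtain ⟨y, hy, hyx⟩ := hx
      have : l * y * l⁻¹ = l * x * l⁻¹ := by simpa [MulAut.conj_apply] using hyx
      have hxy : y = x := by
        have := congrArg (fun t => l⁻¹ * t * l) this
        simpa [mul_assoc] using this
      rw [← hxy]; exact hy
  rcases Cfsg.Agent.Lib.Helper21.qs_eq_or_commutator_eq_bot hL.2 h1 hnorm with h | h
  · rw [← h]; exact h2
  · exfalso
    -- then `⁅⁅K, L⁆, L⁆ = ⊥`, so `K` centralizes `L`
    have h3 : ⁅⁅K, L⁆, L⁆ = ⊥ := by
      rw [Subgroup.commutator_comm K L, Subgroup.commutator_comm]; exact h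
    have h4 := Cfsg.Agent.Lib.Helper21.commutator_eq_bot_of_perfect
      (Cfsg.Agent.Lib.Helper21.qs_commutator_eq_self hL.2) h3
    rw [Cfsg.Agent.Lib.Helper21.commutator_eq_bot_iff_commute] at h4
    apply tt_not_centralizes_component hD ha hL
    intro l hl
    have haK : a ∈ K := Subgroup.subset_closure ⟨1, one_mem _, by group⟩
    exact (h4 l hl a haK).symm

/-- an element commuting with all `L`-conjugates of `a ∈ D` centralizes the component `L` -/
theorem centralizes_of_commute_lconj (hD : IsThreeTranspositionClass D) {a : G} (ha : a ∈ D)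
    {L : Subgroup G} (hL : IsComponent L) {b : G} (hb : ∀ x ∈ lconj L a, Commute b x) :
    ∀ l ∈ L, Commute b l := by
  have h1 : Subgroup.closure (lconj L a) ≤ Subgroup.centralizer {b} := by
    rw [Subgroup.closure_le]
    intro x hx
    rw [SetLike.mem_coe, Subgroup.mem_centralizer_iff]
    intro y hy
    rw [Set.mem_singleton_iff] at hy
    rw [hy]; exact (hb x hx).eq
  intro l hl
  have := h1 (le_closure_lconj hD ha hL hl)
  rw [Subgroup.mem_centralizer_iff] at this
  exact this b rfl

/-- two different components cannot exist (uses the Z*-theorem) -/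
theorem tt_component_unique
    (hZ : ∀ H : Subgroup G, Cfsg.Agent.Lib.Helper58.ZStarProd.ZStarHyp ↥H)
    (hD : IsThreeTranspositionClass D) {L₁ L₂ : Subgroup G}
    (h₁ : IsComponent L₁) (h₂ : IsComponent L₂) : L₁ = L₂ := by
  by_contra hne
  have hG := class_to_group hD
  obtain ⟨hT, hc, hgen⟩ := hG
  obtain ⟨d, hd⟩ : ∃ d, d ∈ D := by
    obtain ⟨hT', ⟨d₀, hd₀, -⟩, -⟩ := hD; exact ⟨d₀, hd₀⟩
  have hcomm := Cfsg.Agent.Lib.Helper21.component_commutator_eq_bot_of_ne h₁ h₂ hne
  rw [Cfsg.Agent.Lib.Helper21.commutator_eq_bot_iff_commute] at hcomm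
  have hn1 : d ∈ Subgroup.normalizer (L₁ : Set G) := tt_mem_normalizer_component hT hc hd h₁
  have hn2 : d ∈ Subgroup.normalizer (L₂ : Set G) := tt_mem_normalizer_component hT hc hd h₂
  obtain ⟨l₁, hl₁, hc1ne, hc1com⟩ := exists_lconj_commute hZ hD hd h₁
  obtain ⟨l₂, hl₂, hnc2⟩ := exists_lconj_not_commute hD hd h₂
  set c := l₁ * d * l₁⁻¹ with hcdef
  set e := l₂ * d * l₂⁻¹ with hedef
  have hcD : c ∈ D := hc l₁ d hd
  have heD : e ∈ D := hc l₂ d hd
  have hdd := tt_sq hT hd
  have hdinv := tt_inv hT hd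
  have hcc := tt_sq hT hcD
  -- `z = d * c ∈ L₁` is an involution, `u = d * e ∈ L₂` has order three
  set z := d * c with hz
  set u := d * e with hu
  have hzL : z ∈ L₁ := by
    have : z = (d * l₁ * d⁻¹) * l₁⁻¹ := by rw [hz, hcdef, hdinv]; simp only [mul_assoc]
    rw [this]
    exact mul_mem (((Subgroup.mem_normalizer_iff.mp hn1) l₁).mp hl₁) (inv_mem hl₁)
  have huL : u ∈ L₂ := by
    have : u = (d * l₂ * d⁻¹) * l₂⁻¹ := by rw [hu, hedef, hdinv]; simp only [mul_assoc]
    rw [this]
    exact mul_mem (((Subgroup.mem_normalizer_iff.mp hn2) l₂).mp hl₂) (inv_mem hl₂)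
  have hzu : Commute z u := hcomm z hzL u huL
  have hzz : z * z = 1 := by
    rw [hz]
    calc d * c * (d * c) = d * (c * d) * c := by simp only [mul_assoc]
      _ = d * (d * c) * c := by rw [hc1com.eq]
      _ = (d * d) * (c * c) := by simp only [mul_assoc]
      _ = 1 := by rw [hdd, hcc, one_mul]
  have hz1 : z ≠ 1 := by
    intro h1
    apply hc1ne
    have : c = d⁻¹ * z := by rw [hz]; group
    rw [this, h1, mul_one, hdinv]
  have hu3 : u ^ 3 = 1 := tt_cube hT hd heD hnc2
  have hu1 : u ≠ 1 := by
    intro h1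
    apply hnc2
    have : e = d⁻¹ * u := by rw [hu]; group
    rw [this, h1, mul_one, hdinv]
  -- `c * e = z * u`
  have hce : c * e = z * u := by
    rw [hz, hu]
    calc c * e = c * (d * d) * e := by rw [hdd, mul_one]
      _ = (c * d) * (d * e) := by simp only [mul_assoc]
      _ = (d * c) * (d * e) := by rw [hc1com.eq]
  rcases hT.2 c hcD e heD with h2 | h3
  · -- `(zu)^2 = u^2 = 1` contradicts `u^3 = 1`, `u ≠ 1`
    rw [hce, hzu.mul_pow, pow_two z, hzz, one_mul] at h2
    apply hu1
    have : u ^ 3 = u ^ 2 * u := pow_succ u 2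
    rw [hu3, h2, one_mul] at this
    exact this.symm
  · rw [hce, hzu.mul_pow, hu3, mul_one] at h3
    apply hz1
    have : z ^ 3 = z := by rw [pow_succ, pow_two, hzz, one_mul]
    rw [this] at h3; exact h3

/-- **S5352 shape** -/
theorem tt_component_structure
    (hZ : ∀ H : Subgroup G, Cfsg.Agent.Lib.Helper58.ZStarProd.ZStarHyp ↥H)
    (hD : IsThreeTranspositionClass D) (hD2 : ∃ a ∈ D, ∃ b ∈ D, a ≠ b)
    (h2 : pCore 2 G ≤ Subgroup.center G) (h3 : pCore 3 G ≤ Subgroup.center G) :
    ∃ L : Subgroup G, L.Normal ∧ IsQuasisimple L ∧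
      generalizedFittingSubgroup G = L ⊔ Subgroup.center G ∧
      (L = ⊤ ∨ ∀ a ∈ D, ∀ b ∈ D, a * b * a⁻¹ * b⁻¹ ∈ L → a⁻¹ * b ∈ L) := by
  have hG := class_to_group hD
  have hE := layer_ne_bot_of_central hD hD2 h2 h3
  -- a component exists
  obtain ⟨L, hL⟩ : ∃ L : Subgroup G, IsComponent L := by
    by_contra hcon
    push Not at hcon
    apply hE
    unfold layer
    rw [sSup_eq_bot]
    intro K hK
    exact absurd hK (hcon K)
  have hLn : L.Normal := tt_component_normal hG hL
  have hlayer : layer G = L := by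
    unfold layer
    apply le_antisymm
    · apply sSup_le
      intro K hK
      rw [tt_component_unique hZ hD hK hL]
    · exact le_sSup hL
  have hF : fittingSubgroup G = Subgroup.center G := by
    apply le_antisymm
    · rw [Cfsg.Agent.Lib.Helper1.fittingSubgroup_eq_iSup_pCore]
      apply iSup_le
      intro p
      have hp : (p : ℕ).Prime := p.2
      by_cases hp2 : (p : ℕ) = 2
      · rw [hp2]; exact h2
      by_cases hp3 : (p : ℕ) = 3
      · rw [hp3]; exact h3
      have : 3 < (p : ℕ) := by
        have := hp.two_le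
        omega
      exact tt_pCore_le_center hG hp this
    · have hnil : Group.IsNilpotent ↥(Subgroup.center G) := by
        let cg : CommGroup ↥(Subgroup.center G) :=
          { (inferInstance : Group ↥(Subgroup.center G)) with
            mul_comm := fun a b => by
              apply Subtype.ext
              have := Subgroup.mem_center_iff.mp b.2 a.1
              simpa using this }
        exact @CommGroup.isNilpotent _ cg
      exact Cfsg.Agent.Lib.Helper21.le_fittingSubgroup_of_normal_nilpotent
        (N := Subgroup.center G) inferInstance hnil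
  refine ⟨L, hLn, hL.2, ?_, ?_⟩
  · unfold generalizedFittingSubgroup
    rw [hlayer, hF]
  · right
    obtain ⟨hT, hc, hgen⟩ := hG
    intro a ha b hb hab
    by_contra hnot
    by_cases hcomab : Commute a b
    · -- `b` commutes with every `L`-conjugate of `a`
      apply tt_not_centralizes_component hD hb hL
      apply centralizes_of_commute_lconj hD ha hL
      rintro x ⟨l, hl, rfl⟩
      by_contra hncx
      -- `b` and `x = l a l⁻¹` do not commute: then `(b x)^3 = 1`
      have hxD : l * a * l⁻¹ ∈ D := hc l a ha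
      have h3' := tt_cube hT hb hxD hncx
      -- modulo `L`: `x ≡ a`, so `(b a)^3 ∈ L`, and `(b a)^2 = 1`, so `b a ∈ L`
      have hxa : a⁻¹ * (l * a * l⁻¹) ∈ L := by
        have : a⁻¹ * (l * a * l⁻¹) = (a⁻¹ * l * a⁻¹⁻¹) * l⁻¹ := by group
        rw [this]
        exact mul_mem (hLn.conj_mem l hl a⁻¹) (inv_mem hl)
      have hq : ((b * a : G) : G ⧸ L) = ((b * (l * a * l⁻¹) : G) : G ⧸ L) := by
        rw [QuotientGroup.eq]
        have : (b * a)⁻¹ * (b * (l * a * l⁻¹)) = a⁻¹ * (l * a * l⁻¹) := by group
        rw [this]; exact hxa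
      have hba2 : (b * a) ^ 2 = 1 := by
        rw [pow_two]
        calc b * a * (b * a) = b * (a * b) * a := by simp only [mul_assoc]
          _ = b * (b * a) * a := by rw [hcomab.eq]
          _ = (b * b) * (a * a) := by simp only [mul_assoc]
          _ = 1 := by rw [tt_sq hT hb, tt_sq hT ha, one_mul]
      have h3q : ((b * a : G) : G ⧸ L) ^ 3 = 1 := by
        rw [hq, ← QuotientGroup.mk_pow, h3', QuotientGroup.mk_one]
      have h2q : ((b * a : G) : G ⧸ L) ^ 2 = 1 := by
        rw [← QuotientGroup.mk_pow, hba2, QuotientGroup.mk_one]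
      have h1q : ((b * a : G) : G ⧸ L) = 1 := by
        have : ((b * a : G) : G ⧸ L) ^ 3 = ((b * a : G) : G ⧸ L) ^ 2 * ((b * a : G) : G ⧸ L) :=
          pow_succ _ 2
        rw [h3q, h2q, one_mul] at this
        exact this.symm
      have hbaL : b * a ∈ L := (QuotientGroup.eq_one_iff _).mp h1q
      apply hnot
      have : a⁻¹ * b = a⁻¹ * (b * a) * a⁻¹⁻¹ := by
        rw [inv_inv]; simp only [mul_assoc]; rw [tt_sq hT ha, mul_one]
      rw [this]
      exact hLn.conj_mem _ hbaL a⁻¹
    · -- not commuting: `(a b)^3 = 1` and `(a b)^2 = a b a⁻¹ b⁻¹ ∈ L`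
      apply hnot
      have h3' := tt_cube hT ha hb hcomab
      have hsq : (a * b) ^ 2 = a * b * a⁻¹ * b⁻¹ := by
        rw [pow_two, tt_inv hT ha, tt_inv hT hb]; simp only [mul_assoc]
      have hmem : (a * b) ^ 2 ∈ L := by rw [hsq]; exact hab
      have : a⁻¹ * b = ((a * b) ^ 2)⁻¹ := by
        rw [tt_inv hT ha]
        have h4 : (a * b) ^ 3 = (a * b) ^ 2 * (a * b) := pow_succ _ 2
        rw [h3'] at h4
        exact eq_inv_of_mul_eq_one_right h4.symm
      rw [this]
      exact inv_mem hmem

end Cfsg.Agent.Lib.Helper90
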