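import Mathlib
import Cfsg.Prelude.Def_FischerSpaces
import Cfsg.Prelude.Def_Local
import Cfsg.Agent.Lib.Helper90.TTLayer
import Cfsg.Agent.Lib.Helper90.TTEquiv
set_option autoImplicit false

/-!
Primitivity of 3-transposition groups with central `O₂`, `O₃` (S5353).
-/

namespace Cfsg.Agent.Lib.Helper90

open Cfsg

universe u

variable {G : Type u} [Group G] [Finite G] {D : Set G}

/-- with central `O₂`, `O₃` the Fitting subgroup is central -/
theorem tt_fitting_le_center (hD : IsThreeTranspositionClass D)
    (h2 : pCore 2 G ≤ Subgroup.center G) (h3 : pCore 3 G ≤ Subgroup.center G) :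
    fittingSubgroup G ≤ Subgroup.center G := by
  have hG := class_to_group hD
  rw [Cfsg.Agent.Lib.Helper1.fittingSubgroup_eq_iSup_pCore]
  apply iSup_le
  intro p
  have hp : (p : ℕ).Prime := p.2
  by_cases hp2 : (p : ℕ) = 2
  · rw [hp2]; exact h2
  by_cases hp3 : (p : ℕ) = 3
  · rw [hp3]; exact h3
  have : 3 < (p : ℕ) := by
    have := hp.two_le
    omega
  exact tt_pCore_le_center hG hp this

/-- the centralizer of the component is the centre -/
theorem tt_centralizer_component_le_center (hD : IsThreeTranspositionClass D)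
    (h2 : pCore 2 G ≤ Subgroup.center G) (h3 : pCore 3 G ≤ Subgroup.center G)
    (L : Subgroup G) [hLn : L.Normal]
    (hF : generalizedFittingSubgroup G = L ⊔ Subgroup.center G) :
    Subgroup.centralizer (L : Set G) ≤ Subgroup.center G := by
  intro x hx
  have hFit := tt_fitting_le_center hD h2 h3
  -- `x` centralizes `F*(G)`
  have hxF : x ∈ Subgroup.centralizer ((generalizedFittingSubgroup G : Subgroup G) : Set G) := by
    rw [hF]
    have hle : L ⊔ Subgroup.center G ≤ Subgroup.centralizer {x} := by
      apply sup_le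
      · intro l hl
        rw [Subgroup.mem_centralizer_iff]
        intro y hy
        rw [Set.mem_singleton_iff] at hy
        rw [hy]
        exact (Subgroup.mem_centralizer_iff.mp hx l hl).symm
      · intro z hz
        rw [Subgroup.mem_centralizer_iff]
        intro y hy
        rw [Set.mem_singleton_iff] at hy
        rw [hy]
        exact Subgroup.mem_center_iff.mp hz x
    rw [Subgroup.mem_centralizer_iff]
    intro y hy
    have := hle hy
    rw [Subgroup.mem_centralizer_iff] at this
    exact (this x rfl).symm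
  have hxFs := Cfsg.Agent.Lib.Helper21.centralizer_generalizedFittingSubgroup_le hxF
  rw [hF, Subgroup.mem_sup_of_normal_right] at hxFs
  obtain ⟨l, hl, z, hz, rfl⟩ := hxFs
  -- `l ∈ L ⊓ C(L)`, an abelian normal subgroup
  have hlc : l ∈ Subgroup.centralizer (L : Set G) := by
    have hzc : z ∈ Subgroup.centralizer (L : Set G) := by
      rw [Subgroup.mem_centralizer_iff]
      intro y _
      exact Subgroup.mem_center_iff.mp hz y
    have : l = (l * z) * z⁻¹ := by group
    rw [this]
    exact mul_mem hx (inv_mem hzc)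
  set M := L ⊓ Subgroup.centralizer (L : Set G) with hM
  have hCn : (Subgroup.centralizer (L : Set G)).Normal := Subgroup.normal_centralizer
  have hMn : M.Normal := Subgroup.normal_inf_normal _ _
  have hMnil : Group.IsNilpotent ↥M := by
    let cg : CommGroup ↥M :=
      { (inferInstance : Group ↥M) with
        mul_comm := fun a b => by
          apply Subtype.ext
          have hb : (b : G) ∈ Subgroup.centralizer (L : Set G) := b.2.2
          have := Subgroup.mem_centralizer_iff.mp hb a.1 a.2.1
          simpa using this }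
    exact @CommGroup.isNilpotent _ cg
  have hMF : M ≤ fittingSubgroup G :=
    Cfsg.Agent.Lib.Helper21.le_fittingSubgroup_of_normal_nilpotent hMn hMnil
  have hlZ : l ∈ Subgroup.center G := hFit (hMF ⟨hl, hlc⟩)
  exact mul_mem hlZ hz

/-- **S5353 (ii)**: if the commuting graph is connected then `L` has index at most two -/
theorem tt_index_le_two_of_connected
    (hZ : ∀ H : Subgroup G, Cfsg.Agent.Lib.Helper58.ZStarProd.ZStarHyp ↥H)
    (hD : IsThreeTranspositionClass D) (hD2 : ∃ a ∈ D, ∃ b ∈ D, a ≠ b)
    (h2 : pCore 2 G ≤ Subgroup.center G) (h3 : pCore 3 G ≤ Subgroup.center G)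
    (L : Subgroup G) [hLn : L.Normal] (hL : IsQuasisimple L)
    (hconn : (commutingGraph D).Connected) : L.index ≤ 2 := by
  have hG := class_to_group hD
  obtain ⟨hT, hc, hgen⟩ := hG
  have hLc : IsComponent L := ⟨hLn.isSubnormal, hL⟩
  -- width one modulo `L`
  have hw : ∀ a ∈ D, ∀ b ∈ D, a * b * a⁻¹ * b⁻¹ ∈ L → a⁻¹ * b ∈ L := by
    obtain ⟨L', hL'n, hL'q, -, h⟩ := tt_component_structure hZ hD hD2 h2 h3
    have hL'c : IsComponent L' := ⟨hL'n.isSubnormal, hL'q⟩
    have hLL : L' = L := tt_component_unique hZ hD hL'c hLc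
    rw [hLL] at h
    rcases h with h | h
    · intro a _ b _ _
      rw [h]; exact Subgroup.mem_top _
    · exact h
  obtain ⟨d, hd⟩ : ∃ d, d ∈ D := by
    obtain ⟨a, ha, -⟩ := hD2; exact ⟨a, ha⟩
  -- all members of `D` lie in `d L`
  have hreach : ∀ u v : D, (commutingGraph D).Reachable u v → (u : G)⁻¹ * (v : G) ∈ L := by
    intro u v h
    obtain ⟨w⟩ := h
    induction w with
    | nil => simp
    | @cons x y z hadj p ih =>
      have hxy : (x : G)⁻¹ * (y : G) ∈ L := by
        apply hw _ x.2 _ y.2
        unfold commutingGraph at hadj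
        rw [SimpleGraph.fromRel_adj] at hadj
        have hcomm : Commute (x : G) (y : G) := by
          rcases hadj.2 with h | h
          · exact h
          · exact h.symm
        have : (x : G) * y * (x : G)⁻¹ * (y : G)⁻¹ = 1 := by
          rw [hcomm.eq]; group
        rw [this]; exact one_mem _
      have : (x : G)⁻¹ * (z : G) = ((x : G)⁻¹ * y) * ((y : G)⁻¹ * z) := by group
      rw [this]
      exact mul_mem hxy ih
  have hall : ∀ v ∈ D, d⁻¹ * v ∈ L := by
    intro v hv
    exact hreach ⟨d, hd⟩ ⟨v, hv⟩ (hconn.preconnected _ _)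
  -- hence `G = L ⟨d⟩`
  have htop : L ⊔ Subgroup.zpowers d = ⊤ := by
    rw [eq_top_iff, ← hgen, Subgroup.closure_le]
    intro v hv
    have : v = d * (d⁻¹ * v) := by group
    rw [SetLike.mem_coe, this, sup_comm]
    exact Subgroup.mul_mem_sup (Subgroup.mem_zpowers d) (hall v hv)
  -- so the quotient has at most two elements
  have hsurj : Function.Surjective (fun x : Subgroup.zpowers d => ((x : G) : G ⧸ L)) := by
    intro q
    induction q using QuotientGroup.induction_on with
    | H g =>
      have hg : g ∈ L ⊔ Subgroup.zpowers d := by rw [htop]; exact Subgroup.mem_top g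
      rw [Subgroup.mem_sup_of_normal_left] at hg
      obtain ⟨l, hl, y, hy, rfl⟩ := hg
      refine ⟨⟨y, hy⟩, ?_⟩
      show ((y : G) : G ⧸ L) = ((l * y : G) : G ⧸ L)
      rw [QuotientGroup.eq]
      have : y⁻¹ * (l * y) = y⁻¹ * l * y⁻¹⁻¹ := by group
      rw [this]
      exact hLn.conj_mem l hl y⁻¹
  have h1 := Nat.card_le_card_of_surjective _ hsurj
  rw [Nat.card_zpowers, hT.1 d hd] at h1
  exact h1

/-- **S5353 (i)**: if `L` has index at most two then `G` is primitive on `D` -/
theorem tt_primitive_of_index_le_two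
    (hD : IsThreeTranspositionClass D) (hD2 : ∃ a ∈ D, ∃ b ∈ D, a ≠ b)
    (h2 : pCore 2 G ≤ Subgroup.center G) (h3 : pCore 3 G ≤ Subgroup.center G)
    (L : Subgroup G) [hLn : L.Normal] (hL : IsQuasisimple L)
    (hF : generalizedFittingSubgroup G = L ⊔ Subgroup.center G)
    (hidx : L.index ≤ 2) : IsPrimitiveUnderConj D := by
  have hG := class_to_group hD
  have hLc : IsComponent L := ⟨hLn.isSubnormal, hL⟩
  have hCL := tt_centralizer_component_le_center hD h2 h3 L hF
  obtain ⟨hT, hc, hgen⟩ := hG
  obtain ⟨-, ⟨d₀, hd₀, hDd⟩, -⟩ := hD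
  have htrans : ∀ a ∈ D, ∀ b ∈ D, ∃ g : G, g * a * g⁻¹ = b := by
    intro a ha b hb
    have h1 : IsConj d₀ a := by rw [hDd] at ha; exact ha
    have h2' : IsConj d₀ b := by rw [hDd] at hb; exact hb
    exact isConj_iff.mp (h1.symm.trans h2')
  refine ⟨htrans, hD2, ?_⟩
  intro B hBD hB
  by_cases hsub : B.Subsingleton
  · left; exact hsub
  right
  rw [Set.not_subsingleton_iff] at hsub
  obtain ⟨a, haB, b, hbB, hab⟩ := hsub
  have haD := hBD haB
  have hbD := hBD hbB
  -- the translates of `B` cover `D`
  have hcover : ∀ x ∈ D, ∃ g : G, g⁻¹ * x * g ∈ B := by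
    intro x hx
    obtain ⟨g, hg⟩ := htrans x hx a haD
    refine ⟨g⁻¹, ?_⟩
    rw [inv_inv, hg]; exact haB
  have hR := sameBlock_invEquiv (D := D) hB hcover
  set N := relSub D (SameBlock B) with hN
  have hNn : N.Normal := relSub_normal hR hc
  have habN : a * b ∈ N :=
    Subgroup.subset_closure ⟨a, haD, b, hbD, ⟨1, by simpa using haB, by simpa using hbB⟩, rfl⟩
  -- `L ≤ N`
  have hLN : L ≤ N := by
    rcases Cfsg.Agent.Lib.Helper21.component_le_or_commutator_eq_bot hLc hNn.isSubnormal with h | h
    · exact h
    · exfalso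
      -- then `a * b` is central, and `b = a` by S5349
      rw [Cfsg.Agent.Lib.Helper21.commutator_eq_bot_iff_commute] at h
      have habC : a * b ∈ Subgroup.centralizer (L : Set G) := by
        rw [Subgroup.mem_centralizer_iff]
        intro l hl
        exact h l hl _ habN
      have habZ : a * b ∈ Subgroup.center G := hCL habC
      have hcomab : Commute a b := by
        have h1 := Subgroup.mem_center_iff.mp habZ a
        -- a * (a * b) = (a * b) * a
        show a * b = b * a
        have haa := tt_sq hT haD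
        calc a * b = a * (a * (a * b)) := by rw [← mul_assoc a a, haa, one_mul]
          _ = a * ((a * b) * a) := by rw [h1]
          _ = (a * a) * b * a := by simp only [mul_assoc]
          _ = b * a := by rw [haa, one_mul]
      have hab2 : (a * b) ^ 2 = 1 := by
        rw [pow_two]
        calc a * b * (a * b) = a * (b * a) * b := by simp only [mul_assoc]
          _ = a * (a * b) * b := by rw [hcomab.eq]
          _ = (a * a) * (b * b) := by simp only [mul_assoc]
          _ = 1 := by rw [tt_sq hT haD, tt_sq hT hbD, one_mul]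
      -- `⟨a b⟩` is a normal 2-subgroup
      have hzn : (Subgroup.zpowers (a * b)).Normal := by
        constructor
        intro n hn g
        have hnZ : n ∈ Subgroup.center G := by
          obtain ⟨i, rfl⟩ := Subgroup.mem_zpowers_iff.mp hn
          exact zpow_mem habZ i
        have : g * n * g⁻¹ = n := by
          rw [Subgroup.mem_center_iff.mp hnZ g]; group
        rw [this]; exact hn
      have hzp : IsPGroup 2 (Subgroup.zpowers (a * b)) := by
        intro x
        refine ⟨1, ?_⟩
        obtain ⟨i, hi⟩ := Subgroup.mem_zpowers_iff.mp x.2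
        apply Subtype.ext
        rw [pow_one, Subgroup.coe_pow, ← hi, ← zpow_natCast, ← zpow_mul, mul_comm, zpow_mul,
          zpow_natCast, hab2, one_zpow]
        rfl
      have habQ : a * b ∈ pCore 2 G := le_pCore (Subgroup.zpowers (a * b)) hzn hzp (Subgroup.mem_zpowers _)
      have habQ' : a⁻¹ * b ∈ pCore 2 G := by rw [tt_inv hT haD]; exact habQ
      have hS := Cfsg.Agent.S5349.result (D := D) ⟨hT, ⟨d₀, hd₀, hDd⟩, hgen⟩ hD2 haD
      have hb1 : b ∈ {v : G | v ∈ D ∧ a⁻¹ * v ∈ pCore 2 G} := ⟨hbD, habQ'⟩
      rw [← hS.1, hS.2] at hb1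
      obtain ⟨g, hg, hbg⟩ := hb1
      apply hab
      rw [hbg, ← Subgroup.mem_center_iff.mp (h2 hg) a]
      group
  -- `G = L ⟨a⟩`
  have htop : L ⊔ Subgroup.zpowers a = ⊤ := by
    by_cases haL : a ∈ L
    · -- then `D ⊆ L`
      have : L = ⊤ := by
        rw [eq_top_iff, ← hgen, Subgroup.closure_le]
        intro x hx
        obtain ⟨g, hg⟩ := htrans a haD x hx
        rw [SetLike.mem_coe, ← hg]
        exact hLn.conj_mem a haL g
      rw [this, top_sup_eq]
    · set K := L ⊔ Subgroup.zpowers a with hK
      have hLK : L ≤ K := le_sup_left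
      have hrel := Subgroup.relIndex_mul_index hLK
      have hKL : ¬ K ≤ L := fun h => haL (h (le_sup_right (a := L) (Subgroup.mem_zpowers a)))
      have hr1 : L.relIndex K ≠ 1 := fun h => hKL (Subgroup.relIndex_eq_one.mp h)
      have hr0 : L.relIndex K ≠ 0 := by
        unfold Subgroup.relIndex; exact Subgroup.index_ne_zero_of_finite
      have hk0 : K.index ≠ 0 := Subgroup.index_ne_zero_of_finite
      have hk1 : K.index = 1 := by
        by_contra hne
        have h2r : 2 ≤ L.relIndex K := by omega
        have h2k : 2 ≤ K.index := by omega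
        have : 4 ≤ L.relIndex K * K.index := by nlinarith
        omega
      exact Subgroup.index_eq_one.mp hk1
  -- every member of `D` is in the same block as `a`
  have hall : ∀ x ∈ D, SameBlock B x a := by
    intro x hx
    obtain ⟨g, hg⟩ := htrans a haD x hx
    have hgtop : g ∈ L ⊔ Subgroup.zpowers a := by rw [htop]; exact Subgroup.mem_top g
    rw [Subgroup.mem_sup_of_normal_left] at hgtop
    obtain ⟨l, hl, y, hy, rfl⟩ := hgtop
    obtain ⟨i, rfl⟩ := Subgroup.mem_zpowers_iff.mp hy
    have hcz : Commute (a ^ i) a := (Commute.refl a).zpow_left i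
    have e1 : l * a ^ i * a * (l * a ^ i)⁻¹ = l * a * l⁻¹ := by
      rw [mul_assoc l, hcz.eq]; group
    rw [← hg, e1]
    exact relSub_fix hR hT hc (hLN hl) a haD
  apply Set.Subset.antisymm hBD
  intro x hx
  exact mem_block_of_sameBlock hB haB (hall x hx)

end Cfsg.Agent.Lib.Helper90
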