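import Mathlib
import Cfsg.Prelude.Def_FischerSpaces
import Cfsg.Prelude.Def_Local
import Cfsg.Agent.Lib.Helper90.TTPrim
set_option autoImplicit false

/-!
Primitive 3-transposition groups: `O₂`, `O₃` are central, the commuting graph is connected, and the
equivalences of S5361.
-/

namespace Cfsg.Agent.Lib.Helper90

open Cfsg
open scoped commutatorElement

universe u

variable {G : Type u} [Group G] {D : Set G}

/-- the class of `d` for a conjugation-invariant equivalence relation is a block -/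
theorem InvEquiv.class_block {R : G → G → Prop} (hR : InvEquiv D R)
    (hc : ∀ g : G, ∀ d ∈ D, g * d * g⁻¹ ∈ D) (d : G) (g : G) :
    (fun x => g * x * g⁻¹) '' {v : G | v ∈ D ∧ R v d} = {v : G | v ∈ D ∧ R v d} ∨
      Disjoint ((fun x => g * x * g⁻¹) '' {v : G | v ∈ D ∧ R v d}) {v : G | v ∈ D ∧ R v d} := by
  have hmem : ∀ x, x ∈ (fun x => g * x * g⁻¹) '' {v : G | v ∈ D ∧ R v d} ↔
      x ∈ D ∧ R x (g * d * g⁻¹) := by
    intro x
    rw [mem_image_conj_iff]
    constructor
    · rintro ⟨h1, h2⟩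
      have h3 := hc g _ h1
      have h4 := hR.conj g h2
      have e : g * (g⁻¹ * x * g) * g⁻¹ = x := by group
      rw [e] at h3 h4
      exact ⟨h3, h4⟩
    · rintro ⟨h1, h2⟩
      have h3 := hc g⁻¹ _ h1
      have h4 := hR.conj g⁻¹ h2
      have e : g⁻¹ * (g * d * g⁻¹) * g⁻¹⁻¹ = d := by group
      rw [e] at h4
      rw [inv_inv] at h3 h4
      exact ⟨h3, h4⟩
  by_cases h : R (g * d * g⁻¹) d
  · left
    ext x
    rw [hmem]
    constructor
    · rintro ⟨h1, h2⟩; exact ⟨h1, hR.trans h2 h⟩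
    · rintro ⟨h1, h2⟩; exact ⟨h1, hR.trans h2 (hR.symm h)⟩
  · right
    rw [Set.disjoint_left]
    intro x hx hx'
    rw [hmem] at hx
    exact h (hR.trans (hR.symm hx.2) hx'.2)

/-- same commuting behaviour is a conjugation-invariant equivalence relation -/
theorem sameCommute_invEquiv (hc : ∀ g : G, ∀ d ∈ D, g * d * g⁻¹ ∈ D) :
    InvEquiv D (fun a b => ∀ e ∈ D, Commute a e ↔ Commute b e) := by
  refine ⟨fun x _ e _ => Iff.rfl, fun h e he => (h e he).symm,
    fun h1 h2 e he => (h1 e he).trans (h2 e he), ?_⟩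
  intro x y g h e he
  have he' : g⁻¹ * e * g ∈ D := by
    have := hc g⁻¹ e he
    rwa [inv_inv] at this
  have key : ∀ z : G, Commute (g * z * g⁻¹) e ↔ Commute z (g⁻¹ * e * g) := by
    intro z
    constructor
    · intro h1
      have h1' : g * z * g⁻¹ * e = e * (g * z * g⁻¹) := h1
      show z * (g⁻¹ * e * g) = (g⁻¹ * e * g) * z
      calc z * (g⁻¹ * e * g) = g⁻¹ * (g * z * g⁻¹ * e) * g := by group
        _ = g⁻¹ * (e * (g * z * g⁻¹)) * g := by rw [h1']
        _ = (g⁻¹ * e * g) * z := by group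
    · intro h1
      have h1' : z * (g⁻¹ * e * g) = (g⁻¹ * e * g) * z := h1
      show g * z * g⁻¹ * e = e * (g * z * g⁻¹)
      calc g * z * g⁻¹ * e = g * (z * (g⁻¹ * e * g)) * g⁻¹ := by group
        _ = g * ((g⁻¹ * e * g) * z) * g⁻¹ := by rw [h1']
        _ = e * (g * z * g⁻¹) := by group
  rw [key x, key y]
  exact h _ he'

/-- `Sim D` is a conjugation-invariant equivalence relation -/
theorem sim_invEquiv (hc : ∀ g : G, ∀ d ∈ D, g * d * g⁻¹ ∈ D) : InvEquiv D (Sim D) :=
  ⟨fun x _ => Sim.rfl' x, fun h => h.symm', fun h1 h2 => h1.trans' h2, fun g h => h.conj hc g⟩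

/-- reachability in the commuting graph -/
def Reach (D : Set G) (a b : G) : Prop :=
  ∃ (ha : a ∈ D) (hb : b ∈ D), (commutingGraph D).Reachable ⟨a, ha⟩ ⟨b, hb⟩

theorem reach_invEquiv (hc : ∀ g : G, ∀ d ∈ D, g * d * g⁻¹ ∈ D) : InvEquiv D (Reach D) := by
  refine ⟨fun x hx => ⟨hx, hx, SimpleGraph.Reachable.refl _⟩, ?_, ?_, ?_⟩
  · rintro x y ⟨hx, hy, h⟩
    exact ⟨hy, hx, h.symm⟩
  · rintro x y z ⟨hx, hy, h1⟩ ⟨hy', hz, h2⟩
    exact ⟨hx, hz, h1.trans h2⟩
  · rintro x y g ⟨hx, hy, h⟩
    let f : commutingGraph D →g commutingGraph D :=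
      { toFun := fun u => ⟨g * (u : G) * g⁻¹, hc g u u.2⟩
        map_rel' := by
          intro u v huv
          unfold commutingGraph at huv ⊢
          rw [SimpleGraph.fromRel_adj] at huv ⊢
          refine ⟨?_, ?_⟩
          · intro h1
            apply huv.1
            apply Subtype.ext
            have h2 := congrArg Subtype.val h1
            have h3 : g * (u : G) * g⁻¹ = g * (v : G) * g⁻¹ := h2
            have := congrArg (fun t => g⁻¹ * t * g) h3
            simpa [mul_assoc] using this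
          · have hcomm : Commute (u : G) (v : G) := by
              rcases huv.2 with h | h
              · exact h
              · exact h.symm
            left
            show g * (u : G) * g⁻¹ * (g * (v : G) * g⁻¹) = g * (v : G) * g⁻¹ * (g * (u : G) * g⁻¹)
            calc g * (u : G) * g⁻¹ * (g * (v : G) * g⁻¹) = g * ((u : G) * v) * g⁻¹ := by group
              _ = g * ((v : G) * u) * g⁻¹ := by rw [hcomm.eq]
              _ = g * (v : G) * g⁻¹ * (g * (u : G) * g⁻¹) := by group }
    exact ⟨hc g x hx, hc g y hy, h.map f⟩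

/-- a normal subgroup fixing one member of a class of generators is central -/
theorem le_center_of_fixes_member (hD : IsThreeTranspositionClass D) {d : G} (hd : d ∈ D)
    {N : Subgroup G} (hN : N.Normal) (hfix : ∀ q ∈ N, q * d * q⁻¹ = d) :
    N ≤ Subgroup.center G := by
  obtain ⟨hT, ⟨d₀, hd₀, hDd⟩, hgen⟩ := hD
  apply le_center_of_commute_gens hgen
  intro x hx e he
  have h1 : IsConj d₀ d := by rw [hDd] at hd; exact hd
  have h2' : IsConj d₀ e := by rw [hDd] at he; exact he
  obtain ⟨g, hg⟩ := isConj_iff.mp (h1.symm.trans h2')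
  have hx' : g⁻¹ * x * g ∈ N := by
    have := hN.conj_mem x hx g⁻¹
    rwa [inv_inv] at this
  have h3 := hfix _ hx'
  show e * x = x * e
  rw [← hg]
  have h4 : (g⁻¹ * x * g) * d = d * (g⁻¹ * x * g) := by
    calc (g⁻¹ * x * g) * d = ((g⁻¹ * x * g) * d * (g⁻¹ * x * g)⁻¹) * (g⁻¹ * x * g) := by group
      _ = d * (g⁻¹ * x * g) := by rw [h3]
  calc g * d * g⁻¹ * x = g * (d * (g⁻¹ * x * g)) * g⁻¹ := by group
    _ = g * ((g⁻¹ * x * g) * d) * g⁻¹ := by rw [h4]
    _ = x * (g * d * g⁻¹) := by group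

/-- index at most two from `N ⟨d⟩ = G` -/
theorem index_le_two_of_sup_zpowers {N : Subgroup G} (hN : N.Normal) {d : G} (hd2 : orderOf d = 2)
    (htop : N ⊔ Subgroup.zpowers d = ⊤) : N.index ≤ 2 := by
  have hsurj : Function.Surjective (fun x : Subgroup.zpowers d => ((x : G) : G ⧸ N)) := by
    intro q
    induction q using QuotientGroup.induction_on with
    | H g =>
      have hg : g ∈ N ⊔ Subgroup.zpowers d := by rw [htop]; exact Subgroup.mem_top g
      rw [Subgroup.mem_sup_of_normal_left] at hg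
      obtain ⟨l, hl, y, hy, rfl⟩ := hg
      refine ⟨⟨y, hy⟩, ?_⟩
      show ((y : G) : G ⧸ N) = ((l * y : G) : G ⧸ N)
      rw [QuotientGroup.eq]
      have : y⁻¹ * (l * y) = y⁻¹ * l * y⁻¹⁻¹ := by group
      rw [this]
      exact hN.conj_mem l hl y⁻¹
  have hfin : Finite (Subgroup.zpowers d) := by
    rw [← Nat.card_pos_iff.trans ⟨fun h => h.2, fun h => ⟨⟨1⟩, h⟩⟩]
    rw [Nat.card_zpowers, hd2]; norm_num
  have h1 := Nat.card_le_card_of_surjective _ hsurj
  rw [Nat.card_zpowers, hd2] at h1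
  exact h1

section Finite

variable [Finite G]

/-- in a primitive 3-transposition group `O₂(G)` is central -/
theorem prim_pCore_two_le_center (hD : IsThreeTranspositionClass D)
    (hprim : IsPrimitiveUnderConj D) : pCore 2 G ≤ Subgroup.center G := by
  have hG := class_to_group hD
  obtain ⟨hT, hc, hgen⟩ := hG
  obtain ⟨-, hD2, hblk⟩ := hprim
  obtain ⟨d, hd⟩ : ∃ d, d ∈ D := by
    obtain ⟨a, ha, -⟩ := hD2; exact ⟨a, ha⟩
  have hR := sameCommute_invEquiv (D := D) hc
  set B := {v : G | v ∈ D ∧ ∀ e ∈ D, Commute v e ↔ Commute d e} with hB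
  have hBD : B ⊆ D := fun v hv => hv.1
  have hdB : d ∈ B := ⟨hd, fun e _ => Iff.rfl⟩
  rcases hblk B hBD (hR.class_block hc d) with hsub | hall
  · -- `B = {d}`
    apply le_center_of_fixes_member hD hd (pCore_normal 2 G)
    intro q hq
    have hS := (Cfsg.Agent.S5349.result hD hD2 hd).2
    have : q * d * q⁻¹ ∈ B := by
      rw [hB, hS]; exact ⟨q, hq, rfl⟩
    exact hsub this hdB
  · -- `B = D`: then `d` is central and `D = {d}`
    exfalso
    have hdZ : d ∈ Subgroup.center G := by
      have : Subgroup.zpowers d ≤ Subgroup.center G := by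
        apply le_center_of_commute_gens hgen
        intro x hx e he
        obtain ⟨i, rfl⟩ := Subgroup.mem_zpowers_iff.mp hx
        have heB : e ∈ B := by rw [hall]; exact he
        have : Commute e d := (heB.2 d hd).mpr (Commute.refl d)
        exact this.zpow_right i
      exact this (Subgroup.mem_zpowers d)
    obtain ⟨a, ha, b, hb, hab⟩ := hD2
    obtain ⟨-, ⟨d₀, hd₀, hDd⟩, -⟩ := hD
    have hconj : ∀ x ∈ D, x = d := by
      intro x hx
      have h1 : IsConj d₀ d := by rw [hDd] at hd; exact hd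
      have h2' : IsConj d₀ x := by rw [hDd] at hx; exact hx
      obtain ⟨g, hg⟩ := isConj_iff.mp (h1.symm.trans h2')
      rw [← hg, Subgroup.mem_center_iff.mp hdZ g]; group
    exact hab ((hconj a ha).trans (hconj b hb).symm)

/-- in a primitive 3-transposition group of width at least two `O₃(G)` is central -/
theorem prim_pCore_three_le_center
    (hZ : ∀ H : Subgroup G, Cfsg.Agent.Lib.Helper58.ZStarProd.ZStarHyp ↥H)
    (hD : IsThreeTranspositionClass D)
    (hprim : IsPrimitiveUnderConj D) (hw : ∃ a ∈ D, ∃ b ∈ D, a ≠ b ∧ Commute a b) :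
    pCore 3 G ≤ Subgroup.center G := by
  have hG := class_to_group hD
  obtain ⟨hT, hc, hgen⟩ := hG
  obtain ⟨-, hD2, hblk⟩ := hprim
  obtain ⟨a, ha, b, hb, hab, hcom⟩ := hw
  have hR := sim_invEquiv (D := D) hc
  set B := {v : G | v ∈ D ∧ Sim D v a} with hB
  have hBD : B ⊆ D := fun v hv => hv.1
  have haB : a ∈ B := ⟨ha, Sim.rfl' a⟩
  rcases hblk B hBD (hR.class_block hc a) with hsub | hall
  · apply le_center_of_fixes_member hD ha (pCore_normal 3 G)
    intro q hq
    have hS := (wclass_eq hZ (class_to_group hD) ha).2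
    have h1 : q * a * q⁻¹ ∈ {w : G | w ∈ D ∧ {y : G | y ∈ D ∧ y ≠ a ∧ Commute a y} =
        {y : G | y ∈ D ∧ y ≠ w ∧ Commute w y}} := by
      rw [hS]; exact ⟨q, hq, rfl⟩
    have h2 : q * a * q⁻¹ ∈ B := ⟨h1.1, Sim.symm' h1.2⟩
    exact hsub h2 haB
  · exfalso
    have hbB : b ∈ B := by rw [hall]; exact hb
    have hsim : Sim D b a := hbB.2
    have h1 : b ∈ cpart D a := ⟨hb, fun h => hab h.symm, hcom⟩
    have h2 : b ∈ cpart D b := by
      have : cpart D b = cpart D a := hsim
      rw [this]; exact h1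
    exact h2.2.1 rfl

/-- in a primitive 3-transposition group of width at least two the commuting graph is connected -/
theorem prim_connected (hG : IsThreeTranspositionGroup D)
    (hprim : IsPrimitiveUnderConj D) (hw : ∃ a ∈ D, ∃ b ∈ D, a ≠ b ∧ Commute a b) :
    (commutingGraph D).Connected := by
  obtain ⟨hT, hc, hgen⟩ := hG
  obtain ⟨-, hD2, hblk⟩ := hprim
  obtain ⟨a, ha, b, hb, hab, hcom⟩ := hw
  have hR := reach_invEquiv (D := D) hc
  set B := {v : G | v ∈ D ∧ Reach D v a} with hB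
  have hBD : B ⊆ D := fun v hv => hv.1
  have haB : a ∈ B := ⟨ha, hR.refl a ha⟩
  have hbB : b ∈ B := by
    refine ⟨hb, hb, ha, ?_⟩
    apply SimpleGraph.Adj.reachable
    unfold commutingGraph
    rw [SimpleGraph.fromRel_adj]
    exact ⟨fun h => hab (congrArg Subtype.val h).symm, Or.inl hcom.symm⟩
  rcases hblk B hBD (hR.class_block hc a) with hsub | hall
  · exact absurd (hsub haB hbB) hab
  · haveI : Nonempty D := ⟨⟨a, ha⟩⟩
    refine ⟨?_⟩
    intro u v
    have hu : (u : G) ∈ B := by rw [hall]; exact u.2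
    have hv : (v : G) ∈ B := by rw [hall]; exact v.2
    obtain ⟨-, hu1, hu2, hur⟩ := hu
    obtain ⟨-, hv1, hv2, hvr⟩ := hv
    exact hur.trans hvr.symm

end Finite

end Cfsg.Agent.Lib.Helper90
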