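import Mathlib
import Cfsg.Prelude.Def_FischerSpaces
import Cfsg.Agent.Lib.Helper90.TTPrim2
set_option autoImplicit false

/-!
Primitive 3-transposition groups of width at least two: the subgroup generated by the members of
`D` commuting with `d` is a maximal `D`-subgroup.
-/

namespace Cfsg.Agent.Lib.Helper90

open Cfsg

universe u

variable {G : Type u} [Group G] {D : Set G}

/-- the family of proper `D`-subgroups containing all members of `D` commuting with `d` and some
member not commuting with `d` -/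
def MaxFam (D : Set G) (d : G) (K : Subgroup G) : Prop :=
  Subgroup.closure {x : G | x ∈ D ∧ x ∈ K} = K ∧ K ≠ ⊤ ∧ (∀ y ∈ D, Commute d y → y ∈ K) ∧
    ∃ e ∈ D, e ∈ K ∧ ¬ Commute d e

/-- the `K`-class of `d` -/
def kclass (d : G) (K : Subgroup G) : Set G := {a : G | ∃ k ∈ K, a = k * d * k⁻¹}

theorem kclass_subset (hc : ∀ g : G, ∀ d ∈ D, g * d * g⁻¹ ∈ D) {d : G} (hd : d ∈ D)
    (K : Subgroup G) : kclass d K ⊆ D := by
  rintro a ⟨k, -, rfl⟩; exact hc k d hd

theorem self_mem_kclass (d : G) (K : Subgroup G) : d ∈ kclass d K :=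
  ⟨1, K.one_mem, by group⟩

theorem MaxFam.self_mem {d : G} (hd : d ∈ D) {K : Subgroup G} (hK : MaxFam D d K) : d ∈ K :=
  hK.2.2.1 d hd (Commute.refl d)

theorem kclass_le {d : G} {K : Subgroup G} (hdK : d ∈ K) {a : G} (ha : a ∈ kclass d K) : a ∈ K := by
  obtain ⟨k, hk, rfl⟩ := ha
  exact K.mul_mem (K.mul_mem hk hdK) (K.inv_mem hk)

theorem kclass_conj {d : G} {K : Subgroup G} {a : G} (ha : a ∈ kclass d K) {h : G} (hh : h ∈ K) :
    h * a * h⁻¹ ∈ kclass d K := by
  obtain ⟨k, hk, rfl⟩ := ha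
  exact ⟨h * k, K.mul_mem hh hk, by group⟩

theorem commute_conj_iff (g a y : G) : Commute (g * a * g⁻¹) y ↔ Commute a (g⁻¹ * y * g) := by
  constructor
  · intro h1
    have h1' : g * a * g⁻¹ * y = y * (g * a * g⁻¹) := h1
    show a * (g⁻¹ * y * g) = (g⁻¹ * y * g) * a
    calc a * (g⁻¹ * y * g) = g⁻¹ * (g * a * g⁻¹ * y) * g := by group
      _ = g⁻¹ * (y * (g * a * g⁻¹)) * g := by rw [h1']
      _ = (g⁻¹ * y * g) * a := by group
  · intro h1
    have h1' : a * (g⁻¹ * y * g) = (g⁻¹ * y * g) * a := h1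
    show g * a * g⁻¹ * y = y * (g * a * g⁻¹)
    calc g * a * g⁻¹ * y = g * (a * (g⁻¹ * y * g)) * g⁻¹ := by group
      _ = g * ((g⁻¹ * y * g) * a) * g⁻¹ := by rw [h1']
      _ = y * (g * a * g⁻¹) := by group

/-- F1: members commuting with a member of the class of `d` lie in `K` -/
theorem MaxFam.commute_mem (hc : ∀ g : G, ∀ d ∈ D, g * d * g⁻¹ ∈ D) {d : G} {K : Subgroup G}
    (hK : MaxFam D d K) {a : G} (ha : a ∈ kclass d K) {y : G} (hy : y ∈ D) (hay : Commute a y) :
    y ∈ K := by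
  obtain ⟨k, hk, rfl⟩ := ha
  have hy' : k⁻¹ * y * k ∈ D := by have := hc k⁻¹ y hy; rwa [inv_inv] at this
  have hcom : Commute d (k⁻¹ * y * k) := (commute_conj_iff k d y).mp hay
  have h1 := hK.2.2.1 _ hy' hcom
  have : y = k * (k⁻¹ * y * k) * k⁻¹ := by group
  rw [this]
  exact K.mul_mem (K.mul_mem hk h1) (K.inv_mem hk)

/-- F2: members of `K` not commuting with a member of the class of `d` lie in that class -/
theorem MaxFam.mem_kclass (hT : IsThreeTranspositionSet D)
    (hc : ∀ g : G, ∀ d ∈ D, g * d * g⁻¹ ∈ D) {d : G} (hd : d ∈ D) {K : Subgroup G}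
    (hK : MaxFam D d K) {a : G} (ha : a ∈ kclass d K) {y : G} (hy : y ∈ D) (hyK : y ∈ K)
    (hay : ¬ Commute a y) : y ∈ kclass d K := by
  have haD := kclass_subset hc hd K ha
  have haK := kclass_le (hK.self_mem hd) ha
  have hb := tt_braid hT haD hy hay  -- y * a * y = a * y * a
  have h1 : y = (a * y) * a * (a * y)⁻¹ := by
    have e1 : (a * y) * a * (a * y)⁻¹ = a * (y * a * y⁻¹) * a⁻¹ := by group
    rw [e1, tt_inv hT hy, tt_inv hT haD, hb]
    calc y = (a * a) * y * (a * a) := by rw [tt_sq hT haD, one_mul, mul_one]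
      _ = a * (a * y * a) * a := by simp only [mul_assoc]
  rw [h1]
  exact kclass_conj ha (K.mul_mem haK hyK)

/-- F3: members of `D` outside `K` commute with no member of the class of `d` -/
theorem MaxFam.not_commute (hc : ∀ g : G, ∀ d ∈ D, g * d * g⁻¹ ∈ D) {d : G} {K : Subgroup G}
    (hK : MaxFam D d K) {a : G} (ha : a ∈ kclass d K) {x : G} (hx : x ∈ D) (hxK : x ∉ K) :
    ¬ Commute a x := fun h => hxK (hK.commute_mem hc ha hx h)

/-- Lemma A: a member of the family normalized by the centralizer of `d` contradicts primitivity -/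
theorem MaxFam.false_of_invariant (hG : IsThreeTranspositionGroup D)
    (hprim : IsPrimitiveUnderConj D) {d : G} (hd : d ∈ D) {K : Subgroup G} (hK : MaxFam D d K)
    (hinv : ∀ c : G, Commute c d → ∀ k ∈ K, c * k * c⁻¹ ∈ K) : False := by
  obtain ⟨hT, hc, hgen⟩ := hG
  obtain ⟨-, -, hblk⟩ := hprim
  set B := kclass d K with hB
  have hBD : B ⊆ D := kclass_subset hc hd K
  have hdK := hK.self_mem hd
  -- invariance under the centralizer of `d`
  have hBc : ∀ c : G, Commute c d → ∀ b ∈ B, c * b * c⁻¹ ∈ B := by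
    rintro c hcd b ⟨k, hk, rfl⟩
    refine ⟨c * k * c⁻¹, hinv c hcd k hk, ?_⟩
    have h1 : c * d = d * c := hcd
    calc c * (k * d * k⁻¹) * c⁻¹ = c * k * c⁻¹ * (c * d) * c⁻¹ * (c * k * c⁻¹)⁻¹ := by group
      _ = c * k * c⁻¹ * (d * c) * c⁻¹ * (c * k * c⁻¹)⁻¹ := by rw [h1]
      _ = c * k * c⁻¹ * d * (c * k * c⁻¹)⁻¹ := by group
  have hblock : ∀ g : G, (fun x => g * x * g⁻¹) '' B = B ∨
      Disjoint ((fun x => g * x * g⁻¹) '' B) B := by
    intro g
    by_cases hdisj : Disjoint ((fun x => g * x * g⁻¹) '' B) B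
    · right; exact hdisj
    left
    rw [Set.not_disjoint_iff] at hdisj
    obtain ⟨x, ⟨a, ha, hax⟩, hxB⟩ := hdisj
    obtain ⟨k₁, hk₁, rfl⟩ := ha
    obtain ⟨k₂, hk₂, hx2⟩ := hxB
    have hax' : g * (k₁ * d * k₁⁻¹) * g⁻¹ = x := hax
    -- c = k₂⁻¹ g k₁ commutes with d
    have hcd : Commute (k₂⁻¹ * g * k₁) d := by
      show k₂⁻¹ * g * k₁ * d = d * (k₂⁻¹ * g * k₁)
      have e1 : g * (k₁ * d * k₁⁻¹) * g⁻¹ = k₂ * d * k₂⁻¹ := by rw [hax', hx2]
      calc k₂⁻¹ * g * k₁ * d = k₂⁻¹ * (g * (k₁ * d * k₁⁻¹) * g⁻¹) * g * k₁ := by group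
        _ = k₂⁻¹ * (k₂ * d * k₂⁻¹) * g * k₁ := by rw [e1]
        _ = d * (k₂⁻¹ * g * k₁) := by group
    have hcd' : Commute (k₂⁻¹ * g * k₁)⁻¹ d := hcd.inv_left
    have hfwd : ∀ b ∈ B, g * b * g⁻¹ ∈ B := by
      intro b hb
      have h1 : k₁⁻¹ * b * k₁⁻¹⁻¹ ∈ B := kclass_conj hb (K.inv_mem hk₁)
      have h2 := hBc _ hcd _ h1
      have h3 := kclass_conj h2 hk₂
      have e : k₂ * ((k₂⁻¹ * g * k₁) * (k₁⁻¹ * b * k₁⁻¹⁻¹) * (k₂⁻¹ * g * k₁)⁻¹) * k₂⁻¹ =
          g * b * g⁻¹ := by group
      rw [e] at h3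
      exact h3
    have hbwd : ∀ b ∈ B, g⁻¹ * b * g ∈ B := by
      intro b hb
      have h1 : k₂⁻¹ * b * k₂⁻¹⁻¹ ∈ B := kclass_conj hb (K.inv_mem hk₂)
      have h2 := hBc _ hcd' _ h1
      have h3 := kclass_conj h2 hk₁
      have e : k₁ * ((k₂⁻¹ * g * k₁)⁻¹ * (k₂⁻¹ * b * k₂⁻¹⁻¹) * (k₂⁻¹ * g * k₁)⁻¹⁻¹) * k₁⁻¹ =
          g⁻¹ * b * g := by group
      rw [e] at h3
      exact h3
    ext y
    rw [mem_image_conj_iff]
    constructor
    · intro hy
      have := hfwd _ hy
      have e : g * (g⁻¹ * y * g) * g⁻¹ = y := by group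
      rwa [e] at this
    · intro hy
      exact hbwd y hy
  obtain ⟨e, heD, heK, hde⟩ := hK.2.2.2
  have heB : e ∈ B := hK.mem_kclass hT hc hd (self_mem_kclass d K) heD heK hde
  rcases hblk B hBD hblock with hsub | hall
  · have : d = e := hsub (self_mem_kclass d K) heB
    apply hde
    rw [← this]
  · apply hK.2.1
    rw [eq_top_iff, ← hgen, Subgroup.closure_le]
    intro x hx
    rw [← hall] at hx
    exact kclass_le hdK hx

section Finite

variable [Finite G]

/-- Lemma B: two members of the family sharing no member of `D` outside the centralizer of `d`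
contradict primitivity -/
theorem MaxFam.false_of_disjoint (hG : IsThreeTranspositionGroup D)
    (hprim : IsPrimitiveUnderConj D) (hw : ∃ a ∈ D, ∃ b ∈ D, a ≠ b ∧ Commute a b)
    {d : G} (hd : d ∈ D) {K₁ K₂ : Subgroup G} (h₁ : MaxFam D d K₁) (h₂ : MaxFam D d K₂)
    (hdis : ∀ e ∈ D, e ∈ K₁ → e ∈ K₂ → Commute d e) : False := by
  obtain ⟨hT, hc, hgen⟩ := hG
  obtain ⟨-, -, hblk⟩ := hprim
  obtain ⟨e₁, he₁D, he₁K, hde₁⟩ := h₁.2.2.2
  obtain ⟨e₂, he₂D, he₂K, hde₂⟩ := h₂.2.2.2
  have he₁K₂ : e₁ ∉ K₂ := fun h => hde₁ (hdis e₁ he₁D he₁K h)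
  have he₂K₁ : e₂ ∉ K₁ := fun h => hde₂ (hdis e₂ he₂D h he₂K)
  have he₁Th : e₁ ∈ kclass d K₁ := h₁.mem_kclass hT hc hd (self_mem_kclass d K₁) he₁D he₁K hde₁
  have he₂Th : e₂ ∈ kclass d K₂ := h₂.mem_kclass hT hc hd (self_mem_kclass d K₂) he₂D he₂K hde₂
  -- members of the first class commuting with `d` lie in the second class
  have hSig : ∀ c ∈ kclass d K₁, Commute d c → c ∈ kclass d K₂ := by
    intro c hc1 hdc
    by_contra hc2
    have hcD := kclass_subset hc hd K₁ hc1
    have hcK₂ : c ∈ K₂ := h₂.2.2.1 c hcD hdc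
    have h1 : Commute e₂ c := by
      by_contra hn
      exact hc2 (h₂.mem_kclass hT hc hd he₂Th hcD hcK₂ hn)
    exact h₁.not_commute hc hc1 he₂D he₂K₁ h1.symm
  -- K1: such members commute only with members commuting with `d`
  have hK1 : ∀ c ∈ kclass d K₁, Commute d c → ∀ y ∈ D, Commute c y → Commute d y := by
    intro c hc1 hdc y hy hcy
    by_contra hdy
    have hyK₁ : y ∈ K₁ := h₁.commute_mem hc hc1 hy hcy
    have hyK₂ : y ∉ K₂ := fun h => hdy (hdis y hy hyK₁ h)
    exact h₂.not_commute hc (hSig c hc1 hdc) hy hyK₂ hcy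
  -- K2: equality of the commuting sets
  have hK2 : ∀ c ∈ kclass d K₁, Commute d c → ∀ y ∈ D, Commute c y ↔ Commute d y := by
    intro c hc1 hdc
    obtain ⟨k, hk, hck⟩ := hc1
    have hc1' : c ∈ kclass d K₁ := ⟨k, hk, hck⟩
    set S := {y : G | y ∈ D ∧ Commute d y} with hS
    have hSfin : S.Finite := Set.toFinite S
    have hmaps : Set.MapsTo (fun y => k * y * k⁻¹) S S := by
      rintro y ⟨hy, hdy⟩
      refine ⟨hc k y hy, ?_⟩
      apply hK1 c hc1' hdc _ (hc k y hy)
      rw [hck, commute_conj_iff]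
      have e : k⁻¹ * (k * y * k⁻¹) * k = y := by group
      rw [e]; exact hdy
    have hinj : Set.InjOn (fun y => k * y * k⁻¹) S := by
      intro y _ z _ hyz
      have h' : k * y * k⁻¹ = k * z * k⁻¹ := hyz
      have := congrArg (fun t => k⁻¹ * t * k) h'
      simpa [mul_assoc] using this
    have hbij := (hSfin.injOn_iff_bijOn_of_mapsTo hmaps).mp hinj
    intro y hy
    constructor
    · exact hK1 c hc1' hdc y hy
    · intro hdy
      obtain ⟨z, ⟨hz, hdz⟩, hzy⟩ := hbij.surjOn ⟨hy, hdy⟩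
      have hzy' : k * z * k⁻¹ = y := hzy
      rw [hck, commute_conj_iff, ← hzy']
      have e : k⁻¹ * (k * z * k⁻¹) * k = z := by group
      rw [e]; exact hdz
  -- K3: the class of `d` for "same commuting behaviour" is a block, hence trivial
  have hK3 : ∀ c ∈ kclass d K₁, Commute d c → c = d := by
    intro c hc1 hdc
    have hR := sameCommute_invEquiv (D := D) hc
    set B := {v : G | v ∈ D ∧ ∀ e ∈ D, Commute v e ↔ Commute d e} with hB
    have hBD : B ⊆ D := fun v hv => hv.1
    have hdB : d ∈ B := ⟨hd, fun e _ => Iff.rfl⟩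
    have hcB : c ∈ B := ⟨kclass_subset hc hd K₁ hc1, hK2 c hc1 hdc⟩
    rcases hblk B hBD (hR.class_block hc d) with hsub | hall
    · exact hsub hcB hdB
    · exfalso
      have : e₁ ∈ B := by rw [hall]; exact he₁D
      have h1 : Commute e₁ d := (this.2 d hd).mpr (Commute.refl d)
      exact hde₁ h1.symm
  -- K4: members of the first class commute only with themselves inside the class
  have hK4 : ∀ a ∈ kclass d K₁, ∀ c ∈ kclass d K₁, Commute a c → c = a := by
    rintro a ⟨k, hk, rfl⟩ c hc1 hac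
    have h1 : k⁻¹ * c * k⁻¹⁻¹ ∈ kclass d K₁ := kclass_conj hc1 (K₁.inv_mem hk)
    rw [inv_inv] at h1
    have h2 : Commute d (k⁻¹ * c * k) := (commute_conj_iff k d c).mp hac
    have h3 := hK3 _ h1 h2
    calc c = k * (k⁻¹ * c * k) * k⁻¹ := by group
      _ = k * d * k⁻¹ := by rw [h3]
  -- K5: all members of the first class have the same commuting partners
  have hK5 : ∀ a ∈ kclass d K₁, cpart D a = {y : G | y ∈ D ∧ y ∈ K₁ ∧ y ∉ kclass d K₁} := by
    intro a ha
    ext y
    constructor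
    · rintro ⟨hy, hya, hay⟩
      refine ⟨hy, h₁.commute_mem hc ha hy hay, ?_⟩
      intro hyTh
      exact hya (hK4 a ha y hyTh hay)
    · rintro ⟨hy, hyK, hyTh⟩
      refine ⟨hy, ?_, ?_⟩
      · intro h; rw [h] at hyTh; exact hyTh ha
      · by_contra hn
        exact hyTh (h₁.mem_kclass hT hc hd ha hy hyK hn)
  have hsim : ∀ a ∈ kclass d K₁, Sim D a d := by
    intro a ha
    show cpart D a = cpart D d
    rw [hK5 a ha, hK5 d (self_mem_kclass d K₁)]
  -- K6: the `Sim`-class of `d` is a block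
  have hR := sim_invEquiv (D := D) hc
  set B := {v : G | v ∈ D ∧ Sim D v d} with hB
  have hBD : B ⊆ D := fun v hv => hv.1
  have hdB : d ∈ B := ⟨hd, Sim.rfl' d⟩
  have he₁B : e₁ ∈ B := ⟨he₁D, hsim e₁ he₁Th⟩
  rcases hblk B hBD (hR.class_block hc d) with hsub | hall
  · have : e₁ = d := hsub he₁B hdB
    apply hde₁; rw [this]
  · obtain ⟨a, ha, b, hb, hab, hcom⟩ := hw
    have haB : a ∈ B := by rw [hall]; exact ha
    have hbB : b ∈ B := by rw [hall]; exact hb
    have h1 : cpart D a = cpart D b := haB.2.trans' hbB.2.symm'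
    have h2 : b ∈ cpart D a := ⟨hb, fun h => hab h.symm, hcom⟩
    rw [h1] at h2
    exact h2.2.1 rfl

/-- the family is empty -/
theorem maxFam_empty (hG : IsThreeTranspositionGroup D)
    (hprim : IsPrimitiveUnderConj D) (hw : ∃ a ∈ D, ∃ b ∈ D, a ≠ b ∧ Commute a b)
    {d : G} (hd : d ∈ D) (K₀ : Subgroup G) (h₀ : MaxFam D d K₀) : False := by
  classical
  have hG' := hG
  obtain ⟨hT, hc, hgen⟩ := hG'
  -- a member of minimal order
  have hex : ∃ n : ℕ, ∃ K : Subgroup G, MaxFam D d K ∧ Nat.card K = n := ⟨_, K₀, h₀, rfl⟩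
  obtain ⟨K, hK, hKn⟩ := Nat.find_spec hex
  have hmin : ∀ K' : Subgroup G, MaxFam D d K' → Nat.card K ≤ Nat.card K' := by
    intro K' hK'
    rw [hKn]
    exact Nat.find_min' hex ⟨K', hK', rfl⟩
  -- `K` is not normalized by the centralizer of `d`
  have hninv : ¬ ∀ c : G, Commute c d → ∀ k ∈ K, c * k * c⁻¹ ∈ K :=
    fun h => hK.false_of_invariant hG hprim hd h
  push Not at hninv
  obtain ⟨c, hcd, k, hk, hckK⟩ := hninv
  set K' := K.map (MulAut.conj c).toMonoidHom with hK'def
  have hmemK' : ∀ x : G, x ∈ K' ↔ c⁻¹ * x * c ∈ K := by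
    intro x
    rw [hK'def, Subgroup.mem_map]
    constructor
    · rintro ⟨y, hy, rfl⟩
      have : c⁻¹ * ((MulAut.conj c).toMonoidHom y) * c = y := by
        simp [MulAut.conj_apply, mul_assoc]
      rw [this]; exact hy
    · intro h
      refine ⟨c⁻¹ * x * c, h, ?_⟩
      simp [MulAut.conj_apply, mul_assoc]
  have hdc : c * d = d * c := hcd
  have hcomm_c : ∀ y : G, Commute d y → Commute d (c⁻¹ * y * c) := by
    intro y hy
    have hy' : d * y = y * d := hy
    show d * (c⁻¹ * y * c) = c⁻¹ * y * c * d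
    have e1 : d * c⁻¹ = c⁻¹ * d := by
      calc d * c⁻¹ = c⁻¹ * (c * d) * c⁻¹ := by group
        _ = c⁻¹ * (d * c) * c⁻¹ := by rw [hdc]
        _ = c⁻¹ * d := by group
    calc d * (c⁻¹ * y * c) = (d * c⁻¹) * y * c := by group
      _ = c⁻¹ * d * y * c := by rw [e1]
      _ = c⁻¹ * (d * y) * c := by group
      _ = c⁻¹ * (y * d) * c := by rw [hy']
      _ = c⁻¹ * y * (d * c) := by group
      _ = c⁻¹ * y * (c * d) := by rw [hdc]
      _ = c⁻¹ * y * c * d := by group
  have hcomm_c' : ∀ y : G, Commute d (c⁻¹ * y * c) → Commute d y := by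
    intro y hy
    have h1 : Commute (c * d * c⁻¹) y := (commute_conj_iff c d y).mpr hy
    have e : c * d * c⁻¹ = d := by rw [hdc]; group
    rwa [e] at h1
  have hK'fam : MaxFam D d K' := by
    refine ⟨?_, ?_, ?_, ?_⟩
    · apply le_antisymm
      · rw [Subgroup.closure_le]; intro x hx; exact hx.2
      · intro x hx
        rw [hmemK'] at hx
        rw [← hK.1] at hx
        -- conjugate the closure
        have key : ∀ z : G, z ∈ Subgroup.closure {x : G | x ∈ D ∧ x ∈ K} →
            c * z * c⁻¹ ∈ Subgroup.closure {x : G | x ∈ D ∧ x ∈ K'} := by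
          intro z hz
          induction hz using Subgroup.closure_induction with
          | mem w hw =>
            apply Subgroup.subset_closure
            refine ⟨hc c w hw.1, ?_⟩
            rw [hmemK']
            have : c⁻¹ * (c * w * c⁻¹) * c = w := by group
            rw [this]; exact hw.2
          | one => simp
          | mul a b _ _ ha hb =>
            have : c * (a * b) * c⁻¹ = (c * a * c⁻¹) * (c * b * c⁻¹) := by group
            rw [this]; exact mul_mem ha hb
          | inv a _ ha =>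
            have : c * a⁻¹ * c⁻¹ = (c * a * c⁻¹)⁻¹ := by group
            rw [this]; exact inv_mem ha
        have := key _ hx
        have e : c * (c⁻¹ * x * c) * c⁻¹ = x := by group
        rwa [e] at this
    · intro htop
      apply hK.2.1
      rw [eq_top_iff]
      intro x _
      have h1 : c * x * c⁻¹ ∈ K' := by rw [htop]; exact Subgroup.mem_top _
      rw [hmemK'] at h1
      have e : c⁻¹ * (c * x * c⁻¹) * c = x := by group
      rwa [e] at h1
    · intro y hy hdy
      rw [hmemK']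
      apply hK.2.2.1
      · have := hc c⁻¹ y hy; rwa [inv_inv] at this
      · exact hcomm_c y hdy
    · obtain ⟨e, heD, heK, hde⟩ := hK.2.2.2
      refine ⟨c * e * c⁻¹, hc c e heD, ?_, ?_⟩
      · rw [hmemK']
        have : c⁻¹ * (c * e * c⁻¹) * c = e := by group
        rw [this]; exact heK
      · intro h
        apply hde
        have := hcomm_c _ h
        have e' : c⁻¹ * (c * e * c⁻¹) * c = e := by group
        rwa [e'] at this
  have hcard' : Nat.card K' = Nat.card K := by
    rw [hK'def]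
    exact Nat.card_congr (K.equivMapOfInjective _ (MulAut.conj c).injective).symm.toEquiv
  have hne : K' ≠ K := by
    intro h
    apply hckK
    have h1 : c * k * c⁻¹ ∈ K' := by
      rw [hmemK']
      have : c⁻¹ * (c * k * c⁻¹) * c = k := by group
      rw [this]; exact hk
    rwa [h] at h1
  -- the two members share no member of `D` outside the centralizer of `d`
  apply hK.false_of_disjoint hG hprim hw hd hK'fam
  intro e heD heK heK'
  by_contra hde
  set K'' := Subgroup.closure ({y : G | y ∈ D ∧ Commute d y} ∪ {e}) with hK''def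
  have hle : K'' ≤ K := by
    rw [hK''def, Subgroup.closure_le]
    rintro x (⟨hx, hdx⟩ | hx)
    · exact hK.2.2.1 x hx hdx
    · rw [Set.mem_singleton_iff] at hx; rw [hx]; exact heK
  have hle' : K'' ≤ K' := by
    rw [hK''def, Subgroup.closure_le]
    rintro x (⟨hx, hdx⟩ | hx)
    · exact hK'fam.2.2.1 x hx hdx
    · rw [Set.mem_singleton_iff] at hx; rw [hx]; exact heK'
  have hK''fam : MaxFam D d K'' := by
    refine ⟨?_, ?_, ?_, ?_⟩
    · apply le_antisymm
      · rw [Subgroup.closure_le]; intro x hx; exact hx.2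
      · rw [hK''def, Subgroup.closure_le]
        rintro x (⟨hx, hdx⟩ | hx)
        · apply Subgroup.subset_closure
          exact ⟨hx, Subgroup.subset_closure (Or.inl ⟨hx, hdx⟩)⟩
        · rw [Set.mem_singleton_iff] at hx
          apply Subgroup.subset_closure
          rw [hx]
          exact ⟨heD, Subgroup.subset_closure (Or.inr rfl)⟩
    · intro htop
      apply hK.2.1
      rw [eq_top_iff, ← htop]; exact hle
    · intro y hy hdy
      exact Subgroup.subset_closure (Or.inl ⟨hy, hdy⟩)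
    · exact ⟨e, heD, Subgroup.subset_closure (Or.inr rfl), hde⟩
  have h1 : K'' = K := Subgroup.eq_of_le_of_card_ge hle (hmin K'' hK''fam)
  have h2 : K'' = K' := by
    apply Subgroup.eq_of_le_of_card_ge hle'
    rw [hcard']; exact hmin K'' hK''fam
  exact hne (h2.symm.trans h1)

/-- **maximality**: in a primitive 3-transposition group of width at least two the subgroup
generated by the members of `D` commuting with `d` is a maximal `D`-subgroup -/
theorem tt_centralizer_maximal (hG : IsThreeTranspositionGroup D)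
    (hprim : IsPrimitiveUnderConj D) (hw : ∃ a ∈ D, ∃ b ∈ D, a ≠ b ∧ Commute a b)
    {d : G} (hd : d ∈ D) :
    Subgroup.closure {y : G | y ∈ D ∧ Commute d y} ≠ ⊤ ∧
      ∀ H : Subgroup G, IsDSubgroup D H → Subgroup.closure {y : G | y ∈ D ∧ Commute d y} ≤ H →
        H = Subgroup.closure {y : G | y ∈ D ∧ Commute d y} ∨ H = ⊤ := by
  have hG' := hG
  obtain ⟨hT, hc, hgen⟩ := hG'
  have hprim' := hprim
  obtain ⟨htrans, hD2, -⟩ := hprim'
  have hMle : Subgroup.closure {y : G | y ∈ D ∧ Commute d y} ≤ Subgroup.centralizer {d} := by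
    rw [Subgroup.closure_le]
    intro y hy
    rw [SetLike.mem_coe, Subgroup.mem_centralizer_iff]
    intro x hx
    rw [Set.mem_singleton_iff] at hx
    rw [hx]; exact hy.2.eq
  refine ⟨?_, ?_⟩
  · intro htop
    -- `d` would be central
    have hdZ : ∀ g : G, g * d * g⁻¹ = d := by
      intro g
      have hg : g ∈ Subgroup.centralizer {d} := by
        have : g ∈ Subgroup.closure {y : G | y ∈ D ∧ Commute d y} := by
          rw [htop]; exact Subgroup.mem_top g
        exact hMle this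
      rw [Subgroup.mem_centralizer_iff] at hg
      have := hg d rfl
      rw [← this]; group
    obtain ⟨a, ha, b, hb, hab⟩ := hD2
    obtain ⟨g₁, hg₁⟩ := htrans d hd a ha
    obtain ⟨g₂, hg₂⟩ := htrans d hd b hb
    apply hab
    rw [← hg₁, ← hg₂, hdZ, hdZ]
  · intro H hH hMH
    by_contra hcon
    push Not at hcon
    obtain ⟨hne, hntop⟩ := hcon
    have hex : ∃ e ∈ D, e ∈ H ∧ ¬ Commute d e := by
      by_contra hno
      push Not at hno
      apply hne
      apply le_antisymm _ hMH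
      unfold IsDSubgroup at hH
      rw [← hH, Subgroup.closure_le]
      intro x hx
      exact Subgroup.subset_closure ⟨hx.1, hno x hx.1 hx.2⟩
    have hfam : MaxFam D d H := by
      refine ⟨hH, hntop, ?_, hex⟩
      intro y hy hdy
      exact hMH (Subgroup.subset_closure ⟨hy, hdy⟩)
    exact maxFam_empty hG hprim hw hd H hfam

end Finite

end Cfsg.Agent.Lib.Helper90
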