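import Mathlib
import Cfsg.Prelude.Def_FischerSpaces
import Cfsg.Prelude.Def_Local
import Cfsg.Agent.Lib.Helper90.TTPrim2
set_option autoImplicit false

/-!
S5361: for a centre-free group generated by a class of 3-transpositions of width at least two,
`G'` simple ↔ primitive ↔ (`O₂ = O₃ = 1` and connected commuting graph).
-/

namespace Cfsg.Agent.Lib.Helper90

open Cfsg
open scoped commutatorElement

universe u

variable {G : Type u} [Group G] {D : Set G}

/-- if `G = N ⟨d⟩` with `N` normal then `G' ≤ N` -/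
theorem commutator_le_of_sup_zpowers {N : Subgroup G} (hN : N.Normal) {d : G}
    (htop : N ⊔ Subgroup.zpowers d = ⊤) : commutator G ≤ N := by
  have hrep : ∀ p : G, ∃ i : ℤ, ((p : G) : G ⧸ N) = ((d : G) : G ⧸ N) ^ i := by
    intro p
    have hp : p ∈ N ⊔ Subgroup.zpowers d := by rw [htop]; exact Subgroup.mem_top p
    rw [Subgroup.mem_sup_of_normal_left] at hp
    obtain ⟨l, hl, y, hy, rfl⟩ := hp
    obtain ⟨i, rfl⟩ := Subgroup.mem_zpowers_iff.mp hy
    refine ⟨i, ?_⟩
    rw [← QuotientGroup.mk_zpow, QuotientGroup.eq]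
    have : (l * d ^ i)⁻¹ * d ^ i = (d ^ i)⁻¹ * l⁻¹ * (d ^ i)⁻¹⁻¹ := by group
    rw [this]
    exact hN.conj_mem _ (inv_mem hl) _
  rw [commutator_eq_closure, Subgroup.closure_le]
  rintro x ⟨p, q, rfl⟩
  rw [SetLike.mem_coe, ← QuotientGroup.eq_one_iff]
  obtain ⟨i, hi⟩ := hrep p
  obtain ⟨j, hj⟩ := hrep q
  have hc : Commute ((p : G) : G ⧸ N) ((q : G) : G ⧸ N) := by
    rw [hi, hj]; exact (Commute.refl _).zpow_zpow i j
  have : ((⁅p, q⁆ : G) : G ⧸ N) = ⁅((p : G) : G ⧸ N), ((q : G) : G ⧸ N)⁆ := by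
    rw [commutatorElement_def, commutatorElement_def]; rfl
  rw [this, commutatorElement_eq_one_iff_commute]
  exact hc

/-- an element of `O₂(G)` whose cube is trivial is trivial -/
theorem eq_one_of_cube_of_mem_pCore2 {x : G} (hx3 : x ^ 3 = 1) (hx : x ∈ pCore 2 G) : x = 1 := by
  obtain ⟨k, hk⟩ := (pCore_isPGroup 2 G) ⟨x, hx⟩
  have hk' : x ^ 2 ^ k = 1 := by
    have := congrArg Subtype.val hk
    simpa using this
  have hord : orderOf x ∣ Nat.gcd (2 ^ k) 3 :=
    Nat.dvd_gcd (orderOf_dvd_of_pow_eq_one hk') (orderOf_dvd_of_pow_eq_one hx3)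
  have hg : Nat.gcd (2 ^ k) 3 = 1 := by
    apply Nat.Coprime.pow_left; norm_num
  rw [hg, Nat.dvd_one, orderOf_eq_one_iff] at hord
  exact hord

section Finite

variable [Finite G]

/-- from index at most two to `G = L ⟨a⟩` -/
theorem sup_zpowers_eq_top_of_index_le_two (hD : IsThreeTranspositionClass D)
    {L : Subgroup G} (hLn : L.Normal) (hidx : L.index ≤ 2) {a : G} (ha : a ∈ D) :
    L ⊔ Subgroup.zpowers a = ⊤ := by
  obtain ⟨hT, ⟨d₀, hd₀, hDd⟩, hgen⟩ := hD
  by_cases haL : a ∈ L
  · have : L = ⊤ := by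
      rw [eq_top_iff, ← hgen, Subgroup.closure_le]
      intro x hx
      have h1 : IsConj d₀ a := by rw [hDd] at ha; exact ha
      have h2' : IsConj d₀ x := by rw [hDd] at hx; exact hx
      obtain ⟨g, hg⟩ := isConj_iff.mp (h1.symm.trans h2')
      rw [SetLike.mem_coe, ← hg]
      exact hLn.conj_mem a haL g
    rw [this, top_sup_eq]
  · set K := L ⊔ Subgroup.zpowers a with hK
    have hLK : L ≤ K := le_sup_left
    have hrel := Subgroup.relIndex_mul_index hLK
    have hKL : ¬ K ≤ L := fun h => haL (h (le_sup_right (a := L) (Subgroup.mem_zpowers a)))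
    have hr1 : L.relIndex K ≠ 1 := fun h => hKL (Subgroup.relIndex_eq_one.mp h)
    have hr0 : L.relIndex K ≠ 0 := by
      unfold Subgroup.relIndex; exact Subgroup.index_ne_zero_of_finite
    have hk0 : K.index ≠ 0 := Subgroup.index_ne_zero_of_finite
    have hk1 : K.index = 1 := by
      by_contra hne
      have h2r : 2 ≤ L.relIndex K := by omega
      have h2k : 2 ≤ K.index := by omega
      have : 4 ≤ L.relIndex K * K.index := by nlinarith
      omega
    exact Subgroup.index_eq_one.mp hk1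

/-- (3) ⇒ (2) -/
theorem prim_of_cores_connected
    (hZs : ∀ H : Subgroup G, Cfsg.Agent.Lib.Helper58.ZStarProd.ZStarHyp ↥H)
    (hD : IsThreeTranspositionClass D) (hD2 : ∃ a ∈ D, ∃ b ∈ D, a ≠ b)
    (h2 : pCore 2 G ≤ Subgroup.center G) (h3 : pCore 3 G ≤ Subgroup.center G)
    (hconn : (commutingGraph D).Connected) : IsPrimitiveUnderConj D := by
  obtain ⟨L, hLn, hLq, hF, -⟩ := tt_component_structure hZs hD hD2 h2 h3
  have hidx := tt_index_le_two_of_connected hZs hD hD2 h2 h3 L hLq hconn
  exact tt_primitive_of_index_le_two hD hD2 h2 h3 L hLq hF hidx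

/-- (2) ⇒ (1) -/
theorem simple_commutator_of_prim
    (hZs : ∀ H : Subgroup G, Cfsg.Agent.Lib.Helper58.ZStarProd.ZStarHyp ↥H)
    (hD : IsThreeTranspositionClass D) (hZ : Subgroup.center G = ⊥)
    (hw : ∃ a ∈ D, ∃ b ∈ D, a ≠ b ∧ Commute a b)
    (hprim : IsPrimitiveUnderConj D) : IsSimpleGroup (commutator G) := by
  have hD2 : ∃ a ∈ D, ∃ b ∈ D, a ≠ b := by
    obtain ⟨a, ha, b, hb, hab, -⟩ := hw; exact ⟨a, ha, b, hb, hab⟩
  have h2 := prim_pCore_two_le_center hD hprim
  have h3 := prim_pCore_three_le_center hZs hD hprim hw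
  have hconn := prim_connected (class_to_group hD) hprim hw
  obtain ⟨L, hLn, hLq, hF, -⟩ := tt_component_structure hZs hD hD2 h2 h3
  have hidx := tt_index_le_two_of_connected hZs hD hD2 h2 h3 L hLq hconn
  have hCL := tt_centralizer_component_le_center hD h2 h3 L hF
  obtain ⟨a, ha, -⟩ := hD2
  have htop := sup_zpowers_eq_top_of_index_le_two hD hLn hidx ha
  have hGL : commutator G = L := by
    apply le_antisymm
    · exact commutator_le_of_sup_zpowers hLn htop
    · have h1 : ⁅L, L⁆ = L := Cfsg.Agent.Lib.Helper21.qs_commutator_eq_self hLq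
      rw [commutator_def, ← h1]
      exact Subgroup.commutator_mono le_top le_top
  rw [hGL]
  -- `L` has trivial centre
  have hcen : Subgroup.center ↥L = ⊥ := by
    rw [eq_bot_iff]
    intro z hz
    rw [Subgroup.mem_bot]
    have hzc : (z : G) ∈ Subgroup.centralizer (L : Set G) := by
      rw [Subgroup.mem_centralizer_iff]
      intro l hl
      have := Subgroup.mem_center_iff.mp hz ⟨l, hl⟩
      exact congrArg Subtype.val this
    have hzZ := hCL hzc
    rw [hZ, Subgroup.mem_bot] at hzZ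
    exact Subtype.ext hzZ
  have hsimp : IsSimpleGroup (↥L ⧸ Subgroup.center ↥L) := hLq.2
  have hnt : Nontrivial ↥L := Cfsg.Agent.Lib.Helper21.qs_nontrivial hLq
  let e : (↥L ⧸ Subgroup.center ↥L) ≃* ↥L :=
    (QuotientGroup.quotientMulEquivOfEq hcen).trans QuotientGroup.quotientBot
  exact IsSimpleGroup.isSimpleGroup_of_surjective e.toMonoidHom e.surjective

/-- (1) ⇒ (2) -/
theorem prim_of_simple_commutator
    (hZs : ∀ H : Subgroup G, Cfsg.Agent.Lib.Helper58.ZStarProd.ZStarHyp ↥H)
    (hD : IsThreeTranspositionClass D) (hZ : Subgroup.center G = ⊥)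
    (hw : ∃ a ∈ D, ∃ b ∈ D, a ≠ b ∧ Commute a b)
    (hS : IsSimpleGroup (commutator G)) : IsPrimitiveUnderConj D := by
  have hD2 : ∃ a ∈ D, ∃ b ∈ D, a ≠ b := by
    obtain ⟨a, ha, b, hb, hab, -⟩ := hw; exact ⟨a, ha, b, hb, hab⟩
  have hG := class_to_group hD
  obtain ⟨hT, hc, hgen⟩ := hG
  have hD' := hD
  obtain ⟨-, ⟨d₀, hd₀, hDd⟩, -⟩ := hD'
  set S := commutator G with hSdef
  -- conjugate members differ by an element of `G'`
  have hdiff : ∀ a ∈ D, ∀ b ∈ D, a⁻¹ * b ∈ S := by
    intro a ha b hb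
    have h1 : IsConj d₀ a := by rw [hDd] at ha; exact ha
    have h2' : IsConj d₀ b := by rw [hDd] at hb; exact hb
    obtain ⟨g, hg⟩ := isConj_iff.mp (h1.symm.trans h2')
    have : a⁻¹ * b = ⁅a⁻¹, g⁆ := by
      rw [commutatorElement_def, ← hg, inv_inv]; group
    rw [this, hSdef, commutator_def]
    exact Subgroup.commutator_mem_commutator (Subgroup.mem_top _) (Subgroup.mem_top _)
  -- dichotomy for normal subgroups
  have hdich : ∀ N : Subgroup G, N.Normal → N ⊓ S = ⊥ ∨ S ≤ N := by
    intro N hN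
    have hn : ((N ⊓ S).subgroupOf S).Normal := by
      have : (N ⊓ S).Normal := Subgroup.normal_inf_normal N S
      exact this.subgroupOf S
    rcases hn.eq_bot_or_eq_top with h | h
    · left
      rw [Subgroup.subgroupOf_eq_bot] at h
      have : N ⊓ S ≤ ⊥ := by
        have := h (le_refl (N ⊓ S)) inf_le_right
        exact this
      exact le_bot_iff.mp this
    · right
      rw [Subgroup.subgroupOf_eq_top] at h
      exact h.trans inf_le_left
  -- a normal subgroup meeting `G'` trivially is central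
  have hcentral : ∀ N : Subgroup G, N.Normal → N ⊓ S = ⊥ → N ≤ Subgroup.center G := by
    intro N hN hNS q hq
    rw [Subgroup.mem_center_iff]
    intro g
    have h1 : ⁅q, g⁆ ∈ N := by
      rw [commutatorElement_def]
      have : q * g * q⁻¹ * g⁻¹ = q * (g * q⁻¹ * g⁻¹) := by group
      rw [this]
      exact mul_mem hq (hN.conj_mem _ (inv_mem hq) g)
    have h2 : ⁅q, g⁆ ∈ S := by
      rw [hSdef, commutator_def]
      exact Subgroup.commutator_mem_commutator (Subgroup.mem_top _) (Subgroup.mem_top _)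
    have h3 : ⁅q, g⁆ ∈ N ⊓ S := ⟨h1, h2⟩
    rw [hNS, Subgroup.mem_bot, commutatorElement_eq_one_iff_commute] at h3
    exact h3.eq.symm
  -- a non-commuting pair exists
  have hnc : ∃ a ∈ D, ∃ b ∈ D, ¬ Commute a b := by
    by_contra hcon
    push Not at hcon
    obtain ⟨a, ha, b, hb, hab⟩ := hD2
    have hle : Subgroup.closure D ≤ Subgroup.center G := by
      rw [Subgroup.closure_le]
      intro x hx
      rw [SetLike.mem_coe]
      have : Subgroup.zpowers x ≤ Subgroup.center G := by
        apply le_center_of_commute_gens hgen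
        intro y hy e he
        obtain ⟨i, rfl⟩ := Subgroup.mem_zpowers_iff.mp hy
        exact (hcon e he x hx).zpow_right i
      exact this (Subgroup.mem_zpowers x)
    rw [hgen, hZ] at hle
    have h1 : a = 1 := by
      have := hle (Subgroup.mem_top a); rwa [Subgroup.mem_bot] at this
    have h2 : b = 1 := by
      have := hle (Subgroup.mem_top b); rwa [Subgroup.mem_bot] at this
    exact hab (h1.trans h2.symm)
  -- `O₂(G)` is central
  have h2 : pCore 2 G ≤ Subgroup.center G := by
    rcases hdich _ (pCore_normal 2 G) with h | h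
    · exact hcentral _ (pCore_normal 2 G) h
    · exfalso
      obtain ⟨a, ha, b, hb, hncab⟩ := hnc
      have hx := h (hdiff a ha b hb)
      rw [tt_inv hT ha] at hx
      have h3 := tt_cube hT ha hb hncab
      have h1 := eq_one_of_cube_of_mem_pCore2 h3 hx
      apply hncab
      have : a = b := by
        have := eq_inv_of_mul_eq_one_left h1
        rwa [tt_inv hT hb] at this
      rw [this]
  -- `O₃(G)` is central
  have h3 : pCore 3 G ≤ Subgroup.center G := by
    rcases hdich _ (pCore_normal 3 G) with h | h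
    · exact hcentral _ (pCore_normal 3 G) h
    · exfalso
      obtain ⟨a, ha, b, hb, hab, hcom⟩ := hw
      have hx := h (hdiff a ha b hb)
      rw [tt_inv hT ha] at hx
      have hsq : (a * b) ^ 2 = 1 := by
        rw [pow_two]
        calc a * b * (a * b) = a * (b * a) * b := by simp only [mul_assoc]
          _ = a * (a * b) * b := by rw [hcom.eq]
          _ = (a * a) * (b * b) := by simp only [mul_assoc]
          _ = 1 := by rw [tt_sq hT ha, tt_sq hT hb, one_mul]
      have h1 := eq_one_of_sq_of_mem_pCore3 hsq hx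
      apply hab
      have := eq_inv_of_mul_eq_one_left h1
      rwa [tt_inv hT hb] at this
  obtain ⟨L, hLn, hLq, hF, -⟩ := tt_component_structure hZs hD hD2 h2 h3
  -- `G' ≤ L`
  have hSL : S ≤ L := by
    rcases hdich L hLn with h | h
    · exfalso
      have h1 : ⁅L, L⁆ = L := Cfsg.Agent.Lib.Helper21.qs_commutator_eq_self hLq
      have hLS : L ≤ S := by
        rw [hSdef, commutator_def, ← h1]
        exact Subgroup.commutator_mono le_top le_top
      have : L = ⊥ := by
        rw [← h]; exact (inf_of_le_left hLS).symm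
      have hnt : Nontrivial ↥L := Cfsg.Agent.Lib.Helper21.qs_nontrivial hLq
      rw [this] at hnt
      exact not_nontrivial _ hnt
    · exact h
  obtain ⟨a, ha, -⟩ := hD2
  have htop : L ⊔ Subgroup.zpowers a = ⊤ := by
    rw [eq_top_iff, ← hgen, Subgroup.closure_le]
    intro v hv
    have : v = a * (a⁻¹ * v) := by group
    rw [SetLike.mem_coe, this, sup_comm]
    exact Subgroup.mul_mem_sup (Subgroup.mem_zpowers a) (hSL (hdiff a ha v hv))
  have hidx := index_le_two_of_sup_zpowers hLn (hT.1 a ha) htop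
  have hD2' : ∃ a ∈ D, ∃ b ∈ D, a ≠ b := by
    obtain ⟨a, ha, b, hb, hab, -⟩ := hw; exact ⟨a, ha, b, hb, hab⟩
  exact tt_primitive_of_index_le_two hD hD2' h2 h3 L hLq hF hidx

/-- **S5361 shape** -/
theorem tt_simple_iff_primitive
    (hZs : ∀ H : Subgroup G, Cfsg.Agent.Lib.Helper58.ZStarProd.ZStarHyp ↥H)
    (hD : IsThreeTranspositionClass D) (hZ : Subgroup.center G = ⊥)
    (hw : ∃ a ∈ D, ∃ b ∈ D, a ≠ b ∧ Commute a b) :
    (IsSimpleGroup (commutator G) ↔ IsPrimitiveUnderConj D) ∧
    (IsPrimitiveUnderConj D ↔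
      (pCore 2 G = ⊥ ∧ pCore 3 G = ⊥ ∧ (commutingGraph D).Connected)) := by
  have hD2 : ∃ a ∈ D, ∃ b ∈ D, a ≠ b := by
    obtain ⟨a, ha, b, hb, hab, -⟩ := hw; exact ⟨a, ha, b, hb, hab⟩
  refine ⟨⟨prim_of_simple_commutator hZs hD hZ hw, simple_commutator_of_prim hZs hD hZ hw⟩, ?_, ?_⟩
  · intro hprim
    have h2 := prim_pCore_two_le_center hD hprim
    have h3 := prim_pCore_three_le_center hZs hD hprim hw
    rw [hZ, le_bot_iff] at h2 h3
    exact ⟨h2, h3, prim_connected (class_to_group hD) hprim hw⟩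
  · rintro ⟨h2, h3, hconn⟩
    apply prim_of_cores_connected hZs hD hD2 _ _ hconn
    · rw [h2]; exact bot_le
    · rw [h3]; exact bot_le

end Finite

end Cfsg.Agent.Lib.Helper90
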