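import Mathlib
import Cfsg.Prelude.Def_MonsterType
import Cfsg.Agent.Lib.Helper90.Basic

set_option autoImplicit false

namespace Cfsg.Agent.Lib.Helper90

open Cfsg

/-- If `a` normalizes `K`, `k ∈ K`, then `a k a⁻¹ k⁻¹ ∈ K`. -/
theorem comm_mem_of_mem_normalizer {G : Type*} [Group G] (K : Subgroup G) {a k : G}
    (ha : a ∈ Subgroup.normalizer (K : Set G)) (hk : k ∈ K) : a * k * a⁻¹ * k⁻¹ ∈ K :=
  K.mul_mem ((ha k).mp hk) (K.inv_mem hk)

/-- If `k` normalizes `Q`, `a ∈ Q`, then `a k a⁻¹ k⁻¹ ∈ Q`. -/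
theorem comm_mem_of_mem_normalizer' {G : Type*} [Group G] (Q : Subgroup G) {a k : G}
    (hk : k ∈ Subgroup.normalizer (Q : Set G)) (ha : a ∈ Q) : a * k * a⁻¹ * k⁻¹ ∈ Q := by
  have h1 : k * a⁻¹ * k⁻¹ ∈ Q := (hk a⁻¹).mp (Q.inv_mem ha)
  have h2 : a * (k * a⁻¹ * k⁻¹) ∈ Q := Q.mul_mem ha h1
  have : a * k * a⁻¹ * k⁻¹ = a * (k * a⁻¹ * k⁻¹) := by group
  rw [this]; exact h2

/-- Two subgroups that normalize each other and meet trivially commute elementwise. -/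
theorem commute_of_normalize_of_inf_eq_bot {G : Type*} [Group G] (Q K : Subgroup G)
    (hQK : Q ≤ Subgroup.normalizer (K : Set G)) (hKQ : K ≤ Subgroup.normalizer (Q : Set G))
    (h : K ⊓ Q = ⊥) {a k : G} (ha : a ∈ Q) (hk : k ∈ K) : a * k = k * a := by
  have h1 : a * k * a⁻¹ * k⁻¹ ∈ K := comm_mem_of_mem_normalizer K (hQK ha) hk
  have h2 : a * k * a⁻¹ * k⁻¹ ∈ Q := comm_mem_of_mem_normalizer' Q (hKQ hk) ha
  have h3 : a * k * a⁻¹ * k⁻¹ ∈ K ⊓ Q := ⟨h1, h2⟩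
  rw [h, Subgroup.mem_bot] at h3
  have : a * k = (a * k * a⁻¹ * k⁻¹) * (k * a) := by group
  rw [this, h3, one_mul]

/-- Core step: an odd-order subgroup normalized by `Q` and centralizing `Z(Q)` is trivial. -/
theorem eq_bot_of_le_centralizer_center {G : Type*} [Group G] [Finite G] (Q : Subgroup G)
    (hQ2 : IsPGroup 2 Q)
    (hL2 : Subgroup.centralizer (Q : Set G) = ((Subgroup.center ↥Q).map Q.subtype))
    (hL3 : Subgroup.centralizer (((Subgroup.center ↥Q).map Q.subtype) : Set G)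
      ≤ Subgroup.normalizer (Q : Set G))
    (K : Subgroup G) (hK : Odd (Nat.card K)) (hQK : Q ≤ Subgroup.normalizer (K : Set G))
    (hKZ : K ≤ Subgroup.centralizer (((Subgroup.center ↥Q).map Q.subtype) : Set G)) : K = ⊥ := by
  have hKQ : K ⊓ Q = ⊥ := inf_eq_bot_of_odd_of_isPGroup K Q hK hQ2
  have hKN : K ≤ Subgroup.normalizer (Q : Set G) := hKZ.trans hL3
  have hKC : K ≤ Subgroup.centralizer (Q : Set G) := by
    intro k hk
    rw [Subgroup.mem_centralizer_iff]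
    intro q hq
    exact commute_of_normalize_of_inf_eq_bot Q K hQK hKN hKQ hq hk
  have hKleQ : K ≤ Q := by
    rw [hL2] at hKC
    exact hKC.trans (Subgroup.map_subtype_le _)
  rw [← hKQ]
  exact le_antisymm (le_inf le_rfl hKleQ) inf_le_left

end Cfsg.Agent.Lib.Helper90
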