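import Mathlib
import Cfsg.Prelude.Def_MonsterType
import Cfsg.Agent.Lib.Helper90.LargeExtra
import Cfsg.Agent.Lib.Helper90.Extraspecial
import Cfsg.Agent.Lib.Helper90.Invert

set_option autoImplicit false

namespace Cfsg.Agent.Lib.Helper90

open Cfsg

/-- With `C_G(Q) = Z(Q) = {1,z}` and `C_G(Z(Q)) ≤ N_G(Q)`: an odd-order subgroup `K` normalized by
`Q` has no non-trivial element commuting with `z`. -/
theorem eq_one_of_commute_gen {G : Type*} [Group G] [Finite G] (Q : Subgroup G)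
    (hQ2 : IsPGroup 2 Q)
    (hL2 : Subgroup.centralizer (Q : Set G) = ((Subgroup.center ↥Q).map Q.subtype))
    (hL3 : Subgroup.centralizer (((Subgroup.center ↥Q).map Q.subtype) : Set G)
      ≤ Subgroup.normalizer (Q : Set G))
    (z : G) (hzZ : z ∈ (Subgroup.center ↥Q).map Q.subtype)
    (hall : ∀ x ∈ (Subgroup.center ↥Q).map Q.subtype, x = 1 ∨ x = z)
    (K : Subgroup G) (hK : Odd (Nat.card K)) (hQK : Q ≤ Subgroup.normalizer (K : Set G))
    {k : G} (hk : k ∈ K) (hkz : z * k = k * z) : k = 1 := by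
  have hzc : ∀ q ∈ Q, q * z = z * q := ((mem_center_map_iff Q z).mp hzZ).2
  -- K₀ = C_K(z)
  let K₀ : Subgroup G := K ⊓ Subgroup.centralizer ({z} : Set G)
  have hK₀odd : Odd (Nat.card K₀) := by
    have hdvd : Nat.card K₀ ∣ Nat.card K := Subgroup.card_dvd_of_le inf_le_left
    exact Odd.of_dvd_nat hK hdvd
  have hQK₀ : Q ≤ Subgroup.normalizer (K₀ : Set G) := by
    rw [Subgroup.le_normalizer_iff]
    intro q hq x hx
    refine ⟨(hQK hq x).mp hx.1, ?_⟩
    have hxz : z * x = x * z := (Subgroup.mem_centralizer_singleton_iff.mp hx.2).symm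
    show q * x * q⁻¹ ∈ Subgroup.centralizer ({z} : Set G)
    rw [Subgroup.mem_centralizer_singleton_iff]
    symm
    generalize hy : z = y at *
    have hq' := hzc q hq
    have hq'' : q⁻¹ * y = y * q⁻¹ := by
      calc q⁻¹ * y = q⁻¹ * (y * q) * q⁻¹ := by group
        _ = q⁻¹ * (q * y) * q⁻¹ := by rw [hq']
        _ = y * q⁻¹ := by group
    calc y * (q * x * q⁻¹) = (y * q) * x * q⁻¹ := by group
      _ = (q * y) * x * q⁻¹ := by rw [hq']
      _ = q * (y * x) * q⁻¹ := by group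
      _ = q * (x * y) * q⁻¹ := by rw [hxz]
      _ = q * x * (y * q⁻¹) := by group
      _ = q * x * (q⁻¹ * y) := by rw [hq'']
      _ = q * x * q⁻¹ * y := by group
  have hK₀Z : K₀ ≤ Subgroup.centralizer (((Subgroup.center ↥Q).map Q.subtype) : Set G) := by
    intro x hx
    rw [Subgroup.mem_centralizer_iff]
    intro y hy
    rcases hall y hy with h | h
    · rw [h]; group
    · rw [h]
      exact (Subgroup.mem_centralizer_singleton_iff.mp hx.2).symm
  have hbot := eq_bot_of_le_centralizer_center Q hQ2 hL2 hL3 K₀ hK₀odd hQK₀ hK₀Z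
  have hkK₀ : k ∈ K₀ := by
    refine ⟨hk, ?_⟩
    show k ∈ Subgroup.centralizer ({z} : Set G)
    rw [Subgroup.mem_centralizer_singleton_iff]
    exact hkz.symm
  rw [hbot, Subgroup.mem_bot] at hkK₀
  exact hkK₀

/-- Statement S5421: a non-central involution `b` of `Q` with `Z(Q) ≤ O₂(C_G(b))` makes `Q` large. -/
theorem isLargeExtraspecial_of_involution {G : Type*} [Group G] [Finite G] (Q : Subgroup G)
    (hL1 : Cfsg.IsExtraspecial 2 ↥Q)
    (hL2 : Subgroup.centralizer (Q : Set G) = ((Subgroup.center ↥Q).map Q.subtype))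
    (hL3 : Subgroup.centralizer (((Subgroup.center ↥Q).map Q.subtype) : Set G)
      ≤ Subgroup.normalizer (Q : Set G))
    (b : G) (hbQ : b ∈ Q) (hbZ : b ∉ ((Subgroup.center ↥Q).map Q.subtype)) (hb : orderOf b = 2)
    (hZ : ((Subgroup.center ↥Q).map Q.subtype) ≤
      (Cfsg.pCore 2 ↥(Subgroup.centralizer ({b} : Set G))).map
        (Subgroup.centralizer ({b} : Set G)).subtype) :
    Cfsg.IsLargeExtraspecial Q := by
  refine ⟨hL1, hL2, hL3, ?_⟩
  intro K hK hQK
  have hQ2 : IsPGroup 2 Q := hL1.1.1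
  obtain ⟨z, hzZ, hz1, hzz, hall⟩ := exists_center_gen Q hL1
  have hzQ : z ∈ Q := Subgroup.map_subtype_le _ hzZ
  have hzc : ∀ q ∈ Q, q * z = z * q := ((mem_center_map_iff Q z).mp hzZ).2
  have hbb : b * b = 1 := by
    have := pow_orderOf_eq_one b
    rw [hb, pow_two] at this; exact this
  have hzinv : z⁻¹ = z := inv_eq_of_mul_eq_one_left hzz
  have hbinv : b⁻¹ = b := inv_eq_of_mul_eq_one_left hbb
  -- step 2: z acts fixed-point-freely
  have hfz : ∀ k ∈ K, z * k = k * z → k = 1 := fun k hk hkz =>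
    eq_one_of_commute_gen Q hQ2 hL2 hL3 z hzZ hall K hK hQK hk hkz
  -- step 4: z inverts K
  have hzinvK : ∀ k ∈ K, z * k * z⁻¹ = k⁻¹ :=
    inverts_of_fixedPointFree K z hzz (hQK hzQ) hfz
  -- step 5: b acts fixed-point-freely
  set C := Subgroup.centralizer ({b} : Set G) with hC
  set O := (Cfsg.pCore 2 ↥C).map C.subtype with hO
  have hO2 : IsPGroup 2 O := (pCore_isPGroup 2 C).map _
  have hOn : ∀ c ∈ C, ∀ x ∈ O, c * x * c⁻¹ ∈ O := by
    rintro c hc x ⟨y, hy, rfl⟩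
    have hn : (pCore 2 ↥C).Normal := pCore_normal 2 C
    refine ⟨⟨c, hc⟩ * y * ⟨c, hc⟩⁻¹, hn.conj_mem y hy _, ?_⟩
    simp
  have hfb : ∀ k ∈ K, b * k = k * b → k = 1 := by
    intro k hk hkb
    apply hfz k hk
    have hkC : k ∈ C := by
      rw [hC, Subgroup.mem_centralizer_singleton_iff]
      exact hkb.symm
    have hzO : z ∈ O := hZ hzZ
    have h1 : z * k * z⁻¹ * k⁻¹ ∈ K := comm_mem_of_mem_normalizer K (hQK hzQ) hk
    have h2 : z * k * z⁻¹ * k⁻¹ ∈ O := by
      have h3 : k * z⁻¹ * k⁻¹ ∈ O := hOn k hkC _ (O.inv_mem hzO)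
      have h4 : z * (k * z⁻¹ * k⁻¹) ∈ O := O.mul_mem hzO h3
      have e : z * k * z⁻¹ * k⁻¹ = z * (k * z⁻¹ * k⁻¹) := by group
      rw [e]; exact h4
    have h5 : z * k * z⁻¹ * k⁻¹ ∈ K ⊓ O := ⟨h1, h2⟩
    rw [inf_eq_bot_of_odd_of_isPGroup K O hK hO2, Subgroup.mem_bot] at h5
    have e : z * k = (z * k * z⁻¹ * k⁻¹) * (k * z) := by group
    rw [e, h5, one_mul]
  -- step 6: b inverts K
  have hbinvK : ∀ k ∈ K, b * k * b⁻¹ = k⁻¹ :=
    inverts_of_fixedPointFree K b hbb (hQK hbQ) hfb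
  -- step 7: z * b centralizes K
  have hzb : ∀ k ∈ K, (z * b) * k = k * (z * b) := by
    intro k hk
    have h1 := hbinvK k hk
    have h2 := hzinvK k⁻¹ (K.inv_mem hk)
    rw [inv_inv] at h2
    calc (z * b) * k = z * (b * k * b⁻¹) * z⁻¹ * (z * b) := by group
      _ = k * (z * b) := by rw [h1, h2]
  -- step 8: z * b is Q-conjugate to b
  obtain ⟨q, hq, hqb⟩ := exists_conj_eq_gen_mul Q hL1 z hall hbQ hbZ
  -- step 9
  rw [Subgroup.eq_bot_iff_forall]
  intro k hk
  have hk' : q⁻¹ * k * q ∈ K := by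
    have := (hQK (Q.inv_mem hq) k).mp hk
    rwa [inv_inv] at this
  have h1 : q⁻¹ * k * q = 1 := by
    apply hfb _ hk'
    have h2 := hzb k hk
    rw [← hqb] at h2
    calc b * (q⁻¹ * k * q) = q⁻¹ * ((q * b * q⁻¹) * k) * q := by group
      _ = q⁻¹ * (k * (q * b * q⁻¹)) * q := by rw [h2]
      _ = q⁻¹ * k * q * b := by group
  calc k = q * (q⁻¹ * k * q) * q⁻¹ := by group
    _ = 1 := by rw [h1]; group

end Cfsg.Agent.Lib.Helper90
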