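import Mathlib

set_option autoImplicit false

namespace Cfsg.Agent.Lib.Helper90

section A3
variable {G : Type*} [Group G]

/-- Coxeter relations of type `A₃` on three involutions `x, y, x'` (`x` and `x'` commute). -/
structure A3Rel (x x' y : G) : Prop where
  hx : x * x = 1
  hx' : x' * x' = 1
  hy : y * y = 1
  hc : x * x' = x' * x
  hb : x * y * x = y * x * y
  hb' : x' * y * x' = y * x' * y

namespace A3Rel

variable {x x' y : G} (h : A3Rel x x' y)
include h

theorem hx_t (z : G) : x * (x * z) = z := by rw [← mul_assoc, h.hx, one_mul]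
theorem hx'_t (z : G) : x' * (x' * z) = z := by rw [← mul_assoc, h.hx', one_mul]
theorem hy_t (z : G) : y * (y * z) = z := by rw [← mul_assoc, h.hy, one_mul]
theorem hc_t (z : G) : x * (x' * z) = x' * (x * z) := by rw [← mul_assoc, h.hc, mul_assoc]
theorem hb_t (z : G) : x * (y * (x * z)) = y * (x * (y * z)) := by
  have := congrArg (· * z) h.hb
  simpa only [mul_assoc] using this
theorem hb'_t (z : G) : x' * (y * (x' * z)) = y * (x' * (y * z)) := by
  have := congrArg (· * z) h.hb'
  simpa only [mul_assoc] using this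

theorem symm : A3Rel x' x y :=
  ⟨h.hx', h.hx, h.hy, h.hc.symm, h.hb', h.hb⟩

/-- `t * u = x' * y * x` where `t = x x'`, `u = y x y`. -/
theorem t_mul_u : (x * x') * (y * x * y) = x' * y * x := by
  calc (x * x') * (y * x * y) = (x * x') * (x * y * x) := by rw [h.hb]
    _ = (x' * x) * (x * y * x) := by rw [h.hc]
    _ = x' * y * x := by simp only [mul_assoc, h.hx_t]

/-- `u' * t = x' * y * x`. -/
theorem u'_mul_t : (y * x' * y) * (x * x') = x' * y * x := by
  calc (y * x' * y) * (x * x') = (x' * y * x') * (x * x') := by rw [h.hb']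
    _ = (x' * y * x') * (x' * x) := by rw [h.hc]
    _ = x' * y * x := by simp only [mul_assoc, h.hx'_t]

theorem t_mul_u_eq : (x * x') * (y * x * y) = (y * x' * y) * (x * x') := by
  rw [h.t_mul_u, h.u'_mul_t]

theorem t_mul_u'_eq : (x * x') * (y * x' * y) = (y * x * y) * (x * x') := by
  have := h.symm.t_mul_u_eq
  rw [← h.hc] at this
  exact this

theorem s_eq : y * (x * x') * y = (y * x * y) * (y * x' * y) := by
  simp only [mul_assoc, h.hy_t]

theorem u_comm : (y * x * y) * (y * x' * y) = (y * x' * y) * (y * x * y) := by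
  calc (y * x * y) * (y * x' * y) = y * (x * x') * y := h.s_eq.symm
    _ = y * (x' * x) * y := by rw [h.hc]
    _ = (y * x' * y) * (y * x * y) := by simp only [mul_assoc, h.hy_t]

/-- the core identity: `t` commutes with `s = y t y`. -/
theorem t_comm_s : (x * x') * (y * (x * x') * y) = (y * (x * x') * y) * (x * x') := by
  rw [h.s_eq]
  calc (x * x') * ((y * x * y) * (y * x' * y))
      = ((x * x') * (y * x * y)) * (y * x' * y) := by simp only [mul_assoc]
    _ = ((y * x' * y) * (x * x')) * (y * x' * y) := by rw [h.t_mul_u_eq]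
    _ = (y * x' * y) * ((x * x') * (y * x' * y)) := by simp only [mul_assoc]
    _ = (y * x' * y) * ((y * x * y) * (x * x')) := by rw [h.t_mul_u'_eq]
    _ = ((y * x' * y) * (y * x * y)) * (x * x') := by simp only [mul_assoc]
    _ = ((y * x * y) * (y * x' * y)) * (x * x') := by rw [h.u_comm]

theorem t_sq : (x * x') * (x * x') = 1 := by
  calc (x * x') * (x * x') = (x * x') * (x' * x) := by rw [h.hc]
    _ = 1 := by simp only [mul_assoc, h.hx'_t, h.hx]

theorem s_sq : (y * (x * x') * y) * (y * (x * x') * y) = 1 := by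
  calc (y * (x * x') * y) * (y * (x * x') * y) = y * ((x * x') * (x * x')) * y := by
        simp only [mul_assoc, h.hy_t]
    _ = 1 := by rw [h.t_sq, mul_one, h.hy]

/-- `x s = (s t) x`. -/
theorem x_mul_s : x * (y * (x * x') * y) = ((y * (x * x') * y) * (x * x')) * x := by
  calc x * (y * (x * x') * y) = (x * y * x) * (x' * y) := by simp only [mul_assoc]
    _ = (y * x * y) * (x' * y) := by rw [h.hb]
    _ = y * x * (y * x' * y) := by simp only [mul_assoc]
    _ = y * x * (x' * y * x') := by rw [h.hb']
    _ = y * (x * x') * y * x' := by simp only [mul_assoc]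
    _ = ((y * (x * x') * y) * (x * x')) * x := by
        rw [h.hc]; simp only [mul_assoc, h.hx, mul_one]

theorem x_mul_t : x * (x * x') = (x * x') * x := by
  calc x * (x * x') = x * (x' * x) := by rw [h.hc]
    _ = (x * x') * x := by rw [mul_assoc]

theorem y_mul_t : y * (x * x') = (y * (x * x') * y) * y := by
  simp only [mul_assoc, h.hy, mul_one]

theorem y_mul_s : y * (y * (x * x') * y) = (x * x') * y := by
  simp only [mul_assoc, h.hy_t]

end A3Rel

end A3

end Cfsg.Agent.Lib.Helper90
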