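import Mathlib
import Cfsg.Agent.Lib.Helper90.AmalDEndT5
import Cfsg.Agent.Lib.Helper7.AmalDT5Final

/-!
# S2858 case (D): [D-B4] `b_four_false` and [D-N1] `n_one`, exact statements of helper68's sheet (helper90)
-/

set_option autoImplicit false

namespace Cfsg.Agent.Lib.Helper90.AmalD

open Cfsg Cfsg.Agent.Lib.Helper68.AmalD Cfsg.Agent.Lib.Helper7.AmalC
open Cfsg.Agent.Lib.Helper12.Amal hiding Flat

universe u

variable {G : Type u} [Group G] {P₁ P₂ : Subgroup G}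

theorem t5Prop (IH : CoreBelow.{u} (Nat.card ↥(P₁ ⊓ P₂))) (hB : Base P₁ P₂)
    (htree : (cosetGraph P₁ P₂).IsTree) (S : FS P₁ P₂) : T5Prop P₁ P₂ :=
  fun h01 h11 h12 h22 h23 h33 h34 h44 h45 h55 n0 n1 n2 n3 n4 n5 n6 n7 n8 hf hS₂ hS₃ hS₄ =>
    Cfsg.Agent.Lib.Helper7.AmalDT5.t5 IH hB htree S h01 h11 h12 h22 h23 h33 h34 h44 h45 h55
      n0 n1 n2 n3 n4 n5 n6 n7 n8 hf hS₂ hS₃ hS₄

/-- [D-B4] `b = 4` is impossible -/
theorem b_four_false (IH : CoreBelow.{u} (Nat.card ↥(P₁ ⊓ P₂))) (hB : Base P₁ P₂)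
    (htree : (cosetGraph P₁ P₂).IsTree) (S : FS P₁ P₂) (K : CB P₁ P₂ 4) (S1 : FS1 P₁ P₂ 4)
    {p : ℕ → CosetVertex P₁ P₂} (hp : Crit P₁ P₂ 4 p) (hf : Flat (p 0)) : False :=
  b_four_false_of_t5 (t5Prop IH hB htree S) hB S K S1 hp hf

/-- [D-N1] the last and the first letter of a critical path are `T` -/
theorem n_one (IH : CoreBelow.{u} (Nat.card ↥(P₁ ⊓ P₂))) (hB : Base P₁ P₂)
    (htree : (cosetGraph P₁ P₂).IsTree) (S : FS P₁ P₂) {b : ℕ} (hb6 : 6 ≤ b) (K : CB P₁ P₂ b)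
    (S1 : FS1 P₁ P₂ b) : N1Prop P₁ P₂ b :=
  n_one_of_t5 (t5Prop IH hB htree S) hB S hb6 K S1

end Cfsg.Agent.Lib.Helper90.AmalD
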