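import Mathlib

/-!
Fixed points of elements on a normal elementary abelian 2-subgroup containing all involutions,
in an ambivalent group.
-/

set_option autoImplicit false

namespace Cfsg.Agent.Lib.Helper90

section AmbFix

variable {G : Type*} [Group G]

/-- If `g` inverts `y` then every odd power of `g` inverts `y`. -/
theorem semiconj_odd_pow {g y : G} (h : SemiconjBy g y y⁻¹) (m : ℕ) (hm : Odd m) :
    SemiconjBy (g ^ m) y y⁻¹ := by
  obtain ⟨i, rfl⟩ := hm
  have h2 : SemiconjBy g y⁻¹ y := by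
    have := h.inv_right
    rwa [inv_inv] at this
  have h3 : Commute (g * g) y := h2.mul_left h
  have h4 : Commute ((g * g) ^ i) y⁻¹ := (h3.pow_left i).inv_right
  have h5 : SemiconjBy ((g * g) ^ i * g) y y⁻¹ := SemiconjBy.mul_left h4 h
  have e : g ^ (2 * i + 1) = (g * g) ^ i * g := by
    rw [pow_succ, pow_mul, pow_two]
  rw [e]
  exact h5

/-- If `g` inverts `y` then `g * g` commutes with `y`. -/
theorem commute_sq_of_semiconj {g y : G} (h : SemiconjBy g y y⁻¹) : Commute (g * g) y := by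
  have h2 : SemiconjBy g y⁻¹ y := by
    have := h.inv_right
    rwa [inv_inv] at this
  exact h2.mul_left h

theorem eq_one_of_odd_of_pow_two_pow {y : G} (hodd : Odd (orderOf y)) (k : ℕ)
    (h : y ^ (2 ^ k) = 1) : y = 1 := by
  have hd : orderOf y ∣ 2 ^ k := orderOf_dvd_of_pow_eq_one h
  have hc : (orderOf y).Coprime (2 ^ k) := (hodd.coprime_two_right).pow_right k
  have := Nat.Coprime.eq_one_of_dvd hc hd
  exact orderOf_eq_one_iff.1 this

/-- **Odd case.** In an ambivalent finite group in which all involutions lie in a normal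
elementary abelian 2-subgroup `V`, every nontrivial element of odd order centralizes some
involution of `V`. -/
theorem exists_fixed_of_odd [Finite G] (hamb : ∀ x : G, IsConj x x⁻¹) (V : Subgroup G)
    [hV : V.Normal] (hV2 : ∀ v ∈ V, v * v = 1) (hinvol : ∀ t : G, orderOf t = 2 → t ∈ V)
    (y : G) (hyodd : Odd (orderOf y)) (hy1 : y ≠ 1) :
    ∃ v ∈ V, v ≠ 1 ∧ y * v = v * y := by
  obtain ⟨g, hg⟩ := isConj_iff.1 (hamb y)
  have hgs : SemiconjBy g y y⁻¹ := by
    unfold SemiconjBy
    rw [← hg]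
    group
  have hn0 : orderOf g ≠ 0 := (orderOf_pos g).ne'
  obtain ⟨a, m, hm, hn⟩ := Nat.exists_eq_two_pow_mul_odd hn0
  have hs : SemiconjBy (g ^ m) y y⁻¹ := semiconj_odd_pow hgs m hm
  have hspow : (g ^ m) ^ (2 ^ a) = 1 := by
    rw [← pow_mul, mul_comm, ← hn, pow_orderOf_eq_one]
  obtain ⟨b, hb, hos⟩ := (Nat.dvd_prime_pow Nat.prime_two).1 (orderOf_dvd_of_pow_eq_one hspow)
  have hcs : Commute (g ^ m * g ^ m) y := commute_sq_of_semiconj hs
  rcases b with _ | _ | b
  · -- s = 1
    exfalso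
    rw [pow_zero, orderOf_eq_one_iff] at hos
    have h1 : y = y⁻¹ := by
      have := hs
      unfold SemiconjBy at this
      rw [hos, one_mul, mul_one] at this
      exact this
    have h2 : y ^ (2 ^ 1) = 1 := by
      rw [pow_one, pow_two]
      nth_rewrite 2 [h1]
      exact mul_inv_cancel y
    exact hy1 (eq_one_of_odd_of_pow_two_pow hyodd 1 h2)
  · -- s an involution
    exfalso
    have hsV : g ^ m ∈ V := hinvol _ (by rw [hos]; norm_num)
    have h1 : y * (g ^ m) * y⁻¹ * (g ^ m)⁻¹ ∈ V :=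
      V.mul_mem (hV.conj_mem _ hsV y) (V.inv_mem hsV)
    have h2 : y * (g ^ m) * y⁻¹ * (g ^ m)⁻¹ = y * y := by
      have h3 : (g ^ m) * y⁻¹ = y * (g ^ m) := by
        have := hs.inv_right
        rw [inv_inv] at this
        exact this
      calc y * (g ^ m) * y⁻¹ * (g ^ m)⁻¹ = y * ((g ^ m) * y⁻¹) * (g ^ m)⁻¹ := by group
        _ = y * (y * (g ^ m)) * (g ^ m)⁻¹ := by rw [h3]
        _ = y * y := by group
    rw [h2] at h1
    have h4 := hV2 _ h1
    have h5 : y ^ (2 ^ 2) = 1 := by
      have e : y ^ (2 ^ 2) = y * y * (y * y) := by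
        norm_num [pow_succ, mul_assoc]
      rw [e, h4]
    exact hy1 (eq_one_of_odd_of_pow_two_pow hyodd 2 h5)
  · -- s of order at least 4
    have hos0 : orderOf (g ^ m) ≠ 0 := by rw [hos]; positivity
    have h2d : 2 ∣ orderOf (g ^ m) := by
      rw [hos, pow_succ]
      exact dvd_mul_left 2 _
    have hv0 : orderOf ((g ^ m) ^ (orderOf (g ^ m) / 2)) = 2 :=
      orderOf_pow_orderOf_div hos0 h2d
    refine ⟨(g ^ m) ^ (orderOf (g ^ m) / 2), hinvol _ hv0, ?_, ?_⟩
    · intro h
      rw [h, orderOf_one] at hv0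
      norm_num at hv0
    · have e : orderOf (g ^ m) / 2 = 2 * 2 ^ b := by
        rw [hos]
        have : 2 ^ (b + 1 + 1) = 2 * 2 ^ b * 2 := by ring
        rw [this, Nat.mul_div_cancel _ (by norm_num : 0 < 2)]
      have e2 : (g ^ m) ^ (orderOf (g ^ m) / 2) = ((g ^ m) * (g ^ m)) ^ (2 ^ b) := by
        rw [e, pow_mul, pow_two]
      rw [e2]
      exact ((hcs.pow_left (2 ^ b)).symm).eq

/-- **Even case.** A 2-element of a finite group centralizes a nonidentity element of any
nontrivial normal 2-subgroup of exponent 2. -/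
theorem exists_fixed_of_two [Finite G] (V : Subgroup G) [hV : V.Normal]
    (hV2 : ∀ v ∈ V, v * v = 1) (hVne : V ≠ ⊥) (x : G) (k : ℕ) (hx : x ^ (2 ^ k) = 1) :
    ∃ v ∈ V, v ≠ 1 ∧ x * v = v * x := by
  have : Fact (Nat.Prime 2) := ⟨Nat.prime_two⟩
  have hP : IsPGroup 2 (Subgroup.zpowers (ConjAct.toConjAct x)) := by
    rintro ⟨z, hz⟩
    obtain ⟨i, rfl⟩ := Subgroup.mem_zpowers_iff.1 hz
    refine ⟨k, ?_⟩
    apply Subtype.ext
    simp only [Subgroup.coe_pow, Subgroup.coe_one]
    rw [← zpow_natCast, ← zpow_mul, mul_comm, zpow_mul, zpow_natCast, ← map_pow, hx, map_one,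
      one_zpow]
  have hdvd : 2 ∣ Nat.card V := by
    obtain ⟨v, hv⟩ := (Subgroup.ne_bot_iff_exists_ne_one.1 hVne)
    have ho : orderOf v = 2 := by
      apply orderOf_eq_prime
      · have := hV2 v.1 v.2
        apply Subtype.ext
        simpa [pow_two] using this
      · exact hv
    rw [← ho]
    exact orderOf_dvd_natCard v
  have h1 : (1 : V) ∈ MulAction.fixedPoints (Subgroup.zpowers (ConjAct.toConjAct x)) V := by
    intro g
    exact smul_one g
  obtain ⟨b, hb, hne⟩ := hP.exists_fixed_point_of_prime_dvd_card_of_fixed_point V hdvd h1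
  refine ⟨b.1, b.2, ?_, ?_⟩
  · intro h
    apply hne
    exact (Subtype.ext h).symm
  · have h2 := hb ⟨ConjAct.toConjAct x, Subgroup.mem_zpowers _⟩
    have h3 := congrArg Subtype.val h2
    rw [Subgroup.mk_smul, ConjAct.Subgroup.val_conj_smul, ConjAct.smul_def,
      ConjAct.ofConjAct_toConjAct] at h3
    rw [mul_inv_eq_iff_eq_mul] at h3
    exact h3

end AmbFix

end Cfsg.Agent.Lib.Helper90
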