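import Mathlib

/-!
Stabilizer argument: a normal subgroup `R` with `R/C_G(V)` abelian, acting on an abelian normal
subgroup `V` on whose nonidentity elements `G` is transitive, has all point stabilizers equal to
`C_G(V)`.
-/

set_option autoImplicit false

namespace Cfsg.Agent.Lib.Helper90

section AmbStab

variable {G : Type*} [Group G]

/-- The stabilizer in `R` of `v` under conjugation. -/
def stabIn (R : Subgroup G) (v : G) : Subgroup G := R ⊓ Subgroup.centralizer {v}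

theorem mem_stabIn {R : Subgroup G} {v x : G} : x ∈ stabIn R v ↔ x ∈ R ∧ x * v = v * x := by
  unfold stabIn
  rw [Subgroup.mem_inf, Subgroup.mem_centralizer_singleton_iff]

theorem stabIn_inv (R : Subgroup G) (v : G) : stabIn R v⁻¹ = stabIn R v := by
  ext x
  rw [mem_stabIn, mem_stabIn]
  constructor
  · rintro ⟨h1, h2⟩
    refine ⟨h1, ?_⟩
    have : Commute x v⁻¹ := h2
    exact (Commute.inv_right_iff.1 this)
  · rintro ⟨h1, h2⟩
    refine ⟨h1, ?_⟩
    have : Commute x v := h2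
    exact (Commute.inv_right_iff.2 this)

theorem card_stabIn_conj_le [Finite G] (R : Subgroup G) [hR : R.Normal] (v g : G) :
    Nat.card (stabIn R v) ≤ Nat.card (stabIn R (g * v * g⁻¹)) := by
  refine Nat.card_le_card_of_injective
    (fun k : stabIn R v => (⟨g * k.1 * g⁻¹, ?_⟩ : stabIn R (g * v * g⁻¹))) ?_
  · obtain ⟨hk1, hk2⟩ := mem_stabIn.1 k.2
    rw [mem_stabIn]
    refine ⟨hR.conj_mem _ hk1 g, ?_⟩
    calc g * k.1 * g⁻¹ * (g * v * g⁻¹) = g * (k.1 * v) * g⁻¹ := by group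
      _ = g * (v * k.1) * g⁻¹ := by rw [hk2]
      _ = g * v * g⁻¹ * (g * k.1 * g⁻¹) := by group
  · intro a b hab
    have h1 : g * a.1 * g⁻¹ = g * b.1 * g⁻¹ := congrArg Subtype.val hab
    apply Subtype.ext
    have h2 : g * a.1 = g * b.1 := mul_right_cancel h1
    exact mul_left_cancel h2

theorem card_stabIn_conj [Finite G] (R : Subgroup G) [hR : R.Normal] (v g : G) :
    Nat.card (stabIn R (g * v * g⁻¹)) = Nat.card (stabIn R v) := by
  apply le_antisymm
  · have h := card_stabIn_conj_le R (g * v * g⁻¹) g⁻¹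
    have e : g⁻¹ * (g * v * g⁻¹) * g⁻¹⁻¹ = v := by group
    rw [e] at h
    exact h
  · exact card_stabIn_conj_le R v g

/-- **Stabilizer lemma.** -/
theorem stab_le_centralizer [Finite G] (V R : Subgroup G) [hV : V.Normal] [hR : R.Normal]
    (htr : ∀ v ∈ V, ∀ w ∈ V, v ≠ 1 → w ≠ 1 → ∃ g : G, g * v * g⁻¹ = w)
    (hCR : Subgroup.centralizer (V : Set G) ≤ R)
    (hRR : ∀ x ∈ R, ∀ y ∈ R, x * y * x⁻¹ * y⁻¹ ∈ Subgroup.centralizer (V : Set G))
    (v : G) (hv : v ∈ V) (hv1 : v ≠ 1) (x : G) (hx : x ∈ R) (hxv : x * v = v * x) :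
    x ∈ Subgroup.centralizer (V : Set G) := by
  -- all stabilizers of nonidentity elements have the same cardinality
  have hcard : ∀ a ∈ V, ∀ b ∈ V, a ≠ 1 → b ≠ 1 →
      Nat.card (stabIn R a) = Nat.card (stabIn R b) := by
    intro a ha b hb ha1 hb1
    obtain ⟨g, hg⟩ := htr a ha b hb ha1 hb1
    rw [← hg, card_stabIn_conj]
  have hCle : ∀ a ∈ V, Subgroup.centralizer (V : Set G) ≤ stabIn R a := by
    intro a ha c hc
    rw [mem_stabIn]
    refine ⟨hCR hc, ?_⟩
    exact ((Subgroup.mem_centralizer_iff.1 hc) a ha).symm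
  have hnorm : ∀ a ∈ V, ∀ y ∈ R, ∀ k ∈ stabIn R a, y * k * y⁻¹ ∈ stabIn R a := by
    intro a ha y hy k hk
    have h1 : y * k * y⁻¹ * k⁻¹ ∈ stabIn R a := hCle a ha (hRR y hy k (mem_stabIn.1 hk).1)
    have h2 : y * k * y⁻¹ * k⁻¹ * k ∈ stabIn R a := (stabIn R a).mul_mem h1 hk
    have e : y * k * y⁻¹ * k⁻¹ * k = y * k * y⁻¹ := by group
    rw [e] at h2
    exact h2
  have hinv : ∀ a ∈ V, ∀ y ∈ R, ∀ k ∈ stabIn R a, k * (y * a * y⁻¹) = y * a * y⁻¹ * k := by
    intro a ha y hy k hk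
    have h1 : y⁻¹ * k * y⁻¹⁻¹ ∈ stabIn R a := hnorm a ha y⁻¹ (R.inv_mem hy) k hk
    have h2 := (mem_stabIn.1 h1).2
    calc k * (y * a * y⁻¹) = y * (y⁻¹ * k * y⁻¹⁻¹ * a) * y⁻¹ := by group
      _ = y * (a * (y⁻¹ * k * y⁻¹⁻¹)) * y⁻¹ := by rw [h2]
      _ = y * a * y⁻¹ * k := by group
  have hle_eq : ∀ a ∈ V, ∀ b ∈ V, a ≠ 1 → b ≠ 1 → stabIn R a ≤ stabIn R b →
      stabIn R a = stabIn R b := by
    intro a ha b hb ha1 hb1 hle
    exact Subgroup.eq_of_le_of_card_ge hle (hcard a ha b hb ha1 hb1).symm.le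
  have key : ∀ a ∈ V, ∀ b ∈ V, a ≠ 1 → b ≠ 1 → stabIn R a = stabIn R b := by
    intro a ha b hb ha1 hb1
    by_contra hne
    have hab1 : a * b ≠ 1 := by
      intro h
      have : b = a⁻¹ := (eq_inv_of_mul_eq_one_right h)
      apply hne
      rw [this, stabIn_inv]
    have habV : a * b ∈ V := V.mul_mem ha hb
    have hsub : stabIn R (a * b) ≤ stabIn R a ⊓ stabIn R b := by
      intro y hy
      obtain ⟨hyR, hyab⟩ := mem_stabIn.1 hy
      -- u = a⁻¹ * (y a y⁻¹) = b * (y b y⁻¹)⁻¹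
      have hyaV : y * a * y⁻¹ ∈ V := hV.conj_mem a ha y
      have hybV : y * b * y⁻¹ ∈ V := hV.conj_mem b hb y
      have hu1 : a⁻¹ * (y * a * y⁻¹) = b * (y * b * y⁻¹)⁻¹ := by
        have h1 : y * a * y⁻¹ * (y * b * y⁻¹) = a * b := by
          calc y * a * y⁻¹ * (y * b * y⁻¹) = y * (a * b) * y⁻¹ := by group
            _ = a * b * y * y⁻¹ := by rw [hyab]
            _ = a * b := by group
        calc a⁻¹ * (y * a * y⁻¹) = a⁻¹ * (y * a * y⁻¹ * (y * b * y⁻¹)) * (y * b * y⁻¹)⁻¹ := by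
              group
          _ = a⁻¹ * (a * b) * (y * b * y⁻¹)⁻¹ := by rw [h1]
          _ = b * (y * b * y⁻¹)⁻¹ := by group
      have huV : a⁻¹ * (y * a * y⁻¹) ∈ V := V.mul_mem (V.inv_mem ha) hyaV
      have hle1 : stabIn R a ≤ stabIn R (a⁻¹ * (y * a * y⁻¹)) := by
        intro k hk
        obtain ⟨hkR, hka⟩ := mem_stabIn.1 hk
        rw [mem_stabIn]
        refine ⟨hkR, ?_⟩
        have c1 : Commute k a⁻¹ := Commute.inv_right hka
        have c2 : Commute k (y * a * y⁻¹) := hinv a ha y hyR k hk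
        exact c1.mul_right c2
      have hle2 : stabIn R b ≤ stabIn R (a⁻¹ * (y * a * y⁻¹)) := by
        intro k hk
        obtain ⟨hkR, hkb⟩ := mem_stabIn.1 hk
        rw [hu1, mem_stabIn]
        refine ⟨hkR, ?_⟩
        have c1 : Commute k b := hkb
        have c2 : Commute k (y * b * y⁻¹) := hinv b hb y hyR k hk
        exact c1.mul_right c2.inv_right
      have hu : a⁻¹ * (y * a * y⁻¹) = 1 := by
        by_contra hu
        apply hne
        rw [hle_eq a ha _ huV ha1 hu hle1, hle_eq b hb _ huV hb1 hu hle2]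
      have hya : y * a * y⁻¹ = a := by
        have := congrArg (fun z => a * z) hu
        simpa using this
      have hyb : y * b * y⁻¹ = b := by
        rw [hu1] at hu
        have h3 : b = y * b * y⁻¹ := by
          have := mul_inv_eq_one.1 hu
          exact this
        exact h3.symm
      rw [Subgroup.mem_inf, mem_stabIn, mem_stabIn]
      refine ⟨⟨hyR, ?_⟩, ⟨hyR, ?_⟩⟩
      · calc y * a = y * a * y⁻¹ * y := by group
          _ = a * y := by rw [hya]
      · calc y * b = y * b * y⁻¹ * y := by group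
          _ = b * y := by rw [hyb]
    have h1 : stabIn R (a * b) = stabIn R a :=
      hle_eq _ habV a ha hab1 ha1 (hsub.trans inf_le_left)
    have h2 : stabIn R a ≤ stabIn R b := by
      rw [← h1]
      exact hsub.trans inf_le_right
    exact hne (hle_eq a ha b hb ha1 hb1 h2)
  rw [Subgroup.mem_centralizer_iff]
  intro w hw
  by_cases hw1 : w = 1
  · rw [hw1, one_mul, mul_one]
  · have hxs : x ∈ stabIn R v := mem_stabIn.2 ⟨hx, hxv⟩
    rw [key v hv w hw hv1 hw1] at hxs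
    exact ((mem_stabIn.1 hxs).2).symm

end AmbStab

end Cfsg.Agent.Lib.Helper90
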