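import Mathlib
import Cfsg.Agent.Lib.Helper1.MinimalNormal
import Cfsg.Agent.Lib.Helper90.AmbStab
import Cfsg.Agent.Lib.Helper90.AmbFix

/-!
Finite solvable ambivalent groups with one class of involutions: two commuting involutions are
equal.
-/

set_option autoImplicit false

universe u

namespace Cfsg.Agent.Lib.Helper90

section AmbCore

theorem mem_of_pow_mem_of_coprime {G : Type*} [Group G] (C : Subgroup G) (x : G) (a b : ℕ)
    (hab : a.Coprime b) (ha : x ^ a ∈ C) (hb : x ^ b ∈ C) : x ∈ C := by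
  have h1 : ((Nat.gcd a b : ℕ) : ℤ) = (a : ℤ) * Int.gcdA a b + (b : ℤ) * Int.gcdB a b := by
    have := Int.gcd_eq_gcd_ab (a : ℤ) (b : ℤ)
    simpa using this
  have hab' : Nat.gcd a b = 1 := hab
  rw [hab'] at h1
  have h2 : x = (x ^ a) ^ (Int.gcdA a b) * (x ^ b) ^ (Int.gcdB a b) := by
    rw [← zpow_natCast x a, ← zpow_natCast x b, ← zpow_mul, ← zpow_mul, ← zpow_add, ← h1]
    simp
  rw [h2]
  exact C.mul_mem (C.zpow_mem ha _) (C.zpow_mem hb _)

theorem eq_one_of_pow_eq_one_of_coprime {G : Type*} [Group G] (x : G) (a b : ℕ)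
    (hab : a.Coprime b) (ha : x ^ a = 1) (hb : x ^ b = 1) : x = 1 := by
  have h := mem_of_pow_mem_of_coprime (⊥ : Subgroup G) x a b hab
    (by rw [ha]; exact Subgroup.one_mem _) (by rw [hb]; exact Subgroup.one_mem _)
  exact Subgroup.mem_bot.1 h

/-- **Core contradiction**: no normal elementary abelian 2-subgroup with two distinct
involutions. -/
theorem no_two_involutions {G : Type*} [Group G] [Finite G] [Group.IsSolvable G]
    (hamb : ∀ x : G, IsConj x x⁻¹)
    (hone : ∀ s t : G, orderOf s = 2 → orderOf t = 2 → IsConj s t)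
    (V : Subgroup G) [hV : V.Normal] (hV2 : ∀ v ∈ V, v * v = 1)
    (s t : G) (hs : s ∈ V) (ht : t ∈ V) (hs1 : s ≠ 1) (ht1 : t ≠ 1) (hst : s ≠ t) : False := by
  have : Fact (Nat.Prime 2) := ⟨Nat.prime_two⟩
  have hord : ∀ v ∈ V, v ≠ 1 → orderOf v = 2 := by
    intro v hv hv1
    exact orderOf_eq_prime (by rw [pow_two]; exact hV2 v hv) hv1
  have hinvol : ∀ u : G, orderOf u = 2 → u ∈ V := by
    intro u hu
    obtain ⟨g, hg⟩ := isConj_iff.1 (hone s u (hord s hs hs1) hu)
    rw [← hg]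
    exact hV.conj_mem s hs g
  have htr : ∀ v ∈ V, ∀ w ∈ V, v ≠ 1 → w ≠ 1 → ∃ g : G, g * v * g⁻¹ = w := by
    intro v hv w hw hv1 hw1
    exact isConj_iff.1 (hone v w (hord v hv hv1) (hord w hw hw1))
  have hVne : V ≠ ⊥ := by
    intro h
    rw [h, Subgroup.mem_bot] at hs
    exact hs1 hs
  have hCn : (Subgroup.centralizer (V : Set G)).Normal := Subgroup.normal_centralizer
  have hCne : Subgroup.centralizer (V : Set G) ≠ ⊤ := by
    intro h
    obtain ⟨g, hg⟩ := htr s hs t ht hs1 ht1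
    have hg' : g ∈ Subgroup.centralizer (V : Set G) := by rw [h]; exact Subgroup.mem_top g
    have := (Subgroup.mem_centralizer_iff.1 hg') s hs
    apply hst
    rw [← hg, ← this]
    group
  have hnt : Nontrivial (G ⧸ Subgroup.centralizer (V : Set G)) := by
    rw [← not_subsingleton_iff_nontrivial]
    intro hsub
    exact hCne (QuotientGroup.subgroup_eq_top_of_subsingleton _ hsub)
  have hsolv : Group.IsSolvable (G ⧸ Subgroup.centralizer (V : Set G)) := inferInstance
  obtain ⟨r, E, hr, hEn, hE1, -, hEc, hEr, -⟩ :=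
    Cfsg.Agent.Lib.Helper1.exists_normal_pSubgroup_of_isSolvable
      (G := G ⧸ Subgroup.centralizer (V : Set G))
  set C := Subgroup.centralizer (V : Set G) with hC
  set R : Subgroup G := E.comap (QuotientGroup.mk' C) with hRdef
  have hRn : R.Normal := hEn.comap _
  have hmemR : ∀ x : G, x ∈ R ↔ (x : G ⧸ C) ∈ E := by
    intro x
    rw [hRdef, Subgroup.mem_comap]
    rfl
  have hCR : C ≤ R := by
    intro c hc
    rw [hmemR, (QuotientGroup.eq_one_iff c).2 hc]
    exact E.one_mem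
  have hRR : ∀ x ∈ R, ∀ y ∈ R, x * y * x⁻¹ * y⁻¹ ∈ C := by
    intro x hx y hy
    rw [← QuotientGroup.eq_one_iff]
    have hx' := (hmemR x).1 hx
    have hy' := (hmemR y).1 hy
    have hcomm : (x : G ⧸ C) * (y : G ⧸ C) = (y : G ⧸ C) * (x : G ⧸ C) := by
      have := hEc.is_comm.comm ⟨_, hx'⟩ ⟨_, hy'⟩
      exact congrArg Subtype.val this
    rw [QuotientGroup.mk_mul, QuotientGroup.mk_mul, QuotientGroup.mk_mul, QuotientGroup.mk_inv,
      QuotientGroup.mk_inv, hcomm]
    group
  have hxr : ∀ x ∈ R, x ^ r ∈ C := by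
    intro x hx
    rw [← QuotientGroup.eq_one_iff, QuotientGroup.mk_pow]
    exact hEr _ ((hmemR x).1 hx)
  obtain ⟨x, hxR, hxC⟩ : ∃ x ∈ R, x ∉ C := by
    rcases Subgroup.bot_or_exists_ne_one E with h | ⟨e, he, he1⟩
    · exact absurd h hE1
    · obtain ⟨x, rfl⟩ := QuotientGroup.mk_surjective e
      refine ⟨x, (hmemR x).2 he, ?_⟩
      intro hx
      exact he1 ((QuotientGroup.eq_one_iff x).2 hx)
  have hstab := stab_le_centralizer V R htr hCR hRR
  have hn0 : orderOf x ≠ 0 := (orderOf_pos x).ne'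
  obtain ⟨k, m, hm, hn⟩ := Nat.exists_eq_two_pow_mul_odd hn0
  by_cases hr2 : r = 2
  · -- `R/C` is a 2-group
    have h1 : (x ^ m) ^ (2 ^ k) = 1 := by
      rw [← pow_mul, mul_comm, ← hn, pow_orderOf_eq_one]
    obtain ⟨v, hv, hv1, hxv⟩ := exists_fixed_of_two V hV2 hVne (x ^ m) k h1
    have h2 : x ^ m ∈ C := hstab v hv hv1 (x ^ m) (R.pow_mem hxR m) hxv
    have h3 : x ^ 2 ∈ C := hr2 ▸ hxr x hxR
    exact hxC (mem_of_pow_mem_of_coprime C x m 2 hm.coprime_two_right h2 h3)
  · -- `R/C` has odd order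
    have hrodd : Odd r := hr.odd_of_ne_two hr2
    have h1 : (x ^ (2 ^ k)) ^ m = 1 := by
      rw [← pow_mul, ← hn, pow_orderOf_eq_one]
    have hyodd : Odd (orderOf (x ^ (2 ^ k))) := hm.of_dvd_nat (orderOf_dvd_of_pow_eq_one h1)
    have h2 : x ^ (2 ^ k) ∈ C := by
      by_cases hy1 : x ^ (2 ^ k) = 1
      · rw [hy1]
        exact C.one_mem
      · obtain ⟨v, hv, hv1, hyv⟩ :=
          exists_fixed_of_odd hamb V hV2 hinvol (x ^ (2 ^ k)) hyodd hy1
        exact hstab v hv hv1 _ (R.pow_mem hxR _) hyv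
    have h3 : x ^ r ∈ C := hxr x hxR
    have hcop : (2 ^ k).Coprime r := (hrodd.coprime_two_left).pow_left k
    exact hxC (mem_of_pow_mem_of_coprime C x (2 ^ k) r hcop h2 h3)

/-- Involutions of `G/E` lift to involutions of `G` when `E` has odd exponent. -/
theorem exists_involution_lift {G : Type*} [Group G] (E : Subgroup G) [E.Normal] (r : ℕ)
    (hr : Odd r) (hEr : ∀ x ∈ E, x ^ r = 1) (q : G ⧸ E) (hq : orderOf q = 2) :
    ∃ g : G, orderOf g = 2 ∧ (g : G ⧸ E) = q := by
  have : Fact (Nat.Prime 2) := ⟨Nat.prime_two⟩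
  obtain ⟨g, rfl⟩ := QuotientGroup.mk_surjective q
  have hq2 : (g : G ⧸ E) ^ 2 = 1 := by rw [← hq, pow_orderOf_eq_one]
  have hq1 : (g : G ⧸ E) ≠ 1 := by
    intro h
    rw [h, orderOf_one] at hq
    norm_num at hq
  have hg2 : g ^ 2 ∈ E := by
    rw [← QuotientGroup.eq_one_iff, QuotientGroup.mk_pow]
    exact hq2
  have h1 : (g ^ r) ^ 2 = 1 := by
    rw [← pow_mul, mul_comm, pow_mul]
    exact hEr _ hg2
  have h2 : ((g ^ r : G) : G ⧸ E) = (g : G ⧸ E) := by
    obtain ⟨i, rfl⟩ := hr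
    rw [QuotientGroup.mk_pow, pow_succ, pow_mul, hq2, one_pow, one_mul]
  refine ⟨g ^ r, orderOf_eq_prime h1 ?_, h2⟩
  intro h
  apply hq1
  rw [← h2, h]
  rfl

/-- **Q(G)**: in a finite solvable ambivalent group with one class of involutions, commuting
involutions are equal. -/
theorem commuting_involutions_eq : ∀ (n : ℕ) (G : Type u) [Group G] [Finite G]
    [Group.IsSolvable G], Nat.card G = n → (∀ x : G, IsConj x x⁻¹) →
    (∀ s t : G, orderOf s = 2 → orderOf t = 2 → IsConj s t) →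
    ∀ s t : G, orderOf s = 2 → orderOf t = 2 → s * t = t * s → s = t := by
  intro n
  induction n using Nat.strong_induction_on with
  | _ n ih =>
    intro G _ _ _ hcard hamb hone s t hs ht hst
    have : Fact (Nat.Prime 2) := ⟨Nat.prime_two⟩
    have hs1 : s ≠ 1 := by
      intro h
      rw [h, orderOf_one] at hs
      norm_num at hs
    have ht1 : t ≠ 1 := by
      intro h
      rw [h, orderOf_one] at ht
      norm_num at ht
    have hs2 : s ^ 2 = 1 := by rw [← hs, pow_orderOf_eq_one]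
    have ht2 : t ^ 2 = 1 := by rw [← ht, pow_orderOf_eq_one]
    have hnt : Nontrivial G := ⟨⟨s, 1, hs1⟩⟩
    obtain ⟨r, E, hr, hEn, hE1, -, -, hEr, -⟩ :=
      Cfsg.Agent.Lib.Helper1.exists_normal_pSubgroup_of_isSolvable (G := G)
    by_cases hr2 : r = 2
    · by_contra hne
      subst hr2
      have hV2 : ∀ v ∈ E, v * v = 1 := by
        intro v hv
        rw [← pow_two]
        exact hEr v hv
      obtain ⟨e, he, he1⟩ : ∃ e ∈ E, e ≠ 1 := by
        rcases Subgroup.bot_or_exists_ne_one E with h | h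
        · exact absurd h hE1
        · exact h
      have heo : orderOf e = 2 := orderOf_eq_prime (hEr e he) he1
      have hinE : ∀ u : G, orderOf u = 2 → u ∈ E := by
        intro u hu
        obtain ⟨g, hg⟩ := isConj_iff.1 (hone e u heo hu)
        rw [← hg]
        exact hEn.conj_mem e he g
      exact no_two_involutions hamb hone E hV2 s t (hinE s hs) (hinE t ht) hs1 ht1 hne
    · have hrodd : Odd r := hr.odd_of_ne_two hr2
      have hlt : Nat.card (G ⧸ E) < n := by
        have h1 := Subgroup.card_eq_card_quotient_mul_card_subgroup E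
        have h2 : 1 < Nat.card E := (Subgroup.one_lt_card_iff_ne_bot E).2 hE1
        have h3 : 0 < Nat.card (G ⧸ E) := Nat.card_pos
        rw [← hcard, h1]
        nlinarith
      have hambQ : ∀ q : G ⧸ E, IsConj q q⁻¹ := by
        intro q
        obtain ⟨x, rfl⟩ := QuotientGroup.mk_surjective q
        exact (QuotientGroup.mk' E).map_isConj (hamb x)
      have honeQ : ∀ a b : G ⧸ E, orderOf a = 2 → orderOf b = 2 → IsConj a b := by
        intro a b ha hb
        obtain ⟨a', ha', rfl⟩ := exists_involution_lift E r hrodd hEr a ha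
        obtain ⟨b', hb', rfl⟩ := exists_involution_lift E r hrodd hEr b hb
        exact (QuotientGroup.mk' E).map_isConj (hone a' b' ha' hb')
      have hnotE : ∀ u : G, u ^ 2 = 1 → u ≠ 1 → u ∉ E := by
        intro u hu2 hu1 huE
        exact hu1 (eq_one_of_pow_eq_one_of_coprime u 2 r hrodd.coprime_two_left hu2 (hEr u huE))
      have hordQ : ∀ u : G, u ^ 2 = 1 → u ≠ 1 → orderOf (u : G ⧸ E) = 2 := by
        intro u hu2 hu1
        apply orderOf_eq_prime
        · rw [← QuotientGroup.mk_pow, hu2]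
          rfl
        · intro h
          exact hnotE u hu2 hu1 ((QuotientGroup.eq_one_iff u).1 h)
      have hQ := ih (Nat.card (G ⧸ E)) hlt (G ⧸ E) rfl hambQ honeQ (s : G ⧸ E) (t : G ⧸ E)
        (hordQ s hs2 hs1) (hordQ t ht2 ht1)
        (by rw [← QuotientGroup.mk_mul, ← QuotientGroup.mk_mul, hst])
      have h1 : s⁻¹ * t ∈ E := QuotientGroup.eq.1 hQ
      have h2 : (s⁻¹ * t) ^ 2 = 1 := by
        have hc : Commute s⁻¹ t := (Commute.inv_left (show Commute s t from hst))
        rw [hc.mul_pow, inv_pow, hs2, ht2, inv_one, one_mul]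
      have h3 : s⁻¹ * t = 1 :=
        eq_one_of_pow_eq_one_of_coprime _ 2 r hrodd.coprime_two_left h2 (hEr _ h1)
      exact (inv_mul_eq_one.1 h3)

end AmbCore

end Cfsg.Agent.Lib.Helper90
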