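import Mathlib

set_option autoImplicit false

namespace Cfsg.Agent.Lib.Helper90

section

variable {L : Type*} [Group L] [Finite L]

/-- Normal subgroups of a group `L` with a normal subgroup `Q` of class two (commutators in
`{1, ζ}` with `ζ` central in `L`), `L/Q` simple and `L` "irreducible" on `Q/⟨ζ⟩`: they are contained
in `{1, ζ}`, equal to `Q`, or everything. -/
theorem normal_subgroups_of_irreducible (Q : Subgroup L) [Q.Normal] (ζ : L)
    (hζc : ∀ x : L, x * ζ = ζ * x)
    (hcomm : ∀ a ∈ Q, ∀ b ∈ Q, a * b * a⁻¹ * b⁻¹ = 1 ∨ a * b * a⁻¹ * b⁻¹ = ζ)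
    (hnc : ∃ x₀ ∈ Q, ∃ y₀ ∈ Q, x₀ * y₀ ≠ y₀ * x₀)
    (hsimp : IsSimpleGroup (L ⧸ Q))
    (hirr : ∀ W : Subgroup L, W.Normal → W ≤ Q → (W = Q ∨ ∀ x ∈ W, x = 1 ∨ x = ζ))
    (M : Subgroup L) (hM : M.Normal) :
    (∀ x ∈ M, x = 1 ∨ x = ζ) ∨ M = Q ∨ M = ⊤ := by
  have hmapN : (M.map (QuotientGroup.mk' Q)).Normal :=
    Subgroup.Normal.map hM _ (QuotientGroup.mk'_surjective Q)
  rcases hsimp.eq_bot_or_eq_top_of_normal _ hmapN with hbot | htop
  · -- `M ≤ Q`
    have hMQ : M ≤ Q := by
      have := (Subgroup.map_eq_bot_iff M).mp hbot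
      rwa [QuotientGroup.ker_mk'] at this
    rcases hirr M hM hMQ with h1 | h1
    · exact Or.inr (Or.inl h1)
    · exact Or.inl h1
  · -- `M Q = L`
    have hsup : M ⊔ Q = ⊤ := by
      have h1 := Subgroup.comap_map_eq (QuotientGroup.mk' Q) M
      rw [htop, Subgroup.comap_top, QuotientGroup.ker_mk'] at h1
      exact h1.symm
    have hMQn : (M ⊓ Q).Normal := Subgroup.normal_inf_normal M Q
    rcases hirr (M ⊓ Q) hMQn inf_le_right with h1 | h1
    · right; right
      have hQM : Q ≤ M := by rw [← h1]; exact inf_le_left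
      rw [← hsup]
      exact (sup_eq_left.mpr hQM).symm
    · exfalso
      -- every element of `L` acts trivially on `Q` modulo `{1, ζ}`
      have hζ2 : ∀ c : L, (c = 1 ∨ c = ζ) → ∀ x : L, x * c = c * x := by
        rintro c (rfl | rfl) x
        · group
        · exact hζc x
      have htriv : ∀ h : L, ∀ x ∈ Q, h * x * h⁻¹ * x⁻¹ = 1 ∨ h * x * h⁻¹ * x⁻¹ = ζ ∨
          h * x * h⁻¹ * x⁻¹ = ζ * ζ := by
        intro h x hx
        have hh : h ∈ M ⊔ Q := by rw [hsup]; exact Subgroup.mem_top h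
        rw [← SetLike.mem_coe, Subgroup.mul_normal, Set.mem_mul] at hh
        obtain ⟨m, hm, q, hq, rfl⟩ := hh
        have hy : q * x * q⁻¹ ∈ Q := Q.mul_mem (Q.mul_mem hq hx) (Q.inv_mem hq)
        have hc1 := hcomm q hq x hx
        have hc2mem : m * (q * x * q⁻¹) * m⁻¹ * (q * x * q⁻¹)⁻¹ ∈ M ⊓ Q := by
          refine Subgroup.mem_inf.mpr ⟨?_, ?_⟩
          · have e : m * (q * x * q⁻¹) * m⁻¹ * (q * x * q⁻¹)⁻¹ =
                m * ((q * x * q⁻¹) * m⁻¹ * (q * x * q⁻¹)⁻¹) := by group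
            rw [e]
            exact M.mul_mem hm (hM.conj_mem _ (M.inv_mem hm) _)
          · exact Q.mul_mem (Subgroup.Normal.conj_mem inferInstance _ hy m) (Q.inv_mem hy)
        have hc2 := h1 _ hc2mem
        have e : (m * q) * x * (m * q)⁻¹ * x⁻¹ =
            (m * (q * x * q⁻¹) * m⁻¹ * (q * x * q⁻¹)⁻¹) * (q * x * q⁻¹ * x⁻¹) := by group
        rw [e]
        rcases hc2 with h2 | h2 <;> rcases hc1 with h3 | h3 <;> rw [h2, h3]
        · left; group
        · right; left; group
        · right; left; group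
        · right; right; rfl
      obtain ⟨x₀, hx₀, y₀, hy₀, hxy⟩ := hnc
      -- the subgroup `C_Q(x₀)`
      have hconj : ∀ h : L, ∃ c : L, (∀ x : L, x * c = c * x) ∧ h⁻¹ * x₀ * h = c * x₀ := by
        intro h
        have := htriv h⁻¹ x₀ hx₀
        rw [inv_inv] at this
        rcases this with h2 | h2 | h2
        · refine ⟨1, fun x => by group, ?_⟩
          calc h⁻¹ * x₀ * h = (h⁻¹ * x₀ * h * x₀⁻¹) * x₀ := by group
            _ = 1 * x₀ := by rw [h2]
        · refine ⟨ζ, hζc, ?_⟩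
          calc h⁻¹ * x₀ * h = (h⁻¹ * x₀ * h * x₀⁻¹) * x₀ := by group
            _ = ζ * x₀ := by rw [h2]
        · refine ⟨ζ * ζ, fun x => ?_, ?_⟩
          · calc x * (ζ * ζ) = (x * ζ) * ζ := by group
              _ = (ζ * x) * ζ := by rw [hζc x]
              _ = ζ * (x * ζ) := by group
              _ = ζ * (ζ * x) := by rw [hζc x]
              _ = ζ * ζ * x := by group
          · calc h⁻¹ * x₀ * h = (h⁻¹ * x₀ * h * x₀⁻¹) * x₀ := by group
              _ = ζ * ζ * x₀ := by rw [h2]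
      set W := Q ⊓ Subgroup.centralizer {x₀} with hW
      have hWn : W.Normal := by
        constructor
        intro w hw h
        obtain ⟨hwQ, hwc⟩ := Subgroup.mem_inf.mp hw
        rw [Subgroup.mem_centralizer_singleton_iff] at hwc
        refine Subgroup.mem_inf.mpr ⟨Subgroup.Normal.conj_mem inferInstance w hwQ h, ?_⟩
        rw [Subgroup.mem_centralizer_singleton_iff]
        obtain ⟨c, hc, hcx⟩ := hconj h
        have hwcx : w * (c * x₀) = (c * x₀) * w := by
          calc w * (c * x₀) = (w * c) * x₀ := by group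
            _ = (c * w) * x₀ := by rw [hc w]
            _ = c * (w * x₀) := by group
            _ = c * (x₀ * w) := by rw [hwc]
            _ = c * x₀ * w := by group
        calc h * w * h⁻¹ * x₀ = h * (w * (h⁻¹ * x₀ * h)) * h⁻¹ := by group
          _ = h * (w * (c * x₀)) * h⁻¹ := by rw [hcx]
          _ = h * ((c * x₀) * w) * h⁻¹ := by rw [hwcx]
          _ = h * ((h⁻¹ * x₀ * h) * w) * h⁻¹ := by rw [hcx]
          _ = x₀ * (h * w * h⁻¹) := by group
      rcases hirr W hWn inf_le_left with h2 | h2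
      · apply hxy
        have : y₀ ∈ W := by rw [h2]; exact hy₀
        have := (Subgroup.mem_inf.mp this).2
        rw [Subgroup.mem_centralizer_singleton_iff] at this
        exact this.symm
      · have hx₀W : x₀ ∈ W :=
          Subgroup.mem_inf.mpr ⟨hx₀, Subgroup.mem_centralizer_singleton_iff.mpr rfl⟩
        rcases h2 x₀ hx₀W with h3 | h3
        · apply hxy; rw [h3]; group
        · apply hxy; rw [h3]; exact (hζc y₀).symm

end

end Cfsg.Agent.Lib.Helper90
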