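import Mathlib
import Cfsg.Prelude.Def_Transfer
import Cfsg.Agent.Lib.Helper90.LargeNS

set_option autoImplicit false

namespace Cfsg.Agent.Lib.Helper90

section

variable {G : Type*} [Group G]

theorem mem_zpowers_involution {z x : G} (hz2 : z * z = 1) (hx : x ∈ Subgroup.zpowers z) :
    x = 1 ∨ x = z := by
  obtain ⟨k, rfl⟩ := Subgroup.mem_zpowers_iff.mp hx
  rcases Int.emod_two_eq_zero_or_one k with h0 | h1
  · left
    have hk2 : k = 2 * (k / 2) := by omega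
    rw [hk2, zpow_mul, zpow_ofNat, pow_two, hz2, one_zpow]
  · right
    have hk2 : k = 2 * (k / 2) + 1 := by omega
    rw [hk2, zpow_add, zpow_mul, zpow_ofNat, pow_two, hz2, one_zpow, one_mul, zpow_one]

/-- An involution acting without fixed points on a finite normal subgroup inverts it. -/
theorem inverts_of_fpf [Finite G] (N : Subgroup G) [N.Normal] (t : G) (ht : t * t = 1)
    (hfpf : ∀ n ∈ N, n * t = t * n → n = 1) : ∀ n ∈ N, t * n * t⁻¹ = n⁻¹ := by
  have htinv : t⁻¹ = t := inv_eq_of_mul_eq_one_left ht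
  let φ : ↥N → ↥N := fun n => ⟨(n : G)⁻¹ * (t * n * t⁻¹),
    N.mul_mem (N.inv_mem n.2) (Subgroup.Normal.conj_mem inferInstance _ n.2 t)⟩
  have hinj : Function.Injective φ := by
    intro a b hab
    have h1 : (a : G)⁻¹ * (t * a * t⁻¹) = (b : G)⁻¹ * (t * b * t⁻¹) :=
      congrArg (fun s : ↥N => (s : G)) hab
    have h2 : ((b : G) * (a : G)⁻¹) * t = t * ((b : G) * (a : G)⁻¹) := by
      have e : (b : G) * (a : G)⁻¹ = (t * b * t⁻¹) * (t * a * t⁻¹)⁻¹ := by
        calc (b : G) * (a : G)⁻¹ = b * ((a : G)⁻¹ * (t * a * t⁻¹)) * (t * a * t⁻¹)⁻¹ := by group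
          _ = b * ((b : G)⁻¹ * (t * b * t⁻¹)) * (t * a * t⁻¹)⁻¹ := by rw [h1]
          _ = (t * b * t⁻¹) * (t * a * t⁻¹)⁻¹ := by group
      calc ((b : G) * (a : G)⁻¹) * t = ((t * b * t⁻¹) * (t * a * t⁻¹)⁻¹) * t := by rw [← e]
        _ = t * ((b : G) * (a : G)⁻¹) := by group
    have h3 := hfpf _ (N.mul_mem b.2 (N.inv_mem a.2)) h2
    apply Subtype.ext
    calc (a : G) = ((b : G) * (a : G)⁻¹)⁻¹ * b := by group
      _ = b := by rw [h3]; group
  have hsurj : Function.Surjective φ := Finite.injective_iff_surjective.mp hinj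
  intro n hn
  obtain ⟨m, hm⟩ := hsurj ⟨n, hn⟩
  have hm' : (m : G)⁻¹ * (t * m * t⁻¹) = n := congrArg (fun s : ↥N => (s : G)) hm
  rw [← hm']
  calc t * ((m : G)⁻¹ * (t * m * t⁻¹)) * t⁻¹ = (t * (m : G)⁻¹ * t⁻¹) * ((t * t) * m * (t * t)⁻¹) := by
        group
    _ = (t * (m : G)⁻¹ * t⁻¹) * m := by rw [ht]; group
    _ = ((m : G)⁻¹ * (t * m * t⁻¹))⁻¹ := by group

end

end Cfsg.Agent.Lib.Helper90
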