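import Mathlib
import Cfsg.Prelude.Def_CaseTheorems
import Cfsg.Agent.S0016
import Cfsg.Agent.Lib.Helper97.Cores
import Cfsg.Agent.Lib.Helper90.AmbCore
import Cfsg.Agent.Lib.Helper90.LargeSimple

/-!
Sylow 2-subgroups of finite solvable ambivalent groups with one class of involutions.
-/

set_option autoImplicit false

universe u

namespace Cfsg.Agent.Lib.Helper90

section AmbSylow

variable {G : Type u} [Group G] [Finite G]

/-- A cyclic Sylow 2-subgroup of an ambivalent group has order at most 2. -/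
theorem card_le_two_of_cyclic_sylow (hamb : ∀ x : G, IsConj x x⁻¹) (S : Sylow 2 G)
    (hcyc : IsCyclic (S : Subgroup G)) : Nat.card (S : Subgroup G) ∣ 2 := by
  have : Fact (Nat.Prime 2) := ⟨Nat.prime_two⟩
  obtain ⟨s, hsgen⟩ := hcyc.exists_generator
  -- every element of `S` is a power of `s`
  have hpow : ∀ h ∈ (S : Subgroup G), ∃ i : ℤ, h = (s : G) ^ i := by
    intro h hh
    obtain ⟨i, hi⟩ := Subgroup.mem_zpowers_iff.1 (hsgen ⟨h, hh⟩)
    refine ⟨i, ?_⟩
    have := congrArg Subtype.val hi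
    simpa using this.symm
  obtain ⟨g, hg⟩ := isConj_iff.1 (hamb (s : G))
  have hgs : SemiconjBy g (s : G) (s : G)⁻¹ := by
    unfold SemiconjBy
    rw [← hg]
    group
  have hn0 : orderOf g ≠ 0 := (orderOf_pos g).ne'
  obtain ⟨a, m, hm, hn⟩ := Nat.exists_eq_two_pow_mul_odd hn0
  have hs' : SemiconjBy (g ^ m) (s : G) (s : G)⁻¹ := semiconj_odd_pow hgs m hm
  have hspow : (g ^ m) ^ (2 ^ a) = 1 := by
    rw [← pow_mul, mul_comm, ← hn, pow_orderOf_eq_one]
  -- inverting elements map `S` into `S`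
  have hmaps : ∀ u : G, SemiconjBy u (s : G) (s : G)⁻¹ → ∀ h ∈ (S : Subgroup G),
      u * h * u⁻¹ ∈ (S : Subgroup G) := by
    intro u hu h hh
    obtain ⟨i, rfl⟩ := hpow h hh
    have h1 : SemiconjBy u ((s : G) ^ i) ((s : G)⁻¹ ^ i) := hu.zpow_right i
    have h2 : u * (s : G) ^ i * u⁻¹ = (s : G)⁻¹ ^ i := by
      rw [h1.eq]
      group
    rw [h2]
    exact (S : Subgroup G).zpow_mem ((S : Subgroup G).inv_mem s.2) i
  have hinv' : SemiconjBy (g ^ m)⁻¹ (s : G) (s : G)⁻¹ := by
    have h1 := hs'.inv_right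
    rw [inv_inv] at h1
    -- h1 : SemiconjBy (g^m) s⁻¹ s
    have h2 : (g ^ m) * (s : G)⁻¹ = (s : G) * (g ^ m) := h1.eq
    unfold SemiconjBy
    calc (g ^ m)⁻¹ * (s : G) = (g ^ m)⁻¹ * ((s : G) * (g ^ m)) * (g ^ m)⁻¹ := by group
      _ = (g ^ m)⁻¹ * ((g ^ m) * (s : G)⁻¹) * (g ^ m)⁻¹ := by rw [h2]
      _ = (s : G)⁻¹ * (g ^ m)⁻¹ := by group
  have hnorm : g ^ m ∈ Subgroup.normalizer ((S : Subgroup G) : Set G) := by
    rw [Subgroup.mem_normalizer_iff]
    intro h
    constructor
    · exact hmaps _ hs' h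
    · intro hh
      have := hmaps _ hinv' _ hh
      have e : (g ^ m)⁻¹ * (g ^ m * h * (g ^ m)⁻¹) * (g ^ m)⁻¹⁻¹ = h := by group
      rw [e] at this
      exact this
  have hP : IsPGroup 2 (Subgroup.zpowers (g ^ m)) := by
    rintro ⟨z, hz⟩
    obtain ⟨i, rfl⟩ := Subgroup.mem_zpowers_iff.1 hz
    refine ⟨a, ?_⟩
    apply Subtype.ext
    simp only [Subgroup.coe_pow, Subgroup.coe_one]
    rw [← zpow_natCast, ← zpow_mul, mul_comm, zpow_mul, zpow_natCast, hspow, one_zpow]
  have hmemS : g ^ m ∈ (S : Subgroup G) := by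
    have h1 : g ^ m ∈ Subgroup.zpowers (g ^ m) ⊓ Subgroup.normalizer ((S : Subgroup G) : Set G) :=
      ⟨Subgroup.mem_zpowers _, hnorm⟩
    have h2 : g ^ m ∈ Subgroup.zpowers (g ^ m) ⊓ (S : Subgroup G) :=
      (hP.inf_normalizer_sylow S).le h1
    exact h2.2
  obtain ⟨j, hj⟩ := hpow _ hmemS
  have hcomm : Commute (g ^ m) (s : G) := by
    rw [hj]
    exact (Commute.refl (s : G)).zpow_left j
  have hss : (s : G) = (s : G)⁻¹ := by
    have h1 : (g ^ m) * (s : G) = (s : G)⁻¹ * (g ^ m) := hs'.eq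
    rw [hcomm.eq] at h1
    exact mul_right_cancel h1
  have hs2 : (s : G) ^ 2 = 1 := by
    rw [pow_two]
    nth_rewrite 2 [hss]
    exact mul_inv_cancel _
  have hs2' : s ^ 2 = 1 := by
    apply Subtype.ext
    simpa using hs2
  have hcard : Nat.card (S : Subgroup G) = orderOf s := by
    rw [← Nat.card_zpowers s]
    have htop : Subgroup.zpowers s = ⊤ := by
      rw [eq_top_iff]
      intro x _
      exact hsgen x
    rw [htop]
    exact (Nat.card_congr (Subgroup.topEquiv (G := (S : Subgroup G))).toEquiv).symm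
  rw [hcard]
  exact orderOf_dvd_of_pow_eq_one hs2'

/-- **Part 1.** -/
theorem sylow_two_or_quaternion [Group.IsSolvable G] (hamb : ∀ x : G, IsConj x x⁻¹)
    (heven : 2 ∣ Nat.card G)
    (hone : ∀ s t : G, orderOf s = 2 → orderOf t = 2 → IsConj s t) (S : Sylow 2 G) :
    Nat.card (S : Subgroup G) = 2 ∨
      ∃ n : ℕ, Nonempty ((S : Subgroup G) ≃* QuaternionGroup (2 ^ (n + 1))) := by
  have : Fact (Nat.Prime 2) := ⟨Nat.prime_two⟩
  have hQ := commuting_involutions_eq (Nat.card G) G rfl hamb hone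
  have hS : IsPGroup 2 (S : Subgroup G) := S.isPGroup'
  have h2S : 2 ∣ Nat.card (S : Subgroup G) := S.dvd_card_of_dvd_card heven
  have hnt : Nontrivial (S : Subgroup G) := by
    rw [← Finite.one_lt_card_iff_nontrivial]
    have hpos : 0 < Nat.card (S : Subgroup G) := Nat.card_pos
    have := Nat.le_of_dvd hpos h2S
    omega
  -- a central involution
  have hcnt : Nontrivial (Subgroup.center (S : Subgroup G)) := hS.center_nontrivial
  have h2Z : 2 ∣ Nat.card (Subgroup.center (S : Subgroup G)) := by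
    have hZ : IsPGroup 2 (Subgroup.center (S : Subgroup G)) := hS.to_subgroup _
    obtain ⟨n, hn0, hn⟩ := hZ.nontrivial_iff_card.mp hcnt
    rw [hn]
    exact dvd_pow_self _ (ne_of_gt hn0)
  obtain ⟨z, hz⟩ := exists_prime_orderOf_dvd_card' 2 h2Z
  have hzG : orderOf ((z : (S : Subgroup G)) : G) = 2 := by
    rw [Subgroup.orderOf_coe, Subgroup.orderOf_coe]
    exact hz
  -- every involution of `S` equals `z`
  have hinvS : ∀ h : (S : Subgroup G), orderOf h = 2 → h = (z : (S : Subgroup G)) := by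
    intro h hh
    have hhG : orderOf (h : G) = 2 := by rw [Subgroup.orderOf_coe]; exact hh
    have hc : (h : (S : Subgroup G)) * (z : (S : Subgroup G)) = z * h :=
      (Subgroup.mem_center_iff.1 z.2) h
    have hcG : (h : G) * ((z : (S : Subgroup G)) : G) = ((z : (S : Subgroup G)) : G) * (h : G) := by
      have := congrArg Subtype.val hc
      simpa using this
    exact Subtype.ext (hQ _ _ hhG hzG hcG)
  have huniq : ∀ H K : Subgroup (S : Subgroup G), Nat.card H = 2 → Nat.card K = 2 → H = K := by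
    have hone' : ∀ H : Subgroup (S : Subgroup G), Nat.card H = 2 →
        H = Subgroup.zpowers (z : (S : Subgroup G)) := by
      intro H hH
      obtain ⟨h, hh⟩ := exists_prime_orderOf_dvd_card' (G := H) 2 (by rw [hH])
      have hh' : orderOf (h : (S : Subgroup G)) = 2 := by rw [Subgroup.orderOf_coe]; exact hh
      have hhz := hinvS _ hh'
      symm
      apply Subgroup.eq_of_le_of_card_ge
      · rw [Subgroup.zpowers_le, ← hhz]
        exact h.2
      · rw [Nat.card_zpowers, Subgroup.orderOf_coe, hz, hH]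
    intro H K hH hK
    rw [hone' H hH, hone' K hK]
  rcases Cfsg.Agent.S0016.result (G := (S : Subgroup G)) 2 hS huniq with hcyc | ⟨-, n, ⟨e⟩⟩
  · left
    have hd := card_le_two_of_cyclic_sylow hamb S hcyc
    exact Nat.dvd_antisymm hd h2S
  · rcases n with _ | n
    · left
      have hcyc : IsCyclic (S : Subgroup G) := by
        have : IsCyclic (QuaternionGroup (2 ^ 0)) := by
          rw [pow_zero]
          exact QuaternionGroup.quaternionGroup_one_isCyclic
        exact isCyclic_of_surjective e.symm e.symm.surjective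
      have hd := card_le_two_of_cyclic_sylow hamb S hcyc
      exact Nat.dvd_antisymm hd h2S
    · right
      exact ⟨n, ⟨e⟩⟩

end AmbSylow

end Cfsg.Agent.Lib.Helper90
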