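import Mathlib
import Cfsg.Prelude.Def_CaseTheorems
import Cfsg.Agent.Lib.Helper97.Cores
import Cfsg.Agent.Lib.Helper90.AmbCore
import Cfsg.Agent.Lib.Helper90.LargeSimple

/-!
Ambivalent groups with a Sylow 2-subgroup of order 2.
-/

set_option autoImplicit false

universe u

namespace Cfsg.Agent.Lib.Helper90

section AmbSylow2

open scoped commutatorElement

variable {G : Type u} [Group G] [Finite G]

/-- **Part 2.** -/
theorem sylow_card_two_structure (hamb : ∀ x : G, IsConj x x⁻¹) (S : Sylow 2 G)
    (hS2 : Nat.card (S : Subgroup G) = 2) :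
    (S : Subgroup G).IsComplement' (Cfsg.oddCore G) ∧ Cfsg.oddCore G = commutator G ∧
      ∀ t : G, t ∈ (S : Subgroup G) → t ≠ 1 → ∀ x : G, x ∈ Cfsg.oddCore G →
        t * x * t⁻¹ = x⁻¹ := by
  have : Fact (Nat.Prime 2) := ⟨Nat.prime_two⟩
  -- the involution of `S`
  obtain ⟨t₀, ht₀1, ht₀u⟩ := (Nat.card_eq_two_iff' (1 : (S : Subgroup G))).1 hS2
  have ht₀u' : ∀ u ∈ (S : Subgroup G), u ≠ 1 → u = (t₀ : G) := by
    intro u hu hu1
    have := ht₀u ⟨u, hu⟩ (by intro h; exact hu1 (congrArg Subtype.val h))
    exact congrArg Subtype.val this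
  have ht₀G1 : (t₀ : G) ≠ 1 := by
    intro h
    exact ht₀1 (Subtype.ext h)
  have ht₀sq : (t₀ : G) * (t₀ : G) = 1 := by
    by_contra h
    have h1 := ht₀u' _ ((S : Subgroup G).mul_mem t₀.2 t₀.2) h
    have h2 : (t₀ : G) = 1 := by
      have := congrArg (fun z => (t₀ : G)⁻¹ * z) h1
      simpa using this
    exact ht₀G1 h2
  have hScomm : ∀ u ∈ (S : Subgroup G), ∀ w ∈ (S : Subgroup G), u * w = w * u := by
    intro u hu w hw
    by_cases hu1 : u = 1
    · rw [hu1, one_mul, mul_one]
    · by_cases hw1 : w = 1
      · rw [hw1, one_mul, mul_one]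
      · rw [ht₀u' u hu hu1, ht₀u' w hw hw1]
  -- Burnside's transfer hypothesis
  have hP : Subgroup.normalizer ((S : Subgroup G) : Set G) ≤
      Subgroup.centralizer ((S : Subgroup G) : Set G) := by
    intro g hg
    rw [Subgroup.mem_normalizer_iff] at hg
    rw [Subgroup.mem_centralizer_iff]
    intro h hh
    by_cases hh1 : h = 1
    · rw [hh1, one_mul, mul_one]
    · have h1 : g * h * g⁻¹ ∈ (S : Subgroup G) := (hg h).1 hh
      have h2 : g * h * g⁻¹ ≠ 1 := by
        intro h3
        apply hh1
        have := congrArg (fun z => g⁻¹ * z * g) h3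
        simpa [mul_assoc] using this
      have h3 : g * h * g⁻¹ = h := by
        rw [ht₀u' _ h1 h2, ht₀u' h hh hh1]
      calc h * g = g * h * g⁻¹ * g := by rw [h3]
        _ = g * h := by group
  set f := MonoidHom.transferSylow S hP with hf
  have hK : f.ker.IsComplement' (S : Subgroup G) := MonoidHom.ker_transferSylow_isComplement' S hP
  have hKn : f.ker.Normal := inferInstance
  have hcardK : Nat.card f.ker * 2 = Nat.card G := by
    have h := hK.card_mul_card
    rw [hS2] at h
    exact h
  have hKodd : Odd (Nat.card f.ker) := by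
    have h1 := S.card_coprime_index
    have h2 := (S : Subgroup G).card_mul_index
    rw [hS2] at h1 h2
    have h3 : (S : Subgroup G).index = Nat.card f.ker := by omega
    rw [h3] at h1
    exact Nat.Coprime.odd_of_left h1
  -- the odd core is the kernel of the transfer
  have hcore : Cfsg.oddCore G = f.ker := by
    apply le_antisymm
    · intro n hn
      rw [MonoidHom.mem_ker]
      have h1 : orderOf (f n) ∣ orderOf n := orderOf_map_dvd f n
      have h2 : orderOf n ∣ Nat.card (Cfsg.oddCore G) := Subgroup.orderOf_dvd_natCard _ hn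
      have h3 : Odd (orderOf (f n)) :=
        (Cfsg.Agent.Lib.Helper97.odd_card_oddCore (G := G)).of_dvd_nat (h1.trans h2)
      have h4 : orderOf (f n) ∣ 2 := by
        have h := orderOf_dvd_natCard (f n)
        rw [hS2] at h
        exact h
      have h5 : orderOf (f n) = 1 :=
        Nat.Coprime.eq_one_of_dvd h3.coprime_two_right h4
      exact orderOf_eq_one_iff.1 h5
    · exact Cfsg.Agent.Lib.Helper97.le_oddCore_of_normal_of_odd hKn hKodd
  have hpowK : ∀ k ∈ f.ker, k ^ Nat.card f.ker = 1 := by
    intro k hk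
    have := Subgroup.orderOf_dvd_natCard _ hk
    exact orderOf_dvd_iff_pow_eq_one.1 this
  -- `t₀` acts fixed-point-freely on the kernel
  have hfpf : ∀ c ∈ f.ker, c * (t₀ : G) = (t₀ : G) * c → c = 1 := by
    intro c hc hct
    obtain ⟨g, hg⟩ := isConj_iff.1 (hamb c)
    obtain ⟨⟨k, u⟩, hku, -⟩ := hK.existsUnique g
    have hku' : (k : G) * (u : G) = g := hku
    have huc : (u : G) * c = c * (u : G) := by
      by_cases hu1 : (u : G) = 1
      · rw [hu1, one_mul, mul_one]
      · rw [ht₀u' _ u.2 hu1]
        exact hct.symm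
    have hkc : SemiconjBy (k : G) c c⁻¹ := by
      unfold SemiconjBy
      have h1 : g * c = c⁻¹ * g := by
        rw [← hg]
        group
      rw [← hku'] at h1
      -- k u c = c⁻¹ k u
      have h2 : (k : G) * (u : G) * c = (k : G) * c * (u : G) := by
        rw [mul_assoc, huc, ← mul_assoc]
      rw [h2] at h1
      have h3 : (k : G) * c * (u : G) = c⁻¹ * (k : G) * (u : G) := by
        rw [h1, mul_assoc]
      exact mul_right_cancel h3
    have h1 := semiconj_odd_pow hkc (Nat.card f.ker) hKodd
    rw [hpowK _ k.2] at h1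
    have h2 : c = c⁻¹ := by
      have := h1.eq
      rw [one_mul, mul_one] at this
      exact this
    have h3 : c ^ 2 = 1 := by
      rw [pow_two]
      nth_rewrite 2 [h2]
      exact mul_inv_cancel c
    exact eq_one_of_pow_eq_one_of_coprime c 2 (Nat.card f.ker) hKodd.coprime_two_left h3
      (hpowK c hc)
  have hinv := inverts_of_fpf f.ker (t₀ : G) ht₀sq hfpf
  refine ⟨?_, ?_, ?_⟩
  · rw [hcore]
    exact hK.symm
  · rw [hcore]
    apply le_antisymm
    · intro n hn
      have h1 : ⁅(t₀ : G), n⁆ ∈ commutator G := by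
        rw [commutator_def]
        exact Subgroup.commutator_mem_commutator (Subgroup.mem_top _) (Subgroup.mem_top _)
      have h2 : ⁅(t₀ : G), n⁆ = (n ^ 2)⁻¹ := by
        rw [commutatorElement_def, hinv n hn, pow_two, mul_inv_rev]
      rw [h2] at h1
      have h3 : n ^ 2 ∈ commutator G := by
        have := (commutator G).inv_mem h1
        rwa [inv_inv] at this
      have h4 : n ^ Nat.card f.ker ∈ commutator G := by
        rw [hpowK n hn]
        exact Subgroup.one_mem _
      exact mem_of_pow_mem_of_coprime _ n 2 (Nat.card f.ker) hKodd.coprime_two_left h3 h4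
    · rw [commutator_def, Subgroup.commutator_le]
      intro a _ b _
      rw [MonoidHom.mem_ker, map_commutatorElement, commutatorElement_def]
      have h1 : (f a : G) * (f b : G) = (f b : G) * (f a : G) :=
        hScomm _ (f a).2 _ (f b).2
      have h2 : f a * f b = f b * f a := Subtype.ext (by simpa using h1)
      rw [h2]
      group
  · intro t ht ht1 x hx
    rw [ht₀u' t ht ht1]
    rw [hcore] at hx
    exact hinv x hx

end AmbSylow2

end Cfsg.Agent.Lib.Helper90
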