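import Mathlib

set_option autoImplicit false

namespace Cfsg.Agent.Lib.Helper90.BSWDih

open MulAction
open scoped Pointwise

section

variable {G : Type*} [Group G] [Finite G] (Q D : Subgroup G)

/-- `Q` is abelian. -/
theorem backA_comm (hcent : ∀ x ∈ Q, x ≠ 1 → Subgroup.centralizer ({x} : Set G) = Q) :
    ∀ x ∈ Q, ∀ y ∈ Q, x * y = y * x := by
  intro x hx y hy
  by_cases hx1 : x = 1
  · rw [hx1, one_mul, mul_one]
  · have h1 : y ∈ Subgroup.centralizer ({x} : Set G) := by rw [hcent x hx hx1]; exact hy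
    exact (Subgroup.mem_centralizer_iff.mp h1) x rfl

/-- the order of the normalizer. -/
theorem backA_cardN (hQD : Q ⊓ D = ⊥) (hN : Subgroup.normalizer (Q : Set G) = Q ⊔ D) :
    Nat.card (Subgroup.normalizer (Q : Set G)) = Nat.card Q * Nat.card D := by
  set N : Subgroup G := Subgroup.normalizer (Q : Set G) with hNdef
  have hQN : Q ≤ N := Subgroup.le_normalizer
  have hDN : D ≤ N := by rw [hN]; exact le_sup_right
  have hdisj : Disjoint (Q.subgroupOf N) (D.subgroupOf N) := by
    rw [Subgroup.disjoint_def]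
    intro x hx hx'
    have h1 : (x : G) ∈ Q ⊓ D := ⟨Subgroup.mem_subgroupOf.mp hx, Subgroup.mem_subgroupOf.mp hx'⟩
    rw [hQD, Subgroup.mem_bot] at h1
    exact Subtype.ext h1
  have hsup : Q.subgroupOf N ⊔ D.subgroupOf N = ⊤ := by
    rw [← Subgroup.subgroupOf_sup hQN hDN, ← hN, Subgroup.subgroupOf_self]
  have hmul : ((Q.subgroupOf N : Subgroup N) : Set N) * ((D.subgroupOf N : Subgroup N) : Set N)
      = Set.univ := by
    rw [← Subgroup.normal_mul, hsup, Subgroup.coe_top]
  have hcompl := Subgroup.isComplement'_of_disjoint_and_mul_eq_univ hdisj hmul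
  have h := hcompl.card_mul_card
  rw [Nat.card_congr (Subgroup.subgroupOfEquivOfLe hQN).toEquiv,
    Nat.card_congr (Subgroup.subgroupOfEquivOfLe hDN).toEquiv] at h
  exact h.symm

/-- elements of the normalizer whose order divides `|Q|` lie in `Q`. -/
theorem backA_mem_Q (hDQ : 2 * Nat.card D + 1 = Nat.card Q) (hQD : Q ⊓ D = ⊥)
    (hN : Subgroup.normalizer (Q : Set G) = Q ⊔ D) (x : G)
    (hxN : x ∈ Subgroup.normalizer (Q : Set G)) (hx : orderOf x ∣ Nat.card Q) : x ∈ Q := by
  set N : Subgroup G := Subgroup.normalizer (Q : Set G) with hNdef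
  have hQN : Q ≤ N := Subgroup.le_normalizer
  have hcardN := backA_cardN Q D hQD hN
  have hidx : (Q.subgroupOf N).index = Nat.card D := by
    have h1 := Subgroup.card_mul_index (Q.subgroupOf N)
    rw [Nat.card_congr (Subgroup.subgroupOfEquivOfLe hQN).toEquiv, hcardN] at h1
    exact Nat.eq_of_mul_eq_mul_left Nat.card_pos h1
  have h1 : orderOf (QuotientGroup.mk' (Q.subgroupOf N) ⟨x, hxN⟩) ∣ orderOf (⟨x, hxN⟩ : N) :=
    orderOf_map_dvd _ _
  rw [Subgroup.orderOf_mk] at h1
  have h2 : orderOf (QuotientGroup.mk' (Q.subgroupOf N) ⟨x, hxN⟩) ∣ Nat.card D := by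
    rw [← hidx, Subgroup.index_eq_card]
    exact orderOf_dvd_natCard _
  have hcop : Nat.Coprime (Nat.card Q) (Nat.card D) := by
    rw [← hDQ]
    have : Nat.Coprime (Nat.card D * 2 + 1) (Nat.card D) := by
      rw [Nat.coprime_mul_left_add_left]; exact Nat.coprime_one_left _
    rwa [mul_comm] at this
  have h3 : orderOf (QuotientGroup.mk' (Q.subgroupOf N) ⟨x, hxN⟩) = 1 :=
    Nat.eq_one_of_dvd_coprimes hcop (h1.trans hx) h2
  rw [orderOf_eq_one_iff] at h3
  exact Subgroup.mem_subgroupOf.mp ((QuotientGroup.eq_one_iff _).mp h3)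

/-- semiregularity: a nonidentity element of `Q` has no conjugate by `g ∉ N(Q)` in `N(Q)`. -/
theorem backA_semireg (hcent : ∀ x ∈ Q, x ≠ 1 → Subgroup.centralizer ({x} : Set G) = Q)
    (hDQ : 2 * Nat.card D + 1 = Nat.card Q) (hQD : Q ⊓ D = ⊥)
    (hN : Subgroup.normalizer (Q : Set G) = Q ⊔ D) (x g : G) (hx : x ∈ Q) (hx1 : x ≠ 1)
    (hg : g⁻¹ * x * g ∈ Subgroup.normalizer (Q : Set G)) :
    g ∈ Subgroup.normalizer (Q : Set G) := by
  have hord : orderOf (g⁻¹ * x * g) = orderOf x := by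
    have := MulEquiv.orderOf_eq (MulAut.conj g⁻¹) x
    rwa [MulAut.conj_apply, inv_inv] at this
  have hxord : orderOf x ∣ Nat.card Q := by
    have := orderOf_dvd_natCard (⟨x, hx⟩ : Q)
    rwa [Subgroup.orderOf_mk] at this
  have hx'Q : g⁻¹ * x * g ∈ Q := backA_mem_Q Q D hDQ hQD hN _ hg (hord ▸ hxord)
  have hx'1 : g⁻¹ * x * g ≠ 1 := by
    intro h
    apply hx1
    have : x = g * (g⁻¹ * x * g) * g⁻¹ := by group
    rw [this, h]; group
  have hC := hcent x hx hx1
  have hC' := hcent _ hx'Q hx'1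
  have hginv : g⁻¹ ∈ Subgroup.normalizer (Q : Set G) := by
    rw [Subgroup.mem_normalizer_iff]
    intro y
    rw [inv_inv]
    constructor
    · intro hy
      rw [← hC', Subgroup.mem_centralizer_iff]
      intro w hw
      rw [Set.mem_singleton_iff] at hw
      subst hw
      have hyx : x * y = y * x := by
        have h1 : y ∈ Subgroup.centralizer ({x} : Set G) := by rw [hC]; exact hy
        exact (Subgroup.mem_centralizer_iff.mp h1) x rfl
      calc g⁻¹ * x * g * (g⁻¹ * y * g) = g⁻¹ * (x * y) * g := by group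
        _ = g⁻¹ * (y * x) * g := by rw [hyx]
        _ = g⁻¹ * y * g * (g⁻¹ * x * g) := by group
    · intro hy
      rw [← hC, Subgroup.mem_centralizer_iff]
      intro w hw
      rw [Set.mem_singleton_iff] at hw
      subst hw
      have h1 : g⁻¹ * y * g ∈ Subgroup.centralizer ({g⁻¹ * w * g} : Set G) := by
        rw [hC']; exact hy
      have h2 := (Subgroup.mem_centralizer_iff.mp h1) _ rfl
      have h3 : g * (g⁻¹ * w * g * (g⁻¹ * y * g)) * g⁻¹ = g * (g⁻¹ * y * g * (g⁻¹ * w * g)) * g⁻¹ := by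
        rw [h2]
      have e1 : g * (g⁻¹ * w * g * (g⁻¹ * y * g)) * g⁻¹ = w * y := by group
      have e2 : g * (g⁻¹ * y * g * (g⁻¹ * w * g)) * g⁻¹ = y * w := by group
      rw [e1, e2] at h3
      exact h3
  have := Subgroup.inv_mem _ hginv
  rwa [inv_inv] at this

end

end Cfsg.Agent.Lib.Helper90.BSWDih
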