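import Mathlib
import Cfsg.Agent.Lib.Helper90.BSWDihBackA

set_option autoImplicit false
set_option linter.unusedSectionVars false

namespace Cfsg.Agent.Lib.Helper90.BSWDih

open MulAction
open scoped Pointwise

section

variable {G : Type*} [Group G] [Finite G] (Q D : Subgroup G)

local notation "NQ" => Subgroup.normalizer (Q : Set G)

/-- the base point -/
noncomputable abbrev basePt : G ⧸ Subgroup.normalizer (Q : Set G) :=
  ((1 : G) : G ⧸ Subgroup.normalizer (Q : Set G))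

theorem backB_mk_eq_base (g : G) : ((g : G) : G ⧸ NQ) = basePt Q ↔ g ∈ NQ := by
  unfold basePt
  rw [QuotientGroup.eq, mul_one]
  exact Subgroup.inv_mem_iff _

theorem backB_smul_base (g : G) : g • basePt Q = basePt Q ↔ g ∈ NQ := by
  unfold basePt
  rw [← MulAction.mem_stabilizer_iff, MulAction.stabilizer_quotient]

/-- a nonidentity element of `Q` fixes only the base point. -/
theorem backB_fix (hcent : ∀ x ∈ Q, x ≠ 1 → Subgroup.centralizer ({x} : Set G) = Q)
    (hDQ : 2 * Nat.card D + 1 = Nat.card Q) (hQD : Q ⊓ D = ⊥)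
    (hN : NQ = Q ⊔ D) (x : G) (hx : x ∈ Q) (hx1 : x ≠ 1) (ω : G ⧸ NQ) (hω : x • ω = ω) :
    ω = basePt Q := by
  induction ω using QuotientGroup.induction_on with
  | H g =>
    rw [MulAction.Quotient.smul_mk, QuotientGroup.eq] at hω
    rw [backB_mk_eq_base]
    apply backA_semireg Q D hcent hDQ hQD hN x g hx hx1
    have h1 := Subgroup.inv_mem _ hω
    have e : ((x • g)⁻¹ * g)⁻¹ = g⁻¹ * x * g := by
      rw [smul_eq_mul]; group
    rwa [e] at h1

/-- the number of points -/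
theorem backB_card (hcard : 2 * Nat.card G = Nat.card Q * (Nat.card Q + 1) * (Nat.card Q - 1))
    (hDQ : 2 * Nat.card D + 1 = Nat.card Q) (hQD : Q ⊓ D = ⊥) (hN : NQ = Q ⊔ D) :
    Nat.card (G ⧸ NQ) = Nat.card Q + 1 := by
  have h1 := backA_cardN Q D hQD hN
  have h2 := Subgroup.card_mul_index NQ
  rw [h1, Subgroup.index_eq_card] at h2
  have hq : Nat.card Q - 1 = 2 * Nat.card D := by omega
  rw [hq] at hcard
  have hpos : 0 < Nat.card Q * Nat.card D := Nat.mul_pos Nat.card_pos Nat.card_pos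
  have h3 : Nat.card Q * Nat.card D * Nat.card (G ⧸ NQ) =
      Nat.card Q * Nat.card D * (Nat.card Q + 1) := by
    have : 2 * (Nat.card Q * Nat.card D * Nat.card (G ⧸ NQ)) =
        2 * (Nat.card Q * Nat.card D * (Nat.card Q + 1)) := by
      rw [h2, hcard]; ring
    omega
  exact Nat.eq_of_mul_eq_mul_left hpos h3

/-- `Q` is transitive off the base point. -/
theorem backB_trans (hcard : 2 * Nat.card G = Nat.card Q * (Nat.card Q + 1) * (Nat.card Q - 1))
    (hcent : ∀ x ∈ Q, x ≠ 1 → Subgroup.centralizer ({x} : Set G) = Q)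
    (hDQ : 2 * Nat.card D + 1 = Nat.card Q) (hQD : Q ⊓ D = ⊥)
    (hN : NQ = Q ⊔ D) (b c : G ⧸ NQ) (hb : b ≠ basePt Q) (hc : c ≠ basePt Q) :
    ∃ x ∈ Q, x • b = c := by
  classical
  have : Fintype (G ⧸ NQ) := Fintype.ofFinite _
  have hQN : Q ≤ NQ := Subgroup.le_normalizer
  let f : Q → {c : G ⧸ NQ // c ≠ basePt Q} := fun x => ⟨(x : G) • b, by
    intro h
    apply hb
    have h1 : (x : G)⁻¹ • ((x : G) • b) = (x : G)⁻¹ • basePt Q := by rw [h]
    rw [inv_smul_smul] at h1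
    rw [h1, backB_smul_base]
    exact Subgroup.inv_mem _ (hQN x.2)⟩
  have hinj : Function.Injective f := by
    intro x x' h
    have h1 : (x : G) • b = (x' : G) • b := congrArg Subtype.val h
    have h2 : ((x' : G)⁻¹ * (x : G)) • b = b := by
      rw [mul_smul, h1, inv_smul_smul]
    by_contra hne
    have h3 : (x' : G)⁻¹ * (x : G) ≠ 1 := by
      intro h4
      apply hne
      apply Subtype.ext
      exact (inv_mul_eq_one.mp h4).symm
    exact hb (backB_fix Q D hcent hDQ hQD hN _ (Q.mul_mem (Q.inv_mem x'.2) x.2) h3 b h2)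
  have hcardle : Nat.card {c : G ⧸ NQ // c ≠ basePt Q} ≤ Nat.card Q := by
    have h1 := backB_card Q D hcard hDQ hQD hN
    rw [Nat.card_eq_fintype_card] at h1
    rw [Nat.card_eq_fintype_card, Fintype.card_subtype_compl, Fintype.card_subtype_eq, h1]
    omega
  have hbij := hinj.bijective_of_nat_card_le hcardle
  obtain ⟨x, hx⟩ := hbij.2 ⟨c, hc⟩
  exact ⟨x, x.2, congrArg Subtype.val hx⟩

/-- 2-transitivity -/
theorem backB_two_trans
    (hcard : 2 * Nat.card G = Nat.card Q * (Nat.card Q + 1) * (Nat.card Q - 1))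
    (hcent : ∀ x ∈ Q, x ≠ 1 → Subgroup.centralizer ({x} : Set G) = Q)
    (hDQ : 2 * Nat.card D + 1 = Nat.card Q) (hQD : Q ⊓ D = ⊥)
    (hN : NQ = Q ⊔ D) (a₁ b₁ c₁ d₁ : G ⧸ NQ) (h1 : a₁ ≠ b₁) (h2 : c₁ ≠ d₁) :
    ∃ g : G, g • a₁ = c₁ ∧ g • b₁ = d₁ := by
  have hQN : Q ≤ NQ := Subgroup.le_normalizer
  obtain ⟨g₁, hg₁⟩ := MulAction.exists_smul_eq G a₁ (basePt Q)
  obtain ⟨g₂, hg₂⟩ := MulAction.exists_smul_eq G c₁ (basePt Q)
  have hb : g₁ • b₁ ≠ basePt Q := by
    rw [← hg₁]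
    intro h
    exact h1 (MulAction.injective g₁ h).symm
  have hd : g₂ • d₁ ≠ basePt Q := by
    rw [← hg₂]
    intro h
    exact h2 (MulAction.injective g₂ h).symm
  obtain ⟨x, hx, hxb⟩ := backB_trans Q D hcard hcent hDQ hQD hN _ _ hb hd
  have hxa : x • basePt Q = basePt Q := (backB_smul_base Q x).mpr (hQN hx)
  refine ⟨g₂⁻¹ * x * g₁, ?_, ?_⟩
  · rw [mul_smul, mul_smul, hg₁, hxa, ← hg₂, inv_smul_smul]
  · rw [mul_smul, mul_smul, hxb, inv_smul_smul]

/-- an element of the stabilizer of the base point fixing two further points is trivial. -/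
theorem backB_three_base
    (hcard : 2 * Nat.card G = Nat.card Q * (Nat.card Q + 1) * (Nat.card Q - 1))
    (hcent : ∀ x ∈ Q, x ≠ 1 → Subgroup.centralizer ({x} : Set G) = Q)
    (hDQ : 2 * Nat.card D + 1 = Nat.card Q) (hQD : Q ⊓ D = ⊥)
    (hN : NQ = Q ⊔ D) (g : G) (b c : G ⧸ NQ) (hb : b ≠ basePt Q) (hc : c ≠ basePt Q)
    (hbc : b ≠ c) (hga : g • basePt Q = basePt Q) (hgb : g • b = b) (hgc : g • c = c) :
    g = 1 := by
  have hQN : Q ≤ NQ := Subgroup.le_normalizer
  have hgN : g ∈ NQ := (backB_smul_base Q g).mp hga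
  obtain ⟨x, hx, hxb⟩ := backB_trans Q D hcard hcent hDQ hQD hN b c hb hc
  have hx1 : x ≠ 1 := by
    intro h; rw [h, one_smul] at hxb; exact hbc hxb
  -- w = x⁻¹ * (g * x * g⁻¹) ∈ Q fixes b
  have hgx : g * x * g⁻¹ ∈ Q := by
    have := (Subgroup.mem_normalizer_iff.mp hgN) x
    exact this.mp hx
  have hw : x⁻¹ * (g * x * g⁻¹) ∈ Q := Q.mul_mem (Q.inv_mem hx) hgx
  have hwb : (x⁻¹ * (g * x * g⁻¹)) • b = b := by
    have hginvb : g⁻¹ • b = b := by
      have : g⁻¹ • (g • b) = g⁻¹ • b := by rw [hgb]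
      rw [inv_smul_smul] at this
      exact this.symm
    rw [mul_smul, mul_smul, mul_smul, hginvb, hxb, hgc, ← hxb, inv_smul_smul]
  have hw1 : x⁻¹ * (g * x * g⁻¹) = 1 := by
    by_contra hne
    exact hb (backB_fix Q D hcent hDQ hQD hN _ hw hne b hwb)
  have hcomm : g * x = x * g := by
    have : g * x * g⁻¹ = x := by
      have := congrArg (fun y => x * y) hw1
      simpa using this
    calc g * x = (g * x * g⁻¹) * g := by group
      _ = x * g := by rw [this]
  have hgQ : g ∈ Q := by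
    rw [← hcent x hx hx1, Subgroup.mem_centralizer_iff]
    intro w hw0
    rw [Set.mem_singleton_iff] at hw0
    subst hw0
    exact hcomm.symm
  by_contra hg1
  exact hb (backB_fix Q D hcent hDQ hQD hN g hgQ hg1 b hgb)

/-- no nonidentity element fixes three points. -/
theorem backB_three
    (hcard : 2 * Nat.card G = Nat.card Q * (Nat.card Q + 1) * (Nat.card Q - 1))
    (hcent : ∀ x ∈ Q, x ≠ 1 → Subgroup.centralizer ({x} : Set G) = Q)
    (hDQ : 2 * Nat.card D + 1 = Nat.card Q) (hQD : Q ⊓ D = ⊥)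
    (hN : NQ = Q ⊔ D) (g : G) (a b c : G ⧸ NQ) (hab : a ≠ b) (hbc : b ≠ c) (hac : a ≠ c)
    (hga : g • a = a) (hgb : g • b = b) (hgc : g • c = c) : g = 1 := by
  obtain ⟨h, hh⟩ := MulAction.exists_smul_eq G a (basePt Q)
  have key := backB_three_base Q D hcard hcent hDQ hQD hN (h * g * h⁻¹) (h • b) (h • c)
    (by rw [← hh]; intro e; exact hab (MulAction.injective h e).symm)
    (by rw [← hh]; intro e; exact hac (MulAction.injective h e).symm)
    (by intro e; exact hbc (MulAction.injective h e))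
    (by rw [← hh, mul_smul, mul_smul, inv_smul_smul, hga])
    (by rw [mul_smul, mul_smul, inv_smul_smul, hgb])
    (by rw [mul_smul, mul_smul, inv_smul_smul, hgc])
  have : g = h⁻¹ * (h * g * h⁻¹) * h := by group
  rw [this, key]; group

/-- the order of a two-point stabilizer. -/
theorem backB_card_stab
    (hcard : 2 * Nat.card G = Nat.card Q * (Nat.card Q + 1) * (Nat.card Q - 1))
    (hcent : ∀ x ∈ Q, x ≠ 1 → Subgroup.centralizer ({x} : Set G) = Q)
    (hDQ : 2 * Nat.card D + 1 = Nat.card Q) (hQD : Q ⊓ D = ⊥)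
    (hN : NQ = Q ⊔ D) (b : G ⧸ NQ) (hb : b ≠ basePt Q) :
    Nat.card ↥(stabilizer G (basePt Q) ⊓ stabilizer G b) = Nat.card D := by
  have hQN : Q ≤ NQ := Subgroup.le_normalizer
  set Db : Subgroup G := stabilizer G (basePt Q) ⊓ stabilizer G b with hDb
  have hstab : stabilizer G (basePt Q) = NQ := MulAction.stabilizer_quotient _
  let φ : Q × Db → NQ := fun p => ⟨(p.1 : G) * (p.2 : G), by
    apply Subgroup.mul_mem _ (hQN p.1.2)
    have := p.2.2.1
    rwa [hstab] at this⟩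
  have hinj : Function.Injective φ := by
    rintro ⟨x, y⟩ ⟨x', y'⟩ h
    have h1 : (x : G) * (y : G) = (x' : G) * (y' : G) := congrArg Subtype.val h
    have h2 : (x' : G)⁻¹ * (x : G) = (y' : G) * (y : G)⁻¹ := by
      have : (x' : G)⁻¹ * ((x : G) * (y : G)) * (y : G)⁻¹ =
          (x' : G)⁻¹ * ((x' : G) * (y' : G)) * (y : G)⁻¹ := by rw [h1]
      calc (x' : G)⁻¹ * (x : G) = (x' : G)⁻¹ * ((x : G) * (y : G)) * (y : G)⁻¹ := by group
        _ = (x' : G)⁻¹ * ((x' : G) * (y' : G)) * (y : G)⁻¹ := this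
        _ = (y' : G) * (y : G)⁻¹ := by group
    have h3 : ((x' : G)⁻¹ * (x : G)) • b = b := by
      rw [h2]
      have := (Db.mul_mem y'.2 (Db.inv_mem y.2)).2
      exact this
    have h4 : (x' : G)⁻¹ * (x : G) = 1 := by
      by_contra hne
      exact hb (backB_fix Q D hcent hDQ hQD hN _ (Q.mul_mem (Q.inv_mem x'.2) x.2) hne b h3)
    have h5 : (x : G) = (x' : G) := (inv_mul_eq_one.mp h4).symm
    have h6 : (y : G) = (y' : G) := by
      rw [h5] at h1
      exact mul_left_cancel h1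
    exact Prod.ext (Subtype.ext h5) (Subtype.ext h6)
  have hsurj : Function.Surjective φ := by
    rintro ⟨h, hh⟩
    have hhb : h • b ≠ basePt Q := by
      intro e
      apply hb
      have h1 : h⁻¹ • (h • b) = h⁻¹ • basePt Q := by rw [e]
      rw [inv_smul_smul] at h1
      rw [h1, backB_smul_base]
      exact Subgroup.inv_mem _ hh
    obtain ⟨x, hx, hxb⟩ := backB_trans Q D hcard hcent hDQ hQD hN b (h • b) hb hhb
    have hy : x⁻¹ * h ∈ Db := by
      constructor
      · rw [hstab]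
        exact Subgroup.mul_mem _ (Subgroup.inv_mem _ (hQN hx)) hh
      · show x⁻¹ * h ∈ stabilizer G b
        rw [MulAction.mem_stabilizer_iff, mul_smul, ← hxb, inv_smul_smul]
    refine ⟨(⟨x, hx⟩, ⟨x⁻¹ * h, hy⟩), ?_⟩
    apply Subtype.ext
    show x * (x⁻¹ * h) = h
    group
  have hcardeq := Nat.card_congr (Equiv.ofBijective φ ⟨hinj, hsurj⟩)
  rw [Nat.card_prod, backA_cardN Q D hQD hN] at hcardeq
  exact Nat.eq_of_mul_eq_mul_left Nat.card_pos hcardeq

end

end Cfsg.Agent.Lib.Helper90.BSWDih
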