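import Mathlib
import Cfsg.Agent.Lib.Helper30.BSW.Defs
import Cfsg.Agent.S0742
import Cfsg.Agent.Lib.Helper6.ZassOdd5
import Cfsg.Agent.Lib.Helper90.BSWDihBackB

set_option autoImplicit false
set_option linter.unusedSectionVars false

namespace Cfsg.Agent.Lib.Helper90.BSWDih

open MulAction Cfsg
open scoped Pointwise

section

variable {G : Type*} [Group G] [Finite G] (Q D : Subgroup G)

local notation "NQ" => Subgroup.normalizer (Q : Set G)

/-- `|Q| = 3` is impossible in a simple group (Burnside). -/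
theorem backC_card_ne_three [IsSimpleGroup G]
    (hcard : 2 * Nat.card G = Nat.card Q * (Nat.card Q + 1) * (Nat.card Q - 1))
    (hcent : ∀ x ∈ Q, x ≠ 1 → Subgroup.centralizer ({x} : Set G) = Q)
    (hDQ : 2 * Nat.card D + 1 = Nat.card Q) (hN : NQ = Q ⊔ D) : Nat.card Q ≠ 3 := by
  intro hq
  have : Fact (Nat.Prime 3) := ⟨Nat.prime_three⟩
  have hG : Nat.card G = 12 := by rw [hq] at hcard; omega
  have hD1 : Nat.card D = 1 := by omega
  have hDbot : D = ⊥ := Subgroup.card_eq_one.mp hD1
  have hNQ : NQ = Q := by rw [hN, hDbot, sup_bot_eq]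
  have hQp : IsPGroup 3 Q := IsPGroup.of_card (n := 1) (by rw [hq, pow_one])
  obtain ⟨P, hQP⟩ := hQp.exists_le_sylow
  obtain ⟨k, hk⟩ := (IsPGroup.iff_card).mp P.2
  have hPdvd : Nat.card P ∣ 12 := by
    have := Subgroup.card_subgroup_dvd_card (P : Subgroup G)
    rwa [hG] at this
  have hk1 : k ≤ 1 := by
    by_contra hcon
    push Not at hcon
    have h9 : 3 ^ 2 ∣ 3 ^ k := pow_dvd_pow 3 hcon
    rw [← hk] at h9
    have := h9.trans hPdvd
    omega
  have hPcard : Nat.card P = 3 := by
    have hle : Nat.card Q ≤ Nat.card P := Nat.card_le_card_of_injective _ (Subgroup.inclusion_injective hQP)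
    interval_cases k
    · rw [hk, hq] at hle; omega
    · rw [hk, pow_one]
  have hPQ : (P : Subgroup G) = Q := by
    symm
    apply Subgroup.eq_of_le_of_card_ge hQP
    rw [hPcard, hq]
  have hP : Subgroup.normalizer ((P : Subgroup G) : Set G) ≤
      Subgroup.centralizer ((P : Subgroup G) : Set G) := by
    rw [hPQ, hNQ]
    intro x hx
    rw [Subgroup.mem_centralizer_iff]
    intro y hy
    exact backA_comm Q hcent y hy x hx
  have hc := MonoidHom.ker_transferSylow_isComplement' P hP
  have hcm := hc.card_mul_card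
  rw [hPcard, hG] at hcm
  have hK4 : Nat.card (MonoidHom.transferSylow P hP).ker = 4 := by omega
  rcases (MonoidHom.normal_ker (MonoidHom.transferSylow P hP)).eq_bot_or_eq_top with h | h
  · rw [h, Subgroup.card_bot] at hK4; omega
  · rw [h, Subgroup.card_top, hG] at hK4; omega

/-- the Zassenhaus property. -/
theorem backC_zassenhaus [IsSimpleGroup G]
    (hcard : 2 * Nat.card G = Nat.card Q * (Nat.card Q + 1) * (Nat.card Q - 1))
    (hcent : ∀ x ∈ Q, x ≠ 1 → Subgroup.centralizer ({x} : Set G) = Q)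
    (hDQ : 2 * Nat.card D + 1 = Nat.card Q) (hQD : Q ⊓ D = ⊥)
    (hN : NQ = Q ⊔ D) (hq5 : 5 ≤ Nat.card Q) :
    IsZassenhausGroup G (G ⧸ NQ) ∧ ∃ b : G ⧸ NQ, b ≠ basePt Q := by
  have hQN : Q ≤ NQ := Subgroup.le_normalizer
  -- a nonidentity element of Q
  obtain ⟨x, hx, hx1⟩ : ∃ x ∈ Q, x ≠ 1 := by
    by_contra hcon
    push Not at hcon
    have : Q = ⊥ := by
      rw [eq_bot_iff]; intro y hy; rw [Subgroup.mem_bot]; exact hcon y hy
    rw [this, Subgroup.card_bot] at hq5
    omega
  -- a point different from the base point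
  have hcardΩ := backB_card Q D hcard hDQ hQD hN
  obtain ⟨b, hb⟩ : ∃ b : G ⧸ NQ, b ≠ basePt Q := by
    by_contra hcon
    push Not at hcon
    have : Nat.card (G ⧸ NQ) ≤ 1 := by
      rw [Finite.card_le_one_iff_subsingleton]
      exact ⟨fun u v => by rw [hcon u, hcon v]⟩
    omega
  have hxa : x • basePt Q = basePt Q := (backB_smul_base Q x).mpr (hQN hx)
  have hc1 : x • b ≠ basePt Q := by
    intro e
    apply hb
    have h1 : x⁻¹ • (x • b) = x⁻¹ • basePt Q := by rw [e]
    rw [inv_smul_smul] at h1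
    rw [h1, backB_smul_base]
    exact Subgroup.inv_mem _ (hQN hx)
  have hc2 : b ≠ x • b := by
    intro e
    exact hb (backB_fix Q D hcent hDQ hQD hN x hx hx1 b e.symm)
  have hthree := backB_three Q D hcard hcent hDQ hQD hN
  refine ⟨⟨?_, ?_, ?_, ?_, ?_⟩, b, hb⟩
  · -- faithful
    constructor
    intro g g' h
    have h1 : ∀ ω : G ⧸ NQ, (g'⁻¹ * g) • ω = ω := by
      intro ω
      rw [mul_smul, h ω, inv_smul_smul]
    have := hthree (g'⁻¹ * g) (basePt Q) b (x • b) (Ne.symm hb) hc2 (Ne.symm hc1)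
      (h1 _) (h1 _) (h1 _)
    exact (inv_mul_eq_one.mp this).symm
  · -- 2-transitive
    rw [MulAction.is_two_pretransitive_iff]
    intro a₁ b₁ c₁ d₁ h1 h2
    exact backB_two_trans Q D hcard hcent hDQ hQD hN a₁ b₁ c₁ d₁ h1 h2
  · intro g a₁ b₁ c₁ hab hbc hac hga hgb hgc
    exact hthree g a₁ b₁ c₁ hab hbc hac hga hgb hgc
  · -- an element fixing two points
    have hstab := backB_card_stab Q D hcard hcent hDQ hQD hN b hb
    have hne : (stabilizer G (basePt Q) ⊓ stabilizer G b : Subgroup G) ≠ ⊥ := by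
      intro hbot
      rw [hbot, Subgroup.card_bot] at hstab
      omega
    obtain ⟨⟨g, hg⟩, hg1⟩ := (Subgroup.ne_bot_iff_exists_ne_one).mp hne
    exact ⟨g, fun e => hg1 (Subtype.ext e), basePt Q, b, Ne.symm hb, hg.1, hg.2⟩
  · -- no regular normal subgroup
    intro N' hN' hpre
    rcases hN'.eq_bot_or_eq_top with h | h
    · exfalso
      subst h
      obtain ⟨g, hg⟩ := hpre.exists_smul_eq (basePt Q) b
      have hg1 : (g : G) = 1 := Subgroup.mem_bot.mp g.2
      have : (g : G) • basePt Q = b := hg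
      rw [hg1, one_smul] at this
      exact hb this.symm
    · subst h
      refine ⟨basePt Q, ?_⟩
      intro hbot
      have hmem : (⟨x, Subgroup.mem_top x⟩ : (⊤ : Subgroup G)) ∈
          stabilizer (⊤ : Subgroup G) (basePt Q) := by
        rw [MulAction.mem_stabilizer_iff]
        exact hxa
      have hmem' := Subgroup.mem_bot.mp (le_of_eq hbot hmem)
      exact hx1 (congrArg Subtype.val hmem')

end

/-- [BACK] the conclusion of the abstract BSW theorem identifies a simple group. -/
theorem psl_of_concl {G : Type*} [Group G] [Finite G] [IsSimpleGroup G]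
    (h : Cfsg.Agent.Lib.Helper30.BSW.Concl G) :
    ∃ (F : Type) (_ : Field F) (_ : Fintype F), Odd (Fintype.card F) ∧
      Nonempty (G ≃* Matrix.ProjectiveSpecialLinearGroup (Fin 2) F) := by
  classical
  obtain ⟨Q, D, hcard, hcent, -, hDQ, hQD, hN, -⟩ := h
  have hqpos : 0 < Nat.card Q := Nat.card_pos
  have hGpos : 0 < Nat.card G := Nat.card_pos
  have hq1 : Nat.card Q ≠ 1 := by
    intro h1; rw [h1] at hcard; omega
  have hq3 := backC_card_ne_three Q D hcard hcent hDQ hN
  have hq5 : 5 ≤ Nat.card Q := by omega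
  obtain ⟨hZ, b, hb⟩ := backC_zassenhaus Q D hcard hcent hDQ hQD hN hq5
  have hab : basePt Q ≠ b := Ne.symm hb
  have hstab := backB_card_stab Q D hcard hcent hDQ hQD hN b hb
  have hcardΩ := backB_card Q D hcard hDQ hQD hN
  let _ : Fintype (G ⧸ Subgroup.normalizer (Q : Set G)) := Fintype.ofFinite _
  rw [Nat.card_eq_fintype_card] at hcardΩ
  have hQN : Q ≤ Subgroup.normalizer (Q : Set G) := Subgroup.le_normalizer
  have hstabN : stabilizer G (basePt Q) = Subgroup.normalizer (Q : Set G) :=
    MulAction.stabilizer_quotient _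
  rcases Nat.even_or_odd (Nat.card D) with heven | hodd
  · obtain ⟨p, f, K, fK, ftK, hp, hp2, hcardK, -, hiso⟩ :=
      Cfsg.Agent.S0742.result hZ hab (by rw [hstab]; exact heven)
        (by rw [hstab, hcardΩ]; omega)
    refine ⟨K, fK, ftK, ?_, hiso⟩
    rw [hcardK]
    exact (hp.eq_two_or_odd'.resolve_left hp2).pow
  · obtain ⟨C, fC, ftC, hchar, hiso⟩ :=
      Cfsg.Agent.Lib.Helper6.ZassPSL.psl_of_odd_half hZ hab (by rw [hstab]; exact hodd)
        (by rw [hstab, hcardΩ]; omega) Q
        (by rw [hstabN]; exact hQN)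
        (by
          intro g hg u hu
          have hgN : g ∈ Subgroup.normalizer (Q : Set G) := (backB_smul_base Q g).mp hg
          exact ((Subgroup.mem_normalizer_iff.mp hgN) u).mp hu)
        (backA_comm Q hcent)
        (fun y z hy hz => backB_trans Q D hcard hcent hDQ hQD hN y z hy hz)
        (by
          intro u hu c hc huc
          by_contra hu1
          exact hc (backB_fix Q D hcent hDQ hQD hN u hu hu1 c huc))
    refine ⟨C, fC, ftC, ?_, hiso⟩
    have := FiniteField.odd_card_of_char_ne_two hchar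
    exact Nat.odd_iff.mpr this

end Cfsg.Agent.Lib.Helper90.BSWDih
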