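import Mathlib
import Cfsg.Prelude.Def_CaseTheorems
import Cfsg.Agent.S0514
import Cfsg.Agent.Lib.Helper76.PCore

set_option autoImplicit false
open Cfsg

namespace Cfsg.Agent.Lib.Helper90.BSWDih

variable {G : Type*} [Group G]

/-- [CORE] the centralizer of `t` is `O · S`, with `O` a normal Hall subgroup of odd order. -/
theorem core_facts [Finite G] (S : Sylow 2 G) (n : ℕ) (hn : 2 ≤ n)
    (hS : Nonempty ((S : Subgroup G) ≃* DihedralGroup n)) (t : G) (ht : orderOf t = 2)
    (htZ : ∀ s ∈ (S : Subgroup G), s * t = t * s) (O : Subgroup G)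
    (hO : O = (Cfsg.oddCore (Subgroup.centralizer ({t} : Set G))).map
      (Subgroup.centralizer ({t} : Set G)).subtype) :
    O ≤ Subgroup.centralizer ({t} : Set G) ∧
    (∀ c ∈ Subgroup.centralizer ({t} : Set G), ∀ y ∈ O, c * y * c⁻¹ ∈ O) ∧
    Odd (Nat.card O) ∧
    (∀ c ∈ Subgroup.centralizer ({t} : Set G), Odd (orderOf c) → c ∈ O) ∧
    (∀ c ∈ Subgroup.centralizer ({t} : Set G), ∃ y ∈ O, ∃ σ ∈ (S : Subgroup G), c = y * σ) := by
  classical
  set C : Subgroup G := Subgroup.centralizer ({t} : Set G) with hC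
  set OC : Subgroup C := Cfsg.oddCore C with hOC
  obtain ⟨N, hNn, hNodd, k, hNk⟩ := Cfsg.Agent.S0514.result S n hn hS t ht
  have hNle : N ≤ OC :=
    Cfsg.Agent.Lib.Helper76.le_pPrimeCore 2 N hNn hNodd.coprime_two_right
  have hOCn : OC.Normal := Cfsg.pPrimeCore_normal 2 C
  have hOCcop : (Nat.card OC).Coprime 2 := Cfsg.Agent.Lib.Helper76.pPrimeCore_coprime 2
  have hOCodd : Odd (Nat.card OC) := Nat.Coprime.odd_of_right hOCcop
  -- index of OC is a power of two
  have hidx : ∃ j : ℕ, OC.index = 2 ^ j := by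
    have hdvd : OC.index ∣ N.index := Subgroup.index_dvd_of_le hNle
    rw [hNk] at hdvd
    exact (Nat.dvd_prime_pow Nat.prime_two).mp hdvd |>.imp fun j hj => hj.2
  obtain ⟨j, hj⟩ := hidx
  have hSC : (S : Subgroup G) ≤ C := by
    intro s hs
    rw [hC, Subgroup.mem_centralizer_iff]
    intro x hx
    rw [Set.mem_singleton_iff] at hx
    subst hx
    exact (htZ s hs).symm
  have hcardO : Nat.card O = Nat.card OC := by
    rw [hO]
    exact Subgroup.card_map_of_injective (Subgroup.subtype_injective C)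
  have hmemO : ∀ c : G, c ∈ O ↔ ∃ h : c ∈ C, (⟨c, h⟩ : C) ∈ OC := by
    intro c
    rw [hO]
    constructor
    · rintro ⟨c', hc', rfl⟩
      exact ⟨c'.2, hc'⟩
    · rintro ⟨h, hc⟩
      exact ⟨⟨c, h⟩, hc, rfl⟩
  refine ⟨?_, ?_, ?_, ?_, ?_⟩
  · rw [hO]; exact Subgroup.map_subtype_le _
  · intro c hc y hy
    obtain ⟨hyC, hyOC⟩ := (hmemO y).mp hy
    refine (hmemO _).mpr ⟨C.mul_mem (C.mul_mem hc hyC) (C.inv_mem hc), ?_⟩
    have := hOCn.conj_mem ⟨y, hyC⟩ hyOC ⟨c, hc⟩
    exact this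
  · rw [hcardO]; exact hOCodd
  · intro c hc hodd
    refine (hmemO c).mpr ⟨hc, ?_⟩
    have h1 : orderOf (QuotientGroup.mk' OC ⟨c, hc⟩) ∣ orderOf (⟨c, hc⟩ : C) :=
      orderOf_map_dvd _ _
    have h2 : orderOf (QuotientGroup.mk' OC ⟨c, hc⟩) ∣ 2 ^ j := by
      rw [← hj, Subgroup.index_eq_card]
      exact orderOf_dvd_natCard _
    have h3 : orderOf (⟨c, hc⟩ : C) = orderOf c := Subgroup.orderOf_mk c hc
    rw [h3] at h1
    have h4 : orderOf (QuotientGroup.mk' OC ⟨c, hc⟩) = 1 := by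
      have hcop : Nat.Coprime (orderOf c) (2 ^ j) :=
        Nat.Coprime.pow_right j hodd.coprime_two_right
      exact Nat.eq_one_of_dvd_coprimes hcop h1 h2
    rw [orderOf_eq_one_iff] at h4
    exact (QuotientGroup.eq_one_iff _).mp h4
  · -- complement
    let P : Sylow 2 C := S.subtype hSC
    have hPcard : ∃ a : ℕ, Nat.card P = 2 ^ a := (IsPGroup.iff_card).mp P.2
    obtain ⟨a, ha⟩ := hPcard
    have hPidx : ¬ 2 ∣ (P : Subgroup C).index := P.not_dvd_index
    have hcardC1 : Nat.card OC * 2 ^ j = Nat.card C := by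
      rw [← hj]; exact Subgroup.card_mul_index OC
    have hcardC2 : 2 ^ a * (P : Subgroup C).index = Nat.card C := by
      rw [← ha]; exact Subgroup.card_mul_index (P : Subgroup C)
    have haj : a = j := by
      have hidxodd : Nat.Coprime (2 ^ a) (Nat.card OC) :=
        Nat.Coprime.pow_left a hOCcop.symm
      have hidxodd' : Nat.Coprime (2 ^ j) ((P : Subgroup C).index) :=
        Nat.Coprime.pow_left j ((Nat.Prime.coprime_iff_not_dvd Nat.prime_two).mpr hPidx)
      have h1 : 2 ^ a ∣ 2 ^ j := by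
        have : 2 ^ a ∣ Nat.card OC * 2 ^ j := by
          rw [hcardC1, ← hcardC2]; exact dvd_mul_right _ _
        exact hidxodd.dvd_of_dvd_mul_left this
      have h2 : 2 ^ j ∣ 2 ^ a := by
        have : 2 ^ j ∣ 2 ^ a * (P : Subgroup C).index := by
          rw [hcardC2, ← hcardC1]; exact dvd_mul_left _ _
        exact hidxodd'.dvd_of_dvd_mul_right this
      have h3 : (2 : ℕ) ^ a = 2 ^ j := Nat.dvd_antisymm h1 h2
      exact Nat.pow_right_injective (le_refl 2) h3
    have hcompl : Subgroup.IsComplement' OC (P : Subgroup C) := by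
      apply Subgroup.isComplement'_of_coprime
      · rw [ha, haj]; exact hcardC1
      · rw [ha]; exact Nat.Coprime.pow_right a hOCcop
    intro c hc
    obtain ⟨⟨y, σ⟩, hyσ, -⟩ := hcompl.existsUnique ⟨c, hc⟩
    refine ⟨(y : C), (hmemO _).mpr ⟨(y : C).2, y.2⟩, ((σ : C) : G), ?_, ?_⟩
    · have := σ.2
      exact this
    · have := congrArg Subtype.val hyσ
      simpa using this.symm

end Cfsg.Agent.Lib.Helper90.BSWDih
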