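import Mathlib

set_option autoImplicit false

namespace Cfsg.Agent.Lib.Helper90.BSWDih

open DihedralGroup

/-- in `DihedralGroup 2` every element squares to one. -/
theorem dih2_sq {D : Type*} [Group D] (e : D ≃* DihedralGroup 2) (x : D) : x * x = 1 := by
  apply e.injective
  rw [map_mul, map_one]
  have h2 : ∀ i : ZMod 2, i + i = 0 := by decide
  cases e x with
  | r i => rw [r_mul_r, h2, r_zero]
  | sr i => exact sr_mul_self i

/-- the elements outside a cyclic subgroup of index two of a dihedral group of order at least 6 are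
involutions inverting it. -/
theorem dih_props {D : Type*} [Group D] (n : ℕ) (hn : 3 ≤ n) (e : D ≃* DihedralGroup n)
    (Z : Subgroup D) (hcyc : IsCyclic Z) (hidx : Z.index = 2) :
    ∀ s : D, s ∉ Z → orderOf s = 2 ∧ ∀ z ∈ Z, s * z * s⁻¹ = z⁻¹ := by
  classical
  have : NeZero n := ⟨by omega⟩
  have hfinD : Finite D := Finite.of_equiv _ e.symm.toEquiv
  have hcardD : Nat.card D = 2 * n := by
    rw [Nat.card_congr e.toEquiv, DihedralGroup.nat_card]
  have hcardZ : Nat.card Z = n := by
    have := Subgroup.card_mul_index Z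
    rw [hidx, hcardD] at this
    omega
  obtain ⟨g, hg⟩ := hcyc.exists_generator
  have hgord : orderOf g = n := by
    rw [orderOf_eq_card_of_forall_mem_zpowers hg, hcardZ]
  have hegord : orderOf (e (g : D)) = n := by
    rw [MulEquiv.orderOf_eq, Subgroup.orderOf_coe, hgord]
  obtain ⟨i, hi⟩ : ∃ i, e (g : D) = r i := by
    cases hgi : e (g : D) with
    | r i => exact ⟨i, rfl⟩
    | sr j =>
      rw [hgi, orderOf_sr] at hegord
      omega
  have hrot : ∀ z ∈ Z, ∃ b, e z = r b := by
    intro z hz
    obtain ⟨m, hm⟩ := Subgroup.mem_zpowers_iff.mp (hg ⟨z, hz⟩)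
    have hz' : z = (g : D) ^ m := by
      have := congrArg Subtype.val hm
      simpa using this.symm
    refine ⟨i * m, ?_⟩
    rw [hz', map_zpow, hi, r_zpow]
  intro s hs
  obtain ⟨j, hj⟩ : ∃ j, e s = sr j := by
    cases hsj : e s with
    | sr j => exact ⟨j, rfl⟩
    | r a =>
      exfalso
      have hall : ∀ σ : D, ∃ b, e σ = r b := by
        intro σ
        by_cases hσ : σ ∈ Z
        · exact hrot σ hσ
        · have hmem : σ * s ∈ Z := by
            rw [Subgroup.mul_mem_iff_of_index_two hidx]
            exact ⟨fun h => absurd h hσ, fun h => absurd h hs⟩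
          obtain ⟨b, hb⟩ := hrot _ hmem
          refine ⟨b - a, ?_⟩
          have : e σ = e (σ * s) * (e s)⁻¹ := by rw [map_mul]; group
          rw [this, hb, hsj, inv_r, r_mul_r, sub_eq_add_neg]
      obtain ⟨b, hb⟩ := hall (e.symm (sr 0))
      rw [MulEquiv.apply_symm_apply] at hb
      cases hb
  constructor
  · rw [← MulEquiv.orderOf_eq e, hj, orderOf_sr]
  · intro z hz
    obtain ⟨b, hb⟩ := hrot z hz
    apply e.injective
    rw [map_mul, map_mul, map_inv, map_inv, hj, hb, inv_sr, inv_r, sr_mul_r, sr_mul_sr]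
    congr 1
    ring

/-- a central involution of a dihedral group of order at least 6 is a rotation. -/
theorem dih_central_rot {D : Type*} [Group D] (n : ℕ) (hn : 3 ≤ n) (e : D ≃* DihedralGroup n)
    (t : D) (htZ : ∀ s : D, s * t = t * s) : ∃ i, e t = r i := by
  cases ht : e t with
  | r i => exact ⟨i, rfl⟩
  | sr j =>
    exfalso
    have h1 := htZ (e.symm (r 1))
    have h2 := congrArg e h1
    rw [map_mul, map_mul, MulEquiv.apply_symm_apply, ht, r_mul_sr, sr_mul_r] at h2
    have h3 : j - 1 = j + 1 := by
      injection h2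
    have h4 : (2 : ZMod n) = 0 := by
      have : (j + 1) - (j - 1) = 0 := by rw [h3]; ring
      have h5 : (j + 1) - (j - 1) = 2 := by ring
      rw [h5] at this
      exact this
    have h5 : ((2 : ℕ) : ZMod n) = 0 := by exact_mod_cast h4
    rw [ZMod.natCast_eq_zero_iff] at h5
    have := Nat.le_of_dvd (by norm_num) h5
    omega

variable {G : Type*} [Group G]

theorem card_mul_relIndex_eq {Z S : Subgroup G} (hZS : Z ≤ S) :
    Nat.card Z * Z.relIndex S = Nat.card S := by
  have h1 := Subgroup.card_mul_index (Z.subgroupOf S)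
  have h2 : Nat.card (Z.subgroupOf S) = Nat.card Z :=
    Nat.card_congr (Subgroup.subgroupOfEquivOfLe hZS).toEquiv
  rw [h2] at h1
  exact h1

/-- [DIH-A] existence of the cyclic maximal subgroup containing the central involution. -/
theorem exists_cyclic_index_two (S : Subgroup G) (n : ℕ) (hn : 2 ≤ n)
    (e : S ≃* DihedralGroup n) (t : G) (ht : orderOf t = 2) (htS : t ∈ S)
    (htZ : ∀ s ∈ S, s * t = t * s) :
    ∃ Z : Subgroup G, Z ≤ S ∧ IsCyclic Z ∧ Z.relIndex S = 2 ∧ t ∈ Z := by
  classical
  have : NeZero n := ⟨by omega⟩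
  have hfinS : Finite S := Finite.of_equiv _ e.symm.toEquiv
  have hcardS : Nat.card S = 2 * n := by
    rw [Nat.card_congr e.toEquiv, DihedralGroup.nat_card]
  rcases Nat.lt_or_ge n 3 with hlt | hge
  · have hn2 : n = 2 := by omega
    refine ⟨Subgroup.zpowers t, Subgroup.zpowers_le.mpr htS, inferInstance, ?_,
      Subgroup.mem_zpowers t⟩
    have h1 := card_mul_relIndex_eq (Subgroup.zpowers_le.mpr htS : Subgroup.zpowers t ≤ S)
    rw [Nat.card_zpowers, ht, hcardS, hn2] at h1
    omega
  · set z0 : S := e.symm (r 1) with hz0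
    have hz0ord : orderOf (z0 : G) = n := by
      rw [Subgroup.orderOf_coe, hz0, MulEquiv.orderOf_eq, orderOf_r_one]
    refine ⟨Subgroup.zpowers (z0 : G), Subgroup.zpowers_le.mpr z0.2, inferInstance, ?_, ?_⟩
    · have h1 := card_mul_relIndex_eq (Subgroup.zpowers_le.mpr z0.2 : Subgroup.zpowers (z0 : G) ≤ S)
      rw [Nat.card_zpowers, hz0ord, hcardS] at h1
      have hnpos : 0 < n := by omega
      have : n * (Subgroup.zpowers (z0 : G)).relIndex S = n * 2 := by rw [h1]; ring
      exact Nat.eq_of_mul_eq_mul_left hnpos this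
    · obtain ⟨i, hi⟩ := dih_central_rot n hge e ⟨t, htS⟩ (by
        intro s
        apply Subtype.ext
        exact htZ s s.2)
      have h1 : (⟨t, htS⟩ : S) = z0 ^ (i.val) := by
        apply e.injective
        rw [hi, map_pow, hz0, MulEquiv.apply_symm_apply, r_one_pow, ZMod.natCast_zmod_val]
      have h2 : t = (z0 : G) ^ (i.val) := by
        have := congrArg Subtype.val h1
        simpa using this
      rw [h2]
      exact Subgroup.pow_mem _ (Subgroup.mem_zpowers _) _

/-- [DIH-B] every cyclic subgroup of index 2 containing the central involution `t` is inverted by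
the elements outside it, which are involutions; `t` is its only involution. -/
theorem cyclic_index_two_props (S : Subgroup G) (n : ℕ) (hn : 2 ≤ n)
    (e : S ≃* DihedralGroup n) (t : G) (ht : orderOf t = 2)
    (Z : Subgroup G) (hZS : Z ≤ S) (hcyc : IsCyclic Z) (hidx : Z.relIndex S = 2) (htZ : t ∈ Z) :
    (∀ z ∈ Z, z * z = 1 → z = 1 ∨ z = t) ∧
    (∀ s ∈ S, s ∉ Z → orderOf s = 2 ∧ ∀ z ∈ Z, s * z * s⁻¹ = z⁻¹) := by
  classical
  have : NeZero n := ⟨by omega⟩
  have hfinS : Finite S := Finite.of_equiv _ e.symm.toEquiv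
  have hfinZ : Finite Z := Finite.of_injective (Subgroup.inclusion hZS)
    (Subgroup.inclusion_injective hZS)
  have htne : t ≠ 1 := by
    intro h; rw [h, orderOf_one] at ht; omega
  have htt : t * t = 1 := by rw [← pow_two, ← ht]; exact pow_orderOf_eq_one t
  constructor
  · intro z hz hzz
    by_contra hcon
    push Not at hcon
    obtain ⟨hz1, hzt⟩ := hcon
    have : Fintype Z := Fintype.ofFinite Z
    have hle := IsCyclic.card_pow_eq_one_le (α := Z) (n := 2) (by norm_num)
    have hsub : ({1, ⟨t, htZ⟩, ⟨z, hz⟩} : Finset Z) ⊆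
        Finset.filter (fun a : Z => a ^ 2 = 1) Finset.univ := by
      intro a ha
      simp only [Finset.mem_insert, Finset.mem_singleton] at ha
      simp only [Finset.mem_filter, Finset.mem_univ, true_and]
      rcases ha with rfl | rfl | rfl
      · simp
      · apply Subtype.ext; simp [pow_two, htt]
      · apply Subtype.ext; simp [pow_two, hzz]
    have hcard3 : ({1, ⟨t, htZ⟩, ⟨z, hz⟩} : Finset Z).card = 3 := by
      rw [Finset.card_insert_of_notMem, Finset.card_insert_of_notMem, Finset.card_singleton]
      · simp only [Finset.mem_singleton]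
        intro h; exact hzt (congrArg Subtype.val h).symm
      · simp only [Finset.mem_insert, Finset.mem_singleton]
        rintro (h | h)
        · exact htne (congrArg Subtype.val h).symm
        · exact hz1 (congrArg Subtype.val h).symm
    have := Finset.card_le_card hsub
    omega
  · rcases Nat.lt_or_ge n 3 with hlt | hge
    · have hn2 : n = 2 := by omega
      subst hn2
      have hsqS : ∀ x ∈ S, x * x = 1 := by
        intro x hx
        have := dih2_sq e ⟨x, hx⟩
        exact congrArg Subtype.val this
      have hcommS : ∀ x ∈ S, ∀ y ∈ S, x * y = y * x := by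
        intro x hx y hy
        have h1 := hsqS x hx
        have h2 := hsqS y hy
        have h3 := hsqS (x * y) (S.mul_mem hx hy)
        have hxinv : x⁻¹ = x := inv_eq_of_mul_eq_one_left h1
        have hyinv : y⁻¹ = y := inv_eq_of_mul_eq_one_left h2
        have hxyinv : (x * y)⁻¹ = x * y := inv_eq_of_mul_eq_one_left h3
        rw [mul_inv_rev, hxinv, hyinv] at hxyinv
        exact hxyinv.symm
      intro s hsS hsZ
      constructor
      · apply orderOf_eq_prime
        · rw [pow_two]; exact hsqS s hsS
        · intro h; apply hsZ; rw [h]; exact Z.one_mem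
      · intro z hz
        have hzinv : z⁻¹ = z := inv_eq_of_mul_eq_one_left (hsqS z (hZS hz))
        rw [hzinv, hcommS s hsS z (hZS hz)]
        group
    · have hidx' : (Z.subgroupOf S).index = 2 := hidx
      have hcyc' : IsCyclic (Z.subgroupOf S) :=
        isCyclic_of_surjective (Subgroup.subgroupOfEquivOfLe hZS).symm.toMonoidHom
          (Subgroup.subgroupOfEquivOfLe hZS).symm.surjective
      have key := dih_props n hge e (Z.subgroupOf S) hcyc' hidx'
      intro s hsS hsZ
      obtain ⟨h1, h2⟩ := key ⟨s, hsS⟩ (fun h => hsZ (Subgroup.mem_subgroupOf.mp h))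
      constructor
      · rw [← h1, Subgroup.orderOf_mk]
      · intro z hz
        have := h2 ⟨z, hZS hz⟩ (Subgroup.mem_subgroupOf.mpr hz)
        exact congrArg Subtype.val this

end Cfsg.Agent.Lib.Helper90.BSWDih
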