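import Mathlib
import Cfsg.Agent.S0111

set_option autoImplicit false

namespace Cfsg.Agent.Lib.Helper90.BSWDih

variable {G : Type*} [Group G]

theorem orderOf_conj' (g x : G) : orderOf (g * x * g⁻¹) = orderOf x := by
  rw [← MulAut.conj_apply]; exact MulEquiv.orderOf_eq _ _

theorem card_eq_of_relIndex_two {Z S : Subgroup G} (hZS : Z ≤ S) (hidx : Z.relIndex S = 2) :
    Nat.card S = Nat.card Z * 2 := by
  have h1 := Subgroup.card_mul_index (Z.subgroupOf S)
  have h2 : Nat.card (Z.subgroupOf S) = Nat.card Z :=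
    Nat.card_congr (Subgroup.subgroupOfEquivOfLe hZS).toEquiv
  rw [h2] at h1
  rw [← h1]
  congr 1

/-- every involution is conjugate into a given Sylow 2-subgroup. -/
theorem exists_conj_mem_sylow [Finite G] (S : Sylow 2 G) (x : G) (hx : orderOf x = 2) :
    ∃ g : G, g * x * g⁻¹ ∈ (S : Subgroup G) := by
  have : Fact (Nat.Prime 2) := ⟨Nat.prime_two⟩
  have hp : IsPGroup 2 (Subgroup.zpowers x) := by
    apply IsPGroup.of_card (n := 1)
    rw [Nat.card_zpowers, hx, pow_one]
  obtain ⟨P, hP⟩ := hp.exists_le_sylow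
  obtain ⟨g, hg⟩ := MulAction.exists_smul_eq G P S
  refine ⟨g, ?_⟩
  have hxP : x ∈ (P : Subgroup G) := hP (Subgroup.mem_zpowers x)
  have : g * x * g⁻¹ ∈ ((g • P : Sylow 2 G) : Subgroup G) := by
    rw [Sylow.coe_subgroup_smul]
    exact Subgroup.mem_pointwise_smul_iff_inv_smul_mem.mpr (by
      simpa [MulAut.smul_def, mul_assoc] using hxP)
  rwa [hg] at this

/-- [INV] one class of involutions. -/
theorem invol_conj [Finite G] [IsSimpleGroup G] (S : Sylow 2 G) (Z : Subgroup G)
    (hZS : Z ≤ (S : Subgroup G)) (hidx : Z.relIndex (S : Subgroup G) = 2) (t : G)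
    (ht : orderOf t = 2) (htZ : t ∈ Z) (huniq : ∀ z ∈ Z, z * z = 1 → z = 1 ∨ z = t) :
    ∀ x y : G, orderOf x = 2 → orderOf y = 2 → IsConj x y := by
  have hne1 : ∀ u : G, orderOf u = 2 → u ≠ 1 := by
    intro u hu h1
    rw [h1, orderOf_one] at hu
    omega
  have hsq : ∀ u : G, orderOf u = 2 → u * u = 1 := by
    intro u hu
    rw [← pow_two, ← hu]; exact pow_orderOf_eq_one u
  have hcardS : Nat.card (S : Subgroup G) = Nat.card Z * 2 := card_eq_of_relIndex_two hZS hidx
  have hcardZ : 2 ≤ Nat.card Z := by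
    have : orderOf t ∣ Nat.card Z := by
      have := orderOf_dvd_natCard (⟨t, htZ⟩ : Z)
      rwa [Subgroup.orderOf_mk] at this
    rw [ht] at this
    exact Nat.le_of_dvd Nat.card_pos this
  have key : ∀ x : G, orderOf x = 2 → IsConj x t := by
    intro x hx
    obtain ⟨g, hg⟩ := exists_conj_mem_sylow S x hx
    have hu : orderOf (g * x * g⁻¹) = 2 := by
      rw [orderOf_conj']; exact hx
    have hconj1 : IsConj x (g * x * g⁻¹) := isConj_iff.mpr ⟨g, rfl⟩
    by_cases huZ : g * x * g⁻¹ ∈ Z
    · rcases huniq _ huZ (hsq _ hu) with h | h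
      · exact absurd h (hne1 _ hu)
      · rw [h] at hconj1; exact hconj1
    · rcases Cfsg.Agent.S0111.result S Z hZS hidx (g * x * g⁻¹) hu hg huZ with
        ⟨M, hMn, hMi, -⟩ | ⟨g', hg'⟩
      · exfalso
        rcases hMn.eq_bot_or_eq_top with h | h
        · rw [h, Subgroup.index_bot] at hMi
          have : Nat.card (S : Subgroup G) ∣ Nat.card G := Subgroup.card_subgroup_dvd_card _
          rw [hMi, hcardS] at this
          have := Nat.le_of_dvd (by norm_num) this
          omega
        · rw [h, Subgroup.index_top] at hMi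
          omega
      · have hu' : orderOf (g' * (g * x * g⁻¹) * g'⁻¹) = 2 := by
          rw [orderOf_conj']; exact hu
        have hconj2 : IsConj (g * x * g⁻¹) (g' * (g * x * g⁻¹) * g'⁻¹) :=
          isConj_iff.mpr ⟨g', rfl⟩
        rcases huniq _ hg' (hsq _ hu') with h | h
        · exact absurd h (hne1 _ hu')
        · rw [h] at hconj2; exact hconj1.trans hconj2
  intro x y hx hy
  exact (key x hx).trans (key y hy).symm

end Cfsg.Agent.Lib.Helper90.BSWDih
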