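import Mathlib
import Cfsg.Agent.Lib.Helper30.BSW.Defs
import Cfsg.Agent.Lib.Helper90.BSWDihDih
import Cfsg.Agent.Lib.Helper90.BSWDihCore
import Cfsg.Agent.Lib.Helper90.BSWDihInv

set_option autoImplicit false
open Cfsg Cfsg.Agent.Lib.Helper30.BSW

namespace Cfsg.Agent.Lib.Helper90.BSWDih

variable {G : Type*} [Group G]

/-- an element of odd order whose square is one is trivial -/
theorem eq_one_of_sq_of_odd {y : G} (hy : y * y = 1) (hodd : Odd (orderOf y)) : y = 1 := by
  have h1 : orderOf y ∣ 2 := by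
    apply orderOf_dvd_of_pow_eq_one; rw [pow_two]; exact hy
  have h2 : orderOf y = 1 := by
    rcases (Nat.dvd_prime Nat.prime_two).mp h1 with h | h
    · exact h
    · rw [h] at hodd; exact absurd hodd (by decide)
  exact orderOf_eq_one_iff.mp h2

/-- [FRONT-CORE] abstract version: from the data `O`, `Z`, `S`, `s` to `Hyp`. -/
theorem hyp_of_data [Finite G] (S : Subgroup G) (t : G) (ht : orderOf t = 2)
    (O Z : Subgroup G)
    (hSC : S ≤ Subgroup.centralizer ({t} : Set G))
    (hS2 : IsPGroup 2 S)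
    (hOC : O ≤ Subgroup.centralizer ({t} : Set G))
    (hOodd : Odd (Nat.card O))
    (hOall : ∀ c ∈ Subgroup.centralizer ({t} : Set G), Odd (orderOf c) → c ∈ O)
    (hCprod : ∀ c ∈ Subgroup.centralizer ({t} : Set G), ∃ y ∈ O, ∃ σ ∈ S, c = y * σ)
    (hc : ∀ Y : Subgroup G, Y ≤ O → Y ≠ ⊥ →
      Subgroup.normalizer (Y : Set G) ≤ Subgroup.centralizer ({t} : Set G))
    (hZS : Z ≤ S) (hcyc : IsCyclic Z) (hidx : Z.relIndex S = 2) (htZ : t ∈ Z)
    (hZO : ∀ z ∈ Z, ∀ y ∈ O, z * y = y * z)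
    (hOinv : ∀ s ∈ S, s ∉ Z → ∀ y ∈ O, s * y * s⁻¹ = y⁻¹)
    (huniq : ∀ z ∈ Z, z * z = 1 → z = 1 ∨ z = t)
    (hout : ∀ s ∈ S, s ∉ Z → orderOf s = 2 ∧ ∀ z ∈ Z, s * z * s⁻¹ = z⁻¹)
    (hconj : ∀ x y : G, orderOf x = 2 → orderOf y = 2 → IsConj x y) :
    ∃ (s : G) (K : Subgroup G), Hyp t s K := by
  classical
  set C : Subgroup G := Subgroup.centralizer ({t} : Set G) with hC
  -- basic facts
  have hOord : ∀ y ∈ O, Odd (orderOf y) := by
    intro y hy
    have h1 : orderOf y ∣ Nat.card O := by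
      have := orderOf_dvd_natCard (⟨y, hy⟩ : O)
      rwa [Subgroup.orderOf_mk] at this
    exact Odd.of_dvd_nat hOodd h1
  have hOS : ∀ y ∈ O, y ∈ S → y = 1 := by
    intro y hyO hyS
    obtain ⟨k, hk⟩ := (IsPGroup.iff_orderOf.mp hS2) ⟨y, hyS⟩
    rw [Subgroup.orderOf_mk] at hk
    have hodd := hOord y hyO
    rw [hk] at hodd
    have : k = 0 := by
      by_contra hk0
      have : Even (2 ^ k) := (Nat.even_pow' hk0).mpr even_two
      exact (Nat.not_odd_iff_even.mpr this) hodd
    rw [this, pow_zero] at hk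
    exact orderOf_eq_one_iff.mp hk
  have hOsq : ∀ y ∈ O, y * y = 1 → y = 1 := fun y hy h => eq_one_of_sq_of_odd h (hOord y hy)
  -- choose s
  have hex : ∃ s ∈ S, s ∉ Z := by
    by_contra hcon
    push Not at hcon
    have : S ≤ Z := hcon
    have := (Subgroup.relIndex_eq_one).mpr this
    omega
  obtain ⟨s, hsS, hsZ⟩ := hex
  obtain ⟨hs2, hsinvZ⟩ := hout s hsS hsZ
  have hsinvO := hOinv s hsS hsZ
  have hss : s * s = 1 := by rw [← pow_two, ← hs2]; exact pow_orderOf_eq_one s
  have hsinv : s⁻¹ = s := inv_eq_of_mul_eq_one_left hss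
  -- O abelian
  have hOab : ∀ y ∈ O, ∀ y' ∈ O, y * y' = y' * y := by
    intro y hy y' hy'
    have h1 := hsinvO (y * y') (O.mul_mem hy hy')
    have h2 := hsinvO y hy
    have h3 := hsinvO y' hy'
    have h4 : s * (y * y') * s⁻¹ = (s * y * s⁻¹) * (s * y' * s⁻¹) := by group
    rw [h4, h2, h3] at h1
    have h5 : (y⁻¹ * y'⁻¹)⁻¹ = ((y * y')⁻¹)⁻¹ := congrArg _ h1
    simpa using h5.symm
  -- Z abelian
  have hZab : ∀ z ∈ Z, ∀ z' ∈ Z, z * z' = z' * z := by
    intro z hz z' hz'
    have hcomm : IsMulCommutative Z := IsCyclic.isMulCommutative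
    have := hcomm.is_comm.comm (⟨z, hz⟩ : Z) ⟨z', hz'⟩
    exact congrArg Subtype.val this
  -- S = Z ∪ Z s
  have hScoset : ∀ σ ∈ S, σ ∉ Z → ∃ z ∈ Z, σ = z * s := by
    intro σ hσS hσZ
    have hidx' : (Z.subgroupOf S).index = 2 := hidx
    have h := Subgroup.mul_mem_iff_of_index_two hidx' (a := ⟨σ, hσS⟩) (b := ⟨s, hsS⟩)
    have hmem : (⟨σ, hσS⟩ * ⟨s, hsS⟩ : S) ∈ Z.subgroupOf S := by
      rw [h]
      constructor
      · intro h1; exact absurd (Subgroup.mem_subgroupOf.mp h1) hσZ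
      · intro h1; exact absurd (Subgroup.mem_subgroupOf.mp h1) hsZ
    have hmem' : σ * s ∈ Z := Subgroup.mem_subgroupOf.mp hmem
    refine ⟨σ * s, hmem', ?_⟩
    rw [mul_assoc, hss, mul_one]
  -- the subgroup K
  let K : Subgroup G :=
    { carrier := {x | ∃ y ∈ O, ∃ z ∈ Z, x = y * z}
      mul_mem' := by
        rintro a b ⟨y, hy, z, hz, rfl⟩ ⟨y', hy', z', hz', rfl⟩
        refine ⟨y * y', O.mul_mem hy hy', z * z', Z.mul_mem hz hz', ?_⟩
        calc y * z * (y' * z') = y * (z * y') * z' := by group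
          _ = y * (y' * z) * z' := by rw [hZO z hz y' hy']
          _ = y * y' * (z * z') := by group
      one_mem' := ⟨1, O.one_mem, 1, Z.one_mem, by simp⟩
      inv_mem' := by
        rintro a ⟨y, hy, z, hz, rfl⟩
        refine ⟨y⁻¹, O.inv_mem hy, z⁻¹, Z.inv_mem hz, ?_⟩
        rw [mul_inv_rev]
        exact hZO z⁻¹ (Z.inv_mem hz) y⁻¹ (O.inv_mem hy) }
  have hmemK : ∀ x : G, x ∈ K ↔ ∃ y ∈ O, ∃ z ∈ Z, x = y * z := fun x => Iff.rfl
  have hOK : O ≤ K := fun y hy => ⟨y, hy, 1, Z.one_mem, by simp⟩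
  have hZK : Z ≤ K := fun z hz => ⟨1, O.one_mem, z, hz, by simp⟩
  have hKC : K ≤ C := by
    rintro x ⟨y, hy, z, hz, rfl⟩
    exact C.mul_mem (hOC hy) (hSC (hZS hz))
  have hKab : ∀ a ∈ K, ∀ b ∈ K, a * b = b * a := by
    rintro a ⟨y, hy, z, hz, rfl⟩ b ⟨y', hy', z', hz', rfl⟩
    calc y * z * (y' * z') = y * (z * y') * z' := by group
      _ = y * (y' * z) * z' := by rw [hZO z hz y' hy']
      _ = (y * y') * (z * z') := by group
      _ = (y' * y) * (z' * z) := by rw [hOab y hy y' hy', hZab z hz z' hz']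
      _ = y' * (y * z') * z := by group
      _ = y' * (z' * y) * z := by rw [hZO z' hz' y hy]
      _ = y' * z' * (y * z) := by group
  have hKinv : ∀ x ∈ K, s * x * s⁻¹ = x⁻¹ := by
    rintro x ⟨y, hy, z, hz, rfl⟩
    have h4 : s * (y * z) * s⁻¹ = (s * y * s⁻¹) * (s * z * s⁻¹) := by group
    rw [h4, hsinvO y hy, hsinvZ z hz, mul_inv_rev]
    exact (hZO z⁻¹ (Z.inv_mem hz) y⁻¹ (O.inv_mem hy)).symm
  have hKsq : ∀ x ∈ K, x * x = 1 → x = 1 ∨ x = t := by
    rintro x ⟨y, hy, z, hz, rfl⟩ hxx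
    have h1 : (y * y) * (z * z) = 1 := by
      calc (y * y) * (z * z) = y * (y * z) * z := by group
        _ = y * (z * y) * z := by rw [hZO z hz y hy]
        _ = (y * z) * (y * z) := by group
        _ = 1 := hxx
    have h2 : y * y = (z * z)⁻¹ := eq_inv_of_mul_eq_one_left h1
    have h3 : y * y ∈ S := by rw [h2]; exact S.inv_mem (S.mul_mem (hZS hz) (hZS hz))
    have h4 : y * y = 1 := hOS _ (O.mul_mem hy hy) h3
    have h5 : y = 1 := hOsq y hy h4
    have h6 : z * z = 1 := by rw [h4, one_mul] at h1; exact h1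
    rw [h5, one_mul]
    exact huniq z hz h6
  have htne : t ≠ 1 := by
    intro h; rw [h, orderOf_one] at ht; omega
  have hne1 : ∀ u : G, orderOf u = 2 → u ≠ 1 := by
    intro u hu h1
    rw [h1, orderOf_one] at hu
    omega
  have hsq : ∀ u : G, orderOf u = 2 → u * u = 1 := by
    intro u hu
    rw [← pow_two, ← hu]; exact pow_orderOf_eq_one u
  have hKinvol : ∀ w ∈ K, orderOf w = 2 → w = t := by
    intro w hw hw2
    rcases hKsq w hw (hsq w hw2) with h | h
    · exact absurd h (hne1 w hw2)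
    · exact h
  have hst : s * t = t * s := by
    have := hSC hsS
    rw [Subgroup.mem_centralizer_iff] at this
    exact (this t rfl).symm
  -- conjugation helper
  have hconjO : ∀ (a u u' : G), u ∈ O → u ≠ 1 → u' ∈ O → a * u' * a⁻¹ = u →
      ∀ h ∈ O, a * h * a⁻¹ ∈ O := by
    intro a u u' hu hu1 hu' hau h hh
    have hcomm : (a * h * a⁻¹) * u = u * (a * h * a⁻¹) := by
      rw [← hau]
      calc a * h * a⁻¹ * (a * u' * a⁻¹) = a * (h * u') * a⁻¹ := by group
        _ = a * (u' * h) * a⁻¹ := by rw [hOab h hh u' hu']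
        _ = a * u' * a⁻¹ * (a * h * a⁻¹) := by group
    have hnorm : a * h * a⁻¹ ∈ Subgroup.normalizer ((Subgroup.zpowers u : Subgroup G) : Set G) := by
      apply Subgroup.centralizer_le_normalizer
      rw [Subgroup.mem_centralizer_iff]
      intro w hw
      obtain ⟨i, rfl⟩ := Subgroup.mem_zpowers_iff.mp hw
      have : Commute (a * h * a⁻¹) u := hcomm
      exact (this.zpow_right i).eq.symm
    have hle : Subgroup.zpowers u ≤ O := Subgroup.zpowers_le.mpr hu
    have hne : Subgroup.zpowers u ≠ ⊥ := by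
      intro hbot
      exact hu1 (Subgroup.zpowers_eq_bot.mp hbot)
    have hmemC := hc (Subgroup.zpowers u) hle hne hnorm
    apply hOall _ hmemC
    rw [orderOf_conj']
    exact hOord h hh
  refine ⟨s, K, ?_⟩
  refine
    { ht := ht
      hKab := ⟨⟨fun a b => Subtype.ext (hKab a a.2 b b.2)⟩⟩
      hKH := hKC
      htK := hZK htZ
      hs := hs2
      hsH := hSC hsS
      hsK := ?_
      hH := ?_
      hCK := ?_
      hinv := hKinv
      hTI := ?_
      hconj := hconj }
  · -- s ∉ K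
    rintro ⟨y, hy, z, hz, hsyz⟩
    have hyS : y ∈ S := by
      have : y = s * z⁻¹ := by rw [hsyz]; group
      rw [this]; exact S.mul_mem hsS (S.inv_mem (hZS hz))
    have hy1 := hOS y hy hyS
    rw [hy1, one_mul] at hsyz
    rw [hsyz] at hsZ
    exact hsZ hz
  · -- K ⊔ ⟨s⟩ = C
    apply le_antisymm
    · apply sup_le hKC
      rw [Subgroup.zpowers_le]
      exact hSC hsS
    · intro c hc'
      obtain ⟨y, hy, σ, hσ, rfl⟩ := hCprod c hc'
      by_cases hσZ : σ ∈ Z
      · exact Subgroup.mem_sup_left ⟨y, hy, σ, hσZ, rfl⟩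
      · obtain ⟨z, hz, rfl⟩ := hScoset σ hσ hσZ
        rw [← mul_assoc]
        exact Subgroup.mul_mem _ (Subgroup.mem_sup_left ⟨y, hy, z, hz, rfl⟩)
          (Subgroup.mem_sup_right (Subgroup.mem_zpowers s))
  · -- K ⊓ C(s) = ⟨t⟩
    ext x
    constructor
    · rintro ⟨hxK, hxs⟩
      have hxs' : s * x = x * s := by
        have := (Subgroup.mem_centralizer_iff.mp hxs) s rfl
        exact this
      have h1 := hKinv x hxK
      have h2 : s * x * s⁻¹ = x := by rw [hxs']; group
      rw [h2] at h1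
      have h3 : x * x = 1 := by
        nth_rewrite 2 [h1]; exact mul_inv_cancel x
      rcases hKsq x hxK h3 with h | h
      · rw [h]; exact Subgroup.one_mem _
      · rw [h]; exact Subgroup.mem_zpowers t
    · intro hx
      have hle1 : Subgroup.zpowers t ≤ K := Subgroup.zpowers_le.mpr (hZK htZ)
      have hle2 : Subgroup.zpowers t ≤ Subgroup.centralizer ({s} : Set G) := by
        rw [Subgroup.zpowers_le, Subgroup.mem_centralizer_iff]
        intro w hw
        rw [Set.mem_singleton_iff] at hw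
        subst hw
        exact hst
      exact ⟨hle1 hx, hle2 hx⟩
  · -- TI
    intro g hg
    rw [eq_bot_iff]
    rintro x ⟨hxK, hxKg⟩
    rw [Subgroup.mem_bot]
    by_contra hx1
    obtain ⟨x', hx'K, hx'⟩ := hxKg
    have hx'eq : g * x' * g⁻¹ = x := hx'
    have hord : orderOf x' = orderOf x := by rw [← hx'eq, orderOf_conj']
    have hpos : orderOf x ≠ 0 := (orderOf_pos x).ne'
    rcases Nat.even_or_odd (orderOf x) with heven | hodd
    · -- even order
      have h2dvd : 2 ∣ orderOf x := even_iff_two_dvd.mp heven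
      have hw : orderOf (x ^ (orderOf x / 2)) = 2 := orderOf_pow_orderOf_div hpos h2dvd
      have hw' : orderOf (x' ^ (orderOf x / 2)) = 2 := by
        rw [← hord]
        exact orderOf_pow_orderOf_div (hord ▸ hpos) (hord ▸ h2dvd)
      have e1 := hKinvol _ (K.pow_mem hxK _) hw
      have e2 := hKinvol _ (K.pow_mem hx'K _) hw'
      have e3 : g * (x' ^ (orderOf x / 2)) * g⁻¹ = x ^ (orderOf x / 2) := by
        rw [← hx'eq, conj_pow]
      rw [e1, e2] at e3
      apply hg
      rw [Subgroup.mem_centralizer_iff]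
      intro w hw0
      rw [Set.mem_singleton_iff] at hw0
      subst hw0
      calc w * g = (g * w * g⁻¹) * g := by rw [e3]
        _ = g * w := by group
    · -- odd order
      have hxO : x ∈ O := hOall x (hKC hxK) hodd
      have hx'O : x' ∈ O := hOall x' (hKC hx'K) (hord ▸ hodd)
      have hx'1 : x' ≠ 1 := by
        intro h; rw [h] at hx'eq; apply hx1; rw [← hx'eq]; group
      have hOne : O ≠ ⊥ := by
        intro hbot; rw [hbot, Subgroup.mem_bot] at hxO; exact hx1 hxO
      have hA := hconjO g x x' hxO hx1 hx'O hx'eq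
      have hx'eq' : g⁻¹ * x * g⁻¹⁻¹ = x' := by rw [← hx'eq]; group
      have hB := hconjO g⁻¹ x' x hx'O hx'1 hxO hx'eq'
      have hgN : g ∈ Subgroup.normalizer (O : Set G) := by
        rw [Subgroup.mem_normalizer_iff]
        intro h
        constructor
        · exact hA h
        · intro hh
          have := hB _ hh
          have e : g⁻¹ * (g * h * g⁻¹) * g⁻¹⁻¹ = h := by group
          rwa [e] at this
      exact hg (hc O le_rfl hOne hgN)

end Cfsg.Agent.Lib.Helper90.BSWDih
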