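import Mathlib
import Cfsg.Agent.Lib.Helper30.BSW.Defs
import Cfsg.Agent.Lib.Helper90.BSWDihFront

set_option autoImplicit false
open Cfsg Cfsg.Agent.Lib.Helper30.BSW

namespace Cfsg.Agent.Lib.Helper90.BSWDih

variable {G : Type*} [Group G]

/-- [FRONT] the hypotheses of S0508 give the hypotheses of the abstract BSW theorem. -/
theorem exists_hyp [Finite G] [IsSimpleGroup G] (S : Sylow 2 G) (n : ℕ)
    (hn : 2 ≤ n) (hS : Nonempty ((S : Subgroup G) ≃* DihedralGroup n)) (t : G) (ht : orderOf t = 2)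
    (htS : t ∈ (S : Subgroup G))
    (htZ : ∀ s ∈ (S : Subgroup G), s * t = t * s) (O : Subgroup G)
    (hO : O = (Cfsg.oddCore (Subgroup.centralizer ({t} : Set G))).map (Subgroup.centralizer ({t} : Set G)).subtype)
    (ha : O ≠ ⊥ → IsCyclic ((S : Subgroup G) ⊓ Subgroup.centralizer (O : Set G) : Subgroup G) ∧
      ((S : Subgroup G) ⊓ Subgroup.centralizer (O : Set G)).relIndex (S : Subgroup G) = 2)
    (hb : ∀ s ∈ (S : Subgroup G), s ∉ Subgroup.centralizer (O : Set G) → ∀ y ∈ O, s * y * s⁻¹ = y⁻¹)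
    (hc : ∀ Y : Subgroup G, Y ≤ O → Y ≠ ⊥ → Subgroup.normalizer (Y : Set G) ≤ Subgroup.centralizer ({t} : Set G)) :
    ∃ (s : G) (K : Subgroup G), Hyp t s K := by
  classical
  obtain ⟨e⟩ := hS
  obtain ⟨hOC, hOnorm, hOodd, hOall, hCprod⟩ := core_facts S n hn ⟨e⟩ t ht htZ O hO
  have hSC : (S : Subgroup G) ≤ Subgroup.centralizer ({t} : Set G) := by
    intro s hs
    rw [Subgroup.mem_centralizer_iff]
    intro x hx
    rw [Set.mem_singleton_iff] at hx
    subst hx
    exact (htZ s hs).symm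
  -- choice of Z
  have hZex : ∃ Z : Subgroup G, Z ≤ (S : Subgroup G) ∧ IsCyclic Z ∧
      Z.relIndex (S : Subgroup G) = 2 ∧ t ∈ Z ∧ (∀ z ∈ Z, ∀ y ∈ O, z * y = y * z) ∧
      (∀ s ∈ (S : Subgroup G), s ∉ Z → ∀ y ∈ O, s * y * s⁻¹ = y⁻¹) := by
    by_cases hObot : O = ⊥
    · obtain ⟨Z, hZS, hcyc, hidx, htZ'⟩ :=
        exists_cyclic_index_two (S : Subgroup G) n hn e t ht htS htZ
      refine ⟨Z, hZS, hcyc, hidx, htZ', ?_, ?_⟩
      · intro z _ y hy
        rw [hObot, Subgroup.mem_bot] at hy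
        rw [hy, mul_one, one_mul]
      · intro s _ _ y hy
        rw [hObot, Subgroup.mem_bot] at hy
        rw [hy]; group
    · obtain ⟨hcyc, hidx⟩ := ha hObot
      refine ⟨(S : Subgroup G) ⊓ Subgroup.centralizer (O : Set G), inf_le_left, hcyc, hidx,
        ⟨htS, ?_⟩, ?_, ?_⟩
      · -- t centralizes O
        by_contra htO
        apply hObot
        rw [eq_bot_iff]
        intro y hy
        rw [Subgroup.mem_bot]
        have h1 := hb t htS htO y hy
        have h2 : t * y * t⁻¹ = y := by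
          have := (Subgroup.mem_centralizer_iff.mp (hOC hy)) t rfl
          rw [this]; group
        rw [h2] at h1
        have h3 : y * y = 1 := by
          nth_rewrite 2 [h1]; exact mul_inv_cancel y
        have hodd : Odd (orderOf y) := by
          have h1 : orderOf y ∣ Nat.card O := by
            have := orderOf_dvd_natCard (⟨y, hy⟩ : O)
            rwa [Subgroup.orderOf_mk] at this
          exact Odd.of_dvd_nat hOodd h1
        exact eq_one_of_sq_of_odd h3 hodd
      · rintro z ⟨_, hz⟩ y hy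
        exact ((Subgroup.mem_centralizer_iff.mp hz) y hy).symm
      · intro s hsS hsZ y hy
        apply hb s hsS _ y hy
        intro hsc
        exact hsZ ⟨hsS, hsc⟩
  obtain ⟨Z, hZS, hcyc, hidx, htZ', hZO, hOinv⟩ := hZex
  obtain ⟨huniq, hout⟩ := cyclic_index_two_props (S : Subgroup G) n hn e t ht Z hZS hcyc hidx htZ'
  have hconj := invol_conj S Z hZS hidx t ht htZ' huniq
  exact hyp_of_data (S : Subgroup G) t ht O Z hSC S.2 hOC hOodd hOall hCprod hc hZS hcyc hidx htZ'
    hZO hOinv huniq hout hconj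

end Cfsg.Agent.Lib.Helper90.BSWDih
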