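import Mathlib
import Cfsg.Agent.S0014

set_option autoImplicit false

namespace Cfsg.Agent.Lib.Helper90

/-- A finite 2-group with a cyclic subgroup of index at most two has Frattini quotient of order at
most four. -/
theorem frattini_index_le_four {G : Type*} [Group G] [Finite G] (Q : Subgroup G)
    (hQ : IsPGroup 2 ↥Q) (C : Subgroup G) [IsCyclic ↥C] (hCQ : C ≤ Q) (hidx : C.relIndex Q ≤ 2)
    (hidx0 : C.relIndex Q ≠ 0) : (frattini ↥Q).index ≤ 4 := by
  classical
  have : Fact (Nat.Prime 2) := ⟨Nat.prime_two⟩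
  set C' := C.subgroupOf Q with hC'
  have hcyc : IsCyclic ↥C' := (Subgroup.subgroupOfEquivOfLe hCQ).isCyclic.mpr inferInstance
  obtain ⟨c, hc⟩ := IsCyclic.exists_generator (α := ↥C')
  have hC'eq : C' = Subgroup.zpowers (c : ↥Q) := by
    apply le_antisymm
    · intro y hy
      obtain ⟨k, hk⟩ := Subgroup.mem_zpowers_iff.mp (hc ⟨y, hy⟩)
      refine Subgroup.mem_zpowers_iff.mpr ⟨k, ?_⟩
      have := congrArg Subtype.val hk
      simpa using this
    · exact Subgroup.zpowers_le.mpr c.2
  have hC'idx : C'.index = C.relIndex Q := rfl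
  have hT : ∃ T : Finset ↥Q, T.card ≤ 2 ∧ Subgroup.closure (T : Set ↥Q) = ⊤ := by
    by_cases h1 : C' = ⊤
    · refine ⟨{(c : ↥Q)}, by simp, ?_⟩
      rw [Finset.coe_singleton, ← Subgroup.zpowers_eq_closure, ← hC'eq, h1]
    · obtain ⟨y, hy⟩ : ∃ y : ↥Q, y ∉ C' := by
        by_contra hcon
        push Not at hcon
        exact h1 (top_unique fun y _ => hcon y)
      refine ⟨{(c : ↥Q), y}, Finset.card_le_two, ?_⟩
      set K := Subgroup.closure (((({(c : ↥Q), y} : Finset ↥Q)) : Set ↥Q)) with hK
      have hcK : (c : ↥Q) ∈ K := Subgroup.subset_closure (by simp)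
      have hyK : y ∈ K := Subgroup.subset_closure (by simp)
      have hle : C' ≤ K := by rw [hC'eq]; exact Subgroup.zpowers_le.mpr hcK
      have hrel : C'.relIndex K ≠ 1 := by
        rw [Ne, Subgroup.relIndex_eq_one]
        intro h; exact hy (h hyK)
      have hmul := Subgroup.relIndex_mul_index hle
      rw [hC'idx] at hmul
      have hKidx : K.index = 1 := by
        have h2 : C.relIndex Q = 1 ∨ C.relIndex Q = 2 := by omega
        rcases h2 with h2 | h2
        · exfalso; apply h1
          rw [← Subgroup.index_eq_one, hC'idx, h2]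
        · rw [h2] at hmul
          have hd : C'.relIndex K ∣ 2 := Dvd.intro _ hmul
          have h3 : C'.relIndex K = 1 ∨ C'.relIndex K = 2 :=
            (Nat.dvd_prime Nat.prime_two).mp hd
          rcases h3 with h3 | h3
          · exact absurd h3 hrel
          · rw [h3] at hmul; omega
      exact Subgroup.index_eq_one.mp hKidx
  obtain ⟨T, hTcard, hTgen⟩ := hT
  obtain ⟨n', hn'⟩ := hQ.index (frattini ↥Q)
  have hle := (Cfsg.Agent.S0014.result 2 n' hQ hn').2 T hTgen
  rw [hn']
  calc 2 ^ n' ≤ 2 ^ 2 := Nat.pow_le_pow_right (by norm_num) (le_trans hle hTcard)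
    _ = 4 := by norm_num

end Cfsg.Agent.Lib.Helper90
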