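import Mathlib

set_option autoImplicit false

namespace Cfsg.Agent.Lib.Helper90

/-- Two non-conjugate involutions `a`, `b` of a finite group: the dihedral group they generate has
a central involution `c` with `a * c` an involution conjugate to `a` or to `b`. -/
theorem dihedral_central_involution {G : Type*} [Group G] [Finite G] (a b : G)
    (ha : a * a = 1) (hb : b * b = 1) (hb1 : b ≠ 1) (hab : ¬ IsConj a b) :
    ∃ c : G, c * c = 1 ∧ c ≠ 1 ∧ c ≠ a ∧ a * c = c * a ∧ b * c = c * b ∧
      (IsConj a (a * c) ∨ IsConj b (a * c)) := by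
  set u := a * b with hu
  set v := b * a with hv
  have huv : u * v = 1 := by
    calc a * b * (b * a) = a * (b * b) * a := by group
      _ = 1 := by rw [hb, mul_one, ha]
  have hvinv : v = u⁻¹ := eq_inv_of_mul_eq_one_right huv
  have hau : a * u = v * a := by
    calc a * (a * b) = (a * a) * b := by group
      _ = b * (a * a) := by rw [ha, one_mul, mul_one]
      _ = b * a * a := by group
  have hav : a * v = u * a := by
    simp only [hu, hv, mul_assoc]
  have hbu : b * u = v * b := by
    simp only [hu, hv, mul_assoc]
  have hbv : b * v = u * b := by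
    calc b * (b * a) = (b * b) * a := by group
      _ = a * (b * b) := by rw [hb, one_mul, mul_one]
      _ = a * b * b := by group
  have hauk : ∀ k : ℕ, a * u ^ k = v ^ k * a := by
    intro k
    induction k with
    | zero => simp
    | succ k ih =>
      calc a * u ^ (k + 1) = (a * u ^ k) * u := by rw [pow_succ]; group
        _ = v ^ k * (a * u) := by rw [ih]; group
        _ = v ^ (k + 1) * a := by rw [hau, pow_succ]; group
  have havk : ∀ k : ℕ, a * v ^ k = u ^ k * a := by
    intro k
    induction k with
    | zero => simp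
    | succ k ih =>
      calc a * v ^ (k + 1) = (a * v ^ k) * v := by rw [pow_succ]; group
        _ = u ^ k * (a * v) := by rw [ih]; group
        _ = u ^ (k + 1) * a := by rw [hav, pow_succ]; group
  have hbuk : ∀ k : ℕ, b * u ^ k = v ^ k * b := by
    intro k
    induction k with
    | zero => simp
    | succ k ih =>
      calc b * u ^ (k + 1) = (b * u ^ k) * u := by rw [pow_succ]; group
        _ = v ^ k * (b * u) := by rw [ih]; group
        _ = v ^ (k + 1) * b := by rw [hbu, pow_succ]; group
  have hbvk : ∀ k : ℕ, b * v ^ k = u ^ k * b := by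
    intro k
    induction k with
    | zero => simp
    | succ k ih =>
      calc b * v ^ (k + 1) = (b * v ^ k) * v := by rw [pow_succ]; group
        _ = u ^ k * (b * v) := by rw [ih]; group
        _ = u ^ (k + 1) * b := by rw [hbv, pow_succ]; group
  have hvk : ∀ k : ℕ, v ^ k = (u ^ k)⁻¹ := by
    intro k; rw [hvinv, inv_pow]
  have huk : ∀ k : ℕ, u ^ k = (v ^ k)⁻¹ := by
    intro k; rw [hvk, inv_inv]
  have hn : 0 < orderOf u := orderOf_pos u
  rcases Nat.even_or_odd' (orderOf u) with ⟨m, hm | hm⟩
  · -- even order 2m
    have hm0 : 0 < m := by omega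
    set c := u ^ m with hc
    have hcc : c * c = 1 := by
      rw [hc, ← pow_add, ← two_mul, ← hm, pow_orderOf_eq_one]
    have hc1 : c ≠ 1 := by
      apply pow_ne_one_of_lt_orderOf (by omega) (by omega)
    have hcinv : c⁻¹ = c := inv_eq_of_mul_eq_one_left hcc
    have hcv : v ^ m = c := by rw [hvk, ← hc, hcinv]
    have hac : a * c = c * a := by rw [hc, hauk, hcv]
    have hbc : b * c = c * b := by rw [hc, hbuk, hcv]
    have hca : c ≠ a := by
      intro hca
      -- a commutes with u
      have h1 : a * u = u * a := by
        rw [← hca, hc, ← pow_succ, ← pow_succ']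
      rw [hau] at h1
      have h2 : v = u := mul_right_cancel h1
      have h3 : u * u = 1 := by rw [← h2] at huv ⊢; rw [h2] at huv; rw [h2]; exact huv
      have h4 : orderOf u ∣ 2 := orderOf_dvd_of_pow_eq_one (by rw [pow_two]; exact h3)
      have h5 : orderOf u ≤ 2 := Nat.le_of_dvd (by norm_num) h4
      have h6 : m = 1 := by omega
      rw [h6, pow_one] at hc
      rw [hc, hu] at hca
      apply hb1
      have : a * b = a * 1 := by rw [mul_one]; exact hca
      exact mul_left_cancel this
    refine ⟨c, hcc, hc1, hca, hac, hbc, ?_⟩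
    rcases Nat.even_or_odd' m with ⟨k, hk | hk⟩
    · left
      rw [isConj_iff]
      refine ⟨v ^ k, ?_⟩
      rw [hvk k, inv_inv, ← hvk k]
      calc v ^ k * a * u ^ k = v ^ k * (a * u ^ k) := by group
        _ = v ^ k * (v ^ k * a) := by rw [hauk]
        _ = v ^ (2 * k) * a := by rw [two_mul, pow_add]; group
        _ = a * c := by rw [← hk, hcv, hac]
    · right
      rw [isConj_iff]
      refine ⟨v ^ k, ?_⟩
      rw [hvk k, inv_inv, ← hvk k]
      calc v ^ k * b * u ^ k = v ^ k * (b * u ^ k) := by group
        _ = v ^ k * (v ^ k * b) := by rw [hbuk]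
        _ = v ^ (2 * k) * (v * a) := by
            rw [two_mul, pow_add, hv]
            have : b * a * a = b := by rw [mul_assoc, ha, mul_one]
            rw [this]; group
        _ = v ^ (2 * k + 1) * a := by rw [pow_succ]; group
        _ = a * c := by rw [← hk, hcv, hac]
  · -- odd order: a and b conjugate
    exfalso
    apply hab
    rw [isConj_iff]
    refine ⟨u ^ m, ?_⟩
    rw [huk m, inv_inv, ← huk m]
    have h1 : u ^ (2 * m) = v := by
      have : u ^ (2 * m) * u = 1 := by rw [← pow_succ, ← hm, pow_orderOf_eq_one]
      rw [hvinv]; exact eq_inv_of_mul_eq_one_left this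
    calc u ^ m * a * v ^ m = u ^ m * (a * v ^ m) := by group
      _ = u ^ m * (u ^ m * a) := by rw [havk]
      _ = u ^ (2 * m) * a := by rw [two_mul, pow_add]; group
      _ = b := by rw [h1, hv, mul_assoc, ha, mul_one]

end Cfsg.Agent.Lib.Helper90
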