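import Mathlib
import Cfsg.Prelude.Def_MonsterType
import Cfsg.Agent.Lib.Helper90.ES

set_option autoImplicit false

namespace Cfsg.Agent.Lib.Helper90

open Cfsg

namespace ESData

variable {G : Type*} [Group G] {Q : Subgroup G} {z : G}

/-- If `x` commutes with `a` and with all of `C_Q(s)`, where `a s a⁻¹ = z s`, then `x` commutes
with all of `Q`. -/
theorem commute_all_of_commute_coset (h : ESData Q z) {s a x : G} (hsQ : s ∈ Q) (haQ : a ∈ Q)
    (has : a * s * a⁻¹ = z * s)
    (hxP : ∀ p ∈ Q, p * s = s * p → p * x = x * p) (hxa : a * x = x * a) :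
    ∀ q ∈ Q, q * x = x * q := by
  intro q hq
  rcases h.commute_or_conj hq hsQ with h1 | h1
  · exact hxP q hq h1
  · -- a⁻¹ q commutes with s
    have hp : (a⁻¹ * q) * s = s * (a⁻¹ * q) := by
      have e1 : q * s * q⁻¹ = a * s * a⁻¹ := by rw [h1, has]
      calc (a⁻¹ * q) * s = a⁻¹ * (q * s * q⁻¹) * q := by group
        _ = a⁻¹ * (a * s * a⁻¹) * q := by rw [e1]
        _ = s * (a⁻¹ * q) := by group
    have hpQ : a⁻¹ * q ∈ Q := Q.mul_mem (Q.inv_mem haQ) hq
    have h2 := hxP _ hpQ hp
    calc q * x = a * ((a⁻¹ * q) * x) := by group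
      _ = a * (x * (a⁻¹ * q)) := by rw [h2]
      _ = (a * x) * (a⁻¹ * q) := by group
      _ = (x * a) * (a⁻¹ * q) := by rw [hxa]
      _ = x * q := by group

/-- Double centralizer in `Q`: `C_Q(C_Q(s)) = {1, z, s, z s}` for a non-central involution `s`. -/
theorem double_centralizer (h : ESData Q z) {s d : G} (hsQ : s ∈ Q) (hss : s * s = 1)
    (hs1 : s ≠ 1) (hsz : s ≠ z) (hdQ : d ∈ Q)
    (hdP : ∀ p ∈ Q, p * s = s * p → p * d = d * p) :
    d = 1 ∨ d = z ∨ d = s ∨ d = z * s := by
  obtain ⟨a, haQ, has⟩ := h.exists_conj_noncentral hsQ hs1 hsz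
  have hsinv : s⁻¹ = s := inv_eq_of_mul_eq_one_left hss
  rcases h.commute_or_conj haQ hdQ with h1 | h1
  · rcases h.cent d (h.commute_all_of_commute_coset hsQ haQ has hdP h1) with h2 | h2
    · exact Or.inl h2
    · exact Or.inr (Or.inl h2)
  · -- e = d s commutes with everything
    have heP : ∀ p ∈ Q, p * s = s * p → p * (d * s) = (d * s) * p := by
      intro p hp hps
      calc p * (d * s) = (p * d) * s := by group
        _ = (d * p) * s := by rw [hdP p hp hps]
        _ = d * (p * s) := by group
        _ = d * (s * p) := by rw [hps]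
        _ = (d * s) * p := by group
    have hea : a * (d * s) = (d * s) * a := by
      have hzd : z * d = d * z := (h.zc d hdQ).symm
      calc a * (d * s) = (a * d * a⁻¹) * (a * s * a⁻¹) * a := by group
        _ = (z * d) * (z * s) * a := by rw [h1, has]
        _ = (d * z) * (z * s) * a := by rw [hzd]
        _ = d * (z * z) * s * a := by group
        _ = (d * s) * a := by rw [h.zz]; group
    rcases h.cent (d * s) (h.commute_all_of_commute_coset hsQ haQ has heP hea) with h2 | h2
    · right; right; left
      calc d = (d * s) * s⁻¹ := by group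
        _ = s := by rw [h2, hsinv, one_mul]
    · right; right; right
      calc d = (d * s) * s⁻¹ := by group
        _ = z * s := by rw [h2, hsinv]

/-- An element normalizing `Q` and centralizing `C_Q(s)` lies in `{1, z, s, z s}`. -/
theorem centralizer_in_normalizer (h : ESData Q z) {s x : G} (hsQ : s ∈ Q) (hss : s * s = 1)
    (hs1 : s ≠ 1) (hsz : s ≠ z) (hxN : x ∈ Subgroup.normalizer (Q : Set G))
    (hxP : ∀ p ∈ Q, p * s = s * p → p * x = x * p) :
    x = 1 ∨ x = z ∨ x = s ∨ x = z * s := by
  obtain ⟨a, haQ, has⟩ := h.exists_conj_noncentral hsQ hs1 hsz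
  have hsinv : s⁻¹ = s := inv_eq_of_mul_eq_one_left hss
  have hzs : z * s = s * z := (h.zc s hsQ).symm
  -- x commutes with z
  have hxz : z * x = x * z := hxP z h.zQ hzs
  -- a' = x a x⁻¹ ∈ Q and d = a⁻¹ a'
  have ha'Q : x * a * x⁻¹ ∈ Q := (hxN a).mp haQ
  have hdQ : a⁻¹ * (x * a * x⁻¹) ∈ Q := Q.mul_mem (Q.inv_mem haQ) ha'Q
  have hdP : ∀ p ∈ Q, p * s = s * p → p * (a⁻¹ * (x * a * x⁻¹)) = (a⁻¹ * (x * a * x⁻¹)) * p := by
    intro p hp hps
    have hpx : p * x = x * p := hxP p hp hps
    have hpx' : x⁻¹ * p = p * x⁻¹ := by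
      calc x⁻¹ * p = x⁻¹ * (p * x) * x⁻¹ := by group
        _ = x⁻¹ * (x * p) * x⁻¹ := by rw [hpx]
        _ = p * x⁻¹ := by group
    -- x a x⁻¹ p (x a x⁻¹)⁻¹ = x (a p a⁻¹) x⁻¹
    have e1 : (x * a * x⁻¹) * p * (x * a * x⁻¹)⁻¹ = x * (a * p * a⁻¹) * x⁻¹ := by
      calc (x * a * x⁻¹) * p * (x * a * x⁻¹)⁻¹ = x * a * (x⁻¹ * p) * x * a⁻¹ * x⁻¹ := by group
        _ = x * a * (p * x⁻¹) * x * a⁻¹ * x⁻¹ := by rw [hpx']
        _ = x * (a * p * a⁻¹) * x⁻¹ := by group
    have e2 : x * (a * p * a⁻¹) * x⁻¹ = a * p * a⁻¹ := by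
      rcases h.commute_or_conj haQ hp with h1 | h1
      · have : a * p * a⁻¹ = p := by rw [h1]; group
        rw [this]
        calc x * p * x⁻¹ = (x * p) * x⁻¹ := by group
          _ = (p * x) * x⁻¹ := by rw [hpx]
          _ = p := by group
      · rw [h1]
        calc x * (z * p) * x⁻¹ = (x * z) * (p * x⁻¹) := by group
          _ = (z * x) * (x⁻¹ * p) := by rw [hxz, hpx']
          _ = z * p := by group
    calc p * (a⁻¹ * (x * a * x⁻¹))
        = a⁻¹ * (a * p * a⁻¹) * (x * a * x⁻¹) := by group
      _ = a⁻¹ * ((x * a * x⁻¹) * p * (x * a * x⁻¹)⁻¹) * (x * a * x⁻¹) := by rw [e1, e2]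
      _ = (a⁻¹ * (x * a * x⁻¹)) * p := by group
  have hdc := h.double_centralizer hsQ hss hs1 hsz hdQ hdP
  -- basic relations
  have hza : z * a = a * z := (h.zc a haQ).symm
  have F1 : a * s = z * s * a := by
    calc a * s = (a * s * a⁻¹) * a := by group
      _ = z * s * a := by rw [has]
  have F2 : s * a = z * (a * s) := by
    rw [F1]
    calc s * a = (z * z) * s * a := by rw [h.zz]; group
      _ = z * (z * s * a) := by group
  -- a a commutes with s, hence with x
  have haas : (a * a) * s = s * (a * a) := by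
    calc (a * a) * s = a * (a * s) := by group
      _ = a * (z * s * a) := by rw [F1]
      _ = (a * z) * s * a := by group
      _ = (z * a) * s * a := by rw [hza]
      _ = z * (a * s) * a := by group
      _ = z * (z * s * a) * a := by rw [F1]
      _ = (z * z) * s * (a * a) := by group
      _ = s * (a * a) := by rw [h.zz]; group
  have haax : (a * a) * x = x * (a * a) := hxP _ (Q.mul_mem haQ haQ) haas
  -- write x a x⁻¹ = a d
  set d := a⁻¹ * (x * a * x⁻¹) with hd
  have hxa : x * a = a * d * x := by rw [hd]; group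
  -- d a d = a
  have hdad : d * a * d = a := by
    have e1 : (a * d) * (a * d) = a * a := by
      calc (a * d) * (a * d) = (x * a * x⁻¹) * (x * a * x⁻¹) := by rw [hd]; group
        _ = (x * (a * a)) * x⁻¹ := by group
        _ = ((a * a) * x) * x⁻¹ := by rw [haax]
        _ = a * a := by group
    have e2 : a * (d * a * d) = a * a := by rw [← e1]; group
    exact mul_left_cancel e2
  rcases hdc with h1 | h1 | h1 | h1
  · -- d = 1
    have hax : a * x = x * a := by rw [hxa, h1]; group
    rcases h.cent x (h.commute_all_of_commute_coset hsQ haQ has hxP hax) with h2 | h2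
    · exact Or.inl h2
    · exact Or.inr (Or.inl h2)
  · -- d = z : consider y = s x
    have hyP : ∀ p ∈ Q, p * s = s * p → p * (s * x) = (s * x) * p := by
      intro p hp hps
      calc p * (s * x) = (p * s) * x := by group
        _ = (s * p) * x := by rw [hps]
        _ = s * (p * x) := by group
        _ = s * (x * p) := by rw [hxP p hp hps]
        _ = (s * x) * p := by group
    have hya : a * (s * x) = (s * x) * a := by
      symm
      calc (s * x) * a = s * (x * a) := by group
        _ = s * (a * d * x) := by rw [hxa]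
        _ = (s * a) * z * x := by rw [h1]; group
        _ = z * (a * s) * z * x := by rw [F2]
        _ = (z * a) * (s * z) * x := by group
        _ = (a * z) * (z * s) * x := by rw [hza, hzs]
        _ = a * (z * z) * s * x := by group
        _ = a * (s * x) := by rw [h.zz]; group
    rcases h.cent (s * x) (h.commute_all_of_commute_coset hsQ haQ has hyP hya) with h2 | h2
    · right; right; left
      calc x = s⁻¹ * (s * x) := by group
        _ = s := by rw [h2, hsinv, mul_one]
    · right; right; right
      calc x = s⁻¹ * (s * x) := by group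
        _ = z * s := by rw [h2, hsinv, hzs]
  · -- d = s : contradiction
    exfalso
    rw [h1] at hdad
    have e : s * a * s = z * a := by
      calc s * a * s = z * (a * s) * s := by rw [F2]
        _ = z * a * (s * s) := by group
        _ = z * a := by rw [hss, mul_one]
    rw [e] at hdad
    apply h.z1
    have : z * a = 1 * a := by rw [one_mul]; exact hdad
    exact mul_right_cancel this
  · -- d = z s : contradiction
    exfalso
    rw [h1] at hdad
    have e : z * s * a * (z * s) = a * z := by
      calc z * s * a * (z * s) = z * (s * a) * (z * s) := by group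
        _ = z * (z * (a * s)) * (z * s) := by rw [F2]
        _ = (z * z) * a * (s * z) * s := by group
        _ = a * (z * s) * s := by rw [h.zz, ← hzs]; group
        _ = a * z * (s * s) := by group
        _ = a * z := by rw [hss, mul_one]
    rw [e] at hdad
    apply h.z1
    have : a * z = a * 1 := by rw [mul_one]; exact hdad
    exact mul_left_cancel this

end ESData

end Cfsg.Agent.Lib.Helper90
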