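import Mathlib
import Cfsg.Prelude.Def_MonsterType
import Cfsg.Agent.Lib.Helper90.ESCentral

set_option autoImplicit false

namespace Cfsg.Agent.Lib.Helper90

open Cfsg

namespace ESData

variable {G : Type*} [Group G] {Q : Subgroup G} {z : G}

/-- Key Sylow argument: if `s = g z g⁻¹ ∈ Q`, `s ≠ z`, there is `t` centralizing `s` with
`t z t⁻¹ = z s`. -/
theorem exists_swap [Finite G] (h : ESData Q z) (g : G)
    (hsQ : g * z * g⁻¹ ∈ Q) (hsz : g * z * g⁻¹ ≠ z) :
    ∃ t : G, t * (g * z * g⁻¹) = (g * z * g⁻¹) * t ∧ t * z * t⁻¹ = z * (g * z * g⁻¹) := by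
  have h' := h.conj g
  set s := g * z * g⁻¹ with hs
  set Q₂ := Q.map (MulAut.conj g).toMonoidHom with hQ₂
  have hs1 : s ≠ 1 := h'.z1
  have hss : s * s = 1 := h'.zz
  have hzs : z * s = s * z := (h.zc s hsQ).symm
  set CV : Subgroup G := Subgroup.centralizer ({z} : Set G) ⊓ Subgroup.centralizer ({s} : Set G)
    with hCV
  have hmemCV : ∀ x : G, x ∈ CV ↔ (x * z = z * x ∧ x * s = s * x) := by
    intro x
    rw [hCV, Subgroup.mem_inf, Subgroup.mem_centralizer_singleton_iff,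
      Subgroup.mem_centralizer_singleton_iff]
  let SS : Sylow 2 ↥CV := Classical.arbitrary _
  set S : Subgroup G := (SS : Subgroup ↥CV).map CV.subtype with hS
  have hSCV : S ≤ CV := Subgroup.map_subtype_le _
  have hS2 : IsPGroup 2 S := SS.isPGroup'.map _
  -- (1) C_Q(s) ≤ S
  have hP₁S : ∀ p ∈ Q, p * s = s * p → p ∈ S := by
    set P₁ : Subgroup G := Q ⊓ Subgroup.centralizer ({s} : Set G) with hP₁
    have hP₁CV : P₁ ≤ CV := by
      intro p hp
      rw [hmemCV]
      exact ⟨h.zc p hp.1, Subgroup.mem_centralizer_singleton_iff.mp hp.2⟩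
    have hn : (P₁.subgroupOf CV).Normal := by
      constructor
      intro p hp c
      have hp' : (p : G) ∈ P₁ := hp
      have hc := (hmemCV c).mp c.2
      show ((c * p * c⁻¹ : CV) : G) ∈ P₁
      simp only [Subgroup.coe_mul, Subgroup.coe_inv]
      refine ⟨((h.norm c hc.1) p).mp hp'.1, ?_⟩
      show (c : G) * p * (c : G)⁻¹ ∈ Subgroup.centralizer ({s} : Set G)
      rw [Subgroup.mem_centralizer_singleton_iff]
      have hps : (p : G) * s = s * p := Subgroup.mem_centralizer_singleton_iff.mp hp'.2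
      have hcs' : (c : G)⁻¹ * s = s * (c : G)⁻¹ := by
        calc (c : G)⁻¹ * s = (c : G)⁻¹ * (s * c) * (c : G)⁻¹ := by group
          _ = (c : G)⁻¹ * (c * s) * (c : G)⁻¹ := by rw [hc.2]
          _ = s * (c : G)⁻¹ := by group
      calc (c : G) * p * (c : G)⁻¹ * s = (c : G) * p * ((c : G)⁻¹ * s) := by group
        _ = (c : G) * p * (s * (c : G)⁻¹) := by rw [hcs']
        _ = (c : G) * (p * s) * (c : G)⁻¹ := by group
        _ = (c : G) * (s * p) * (c : G)⁻¹ := by rw [hps]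
        _ = ((c : G) * s) * p * (c : G)⁻¹ := by group
        _ = (s * c) * p * (c : G)⁻¹ := by rw [hc.2]
        _ = s * (c * p * (c : G)⁻¹) := by group
    have hp2 : IsPGroup 2 (P₁.subgroupOf CV) := (h.two.to_le inf_le_left).comap_subtype
    have hle := hp2.le_sylow_of_normal SS
    intro p hp hps
    have hpP₁ : p ∈ P₁ := ⟨hp, Subgroup.mem_centralizer_singleton_iff.mpr hps⟩
    exact ⟨⟨p, hP₁CV hpP₁⟩, hle hpP₁, rfl⟩
  have hzS : z ∈ S := hP₁S z h.zQ hzs
  -- (3) central elements of S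
  have hcenS : ∀ y ∈ S, (∀ x ∈ S, x * y = y * x) → y = 1 ∨ y = z ∨ y = s ∨ y = z * s := by
    intro y hy hyc
    have hyCV := (hmemCV y).mp (hSCV hy)
    exact h.centralizer_in_normalizer hsQ hss hs1 hsz (h.norm y hyCV.1)
      (fun p hp hps => hyc p (hP₁S p hp hps))
  -- (4) T₂
  have hSN : S ≤ Subgroup.normalizer (Q₂ : Set G) := by
    intro x hx
    exact h'.norm x ((hmemCV x).mp (hSCV hx)).2
  set T₂ : Subgroup G := S ⊔ Q₂ with hT₂
  have hT₂2 : IsPGroup 2 T₂ := hS2.to_sup_of_normal_right' h'.two hSN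
  have hT₂s : ∀ x ∈ T₂, x * s = s * x := by
    have : T₂ ≤ Subgroup.centralizer ({s} : Set G) := by
      rw [hT₂, sup_le_iff]
      constructor
      · intro x hx
        exact Subgroup.mem_centralizer_singleton_iff.mpr ((hmemCV x).mp (hSCV hx)).2
      · intro x hx
        exact Subgroup.mem_centralizer_singleton_iff.mpr (h'.zc x hx)
    intro x hx
    exact Subgroup.mem_centralizer_singleton_iff.mp (this hx)
  have hST₂ : S ≤ T₂ := le_sup_left
  -- (5)
  have hex : ∃ y ∈ Q₂, y ∉ S := by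
    by_contra hcon
    push Not at hcon
    have : ∀ q ∈ Q₂, q * z = z * q := fun q hq => ((hmemCV q).mp (hSCV (hcon q hq))).1
    rcases h'.cent z this with h1 | h1
    · exact h.z1 h1
    · exact hsz h1.symm
  obtain ⟨y, hyQ₂, hyS⟩ := hex
  -- (6) normalizer condition
  have : Fact (Nat.Prime 2) := ⟨Nat.prime_two⟩
  have : Group.IsNilpotent ↥T₂ := hT₂2.isNilpotent
  have hnc : NormalizerCondition ↥T₂ := Group.normalizerCondition_of_isNilpotent
  have hlt : S.subgroupOf T₂ < ⊤ := by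
    rw [lt_top_iff_ne_top]
    intro htop
    apply hyS
    have : (⟨y, (le_sup_right : Q₂ ≤ T₂) hyQ₂⟩ : T₂) ∈ S.subgroupOf T₂ := by
      rw [htop]; exact Subgroup.mem_top _
    exact this
  have hlt2 := hnc _ hlt
  obtain ⟨t, htN, htS⟩ := SetLike.exists_of_lt hlt2
  have htS' : (t : G) ∉ S := fun hc => htS hc
  have htnorm : ∀ x ∈ S, (t : G) * x * (t : G)⁻¹ ∈ S := by
    intro x hx
    have := (Subgroup.mem_normalizer_iff.mp htN ⟨x, hST₂ hx⟩).mp hx
    exact this
  have htnorm' : ∀ x ∈ S, (t : G)⁻¹ * x * (t : G) ∈ S := by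
    intro x hx
    have := (Subgroup.mem_normalizer_iff''.mp htN ⟨x, hST₂ hx⟩).mp hx
    exact this
  have hts : (t : G) * s = s * t := hT₂s t t.2
  refine ⟨t, hts, ?_⟩
  -- (9)
  have htz : (t : G) * z ≠ z * t := by
    intro hc
    apply htS'
    have htCV : (t : G) ∈ CV := (hmemCV t).mpr ⟨hc, hts⟩
    set S' : Subgroup G := S ⊔ Subgroup.zpowers (t : G) with hS'
    have hS'T₂ : S' ≤ T₂ := by
      rw [hS', sup_le_iff]
      exact ⟨hST₂, (Subgroup.zpowers_le).mpr t.2⟩
    have hS'2 : IsPGroup 2 (S'.subgroupOf CV) := (hT₂2.to_le hS'T₂).comap_subtype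
    have hle : (SS : Subgroup ↥CV) ≤ S'.subgroupOf CV := by
      intro c hc
      show (c : G) ∈ S'
      exact (le_sup_left : S ≤ S') ⟨c, hc, rfl⟩
    have heq := SS.is_maximal' hS'2 hle
    have htS'' : (⟨t, htCV⟩ : CV) ∈ S'.subgroupOf CV := by
      show (t : G) ∈ S'
      exact (le_sup_right : Subgroup.zpowers (t : G) ≤ S') (Subgroup.mem_zpowers _)
    rw [heq] at htS''
    exact ⟨⟨t, htCV⟩, htS'', rfl⟩
  -- (10)
  have hwS : (t : G) * z * (t : G)⁻¹ ∈ S := htnorm z hzS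
  have hwc : ∀ x ∈ S, x * ((t : G) * z * (t : G)⁻¹) = ((t : G) * z * (t : G)⁻¹) * x := by
    intro x hx
    have hx' := htnorm' x hx
    have h1 : ((t : G)⁻¹ * x * t) * z = z * ((t : G)⁻¹ * x * t) := ((hmemCV _).mp (hSCV hx')).1
    calc x * ((t : G) * z * (t : G)⁻¹) = t * (((t : G)⁻¹ * x * t) * z) * (t : G)⁻¹ := by group
      _ = t * (z * ((t : G)⁻¹ * x * t)) * (t : G)⁻¹ := by rw [h1]
      _ = ((t : G) * z * (t : G)⁻¹) * x := by group
  rcases hcenS _ hwS hwc with h1 | h1 | h1 | h1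
  · exfalso; apply h.z1
    calc z = (t : G)⁻¹ * ((t : G) * z * (t : G)⁻¹) * t := by group
      _ = 1 := by rw [h1]; group
  · exfalso; apply htz
    calc (t : G) * z = ((t : G) * z * (t : G)⁻¹) * t := by group
      _ = z * t := by rw [h1]
  · exfalso; apply hsz
    have h2 : (t : G) * s * (t : G)⁻¹ = s := by rw [hts]; group
    have h3 : (t : G) * z * (t : G)⁻¹ = (t : G) * s * (t : G)⁻¹ := by rw [h1, h2]
    have h4 := mul_right_cancel h3
    exact (mul_left_cancel h4).symm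
  · exact h1

end ESData

end Cfsg.Agent.Lib.Helper90
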