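import Mathlib

set_option autoImplicit false

namespace Cfsg.Agent.Lib.Helper90

/-- The four-group `{1, z, s, z s}` generated by two commuting involutions. -/
def kleinFour {G : Type*} [Group G] (z s : G) (hzz : z * z = 1) (hss : s * s = 1)
    (hzs : z * s = s * z) : Subgroup G where
  carrier := {x | x = 1 ∨ x = z ∨ x = s ∨ x = z * s}
  one_mem' := Or.inl rfl
  mul_mem' := by
    intro x y hx hy
    have e1 : z * (z * s) = s := by rw [← mul_assoc, hzz, one_mul]
    have e2 : s * z = z * s := hzs.symm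
    have e3 : s * (z * s) = z := by rw [← mul_assoc, e2, mul_assoc, hss, mul_one]
    have e4 : z * s * z = s := by rw [mul_assoc, e2, ← mul_assoc, hzz, one_mul]
    have e5 : z * s * s = z := by rw [mul_assoc, hss, mul_one]
    have e6 : z * s * (z * s) = 1 := by rw [mul_assoc, e3, hzz]
    simp only [Set.mem_ofPred_eq] at hx hy ⊢
    rcases hx with rfl | rfl | rfl | rfl <;> rcases hy with rfl | rfl | rfl | rfl <;>
      simp [hzz, hss, e1, e2, e3, e4, e5, e6]
  inv_mem' := by
    intro x hx
    have i1 : z⁻¹ = z := inv_eq_of_mul_eq_one_left hzz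
    have i2 : s⁻¹ = s := inv_eq_of_mul_eq_one_left hss
    have i3 : (z * s)⁻¹ = z * s := by rw [mul_inv_rev, i1, i2, hzs]
    simp only [Set.mem_ofPred_eq] at hx ⊢
    rcases hx with rfl | rfl | rfl | rfl <;> simp [i1, i2, i3]

theorem mem_kleinFour {G : Type*} [Group G] (z s : G) (hzz : z * z = 1) (hss : s * s = 1)
    (hzs : z * s = s * z) (x : G) :
    x ∈ kleinFour z s hzz hss hzs ↔ (x = 1 ∨ x = z ∨ x = s ∨ x = z * s) := Iff.rfl

end Cfsg.Agent.Lib.Helper90
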