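import Mathlib
import Cfsg.Agent.Lib.Helper90.Klein

set_option autoImplicit false

namespace Cfsg.Agent.Lib.Helper90

section

variable {G : Type*} [Group G]

/-- An element mapping the generators of `V = ⟨z, s⟩` into `V`, in both directions, normalizes `V`. -/
theorem mem_normalizer_kleinFour (z s : G) (hzz : z * z = 1) (hss : s * s = 1)
    (hzs : z * s = s * z) (n : G)
    (h1 : n * z * n⁻¹ ∈ kleinFour z s hzz hss hzs) (h2 : n * s * n⁻¹ ∈ kleinFour z s hzz hss hzs)
    (h3 : n⁻¹ * z * n ∈ kleinFour z s hzz hss hzs) (h4 : n⁻¹ * s * n ∈ kleinFour z s hzz hss hzs) :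
    n ∈ Subgroup.normalizer ((kleinFour z s hzz hss hzs : Subgroup G) : Set G) := by
  set V := kleinFour z s hzz hss hzs with hV
  have fwd : ∀ m : G, m * z * m⁻¹ ∈ V → m * s * m⁻¹ ∈ V → ∀ v ∈ V, m * v * m⁻¹ ∈ V := by
    intro m hz hs v hv
    rcases hv with rfl | rfl | rfl | rfl
    · have : m * 1 * m⁻¹ = 1 := by group
      rw [this]; exact V.one_mem
    · exact hz
    · exact hs
    · have : m * (z * s) * m⁻¹ = (m * z * m⁻¹) * (m * s * m⁻¹) := by group
      rw [this]; exact V.mul_mem hz hs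
  rw [Subgroup.mem_normalizer_iff]
  intro v
  constructor
  · exact fwd n h1 h2 v
  · intro hv
    have := fwd n⁻¹ (by rwa [inv_inv]) (by rwa [inv_inv]) _ hv
    have e : n⁻¹ * (n * v * n⁻¹) * n⁻¹⁻¹ = v := by group
    rwa [e] at this

/-- If `N_G(V)` induces the full automorphism group on the four-group `V`, then
`|N_G(V) : C_G(V)| = 6`. -/
theorem relIndex_centralizer_normalizer_kleinFour (z s : G) (hzz : z * z = 1) (hss : s * s = 1)
    (hzs : z * s = s * z) (hz1 : z ≠ 1) (hs1 : s ≠ 1) (hzs' : z ≠ s) (a t : G)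
    (haz : a * z * a⁻¹ = z) (has : a * s * a⁻¹ = z * s)
    (hts : t * s * t⁻¹ = s) (htz : t * z * t⁻¹ = z * s) :
    (Subgroup.centralizer ((kleinFour z s hzz hss hzs : Subgroup G) : Set G)).relIndex
      (Subgroup.normalizer ((kleinFour z s hzz hss hzs : Subgroup G) : Set G)) = 6 := by
  classical
  set V := kleinFour z s hzz hss hzs with hV
  have hVmem : ∀ x : G, x ∈ V ↔ (x = 1 ∨ x = z ∨ x = s ∨ x = z * s) := fun x => Iff.rfl
  set N := Subgroup.normalizer (V : Set G) with hN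
  set C := Subgroup.centralizer (V : Set G) with hC
  have hzinv : z⁻¹ = z := inv_eq_of_mul_eq_one_left hzz
  have hsinv : s⁻¹ = s := inv_eq_of_mul_eq_one_left hss
  -- distinctness
  have d1 : z ≠ z * s := by
    intro h; apply hs1
    have : z * 1 = z * s := by rw [mul_one]; exact h
    exact (mul_left_cancel this).symm
  have d2 : s ≠ z * s := by
    intro h; apply hz1
    have : 1 * s = z * s := by rw [one_mul]; exact h
    exact (mul_right_cancel this).symm
  have d3 : z * s ≠ 1 := by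
    intro h; apply hzs'
    have : z = s⁻¹ := eq_inv_of_mul_eq_one_left h
    rw [this, hsinv]
  let X : Finset G := {z, s, z * s}
  have hX : ∀ x : G, x ∈ X ↔ (x = z ∨ x = s ∨ x = z * s) := by
    intro x; simp [X]
  have hXV : ∀ x : G, x ∈ X ↔ (x ∈ V ∧ x ≠ 1) := by
    intro x
    rw [hX, hVmem]
    constructor
    · rintro (h | h | h)
      · exact ⟨Or.inr (Or.inl h), by rw [h]; exact hz1⟩
      · exact ⟨Or.inr (Or.inr (Or.inl h)), by rw [h]; exact hs1⟩
      · exact ⟨Or.inr (Or.inr (Or.inr h)), by rw [h]; exact d3⟩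
    · rintro ⟨h | h | h | h, h1⟩
      · exact absurd h h1
      · exact Or.inl h
      · exact Or.inr (Or.inl h)
      · exact Or.inr (Or.inr h)
  have hXcard : Fintype.card ↥X = 3 := by
    rw [Fintype.card_coe]
    exact Finset.card_eq_three.mpr ⟨z, s, z * s, hzs', d1, d2, rfl⟩
  have hconjX : ∀ n ∈ N, ∀ x ∈ X, n * x * n⁻¹ ∈ X := by
    intro n hn x hx
    rw [hXV] at hx ⊢
    refine ⟨(Subgroup.mem_normalizer_iff.mp hn x).mp hx.1, ?_⟩
    intro h
    apply hx.2
    calc x = n⁻¹ * (n * x * n⁻¹) * n := by group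
      _ = 1 := by rw [h]; group
  let act : MulAction ↥N ↥X :=
    { smul := fun n x => ⟨(n : G) * x * (n : G)⁻¹, hconjX n n.2 x x.2⟩
      one_smul := by
        intro x
        apply Subtype.ext
        show ((1 : ↥N) : G) * x * ((1 : ↥N) : G)⁻¹ = x
        simp
      mul_smul := by
        intro m n x
        apply Subtype.ext
        show ((m * n : ↥N) : G) * x * ((m * n : ↥N) : G)⁻¹ = (m : G) * ((n : G) * x * (n : G)⁻¹) * (m : G)⁻¹
        simp only [Subgroup.coe_mul]
        group }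
  have hsmul : ∀ (n : ↥N) (x : ↥X), ((n • x : ↥X) : G) = (n : G) * x * (n : G)⁻¹ := fun n x => rfl
  let φ : ↥N →* Equiv.Perm ↥X := MulAction.toPermHom ↥N ↥X
  have hφ : ∀ (n : ↥N) (x : ↥X), ((φ n x : ↥X) : G) = (n : G) * x * (n : G)⁻¹ := fun n x => rfl
  -- kernel
  have hker : φ.ker = C.subgroupOf N := by
    ext n
    rw [MonoidHom.mem_ker, Subgroup.mem_subgroupOf, hC, Subgroup.mem_centralizer_iff]
    constructor
    · intro h v hv
      by_cases hv1 : v = 1
      · rw [hv1]; group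
      · have hvX : v ∈ X := (hXV v).mpr ⟨hv, hv1⟩
        have h1 : φ n ⟨v, hvX⟩ = ⟨v, hvX⟩ := by rw [h]; rfl
        have h2 : (n : G) * v * (n : G)⁻¹ = v := by
          have := congrArg Subtype.val h1
          rwa [hφ] at this
        calc v * (n : G) = ((n : G) * v * (n : G)⁻¹) * n := by rw [h2]
          _ = n * v := by group
    · intro h
      ext x
      rw [hφ]
      have hxV : (x : G) ∈ V := ((hXV x).mp x.2).1
      have := h x hxV
      simp only [Equiv.Perm.coe_one, id_eq]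
      calc (n : G) * x * (n : G)⁻¹ = ((x : G) * n) * (n : G)⁻¹ := by rw [this]
        _ = x := by group
  -- a, t in N
  have hzV : z ∈ V := Or.inr (Or.inl rfl)
  have hsV : s ∈ V := Or.inr (Or.inr (Or.inl rfl))
  have hzsV : z * s ∈ V := Or.inr (Or.inr (Or.inr rfl))
  have hazs : a * (z * s) * a⁻¹ = s := by
    calc a * (z * s) * a⁻¹ = (a * z * a⁻¹) * (a * s * a⁻¹) := by group
      _ = s := by rw [haz, has, ← mul_assoc, hzz, one_mul]
  have htzs : t * (z * s) * t⁻¹ = z := by
    calc t * (z * s) * t⁻¹ = (t * z * t⁻¹) * (t * s * t⁻¹) := by group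
      _ = z := by rw [htz, hts, mul_assoc, hss, mul_one]
  have inv_of : ∀ (m x y : G), m * x * m⁻¹ = y → m⁻¹ * y * m = x := by
    intro m x y h
    rw [← h]; group
  have haN : a ∈ N := by
    apply mem_normalizer_kleinFour z s hzz hss hzs a
    · rw [haz]; exact hzV
    · rw [has]; exact hzsV
    · rw [inv_of a z z haz]; exact hzV
    · rw [inv_of a (z * s) s hazs]; exact hzsV
  have htN : t ∈ N := by
    apply mem_normalizer_kleinFour z s hzz hss hzs t
    · rw [htz]; exact hzsV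
    · rw [hts]; exact hsV
    · rw [inv_of t (z * s) z htzs]; exact hzsV
    · rw [inv_of t s s hts]; exact hsV
  have hzX : z ∈ X := (hX z).mpr (Or.inl rfl)
  have hsX : s ∈ X := (hX s).mpr (Or.inr (Or.inl rfl))
  have hzsX : z * s ∈ X := (hX (z * s)).mpr (Or.inr (Or.inr rfl))
  let xz : ↥X := ⟨z, hzX⟩
  let xs : ↥X := ⟨s, hsX⟩
  let xzs : ↥X := ⟨z * s, hzsX⟩
  have nzs : xz ≠ xs := fun h => hzs' (congrArg Subtype.val h)
  have nzzs : xz ≠ xzs := fun h => d1 (congrArg Subtype.val h)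
  have nszs : xs ≠ xzs := fun h => d2 (congrArg Subtype.val h)
  have hcases : ∀ x : ↥X, x = xz ∨ x = xs ∨ x = xzs := by
    intro x
    rcases (hX x).mp x.2 with h | h | h
    · exact Or.inl (Subtype.ext h)
    · exact Or.inr (Or.inl (Subtype.ext h))
    · exact Or.inr (Or.inr (Subtype.ext h))
  have hφa : φ ⟨a, haN⟩ = Equiv.swap xzs xs := by
    ext x
    rcases hcases x with rfl | rfl | rfl
    · rw [Equiv.swap_apply_of_ne_of_ne nzzs nzs, hφ]; exact haz
    · rw [Equiv.swap_apply_right, hφ]; exact has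
    · rw [Equiv.swap_apply_left, hφ]; exact hazs
  have hφt : φ ⟨t, htN⟩ = Equiv.swap xzs xz := by
    ext x
    rcases hcases x with rfl | rfl | rfl
    · rw [Equiv.swap_apply_right, hφ]; exact htz
    · rw [Equiv.swap_apply_of_ne_of_ne nszs nzs.symm, hφ]; exact hts
    · rw [Equiv.swap_apply_left, hφ]; exact htzs
  -- orders
  have h2 : 2 ∣ Nat.card φ.range := by
    have ho : orderOf (φ ⟨a, haN⟩) = 2 := by
      rw [hφa]; exact Equiv.Perm.IsSwap.orderOf ⟨xzs, xs, nszs.symm, rfl⟩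
    have hmem : φ ⟨a, haN⟩ ∈ φ.range := ⟨_, rfl⟩
    have := orderOf_dvd_natCard (⟨_, hmem⟩ : φ.range)
    rwa [Subgroup.orderOf_mk, ho] at this
  have h3 : 3 ∣ Nat.card φ.range := by
    have ho : orderOf (φ (⟨a, haN⟩ * ⟨t, htN⟩)) = 3 := by
      rw [map_mul, hφa, hφt]
      exact (Equiv.Perm.isThreeCycle_swap_mul_swap_same nszs.symm nzzs.symm nzs.symm).orderOf
    have hmem : φ (⟨a, haN⟩ * ⟨t, htN⟩) ∈ φ.range := ⟨_, rfl⟩
    have := orderOf_dvd_natCard (⟨_, hmem⟩ : φ.range)
    rwa [Subgroup.orderOf_mk, ho] at this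
  have h6 : 6 ∣ Nat.card φ.range :=
    Nat.Coprime.mul_dvd_of_dvd_of_dvd (by norm_num : Nat.Coprime 2 3) h2 h3
  have hcardPerm : Nat.card (Equiv.Perm ↥X) = 6 := by
    rw [Nat.card_eq_fintype_card, Fintype.card_perm, hXcard]; rfl
  have hdvd : Nat.card φ.range ∣ 6 := by
    rw [← hcardPerm]; exact Subgroup.card_subgroup_dvd_card _
  have hrange : Nat.card φ.range = 6 := Nat.dvd_antisymm hdvd h6
  show (C.subgroupOf N).index = 6
  rw [← hker, Subgroup.index_ker, hrange]

end

end Cfsg.Agent.Lib.Helper90
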