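import Mathlib
import Cfsg.Prelude.Def_MonsterType
import Cfsg.Agent.Lib.Helper90.ESSwap
import Cfsg.Agent.Lib.Helper90.KleinIndex
import Cfsg.Agent.Lib.Helper90.Large21

set_option autoImplicit false

namespace Cfsg.Agent.Lib.Helper90

open Cfsg

namespace ESData

variable {G : Type*} [Group G] {Q : Subgroup G} {z : G}

/-- If `s = g z g⁻¹ ∈ Q` and `s ≠ z`, then `z ∈ g Q g⁻¹`. -/
theorem gen_mem_conj [Finite G] (h : ESData Q z) (g : G)
    (hsQ : g * z * g⁻¹ ∈ Q) (hsz : g * z * g⁻¹ ≠ z) :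
    z ∈ Q.map (MulAut.conj g).toMonoidHom := by
  obtain ⟨t, hts, htz⟩ := h.exists_swap g hsQ hsz
  have h' := h.conj g
  set s := g * z * g⁻¹ with hs
  obtain ⟨a, haQ, has⟩ := h.exists_conj_noncentral hsQ h'.z1 hsz
  rw [mem_map_conj_iff]
  -- t⁻¹ (z s) t = z and t⁻¹ z t = z s
  have e1 : t⁻¹ * (z * s) * t = z := by rw [← htz]; group
  have e2 : t⁻¹ * z * t = z * s := by
    have : t * (z * s) * t⁻¹ = z := by
      calc t * (z * s) * t⁻¹ = (t * z * t⁻¹) * ((t * s) * t⁻¹) := by group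
        _ = (z * s) * ((s * t) * t⁻¹) := by rw [htz, hts]
        _ = z * (s * s) := by group
        _ = z := by rw [h'.zz, mul_one]
    calc t⁻¹ * z * t = t⁻¹ * (t * (z * s) * t⁻¹) * t := by rw [this]
      _ = z * s := by group
  have haz : a * z * a⁻¹ = z := by rw [h.zc a haQ]; group
  -- n = t⁻¹ a, n g centralizes z
  have hng : (t⁻¹ * a * g) * z = z * (t⁻¹ * a * g) := by
    have : (t⁻¹ * a * g) * z * (t⁻¹ * a * g)⁻¹ = z := by
      calc (t⁻¹ * a * g) * z * (t⁻¹ * a * g)⁻¹ = t⁻¹ * (a * (g * z * g⁻¹) * a⁻¹) * t := by group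
        _ = t⁻¹ * (z * s) * t := by rw [← hs, has]
        _ = z := e1
    calc (t⁻¹ * a * g) * z = ((t⁻¹ * a * g) * z * (t⁻¹ * a * g)⁻¹) * (t⁻¹ * a * g) := by group
      _ = z * (t⁻¹ * a * g) := by rw [this]
  have hN := h.norm _ hng
  have hzsQ : z * s ∈ Q := Q.mul_mem h.zQ hsQ
  have h3 := (Subgroup.mem_normalizer_iff''.mp hN (z * s)).mp hzsQ
  have e3 : (t⁻¹ * a * g)⁻¹ * (z * s) * (t⁻¹ * a * g) = g⁻¹ * z * g := by
    calc (t⁻¹ * a * g)⁻¹ * (z * s) * (t⁻¹ * a * g)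
        = g⁻¹ * a⁻¹ * (t * (z * s) * t⁻¹) * a * g := by group
      _ = g⁻¹ * a⁻¹ * z * a * g := by
          have : t * (z * s) * t⁻¹ = z := by
            calc t * (z * s) * t⁻¹ = t * (t⁻¹ * z * t) * t⁻¹ := by rw [e2]
              _ = z := by group
          rw [this]
      _ = g⁻¹ * (a⁻¹ * (a * z * a⁻¹) * a) * g := by rw [haz]; group
      _ = g⁻¹ * z * g := by group
  rwa [e3] at h3

/-- `Q` lies in the image of `O₂(C_G(z))`. -/
theorem le_map_pCore [Finite G] (h : ESData Q z) :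
    Q ≤ (pCore 2 ↥(Subgroup.centralizer ({z} : Set G))).map
      (Subgroup.centralizer ({z} : Set G)).subtype := by
  set C := Subgroup.centralizer ({z} : Set G) with hC
  have hQC : Q ≤ C := by
    intro q hq
    rw [hC, Subgroup.mem_centralizer_singleton_iff]
    exact h.zc q hq
  have hn : (Q.subgroupOf C).Normal := by
    constructor
    intro q hq c
    have hc : (c : G) * z = z * c := Subgroup.mem_centralizer_singleton_iff.mp c.2
    have := (Subgroup.mem_normalizer_iff.mp (h.norm c hc) q).mp hq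
    exact this
  have hp : IsPGroup 2 (Q.subgroupOf C) := h.two.comap_subtype
  have hle := le_pCore (Q.subgroupOf C) hn hp
  intro q hq
  exact ⟨⟨q, hQC hq⟩, hle hq, rfl⟩

end ESData

end Cfsg.Agent.Lib.Helper90
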