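import Mathlib
import Cfsg.Prelude.Def_MonsterType
import Cfsg.Agent.Lib.Helper90.ES22
import Cfsg.Agent.S0012

set_option autoImplicit false

namespace Cfsg.Agent.Lib.Helper90

open Cfsg

/-- Squares of elements of an extraspecial 2-subgroup lie in `{1, z}`. -/
theorem sq_mem_of_extraspecial {G : Type*} [Group G] [Finite G] (Q : Subgroup G)
    (hL1 : Cfsg.IsExtraspecial 2 ↥Q) (z : G)
    (hall : ∀ x ∈ (Subgroup.center ↥Q).map Q.subtype, x = 1 ∨ x = z) :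
    ∀ q ∈ Q, q * q = 1 ∨ q * q = z := by
  intro q hq
  haveI : Fact (Nat.Prime 2) := ⟨Nat.prime_two⟩
  have h1 := (Cfsg.Agent.S0012.result 2 hL1.1.1).2 ⟨q, hq⟩
  rw [hL1.1.2.1] at h1
  apply hall
  refine ⟨_, h1, ?_⟩
  simp [pow_two]

/-- The squares condition is invariant under conjugation. -/
theorem sq_conj {G : Type*} [Group G] {Q : Subgroup G} {z : G}
    (hsq : ∀ q ∈ Q, q * q = 1 ∨ q * q = z) (g : G) :
    ∀ q ∈ Q.map (MulAut.conj g).toMonoidHom, q * q = 1 ∨ q * q = g * z * g⁻¹ := by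
  intro q hq
  rw [mem_map_conj_iff] at hq
  have e : q * q = g * ((g⁻¹ * q * g) * (g⁻¹ * q * g)) * g⁻¹ := by group
  rcases hsq _ hq with h1 | h1
  · left; rw [e, h1]; group
  · right; rw [e, h1]

/-- A symmetric pair `(Q₁, z₁)`, `(Q₂, z₂)` of extraspecial-type subgroups with `z₂ ∈ Q₁`,
`z₁ ∈ Q₂`, `z₁ ≠ z₂`. -/
structure ESPair {G : Type*} [Group G] (Q₁ Q₂ : Subgroup G) (z₁ z₂ : G) : Prop where
  h₁ : ESData Q₁ z₁
  h₂ : ESData Q₂ z₂
  sq₁ : ∀ q ∈ Q₁, q * q = 1 ∨ q * q = z₁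
  sq₂ : ∀ q ∈ Q₂, q * q = 1 ∨ q * q = z₂
  m₁ : z₂ ∈ Q₁
  m₂ : z₁ ∈ Q₂
  ne : z₁ ≠ z₂

namespace ESPair

variable {G : Type*} [Group G] {Q₁ Q₂ : Subgroup G} {z₁ z₂ : G}

theorem symm (hp : ESPair Q₁ Q₂ z₁ z₂) : ESPair Q₂ Q₁ z₂ z₁ :=
  ⟨hp.h₂, hp.h₁, hp.sq₂, hp.sq₁, hp.m₂, hp.m₁, hp.ne.symm⟩

theorem comm12 (hp : ESPair Q₁ Q₂ z₁ z₂) : z₁ * z₂ = z₂ * z₁ := (hp.h₁.zc z₂ hp.m₁).symm

/-- Build the pair from the hypotheses of the statements. -/
theorem of_hyps [Finite G] (Q : Subgroup G)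
    (hL1 : Cfsg.IsExtraspecial 2 ↥Q)
    (hL2 : Subgroup.centralizer (Q : Set G) = ((Subgroup.center ↥Q).map Q.subtype))
    (hL3 : Subgroup.centralizer (((Subgroup.center ↥Q).map Q.subtype) : Set G)
      ≤ Subgroup.normalizer (Q : Set G))
    (z : G) (hz : ((Subgroup.center ↥Q).map Q.subtype) = Subgroup.zpowers z) (hz2 : orderOf z = 2)
    (g : G) (hgH : g ∉ Subgroup.centralizer ({z} : Set G)) (hgQ : g * z * g⁻¹ ∈ Q) :
    ESPair Q (Q.map (MulAut.conj g).toMonoidHom) z (g * z * g⁻¹) := by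
  obtain ⟨z', h, hiff⟩ := ESData.of_hyps Q hL1 hL2 hL3
  have hz1 : z ≠ 1 := by
    intro hc; rw [hc, orderOf_one] at hz2; omega
  have hzz' : z = z' := by
    have : z ∈ (Subgroup.center ↥Q).map Q.subtype := by rw [hz]; exact Subgroup.mem_zpowers z
    rcases (hiff z).mp this with h1 | h1
    · exact absurd h1 hz1
    · exact h1
  subst hzz'
  have hsz : g * z * g⁻¹ ≠ z := by
    intro hc
    apply hgH
    rw [Subgroup.mem_centralizer_singleton_iff]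
    calc g * z = (g * z * g⁻¹) * g := by group
      _ = z * g := by rw [hc]
  have hsq := sq_mem_of_extraspecial Q hL1 z (fun x hx => (hiff x).mp hx)
  exact ⟨h, h.conj g, hsq, sq_conj hsq g, hgQ, h.gen_mem_conj g hgQ hsz, hsz.symm⟩

end ESPair

end Cfsg.Agent.Lib.Helper90
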