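import Mathlib
import Cfsg.Prelude.Def_MonsterType
import Cfsg.Agent.Lib.Helper90.ESPair

set_option autoImplicit false

namespace Cfsg.Agent.Lib.Helper90

open Cfsg

namespace ESPair

variable {G : Type*} [Group G] {Q₁ Q₂ : Subgroup G} {z₁ z₂ : G}

theorem mem_P_iff (x : G) :
    x ∈ Q₁ ⊓ Subgroup.centralizer ({z₂} : Set G) ↔ (x ∈ Q₁ ∧ x * z₂ = z₂ * x) := by
  rw [Subgroup.mem_inf, Subgroup.mem_centralizer_singleton_iff]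

/-- `z₁ ∈ P₁`. -/
theorem z₁_mem_P₁ (hp : ESPair Q₁ Q₂ z₁ z₂) : z₁ ∈ Q₁ ⊓ Subgroup.centralizer ({z₂} : Set G) :=
  (mem_P_iff z₁).mpr ⟨hp.h₁.zQ, hp.comm12⟩

/-- `z₂ ∈ P₁`. -/
theorem z₂_mem_P₁ (hp : ESPair Q₁ Q₂ z₁ z₂) : z₂ ∈ Q₁ ⊓ Subgroup.centralizer ({z₂} : Set G) :=
  (mem_P_iff z₂).mpr ⟨hp.m₁, rfl⟩

/-- Elements of `Q₁` conjugate `z₂` to `z₂` or `z₁ z₂`; in either case the inverse conjugate commutes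
with anything commuting with `z₁` and `z₂`. -/
theorem commute_conj_z₂ (hp : ESPair Q₁ Q₂ z₁ z₂) {q c : G} (hq : q ∈ Q₁)
    (hc1 : c * z₁ = z₁ * c) (hc2 : c * z₂ = z₂ * c) :
    c * (q⁻¹ * z₂ * q) = (q⁻¹ * z₂ * q) * c := by
  rcases hp.h₁.commute_or_conj (Q₁.inv_mem hq) hp.m₁ with h1 | h1
  · have : q⁻¹ * z₂ * q = z₂ := by
      calc q⁻¹ * z₂ * q = (q⁻¹ * z₂) * q := by group
        _ = (z₂ * q⁻¹) * q := by rw [h1]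
        _ = z₂ := by group
    rw [this]; exact hc2
  · rw [inv_inv] at h1
    rw [h1]
    calc c * (z₁ * z₂) = (c * z₁) * z₂ := by group
      _ = (z₁ * c) * z₂ := by rw [hc1]
      _ = z₁ * (c * z₂) := by group
      _ = z₁ * (z₂ * c) := by rw [hc2]
      _ = z₁ * z₂ * c := by group

/-- `[Q₁, C_G(V)] ⊆ P₁`. -/
theorem comm_mem_P₁ (hp : ESPair Q₁ Q₂ z₁ z₂) {q c : G} (hq : q ∈ Q₁)
    (hc1 : c * z₁ = z₁ * c) (hc2 : c * z₂ = z₂ * c) :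
    q * c * q⁻¹ * c⁻¹ ∈ Q₁ ⊓ Subgroup.centralizer ({z₂} : Set G) := by
  rw [mem_P_iff]
  refine ⟨comm_mem_of_mem_normalizer' Q₁ (hp.h₁.norm c hc1) hq, ?_⟩
  have hu := hp.commute_conj_z₂ hq hc1 hc2
  have hc2' : c⁻¹ * z₂ = z₂ * c⁻¹ := by
    calc c⁻¹ * z₂ = c⁻¹ * (z₂ * c) * c⁻¹ := by group
      _ = c⁻¹ * (c * z₂) * c⁻¹ := by rw [hc2]
      _ = z₂ * c⁻¹ := by group
  calc q * c * q⁻¹ * c⁻¹ * z₂ = q * c * q⁻¹ * (c⁻¹ * z₂) := by group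
    _ = q * c * q⁻¹ * (z₂ * c⁻¹) := by rw [hc2']
    _ = q * (c * (q⁻¹ * z₂ * q)) * q⁻¹ * c⁻¹ := by group
    _ = q * ((q⁻¹ * z₂ * q) * c) * q⁻¹ * c⁻¹ := by rw [hu]
    _ = z₂ * (q * c * q⁻¹ * c⁻¹) := by group

/-- `[C_G(V), Q₁] ⊆ P₁` (other order). -/
theorem comm_mem_P₁' (hp : ESPair Q₁ Q₂ z₁ z₂) {q c : G} (hq : q ∈ Q₁)
    (hc1 : c * z₁ = z₁ * c) (hc2 : c * z₂ = z₂ * c) :
    c * q * c⁻¹ * q⁻¹ ∈ Q₁ ⊓ Subgroup.centralizer ({z₂} : Set G) := by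
  have := (Q₁ ⊓ Subgroup.centralizer ({z₂} : Set G)).inv_mem (hp.comm_mem_P₁ hq hc1 hc2)
  have e : (q * c * q⁻¹ * c⁻¹)⁻¹ = c * q * c⁻¹ * q⁻¹ := by group
  rwa [e] at this

/-- `C_G(V)` normalizes `P₁`. -/
theorem conj_mem_P₁ (hp : ESPair Q₁ Q₂ z₁ z₂) {b c : G}
    (hb : b ∈ Q₁ ⊓ Subgroup.centralizer ({z₂} : Set G))
    (hc1 : c * z₁ = z₁ * c) (hc2 : c * z₂ = z₂ * c) :
    c * b * c⁻¹ ∈ Q₁ ⊓ Subgroup.centralizer ({z₂} : Set G) := by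
  have h1 := hp.comm_mem_P₁' ((mem_P_iff b).mp hb).1 hc1 hc2
  have := (Q₁ ⊓ Subgroup.centralizer ({z₂} : Set G)).mul_mem h1 hb
  have e : c * b * c⁻¹ * b⁻¹ * b = c * b * c⁻¹ := by group
  rwa [e] at this

/-- Elements of `E = Q₁ ∩ Q₂` lie in `P₁`. -/
theorem E_le_P₁ (hp : ESPair Q₁ Q₂ z₁ z₂) {e : G} (he : e ∈ Q₁ ⊓ Q₂) :
    e ∈ Q₁ ⊓ Subgroup.centralizer ({z₂} : Set G) :=
  (mem_P_iff e).mpr ⟨he.1, hp.h₂.zc e he.2⟩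

/-- `E` is commutative. -/
theorem E_comm (hp : ESPair Q₁ Q₂ z₁ z₂) {e f : G} (he : e ∈ Q₁ ⊓ Q₂) (hf : f ∈ Q₁ ⊓ Q₂) :
    e * f = f * e := by
  rcases hp.h₁.comm e he.1 f hf.1 with h1 | h1
  · exact ESData.commute_of_comm_eq_one h1
  · rcases hp.h₂.comm e he.2 f hf.2 with h2 | h2
    · exact ESData.commute_of_comm_eq_one h2
    · exact absurd (h1.symm.trans h2) hp.ne

/-- `E` has exponent two. -/
theorem E_sq (hp : ESPair Q₁ Q₂ z₁ z₂) {e : G} (he : e ∈ Q₁ ⊓ Q₂) : e * e = 1 := by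
  rcases hp.sq₁ e he.1 with h1 | h1
  · exact h1
  · rcases hp.sq₂ e he.2 with h2 | h2
    · exact h2
    · exact absurd (h1.symm.trans h2) hp.ne

/-- `C_G(V)` normalizes `E`. -/
theorem conj_mem_E (hp : ESPair Q₁ Q₂ z₁ z₂) {e c : G} (he : e ∈ Q₁ ⊓ Q₂)
    (hc1 : c * z₁ = z₁ * c) (hc2 : c * z₂ = z₂ * c) : c * e * c⁻¹ ∈ Q₁ ⊓ Q₂ :=
  ⟨(Subgroup.mem_normalizer_iff.mp (hp.h₁.norm c hc1) e).mp he.1,
   (Subgroup.mem_normalizer_iff.mp (hp.h₂.norm c hc2) e).mp he.2⟩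

/-- `z₁, z₂ ∈ E`. -/
theorem z₁_mem_E (hp : ESPair Q₁ Q₂ z₁ z₂) : z₁ ∈ Q₁ ⊓ Q₂ := ⟨hp.h₁.zQ, hp.m₂⟩
theorem z₂_mem_E (hp : ESPair Q₁ Q₂ z₁ z₂) : z₂ ∈ Q₁ ⊓ Q₂ := ⟨hp.m₁, hp.h₂.zQ⟩

/-- `[P₂, P₁] ⊆ E`. -/
theorem comm_P₂_P₁_mem_E (hp : ESPair Q₁ Q₂ z₁ z₂) {a b : G}
    (ha : a ∈ Q₂ ⊓ Subgroup.centralizer ({z₁} : Set G))
    (hb : b ∈ Q₁ ⊓ Subgroup.centralizer ({z₂} : Set G)) :
    a * b * a⁻¹ * b⁻¹ ∈ Q₁ ⊓ Q₂ := by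
  have ha' := (mem_P_iff a).mp ha
  have hb' := (mem_P_iff b).mp hb
  have ha2 : a * z₂ = z₂ * a := hp.h₂.zc a ha'.1
  have hb1 : b * z₁ = z₁ * b := hp.h₁.zc b hb'.1
  constructor
  · exact ((mem_P_iff _).mp (hp.comm_mem_P₁' hb'.1 ha'.2 ha2)).1
  · exact ((mem_P_iff _).mp (hp.symm.comm_mem_P₁ ha'.1 hb'.2 hb1)).1

/-- Commutators inside `P₁` lie in `E`. -/
theorem comm_P₁_P₁_mem_E (hp : ESPair Q₁ Q₂ z₁ z₂) {b d : G}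
    (hb : b ∈ Q₁ ⊓ Subgroup.centralizer ({z₂} : Set G))
    (hd : d ∈ Q₁ ⊓ Subgroup.centralizer ({z₂} : Set G)) :
    b * d * b⁻¹ * d⁻¹ ∈ Q₁ ⊓ Q₂ := by
  rcases hp.h₁.comm b ((mem_P_iff b).mp hb).1 d ((mem_P_iff d).mp hd).1 with h1 | h1
  · rw [h1]; exact Subgroup.one_mem _
  · rw [h1]; exact hp.z₁_mem_E

/-- Squares in `P₁` lie in `E`. -/
theorem sq_P₁_mem_E (hp : ESPair Q₁ Q₂ z₁ z₂) {b : G}
    (hb : b ∈ Q₁ ⊓ Subgroup.centralizer ({z₂} : Set G)) : b * b ∈ Q₁ ⊓ Q₂ := by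
  rcases hp.sq₁ b ((mem_P_iff b).mp hb).1 with h1 | h1
  · rw [h1]; exact Subgroup.one_mem _
  · rw [h1]; exact hp.z₁_mem_E

/-- Elements of `R` commute with `z₁` and `z₂`. -/
theorem R_le_CV (hp : ESPair Q₁ Q₂ z₁ z₂) {x : G}
    (hx : x ∈ (Q₂ ⊓ Subgroup.centralizer ({z₁} : Set G)) ⊔
      (Q₁ ⊓ Subgroup.centralizer ({z₂} : Set G))) :
    x * z₁ = z₁ * x ∧ x * z₂ = z₂ * x := by
  have hle : (Q₂ ⊓ Subgroup.centralizer ({z₁} : Set G)) ⊔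
      (Q₁ ⊓ Subgroup.centralizer ({z₂} : Set G)) ≤
      Subgroup.centralizer ({z₁} : Set G) ⊓ Subgroup.centralizer ({z₂} : Set G) := by
    rw [sup_le_iff]
    constructor
    · intro a ha
      have ha' := (mem_P_iff a).mp ha
      exact ⟨Subgroup.mem_centralizer_singleton_iff.mpr ha'.2,
        Subgroup.mem_centralizer_singleton_iff.mpr (hp.h₂.zc a ha'.1)⟩
    · intro b hb
      have hb' := (mem_P_iff b).mp hb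
      exact ⟨Subgroup.mem_centralizer_singleton_iff.mpr (hp.h₁.zc b hb'.1),
        Subgroup.mem_centralizer_singleton_iff.mpr hb'.2⟩
  have := hle hx
  exact ⟨Subgroup.mem_centralizer_singleton_iff.mp this.1,
    Subgroup.mem_centralizer_singleton_iff.mp this.2⟩

/-- `R = P₂ P₁` elementwise. -/
theorem R_decomp (hp : ESPair Q₁ Q₂ z₁ z₂) {x : G}
    (hx : x ∈ (Q₂ ⊓ Subgroup.centralizer ({z₁} : Set G)) ⊔
      (Q₁ ⊓ Subgroup.centralizer ({z₂} : Set G))) :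
    ∃ a ∈ Q₂ ⊓ Subgroup.centralizer ({z₁} : Set G),
      ∃ b ∈ Q₁ ⊓ Subgroup.centralizer ({z₂} : Set G), x = a * b := by
  have hLE : (Q₂ ⊓ Subgroup.centralizer ({z₁} : Set G)) ≤
      Subgroup.normalizer ((Q₁ ⊓ Subgroup.centralizer ({z₂} : Set G) : Subgroup G) : Set G) := by
    rw [Subgroup.le_normalizer_iff]
    intro a ha b hb
    have ha' := (mem_P_iff a).mp ha
    exact hp.conj_mem_P₁ hb ha'.2 (hp.h₂.zc a ha'.1)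
  have h := Subgroup.coe_mul_of_left_le_normalizer_right _ _ hLE
  have hx' : x ∈ ((((Q₂ ⊓ Subgroup.centralizer ({z₁} : Set G)) ⊔
      (Q₁ ⊓ Subgroup.centralizer ({z₂} : Set G)) : Subgroup G)) : Set G) := hx
  rw [h] at hx'
  obtain ⟨a, ha, b, hb, rfl⟩ := hx'
  exact ⟨a, ha, b, hb, rfl⟩

/-- `R/E` is elementary abelian: commutators and squares of `R` lie in `E`. -/
theorem R_comm_sq (hp : ESPair Q₁ Q₂ z₁ z₂) {x y : G}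
    (hx : x ∈ (Q₂ ⊓ Subgroup.centralizer ({z₁} : Set G)) ⊔
      (Q₁ ⊓ Subgroup.centralizer ({z₂} : Set G)))
    (hy : y ∈ (Q₂ ⊓ Subgroup.centralizer ({z₁} : Set G)) ⊔
      (Q₁ ⊓ Subgroup.centralizer ({z₂} : Set G))) :
    x * y * x⁻¹ * y⁻¹ ∈ Q₁ ⊓ Q₂ ∧ x * x ∈ Q₁ ⊓ Q₂ := by
  obtain ⟨a, ha, b, hb, rfl⟩ := hp.R_decomp hx
  obtain ⟨c, hc, d, hd, rfl⟩ := hp.R_decomp hy
  have ha' := (mem_P_iff a).mp ha
  have hc' := (mem_P_iff c).mp hc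
  have ha2 : a * z₂ = z₂ * a := hp.h₂.zc a ha'.1
  have hc2 : c * z₂ = z₂ * c := hp.h₂.zc c hc'.1
  set E := Q₁ ⊓ Q₂ with hE
  constructor
  · -- commutator expansion
    have k1 : b * c * b⁻¹ * c⁻¹ ∈ E := by
      have := E.inv_mem (hp.comm_P₂_P₁_mem_E hc hb)
      have e : (c * b * c⁻¹ * b⁻¹)⁻¹ = b * c * b⁻¹ * c⁻¹ := by group
      rwa [e] at this
    have k2 : b * d * b⁻¹ * d⁻¹ ∈ E := hp.comm_P₁_P₁_mem_E hb hd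
    have k3 : a * c * a⁻¹ * c⁻¹ ∈ E := by
      have := hp.symm.comm_P₁_P₁_mem_E ha hc
      rw [inf_comm] at this
      exact this
    have k4 : a * d * a⁻¹ * d⁻¹ ∈ E := hp.comm_P₂_P₁_mem_E ha hd
    have k2' : c * (b * d * b⁻¹ * d⁻¹) * c⁻¹ ∈ E := hp.conj_mem_E k2 hc'.2 hc2
    have k4' : c * (a * d * a⁻¹ * d⁻¹) * c⁻¹ ∈ E := hp.conj_mem_E k4 hc'.2 hc2
    have k5 : a * ((b * c * b⁻¹ * c⁻¹) * (c * (b * d * b⁻¹ * d⁻¹) * c⁻¹)) * a⁻¹ ∈ E :=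
      hp.conj_mem_E (E.mul_mem k1 k2') ha'.2 ha2
    have k6 := E.mul_mem k5 (E.mul_mem k3 k4')
    have e : a * b * (c * d) * (a * b)⁻¹ * (c * d)⁻¹ =
        a * ((b * c * b⁻¹ * c⁻¹) * (c * (b * d * b⁻¹ * d⁻¹) * c⁻¹)) * a⁻¹ *
          ((a * c * a⁻¹ * c⁻¹) * (c * (a * d * a⁻¹ * d⁻¹) * c⁻¹)) := by group
    rw [e]; exact k6
  · have s1 : a * a ∈ E := by
      have := hp.symm.sq_P₁_mem_E ha
      rw [inf_comm] at this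
      exact this
    have s2 : b * b ∈ E := hp.sq_P₁_mem_E hb
    have s3 : a⁻¹ * b * a⁻¹⁻¹ * b⁻¹ ∈ E :=
      hp.comm_P₂_P₁_mem_E ((Q₂ ⊓ Subgroup.centralizer ({z₁} : Set G)).inv_mem ha) hb
    have k := E.mul_mem (E.mul_mem s1 s3) s2
    have e : a * b * (a * b) = a * a * (a⁻¹ * b * a⁻¹⁻¹ * b⁻¹) * (b * b) := by group
    rw [e]; exact k

end ESPair

end Cfsg.Agent.Lib.Helper90
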