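import Mathlib
import Cfsg.Prelude.Def_MonsterType
import Cfsg.Agent.Lib.Helper90.ESPairR

set_option autoImplicit false

namespace Cfsg.Agent.Lib.Helper90

open Cfsg

/-- The closure of two commuting involutions is the four-group. -/
theorem closure_pair_eq_kleinFour {G : Type*} [Group G] (z s : G) (hzz : z * z = 1)
    (hss : s * s = 1) (hzs : z * s = s * z) :
    Subgroup.closure ({z, s} : Set G) = kleinFour z s hzz hss hzs := by
  apply le_antisymm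
  · rw [Subgroup.closure_le]
    intro x hx
    rcases hx with h | h
    · exact Or.inr (Or.inl h)
    · exact Or.inr (Or.inr (Or.inl h))
  · intro x hx
    have hz : z ∈ Subgroup.closure ({z, s} : Set G) := Subgroup.subset_closure (Or.inl rfl)
    have hs : s ∈ Subgroup.closure ({z, s} : Set G) := Subgroup.subset_closure (Or.inr rfl)
    rcases hx with h | h | h | h
    · rw [h]; exact Subgroup.one_mem _
    · rw [h]; exact hz
    · rw [h]; exact hs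
    · rw [h]; exact Subgroup.mul_mem _ hz hs

namespace ESPair

variable {G : Type*} [Group G] {Q₁ Q₂ : Subgroup G} {z₁ z₂ : G}

/-- Membership in `V = ⟨z₁, z₂⟩`. -/
theorem mem_V_iff (hp : ESPair Q₁ Q₂ z₁ z₂) (x : G) :
    x ∈ Subgroup.closure ({z₁, z₂} : Set G) ↔ (x = 1 ∨ x = z₁ ∨ x = z₂ ∨ x = z₁ * z₂) := by
  rw [closure_pair_eq_kleinFour z₁ z₂ hp.h₁.zz hp.h₂.zz hp.comm12]
  exact Iff.rfl

/-- `Q₁` normalizes `V`. -/
theorem Q₁_conj_V (hp : ESPair Q₁ Q₂ z₁ z₂) {q v : G} (hq : q ∈ Q₁)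
    (hv : v ∈ Subgroup.closure ({z₁, z₂} : Set G)) :
    q * v * q⁻¹ ∈ Subgroup.closure ({z₁, z₂} : Set G) := by
  have hz1 : q * z₁ * q⁻¹ = z₁ := by rw [hp.h₁.zc q hq]; group
  have hz1V : z₁ ∈ Subgroup.closure ({z₁, z₂} : Set G) := Subgroup.subset_closure (Or.inl rfl)
  have hz2V : z₂ ∈ Subgroup.closure ({z₁, z₂} : Set G) := Subgroup.subset_closure (Or.inr rfl)
  have hz2 : q * z₂ * q⁻¹ ∈ Subgroup.closure ({z₁, z₂} : Set G) := by
    rcases hp.h₁.commute_or_conj hq hp.m₁ with h1 | h1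
    · have : q * z₂ * q⁻¹ = z₂ := by rw [h1]; group
      rw [this]; exact hz2V
    · rw [h1]; exact Subgroup.mul_mem _ hz1V hz2V
  rcases (hp.mem_V_iff v).mp hv with h | h | h | h
  · rw [h]
    have : q * 1 * q⁻¹ = 1 := by group
    rw [this]; exact Subgroup.one_mem _
  · rw [h, hz1]; exact hz1V
  · rw [h]; exact hz2
  · rw [h]
    have : q * (z₁ * z₂) * q⁻¹ = (q * z₁ * q⁻¹) * (q * z₂ * q⁻¹) := by group
    rw [this, hz1]; exact Subgroup.mul_mem _ hz1V hz2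

/-- Auxiliary subgroup: elements normalizing `V` whose commutators with `E` lie in `V`. -/
def auxK (Q₁ Q₂ : Subgroup G) (z₁ z₂ : G) : Subgroup G where
  carrier := {x | (∀ v ∈ Subgroup.closure ({z₁, z₂} : Set G),
      x * v * x⁻¹ ∈ Subgroup.closure ({z₁, z₂} : Set G)) ∧
    (∀ v ∈ Subgroup.closure ({z₁, z₂} : Set G),
      x⁻¹ * v * x ∈ Subgroup.closure ({z₁, z₂} : Set G)) ∧
    (∀ e ∈ Q₁ ⊓ Q₂, x * e * x⁻¹ * e⁻¹ ∈ Subgroup.closure ({z₁, z₂} : Set G)) ∧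
    (∀ e ∈ Q₁ ⊓ Q₂, x⁻¹ * e * x * e⁻¹ ∈ Subgroup.closure ({z₁, z₂} : Set G))}
  one_mem' := by
    refine ⟨?_, ?_, ?_, ?_⟩
    · intro v hv; simpa using hv
    · intro v hv; simpa using hv
    · intro e _; simp
    · intro e _; simp
  mul_mem' := by
    rintro x y ⟨hx1, hx2, hx3, hx4⟩ ⟨hy1, hy2, hy3, hy4⟩
    refine ⟨?_, ?_, ?_, ?_⟩
    · intro v hv
      have := hx1 _ (hy1 v hv)
      have e : x * y * v * (x * y)⁻¹ = x * (y * v * y⁻¹) * x⁻¹ := by group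
      rw [e]; exact this
    · intro v hv
      have := hy2 _ (hx2 v hv)
      have e : (x * y)⁻¹ * v * (x * y) = y⁻¹ * (x⁻¹ * v * x) * y := by group
      rw [e]; exact this
    · intro e he
      have h1 := hx1 _ (hy3 e he)
      have h2 := hx3 e he
      have e' : x * y * e * (x * y)⁻¹ * e⁻¹ = x * (y * e * y⁻¹ * e⁻¹) * x⁻¹ * (x * e * x⁻¹ * e⁻¹) := by
        group
      rw [e']; exact Subgroup.mul_mem _ h1 h2
    · intro e he
      have h1 := hy2 _ (hx4 e he)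
      have h2 := hy4 e he
      have e' : (x * y)⁻¹ * e * (x * y) * e⁻¹ =
          y⁻¹ * (x⁻¹ * e * x * e⁻¹) * y * (y⁻¹ * e * y * e⁻¹) := by group
      rw [e']; exact Subgroup.mul_mem _ h1 h2
  inv_mem' := by
    rintro x ⟨hx1, hx2, hx3, hx4⟩
    refine ⟨?_, ?_, ?_, ?_⟩
    · intro v hv; simpa using hx2 v hv
    · intro v hv; simpa using hx1 v hv
    · intro e he; simpa using hx4 e he
    · intro e he; simpa using hx3 e he

theorem Q₁_le_auxK (hp : ESPair Q₁ Q₂ z₁ z₂) : Q₁ ≤ auxK Q₁ Q₂ z₁ z₂ := by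
  intro q hq
  have hqi : q⁻¹ ∈ Q₁ := Q₁.inv_mem hq
  have hz1V : z₁ ∈ Subgroup.closure ({z₁, z₂} : Set G) := Subgroup.subset_closure (Or.inl rfl)
  refine ⟨?_, ?_, ?_, ?_⟩
  · intro v hv; exact hp.Q₁_conj_V hq hv
  · intro v hv
    have := hp.Q₁_conj_V hqi hv
    rwa [inv_inv] at this
  · intro e he
    rcases hp.h₁.comm q hq e he.1 with h1 | h1
    · rw [h1]; exact Subgroup.one_mem _
    · rw [h1]; exact hz1V
  · intro e he
    have := hp.h₁.comm q⁻¹ hqi e he.1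
    rw [inv_inv] at this
    rcases this with h1 | h1
    · rw [h1]; exact Subgroup.one_mem _
    · rw [h1]; exact hz1V

theorem X_le_auxK (hp : ESPair Q₁ Q₂ z₁ z₂) : Q₁ ⊔ Q₂ ≤ auxK Q₁ Q₂ z₁ z₂ := by
  rw [sup_le_iff]
  refine ⟨hp.Q₁_le_auxK, ?_⟩
  have h := hp.symm.Q₁_le_auxK
  intro q hq
  obtain ⟨h1, h2, h3, h4⟩ := h hq
  have hV : Subgroup.closure ({z₂, z₁} : Set G) = Subgroup.closure ({z₁, z₂} : Set G) := by
    rw [Set.pair_comm]
  rw [hV] at h1 h2 h3 h4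
  refine ⟨h1, h2, ?_, ?_⟩
  · intro e he; exact h3 e ⟨he.2, he.1⟩
  · intro e he; exact h4 e ⟨he.2, he.1⟩

/-- `[X, E] ⊆ V` elementwise. -/
theorem comm_X_E_mem_V (hp : ESPair Q₁ Q₂ z₁ z₂) {x e : G} (hx : x ∈ Q₁ ⊔ Q₂) (he : e ∈ Q₁ ⊓ Q₂) :
    x * e * x⁻¹ * e⁻¹ ∈ Subgroup.closure ({z₁, z₂} : Set G) :=
  (hp.X_le_auxK hx).2.2.1 e he

/-- `X` normalizes `V`. -/
theorem X_conj_V (hp : ESPair Q₁ Q₂ z₁ z₂) {x v : G} (hx : x ∈ Q₁ ⊔ Q₂)
    (hv : v ∈ Subgroup.closure ({z₁, z₂} : Set G)) :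
    x * v * x⁻¹ ∈ Subgroup.closure ({z₁, z₂} : Set G) :=
  (hp.X_le_auxK hx).1 v hv

/-- The centre of `R` is `V`: central elements of `R` lie in `V`. -/
theorem center_R_mem_V (hp : ESPair Q₁ Q₂ z₁ z₂) {x : G}
    (hx : x ∈ (Q₂ ⊓ Subgroup.centralizer ({z₁} : Set G)) ⊔
      (Q₁ ⊓ Subgroup.centralizer ({z₂} : Set G)))
    (hc : ∀ y ∈ (Q₂ ⊓ Subgroup.centralizer ({z₁} : Set G)) ⊔
      (Q₁ ⊓ Subgroup.centralizer ({z₂} : Set G)), y * x = x * y) :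
    x ∈ Subgroup.closure ({z₁, z₂} : Set G) := by
  rw [hp.mem_V_iff]
  have hx' := hp.R_le_CV hx
  have hz2ne1 : z₂ ≠ 1 := hp.h₂.z1
  apply hp.h₁.centralizer_in_normalizer hp.m₁ hp.h₂.zz hz2ne1 hp.ne.symm (hp.h₁.norm x hx'.1)
  intro p hpQ hps
  exact hc p ((le_sup_right : (Q₁ ⊓ Subgroup.centralizer ({z₂} : Set G)) ≤ _)
    ((mem_P_iff p).mpr ⟨hpQ, hps⟩))

/-- `V ≤ R` and `V` is central in `R`. -/
theorem V_le_R (hp : ESPair Q₁ Q₂ z₁ z₂) :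
    Subgroup.closure ({z₁, z₂} : Set G) ≤ (Q₂ ⊓ Subgroup.centralizer ({z₁} : Set G)) ⊔
      (Q₁ ⊓ Subgroup.centralizer ({z₂} : Set G)) := by
  rw [Subgroup.closure_le]
  intro x hx
  rcases hx with h | h
  · rw [h]; exact (le_sup_right : (Q₁ ⊓ Subgroup.centralizer ({z₂} : Set G)) ≤ _) hp.z₁_mem_P₁
  · rw [h]; exact (le_sup_right : (Q₁ ⊓ Subgroup.centralizer ({z₂} : Set G)) ≤ _) hp.z₂_mem_P₁

theorem V_central (hp : ESPair Q₁ Q₂ z₁ z₂) {v y : G}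
    (hv : v ∈ Subgroup.closure ({z₁, z₂} : Set G))
    (hy : y * z₁ = z₁ * y ∧ y * z₂ = z₂ * y) : y * v = v * y := by
  rcases (hp.mem_V_iff v).mp hv with h | h | h | h
  · rw [h]; group
  · rw [h]; exact hy.1
  · rw [h]; exact hy.2
  · rw [h]
    calc y * (z₁ * z₂) = (y * z₁) * z₂ := by group
      _ = (z₁ * y) * z₂ := by rw [hy.1]
      _ = z₁ * (y * z₂) := by group
      _ = z₁ * (z₂ * y) := by rw [hy.2]
      _ = z₁ * z₂ * y := by group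

end ESPair

end Cfsg.Agent.Lib.Helper90
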