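import Mathlib

set_option autoImplicit false

namespace Cfsg.Agent.Lib.Helper90

/-- A group generated by two involutions `a`, `b` with `a b a = b a b` has at most the six elements
`1, a, b, ab, ba, aba`. -/
theorem s3_gen_cases {H : Type*} [Group H] (a b : H) (ha : a * a = 1) (hb : b * b = 1)
    (hbr : a * b * a = b * a * b) (hgen : Subgroup.closure ({a, b} : Set H) = ⊤) (x : H) :
    x = 1 ∨ x = a ∨ x = b ∨ x = a * b ∨ x = b * a ∨ x = a * b * a := by
  have hainv : a⁻¹ = a := inv_eq_of_mul_eq_one_left ha
  have hbinv : b⁻¹ = b := inv_eq_of_mul_eq_one_left hb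
  have hx : x ∈ Subgroup.closure ({a, b} : Set H) := by rw [hgen]; exact Subgroup.mem_top x
  -- left multiplication by a and b preserves the list
  have stepa : ∀ y : H, (y = 1 ∨ y = a ∨ y = b ∨ y = a * b ∨ y = b * a ∨ y = a * b * a) →
      (a * y = 1 ∨ a * y = a ∨ a * y = b ∨ a * y = a * b ∨ a * y = b * a ∨ a * y = a * b * a) := by
    intro y hy
    rcases hy with h | h | h | h | h | h
    · right; left; rw [h, mul_one]
    · left; rw [h, ha]
    · right; right; right; left; rw [h]
    · right; right; left; rw [h, ← mul_assoc, ha, one_mul]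
    · right; right; right; right; right; rw [h, mul_assoc]
    · right; right; right; right; left
      rw [h]
      calc a * (a * b * a) = (a * a) * (b * a) := by group
        _ = b * a := by rw [ha, one_mul]
  have stepb : ∀ y : H, (y = 1 ∨ y = a ∨ y = b ∨ y = a * b ∨ y = b * a ∨ y = a * b * a) →
      (b * y = 1 ∨ b * y = a ∨ b * y = b ∨ b * y = a * b ∨ b * y = b * a ∨ b * y = a * b * a) := by
    intro y hy
    rcases hy with h | h | h | h | h | h
    · right; right; left; rw [h, mul_one]
    · right; right; right; right; left; rw [h]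
    · left; rw [h, hb]
    · right; right; right; right; right
      rw [h, hbr, mul_assoc]
    · right; left; rw [h, ← mul_assoc, hb, one_mul]
    · right; right; right; left
      rw [h, hbr]
      calc b * (b * a * b) = (b * b) * (a * b) := by group
        _ = a * b := by rw [hb, one_mul]
  induction hx using Subgroup.closure_induction_left with
  | one => exact Or.inl rfl
  | mul_left y hy z _ ih =>
    rcases hy with h | h
    · rw [h]; exact stepa z ih
    · rw [Set.mem_singleton_iff] at h
      rw [h]; exact stepb z ih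
  | inv_mul_cancel y hy z _ ih =>
    rcases hy with h | h
    · rw [h, hainv]; exact stepa z ih
    · rw [Set.mem_singleton_iff] at h
      rw [h, hbinv]; exact stepb z ih

set_option maxRecDepth 100000 in
/-- Every non-identity permutation of three points has order three or has a conjugate whose product
with it has order three. -/
theorem perm_three_key : ∀ σ : Equiv.Perm (Fin 3), σ ≠ 1 →
    ∃ τ : Equiv.Perm (Fin 3), ((σ * (τ * σ * τ⁻¹)) ^ 3 = 1 ∧ σ * (τ * σ * τ⁻¹) ≠ 1) ∨
      (σ ^ 3 = 1) := by
  decide

/-- `Perm (Fin 3)` has no non-trivial normal 2-subgroup. -/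
theorem perm_three_normal_two_subgroup_eq_bot (N : Subgroup (Equiv.Perm (Fin 3))) (hN : N.Normal)
    (h2 : IsPGroup 2 N) : N = ⊥ := by
  rw [Subgroup.eq_bot_iff_forall]
  intro σ hσ
  by_contra hne
  obtain ⟨τ, hτ⟩ := perm_three_key σ hne
  have hord : ∀ ρ : Equiv.Perm (Fin 3), ρ ∈ N → ρ ^ 3 = 1 → ρ = 1 := by
    intro ρ hρ h3
    obtain ⟨k, hk⟩ := h2 ⟨ρ, hρ⟩
    have hk' : ρ ^ (2 ^ k) = 1 := by
      have := congrArg Subtype.val hk
      simpa using this
    have h1 : orderOf ρ ∣ 3 := orderOf_dvd_of_pow_eq_one h3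
    have h2' : orderOf ρ ∣ 2 ^ k := orderOf_dvd_of_pow_eq_one hk'
    have h3' : orderOf ρ ∣ Nat.gcd 3 (2 ^ k) := Nat.dvd_gcd h1 h2'
    have hcop : Nat.gcd 3 (2 ^ k) = 1 := by
      have : Nat.Coprime 3 (2 ^ k) := Nat.Coprime.pow_right k (by norm_num)
      exact this
    rw [hcop, Nat.dvd_one] at h3'
    exact orderOf_eq_one_iff.mp h3'
  rcases hτ with ⟨h3, hne'⟩ | h3
  · apply hne'
    apply hord _ _ h3
    exact N.mul_mem hσ (hN.conj_mem σ hσ τ)
  · exact hne (hord σ hσ h3)

end Cfsg.Agent.Lib.Helper90
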