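import Mathlib
import Cfsg.Agent.Lib.Helper90.S3Gen

set_option autoImplicit false

namespace Cfsg.Agent.Lib.Helper90

/-- If `X = ⟨A, B⟩`, `R` is normal in `X`, `A ⊆ R ∪ aR`, `B ⊆ R ∪ bR`, `a², b² ∈ R` and the braid
relation holds modulo `R`, then `X` is the union of the six cosets `wR`,
`w ∈ {1, a, b, ab, ba, aba}`. -/
theorem six_cosets {X : Type*} [Group X] (R : Subgroup X) [hR : R.Normal] (A B : Subgroup X)
    (hAB : A ⊔ B = ⊤) (a b : X)
    (hA : ∀ q ∈ A, q ∈ R ∨ a⁻¹ * q ∈ R) (hB : ∀ q ∈ B, q ∈ R ∨ b⁻¹ * q ∈ R)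
    (haa : a * a ∈ R) (hbb : b * b ∈ R)
    (hbr : a * b⁻¹ * a⁻¹ * b * a * b⁻¹ ∈ R) (x : X) :
    x ∈ R ∨ a⁻¹ * x ∈ R ∨ b⁻¹ * x ∈ R ∨ (a * b)⁻¹ * x ∈ R ∨ (b * a)⁻¹ * x ∈ R ∨
      (a * b * a)⁻¹ * x ∈ R := by
  set π := QuotientGroup.mk' R with hπ
  have e1 : ∀ y : X, π y = 1 ↔ y ∈ R := fun y => QuotientGroup.eq_one_iff y
  have e2 : ∀ w y : X, π w = π y ↔ w⁻¹ * y ∈ R := fun w y => QuotientGroup.eq
  have ha : π a * π a = 1 := by rw [← map_mul, e1]; exact haa
  have hb : π b * π b = 1 := by rw [← map_mul, e1]; exact hbb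
  have hainv : (π a)⁻¹ = π a := inv_eq_of_mul_eq_one_left ha
  have hbinv : (π b)⁻¹ = π b := inv_eq_of_mul_eq_one_left hb
  have hbr' : π a * π b * π a = π b * π a * π b := by
    have h := (e1 _).mpr hbr
    simp only [map_mul, map_inv] at h
    rw [hainv, hbinv] at h
    have h' : (π a * π b * π a) * (π b * π a * π b) = 1 := by
      rw [← h]; group
    have h'' := eq_inv_of_mul_eq_one_left h'
    rw [h'', mul_inv_rev, mul_inv_rev, hainv, hbinv, mul_assoc]
  have hgen : Subgroup.closure ({π a, π b} : Set (X ⧸ R)) = ⊤ := by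
    set T := Subgroup.closure ({π a, π b} : Set (X ⧸ R)) with hT
    have hK : T.comap π = ⊤ := by
      apply top_unique
      rw [← hAB]
      apply sup_le
      · intro q hq
        rw [Subgroup.mem_comap]
        rcases hA q hq with h | h
        · rw [(e1 q).mpr h]; exact T.one_mem
        · have : π a = π q := (e2 a q).mpr h
          rw [← this]; exact Subgroup.subset_closure (Or.inl rfl)
      · intro q hq
        rw [Subgroup.mem_comap]
        rcases hB q hq with h | h
        · rw [(e1 q).mpr h]; exact T.one_mem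
        · have : π b = π q := (e2 b q).mpr h
          rw [← this]; exact Subgroup.subset_closure (Or.inr rfl)
    apply top_unique
    intro y _
    obtain ⟨x, rfl⟩ := QuotientGroup.mk'_surjective R y
    have : x ∈ T.comap π := by rw [hK]; trivial
    exact this
  rcases s3_gen_cases (π a) (π b) ha hb hbr' hgen (π x) with h | h | h | h | h | h
  · left; exact (e1 x).mp h
  · right; left; exact (e2 a x).mp h.symm
  · right; right; left; exact (e2 b x).mp h.symm
  · right; right; right; left
    apply (e2 (a * b) x).mp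
    rw [map_mul]; exact h.symm
  · right; right; right; right; left
    apply (e2 (b * a) x).mp
    rw [map_mul]; exact h.symm
  · right; right; right; right; right
    apply (e2 (a * b * a) x).mp
    rw [map_mul, map_mul]; exact h.symm

end Cfsg.Agent.Lib.Helper90
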