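import Mathlib
import Cfsg.Prelude.Def_MonsterType
import Cfsg.Agent.Lib.Helper90.ESPairV
import Cfsg.Agent.Lib.Helper90.SixCosets

set_option autoImplicit false

namespace Cfsg.Agent.Lib.Helper90

open Cfsg

/-- If `c` normalizes `A` and `B` then it normalizes `A ⊔ B`. -/
theorem conj_mem_sup_of_mem_normalizer {G : Type*} [Group G] {A B : Subgroup G} {c : G}
    (hA : c ∈ Subgroup.normalizer (A : Set G)) (hB : c ∈ Subgroup.normalizer (B : Set G)) {x : G}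
    (hx : x ∈ A ⊔ B) : c * x * c⁻¹ ∈ A ⊔ B := by
  have key : ∀ (H : Subgroup G), c ∈ Subgroup.normalizer (H : Set G) →
      H.map (MulAut.conj c).toMonoidHom = H := by
    intro H hH
    ext t
    rw [mem_map_conj_iff]
    exact (Subgroup.mem_normalizer_iff''.mp hH t).symm
  have h : (A ⊔ B).map (MulAut.conj c).toMonoidHom = A ⊔ B := by
    rw [Subgroup.map_sup, key A hA, key B hB]
  have := conj_mem_map_conj (A ⊔ B) c hx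
  rwa [h] at this

/-- Commutators with a fixed set: it suffices to check generators, when these normalize `R`. -/
theorem comm_mem_of_sup {G : Type*} [Group G] (R A B : Subgroup G) (C : Set G)
    (hA : A ≤ Subgroup.normalizer (R : Set G)) (hB : B ≤ Subgroup.normalizer (R : Set G))
    (hAc : ∀ q ∈ A, ∀ c ∈ C, q * c * q⁻¹ * c⁻¹ ∈ R)
    (hBc : ∀ q ∈ B, ∀ c ∈ C, q * c * q⁻¹ * c⁻¹ ∈ R) :
    ∀ x ∈ A ⊔ B, ∀ c ∈ C, x * c * x⁻¹ * c⁻¹ ∈ R := by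
  let K : Subgroup G :=
    { carrier := {x | x ∈ Subgroup.normalizer (R : Set G) ∧ ∀ c ∈ C, x * c * x⁻¹ * c⁻¹ ∈ R}
      one_mem' := by
        refine ⟨Subgroup.one_mem _, ?_⟩
        intro c _
        have : (1 : G) * c * 1⁻¹ * c⁻¹ = 1 := by group
        rw [this]; exact R.one_mem
      mul_mem' := by
        rintro x y ⟨hx1, hx2⟩ ⟨hy1, hy2⟩
        refine ⟨Subgroup.mul_mem _ hx1 hy1, ?_⟩
        intro c hc
        have h1 := (Subgroup.mem_normalizer_iff.mp hx1 _).mp (hy2 c hc)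
        have h2 := hx2 c hc
        have e : x * y * c * (x * y)⁻¹ * c⁻¹ =
            x * (y * c * y⁻¹ * c⁻¹) * x⁻¹ * (x * c * x⁻¹ * c⁻¹) := by group
        rw [e]; exact R.mul_mem h1 h2
      inv_mem' := by
        rintro x ⟨hx1, hx2⟩
        refine ⟨Subgroup.inv_mem _ hx1, ?_⟩
        intro c hc
        have h1 := R.inv_mem (hx2 c hc)
        have h2 := (Subgroup.mem_normalizer_iff''.mp hx1 _).mp h1
        have e : x⁻¹ * c * x⁻¹⁻¹ * c⁻¹ = x⁻¹ * (x * c * x⁻¹ * c⁻¹)⁻¹ * x := by group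
        rw [e]; exact h2 }
  have hAK : A ≤ K := fun q hq => ⟨hA hq, hAc q hq⟩
  have hBK : B ≤ K := fun q hq => ⟨hB hq, hBc q hq⟩
  intro x hx c hc
  exact ((sup_le hAK hBK) hx).2 c hc

namespace ESPair

variable {G : Type*} [Group G] {Q₁ Q₂ : Subgroup G} {z₁ z₂ : G}

/-- `Q₁` normalizes `R`. -/
theorem Q₁_conj_R (hp : ESPair Q₁ Q₂ z₁ z₂) {q x : G} (hq : q ∈ Q₁)
    (hx : x ∈ (Q₂ ⊓ Subgroup.centralizer ({z₁} : Set G)) ⊔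
      (Q₁ ⊓ Subgroup.centralizer ({z₂} : Set G))) :
    q * x * q⁻¹ ∈ (Q₂ ⊓ Subgroup.centralizer ({z₁} : Set G)) ⊔
      (Q₁ ⊓ Subgroup.centralizer ({z₂} : Set G)) := by
  obtain ⟨a, ha, b, hb, rfl⟩ := hp.R_decomp hx
  have ha' := (mem_P_iff a).mp ha
  have hb' := (mem_P_iff b).mp hb
  have k1 : q * a * q⁻¹ * a⁻¹ ∈ Q₁ ⊓ Subgroup.centralizer ({z₂} : Set G) :=
    hp.comm_mem_P₁ hq ha'.2 (hp.h₂.zc a ha'.1)
  have k2 : q * b * q⁻¹ ∈ Q₁ ⊓ Subgroup.centralizer ({z₂} : Set G) := by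
    rw [mem_P_iff]
    refine ⟨Q₁.mul_mem (Q₁.mul_mem hq hb'.1) (Q₁.inv_mem hq), ?_⟩
    have hu := hp.commute_conj_z₂ hq (hp.h₁.zc b hb'.1) hb'.2
    calc q * b * q⁻¹ * z₂ = q * (b * (q⁻¹ * z₂ * q)) * q⁻¹ := by group
      _ = q * ((q⁻¹ * z₂ * q) * b) * q⁻¹ := by rw [hu]
      _ = z₂ * (q * b * q⁻¹) := by group
  have e : q * (a * b) * q⁻¹ = (q * a * q⁻¹ * a⁻¹) * a * (q * b * q⁻¹) := by group
  rw [e]
  exact Subgroup.mul_mem _ (Subgroup.mul_mem _ (Subgroup.mem_sup_right k1)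
    (Subgroup.mem_sup_left ha)) (Subgroup.mem_sup_right k2)

/-- `Q₂` normalizes `R`. -/
theorem Q₂_conj_R (hp : ESPair Q₁ Q₂ z₁ z₂) {q x : G} (hq : q ∈ Q₂)
    (hx : x ∈ (Q₂ ⊓ Subgroup.centralizer ({z₁} : Set G)) ⊔
      (Q₁ ⊓ Subgroup.centralizer ({z₂} : Set G))) :
    q * x * q⁻¹ ∈ (Q₂ ⊓ Subgroup.centralizer ({z₁} : Set G)) ⊔
      (Q₁ ⊓ Subgroup.centralizer ({z₂} : Set G)) := by
  rw [sup_comm] at hx ⊢
  exact hp.symm.Q₁_conj_R hq hx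

/-- `X = ⟨Q₁, Q₂⟩` normalizes `R`. -/
theorem X_le_normalizer_R (hp : ESPair Q₁ Q₂ z₁ z₂) :
    Q₁ ⊔ Q₂ ≤ Subgroup.normalizer ((((Q₂ ⊓ Subgroup.centralizer ({z₁} : Set G)) ⊔
      (Q₁ ⊓ Subgroup.centralizer ({z₂} : Set G)) : Subgroup G)) : Set G) := by
  apply sup_le
  · rw [Subgroup.le_normalizer_iff]
    intro q hq x hx
    exact hp.Q₁_conj_R hq hx
  · rw [Subgroup.le_normalizer_iff]
    intro q hq x hx
    exact hp.Q₂_conj_R hq hx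

/-- `R ≤ X`. -/
theorem R_le_X (_hp : ESPair Q₁ Q₂ z₁ z₂) :
    (Q₂ ⊓ Subgroup.centralizer ({z₁} : Set G)) ⊔ (Q₁ ⊓ Subgroup.centralizer ({z₂} : Set G)) ≤
      Q₁ ⊔ Q₂ :=
  sup_le (inf_le_left.trans le_sup_right) (inf_le_left.trans le_sup_left)

/-- Each element of `Q₁` lies in `P₁` or in `a P₁`, where `a ∈ Q₁` moves `z₂`. -/
theorem P₁_or (hp : ESPair Q₁ Q₂ z₁ z₂) {a : G} (ha : a ∈ Q₁) (haz : a * z₂ * a⁻¹ = z₁ * z₂)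
    {q : G} (hq : q ∈ Q₁) :
    q ∈ Q₁ ⊓ Subgroup.centralizer ({z₂} : Set G) ∨
      a⁻¹ * q ∈ Q₁ ⊓ Subgroup.centralizer ({z₂} : Set G) := by
  rcases hp.h₁.commute_or_conj hq hp.m₁ with h1 | h1
  · left; exact (mem_P_iff q).mpr ⟨hq, h1⟩
  · right
    rw [mem_P_iff]
    refine ⟨Q₁.mul_mem (Q₁.inv_mem ha) hq, ?_⟩
    have e1 : a⁻¹ * (z₁ * z₂) * a = z₂ := by
      rw [← haz]; group
    calc a⁻¹ * q * z₂ = a⁻¹ * (q * z₂ * q⁻¹) * q := by group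
      _ = a⁻¹ * (z₁ * z₂) * q := by rw [h1]
      _ = (a⁻¹ * (z₁ * z₂) * a) * (a⁻¹ * q) := by group
      _ = z₂ * (a⁻¹ * q) := by rw [e1]

/-- Squares of elements of `Q₁` lie in `R`. -/
theorem sq_mem_R (hp : ESPair Q₁ Q₂ z₁ z₂) {q : G} (hq : q ∈ Q₁) :
    q * q ∈ (Q₂ ⊓ Subgroup.centralizer ({z₁} : Set G)) ⊔
      (Q₁ ⊓ Subgroup.centralizer ({z₂} : Set G)) := by
  rcases hp.sq₁ q hq with h | h
  · rw [h]; exact Subgroup.one_mem _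
  · rw [h]; exact Subgroup.mem_sup_right hp.z₁_mem_P₁

/-- Membership in `C_G(V)`. -/
theorem mem_CV_iff (hp : ESPair Q₁ Q₂ z₁ z₂) (x : G) :
    x ∈ Subgroup.centralizer ((Subgroup.closure ({z₁, z₂} : Set G) : Subgroup G) : Set G) ↔
      (x * z₁ = z₁ * x ∧ x * z₂ = z₂ * x) := by
  rw [Subgroup.mem_centralizer_iff]
  constructor
  · intro h
    exact ⟨(h z₁ (Subgroup.subset_closure (Or.inl rfl))).symm,
      (h z₂ (Subgroup.subset_closure (Or.inr rfl))).symm⟩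
  · intro h v hv
    exact (hp.V_central hv h).symm

/-- The braid relation modulo `R`. -/
theorem braid_mem_R (hp : ESPair Q₁ Q₂ z₁ z₂)
    (hconj : ∀ x y : G, x * z₁ * x⁻¹ = y * z₂ * y⁻¹ →
      Q₁.map (MulAut.conj x).toMonoidHom = Q₂.map (MulAut.conj y).toMonoidHom)
    {a b : G} (ha : a ∈ Q₁) (haz : a * z₂ * a⁻¹ = z₁ * z₂) (hb : b ∈ Q₂)
    (hbz : b * z₁ * b⁻¹ = z₂ * z₁) :
    a * b⁻¹ * a⁻¹ * b * a * b⁻¹ ∈ (Q₂ ⊓ Subgroup.centralizer ({z₁} : Set G)) ⊔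
      (Q₁ ⊓ Subgroup.centralizer ({z₂} : Set G)) := by
  have h12 := hp.comm12
  have hQ : Q₁.map (MulAut.conj b).toMonoidHom = Q₂.map (MulAut.conj a).toMonoidHom :=
    hconj b a (by rw [hbz, haz, h12])
  have hv : b * a * b⁻¹ ∈ Q₂.map (MulAut.conj a).toMonoidHom := by
    rw [← hQ]; exact conj_mem_map_conj Q₁ b ha
  rw [mem_map_conj_iff] at hv
  have hwQ : b⁻¹ * (a⁻¹ * (b * a * b⁻¹) * a) ∈ Q₂ := Q₂.mul_mem (Q₂.inv_mem hb) hv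
  -- conjugation facts
  have c1 : a * z₁ * a⁻¹ = z₁ := by rw [hp.h₁.zc a ha]; group
  have c4 : b * z₂ * b⁻¹ = z₂ := by rw [hp.h₂.zc b hb]; group
  have c2 : b⁻¹ * z₁ * b = z₂ * z₁ := by
    have : b * (z₂ * z₁) * b⁻¹ = z₁ := by
      calc b * (z₂ * z₁) * b⁻¹ = (b * z₂ * b⁻¹) * (b * z₁ * b⁻¹) := by group
        _ = z₂ * (z₂ * z₁) := by rw [c4, hbz]
        _ = z₁ := by rw [← mul_assoc, hp.h₂.zz, one_mul]
    calc b⁻¹ * z₁ * b = b⁻¹ * (b * (z₂ * z₁) * b⁻¹) * b := by rw [this]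
      _ = z₂ * z₁ := by group
  have c3 : a * (z₂ * z₁) * a⁻¹ = z₂ := by
    calc a * (z₂ * z₁) * a⁻¹ = (a * z₂ * a⁻¹) * (a * z₁ * a⁻¹) := by group
      _ = z₁ * z₂ * z₁ := by rw [haz, c1]
      _ = z₂ := by rw [h12, mul_assoc, hp.h₁.zz, mul_one]
  have c5 : a⁻¹ * z₂ * a = z₁ * z₂ := by
    have : a * (z₁ * z₂) * a⁻¹ = z₂ := by rw [h12]; exact c3
    calc a⁻¹ * z₂ * a = a⁻¹ * (a * (z₁ * z₂) * a⁻¹) * a := by rw [this]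
      _ = z₁ * z₂ := by group
  have c6 : b⁻¹ * (z₁ * z₂) * b = z₁ := by
    have : b⁻¹ * z₂ * b = z₂ := by
      calc b⁻¹ * z₂ * b = b⁻¹ * (b * z₂ * b⁻¹) * b := by rw [c4]
        _ = z₂ := by group
    calc b⁻¹ * (z₁ * z₂) * b = (b⁻¹ * z₁ * b) * (b⁻¹ * z₂ * b) := by group
      _ = z₂ * z₁ * z₂ := by rw [c2, this]
      _ = z₁ := by rw [← h12, mul_assoc, hp.h₂.zz, mul_one]
  have hwz : (b⁻¹ * (a⁻¹ * (b * a * b⁻¹) * a)) * z₁ * (b⁻¹ * (a⁻¹ * (b * a * b⁻¹) * a))⁻¹ = z₁ := by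
    have e : (b⁻¹ * (a⁻¹ * (b * a * b⁻¹) * a)) * z₁ * (b⁻¹ * (a⁻¹ * (b * a * b⁻¹) * a))⁻¹ =
        b⁻¹ * (a⁻¹ * (b * (a * (b⁻¹ * (a * z₁ * a⁻¹) * b) * a⁻¹) * b⁻¹) * a) * b := by group
    rw [e, c1, c2, c3, c4, c5, c6]
  have hwc : (b⁻¹ * (a⁻¹ * (b * a * b⁻¹) * a)) * z₁ = z₁ * (b⁻¹ * (a⁻¹ * (b * a * b⁻¹) * a)) := by
    calc (b⁻¹ * (a⁻¹ * (b * a * b⁻¹) * a)) * z₁
        = ((b⁻¹ * (a⁻¹ * (b * a * b⁻¹) * a)) * z₁ * (b⁻¹ * (a⁻¹ * (b * a * b⁻¹) * a))⁻¹) *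
          (b⁻¹ * (a⁻¹ * (b * a * b⁻¹) * a)) := by group
      _ = z₁ * (b⁻¹ * (a⁻¹ * (b * a * b⁻¹) * a)) := by rw [hwz]
  have hwR : b⁻¹ * (a⁻¹ * (b * a * b⁻¹) * a) ∈ (Q₂ ⊓ Subgroup.centralizer ({z₁} : Set G)) ⊔
      (Q₁ ⊓ Subgroup.centralizer ({z₂} : Set G)) :=
    Subgroup.mem_sup_left ((mem_P_iff _).mpr ⟨hwQ, hwc⟩)
  have := hp.Q₁_conj_R ha hwR
  have e : a * (b⁻¹ * (a⁻¹ * (b * a * b⁻¹) * a)) * a⁻¹ = a * b⁻¹ * a⁻¹ * b * a * b⁻¹ := by group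
  rwa [e] at this

end ESPair

end Cfsg.Agent.Lib.Helper90
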