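import Mathlib
import Cfsg.Prelude.Def_MonsterType
import Cfsg.Agent.Lib.Helper90.ESPairX

set_option autoImplicit false

namespace Cfsg.Agent.Lib.Helper90

open Cfsg

namespace ESPair

variable {G : Type*} [Group G] {Q₁ Q₂ : Subgroup G} {z₁ z₂ : G}

/-- `X` is the union of six cosets of `R`. -/
theorem X_cases (hp : ESPair Q₁ Q₂ z₁ z₂)
    (hconj : ∀ x y : G, x * z₁ * x⁻¹ = y * z₂ * y⁻¹ →
      Q₁.map (MulAut.conj x).toMonoidHom = Q₂.map (MulAut.conj y).toMonoidHom)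
    {a b : G} (ha : a ∈ Q₁) (haz : a * z₂ * a⁻¹ = z₁ * z₂) (hb : b ∈ Q₂)
    (hbz : b * z₁ * b⁻¹ = z₂ * z₁) {x : G} (hx : x ∈ Q₁ ⊔ Q₂) :
    x ∈ (Q₂ ⊓ Subgroup.centralizer ({z₁} : Set G)) ⊔ (Q₁ ⊓ Subgroup.centralizer ({z₂} : Set G)) ∨
    a⁻¹ * x ∈ (Q₂ ⊓ Subgroup.centralizer ({z₁} : Set G)) ⊔
      (Q₁ ⊓ Subgroup.centralizer ({z₂} : Set G)) ∨
    b⁻¹ * x ∈ (Q₂ ⊓ Subgroup.centralizer ({z₁} : Set G)) ⊔
      (Q₁ ⊓ Subgroup.centralizer ({z₂} : Set G)) ∨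
    (a * b)⁻¹ * x ∈ (Q₂ ⊓ Subgroup.centralizer ({z₁} : Set G)) ⊔
      (Q₁ ⊓ Subgroup.centralizer ({z₂} : Set G)) ∨
    (b * a)⁻¹ * x ∈ (Q₂ ⊓ Subgroup.centralizer ({z₁} : Set G)) ⊔
      (Q₁ ⊓ Subgroup.centralizer ({z₂} : Set G)) ∨
    (a * b * a)⁻¹ * x ∈ (Q₂ ⊓ Subgroup.centralizer ({z₁} : Set G)) ⊔
      (Q₁ ⊓ Subgroup.centralizer ({z₂} : Set G)) := by
  set R := (Q₂ ⊓ Subgroup.centralizer ({z₁} : Set G)) ⊔
    (Q₁ ⊓ Subgroup.centralizer ({z₂} : Set G)) with hR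
  set X := Q₁ ⊔ Q₂ with hX
  have hRX : R ≤ X := hp.R_le_X
  have hnorm : (R.subgroupOf X).Normal :=
    (Subgroup.normal_subgroupOf_iff_le_normalizer hRX).mpr hp.X_le_normalizer_R
  have haX : a ∈ X := Subgroup.mem_sup_left ha
  have hbX : b ∈ X := Subgroup.mem_sup_right hb
  have hAB : Q₁.subgroupOf X ⊔ Q₂.subgroupOf X = ⊤ :=
    codisjoint_iff.mp (Subgroup.codisjoint_subgroupOf_sup Q₁ Q₂)
  have key := six_cosets (R.subgroupOf X) (Q₁.subgroupOf X) (Q₂.subgroupOf X) hAB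
    ⟨a, haX⟩ ⟨b, hbX⟩ ?_ ?_ ?_ ?_ ?_ ⟨x, hx⟩
  · simpa only [Subgroup.mem_subgroupOf, Subgroup.coe_mul, Subgroup.coe_inv] using key
  · rintro ⟨q, hqX⟩ hq
    rw [Subgroup.mem_subgroupOf] at hq
    simp only [Subgroup.mem_subgroupOf, Subgroup.coe_mul, Subgroup.coe_inv]
    rcases hp.P₁_or ha haz hq with h | h
    · left; exact Subgroup.mem_sup_right h
    · right; exact Subgroup.mem_sup_right h
  · rintro ⟨q, hqX⟩ hq
    rw [Subgroup.mem_subgroupOf] at hq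
    simp only [Subgroup.mem_subgroupOf, Subgroup.coe_mul, Subgroup.coe_inv]
    rcases hp.symm.P₁_or hb hbz hq with h | h
    · left; exact Subgroup.mem_sup_left h
    · right; exact Subgroup.mem_sup_left h
  · simp only [Subgroup.mem_subgroupOf, Subgroup.coe_mul]
    exact hp.sq_mem_R ha
  · simp only [Subgroup.mem_subgroupOf, Subgroup.coe_mul]
    have := hp.symm.sq_mem_R hb
    rw [sup_comm] at this
    exact this
  · simp only [Subgroup.mem_subgroupOf, Subgroup.coe_mul, Subgroup.coe_inv]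
    exact hp.braid_mem_R hconj ha haz hb hbz

/-- `X ∩ C_G(V) ≤ R`. -/
theorem X_inf_CV_le_R (hp : ESPair Q₁ Q₂ z₁ z₂)
    (hconj : ∀ x y : G, x * z₁ * x⁻¹ = y * z₂ * y⁻¹ →
      Q₁.map (MulAut.conj x).toMonoidHom = Q₂.map (MulAut.conj y).toMonoidHom)
    {x : G} (hx : x ∈ Q₁ ⊔ Q₂) (hx1 : x * z₁ = z₁ * x) (hx2 : x * z₂ = z₂ * x) :
    x ∈ (Q₂ ⊓ Subgroup.centralizer ({z₁} : Set G)) ⊔
      (Q₁ ⊓ Subgroup.centralizer ({z₂} : Set G)) := by
  obtain ⟨a, ha, haz'⟩ := hp.h₁.exists_conj_noncentral hp.m₁ hp.h₂.z1 hp.ne.symm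
  obtain ⟨b, hb, hbz'⟩ := hp.h₂.exists_conj_noncentral hp.m₂ hp.h₁.z1 hp.ne
  have haz : a * z₂ * a⁻¹ = z₁ * z₂ := haz'
  have hbz : b * z₁ * b⁻¹ = z₂ * z₁ := hbz'
  have h12 := hp.comm12
  -- a word `w` with `w⁻¹ x ∈ R` commutes with `z₁` and `z₂`
  have hw : ∀ w : G, w⁻¹ * x ∈ (Q₂ ⊓ Subgroup.centralizer ({z₁} : Set G)) ⊔
      (Q₁ ⊓ Subgroup.centralizer ({z₂} : Set G)) → (w * z₁ * w⁻¹ = z₁ ∧ w * z₂ * w⁻¹ = z₂) := by
    intro w hwr
    have hr := hp.R_le_CV hwr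
    have hxC : x ∈ Subgroup.centralizer ({z₁} : Set G) ⊓ Subgroup.centralizer ({z₂} : Set G) :=
      ⟨Subgroup.mem_centralizer_singleton_iff.mpr hx1,
        Subgroup.mem_centralizer_singleton_iff.mpr hx2⟩
    have hrC : w⁻¹ * x ∈
        Subgroup.centralizer ({z₁} : Set G) ⊓ Subgroup.centralizer ({z₂} : Set G) :=
      ⟨Subgroup.mem_centralizer_singleton_iff.mpr hr.1,
        Subgroup.mem_centralizer_singleton_iff.mpr hr.2⟩
    have hwC : w ∈ Subgroup.centralizer ({z₁} : Set G) ⊓ Subgroup.centralizer ({z₂} : Set G) := by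
      have := Subgroup.mul_mem _ hxC (Subgroup.inv_mem _ hrC)
      have e : x * (w⁻¹ * x)⁻¹ = w := by group
      rwa [e] at this
    have h1 := Subgroup.mem_centralizer_singleton_iff.mp hwC.1
    have h2 := Subgroup.mem_centralizer_singleton_iff.mp hwC.2
    constructor
    · rw [h1]; group
    · rw [h2]; group
  have c1 : a * z₁ * a⁻¹ = z₁ := by rw [hp.h₁.zc a ha]; group
  have c4 : b * z₂ * b⁻¹ = z₂ := by rw [hp.h₂.zc b hb]; group
  have c3 : a * (z₂ * z₁) * a⁻¹ = z₂ := by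
    calc a * (z₂ * z₁) * a⁻¹ = (a * z₂ * a⁻¹) * (a * z₁ * a⁻¹) := by group
      _ = z₁ * z₂ * z₁ := by rw [haz, c1]
      _ = z₂ := by rw [h12, mul_assoc, hp.h₁.zz, mul_one]
  have c3' : b * (z₁ * z₂) * b⁻¹ = z₁ := by
    calc b * (z₁ * z₂) * b⁻¹ = (b * z₁ * b⁻¹) * (b * z₂ * b⁻¹) := by group
      _ = z₂ * z₁ * z₂ := by rw [hbz, c4]
      _ = z₁ := by rw [← h12, mul_assoc, hp.h₂.zz, mul_one]
  rcases hp.X_cases hconj ha haz hb hbz hx with h | h | h | h | h | h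
  · exact h
  · exfalso
    have := (hw a h).2
    rw [haz] at this
    apply hp.h₁.z1
    have e : z₁ * z₂ = 1 * z₂ := by rw [one_mul]; exact this
    exact mul_right_cancel e
  · exfalso
    have := (hw b h).1
    rw [hbz] at this
    apply hp.h₂.z1
    have e : z₂ * z₁ = 1 * z₁ := by rw [one_mul]; exact this
    exact mul_right_cancel e
  · exfalso
    have := (hw (a * b) h).1
    have e : a * b * z₁ * (a * b)⁻¹ = a * (b * z₁ * b⁻¹) * a⁻¹ := by group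
    rw [e, hbz, c3] at this
    exact hp.ne this.symm
  · exfalso
    have := (hw (b * a) h).2
    have e : b * a * z₂ * (b * a)⁻¹ = b * (a * z₂ * a⁻¹) * b⁻¹ := by group
    rw [e, haz, c3'] at this
    exact hp.ne this
  · exfalso
    have := (hw (a * b * a) h).1
    have e : a * b * a * z₁ * (a * b * a)⁻¹ = a * (b * (a * z₁ * a⁻¹) * b⁻¹) * a⁻¹ := by group
    rw [e, c1, hbz, c3] at this
    exact hp.ne this.symm

end ESPair

end Cfsg.Agent.Lib.Helper90
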