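import Mathlib
import Cfsg.Agent.Lib.Helper90.KleinIndex

set_option autoImplicit false

namespace Cfsg.Agent.Lib.Helper90

section

variable {G : Type*} [Group G]

/-- The action of `N_G(V)` on the three involutions of the four-group `V = {1, z, s, zs}`: a
homomorphism to `Perm (Fin 3)` with kernel `C_G(V)`, surjective on any subgroup containing two
elements inducing suitable transpositions. -/
theorem klein_action (z s : G) (hzz : z * z = 1) (hss : s * s = 1)
    (hzs : z * s = s * z) (hz1 : z ≠ 1) (hs1 : s ≠ 1) (hzs' : z ≠ s) :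
    ∃ φ : ↥(Subgroup.normalizer ((kleinFour z s hzz hss hzs : Subgroup G) : Set G)) →*
        Equiv.Perm (Fin 3),
      φ.ker = (Subgroup.centralizer ((kleinFour z s hzz hss hzs : Subgroup G) : Set G)).subgroupOf
        (Subgroup.normalizer ((kleinFour z s hzz hss hzs : Subgroup G) : Set G)) ∧
      ∀ (a t : G), a * z * a⁻¹ = z → a * s * a⁻¹ = z * s → t * s * t⁻¹ = s → t * z * t⁻¹ = z * s →
        ∀ (Y : Subgroup G)
          (hY : Y ≤ Subgroup.normalizer ((kleinFour z s hzz hss hzs : Subgroup G) : Set G)),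
          a ∈ Y → t ∈ Y → Function.Surjective (φ.comp (Subgroup.inclusion hY)) := by
  classical
  set V := kleinFour z s hzz hss hzs with hV
  have hVmem : ∀ x : G, x ∈ V ↔ (x = 1 ∨ x = z ∨ x = s ∨ x = z * s) := fun x => Iff.rfl
  set N := Subgroup.normalizer (V : Set G) with hN
  set C := Subgroup.centralizer (V : Set G) with hC
  have hzinv : z⁻¹ = z := inv_eq_of_mul_eq_one_left hzz
  have hsinv : s⁻¹ = s := inv_eq_of_mul_eq_one_left hss
  have d1 : z ≠ z * s := by
    intro h; apply hs1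
    have : z * 1 = z * s := by rw [mul_one]; exact h
    exact (mul_left_cancel this).symm
  have d2 : s ≠ z * s := by
    intro h; apply hz1
    have : 1 * s = z * s := by rw [one_mul]; exact h
    exact (mul_right_cancel this).symm
  have d3 : z * s ≠ 1 := by
    intro h; apply hzs'
    have : z = s⁻¹ := eq_inv_of_mul_eq_one_left h
    rw [this, hsinv]
  let X : Finset G := {z, s, z * s}
  have hX : ∀ x : G, x ∈ X ↔ (x = z ∨ x = s ∨ x = z * s) := by
    intro x; simp [X]
  have hXV : ∀ x : G, x ∈ X ↔ (x ∈ V ∧ x ≠ 1) := by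
    intro x
    rw [hX, hVmem]
    constructor
    · rintro (h | h | h)
      · exact ⟨Or.inr (Or.inl h), by rw [h]; exact hz1⟩
      · exact ⟨Or.inr (Or.inr (Or.inl h)), by rw [h]; exact hs1⟩
      · exact ⟨Or.inr (Or.inr (Or.inr h)), by rw [h]; exact d3⟩
    · rintro ⟨h | h | h | h, h1⟩
      · exact absurd h h1
      · exact Or.inl h
      · exact Or.inr (Or.inl h)
      · exact Or.inr (Or.inr h)
  have hXcard : Fintype.card ↥X = 3 := by
    rw [Fintype.card_coe]
    exact Finset.card_eq_three.mpr ⟨z, s, z * s, hzs', d1, d2, rfl⟩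
  have hconjX : ∀ n ∈ N, ∀ x ∈ X, n * x * n⁻¹ ∈ X := by
    intro n hn x hx
    rw [hXV] at hx ⊢
    refine ⟨(Subgroup.mem_normalizer_iff.mp hn x).mp hx.1, ?_⟩
    intro h
    apply hx.2
    calc x = n⁻¹ * (n * x * n⁻¹) * n := by group
      _ = 1 := by rw [h]; group
  let act : MulAction ↥N ↥X :=
    { smul := fun n x => ⟨(n : G) * x * (n : G)⁻¹, hconjX n n.2 x x.2⟩
      one_smul := by
        intro x
        apply Subtype.ext
        show ((1 : ↥N) : G) * x * ((1 : ↥N) : G)⁻¹ = x
        simp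
      mul_smul := by
        intro m n x
        apply Subtype.ext
        show ((m * n : ↥N) : G) * x * ((m * n : ↥N) : G)⁻¹ = (m : G) * ((n : G) * x * (n : G)⁻¹) * (m : G)⁻¹
        simp only [Subgroup.coe_mul]
        group }
  let φ₀ : ↥N →* Equiv.Perm ↥X := MulAction.toPermHom ↥N ↥X
  have hφ : ∀ (n : ↥N) (x : ↥X), ((φ₀ n x : ↥X) : G) = (n : G) * x * (n : G)⁻¹ := fun n x => rfl
  have hker : φ₀.ker = C.subgroupOf N := by
    ext n
    rw [MonoidHom.mem_ker, Subgroup.mem_subgroupOf, hC, Subgroup.mem_centralizer_iff]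
    constructor
    · intro h v hv
      by_cases hv1 : v = 1
      · rw [hv1]; group
      · have hvX : v ∈ X := (hXV v).mpr ⟨hv, hv1⟩
        have h1 : φ₀ n ⟨v, hvX⟩ = ⟨v, hvX⟩ := by rw [h]; rfl
        have h2 : (n : G) * v * (n : G)⁻¹ = v := by
          have := congrArg Subtype.val h1
          rwa [hφ] at this
        calc v * (n : G) = ((n : G) * v * (n : G)⁻¹) * n := by rw [h2]
          _ = n * v := by group
    · intro h
      ext x
      rw [hφ]
      have hxV : (x : G) ∈ V := ((hXV x).mp x.2).1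
      have := h x hxV
      simp only [Equiv.Perm.coe_one, id_eq]
      calc (n : G) * x * (n : G)⁻¹ = ((x : G) * n) * (n : G)⁻¹ := by rw [this]
        _ = x := by group
  have hcardPerm : Nat.card (Equiv.Perm ↥X) = 6 := by
    rw [Nat.card_eq_fintype_card, Fintype.card_perm, hXcard]; rfl
  have hsurj₀ : ∀ (a t : G), a * z * a⁻¹ = z → a * s * a⁻¹ = z * s → t * s * t⁻¹ = s →
      t * z * t⁻¹ = z * s → ∀ (Y : Subgroup G) (hY : Y ≤ N), a ∈ Y → t ∈ Y →
        Function.Surjective (φ₀.comp (Subgroup.inclusion hY)) := by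
    intro a t haz has hts htz Y hY haY htY
    set ψ := φ₀.comp (Subgroup.inclusion hY) with hψdef
    have hψ : ∀ (y : ↥Y) (x : ↥X), ((ψ y x : ↥X) : G) = (y : G) * x * (y : G)⁻¹ := fun y x => rfl
    have hazs : a * (z * s) * a⁻¹ = s := by
      calc a * (z * s) * a⁻¹ = (a * z * a⁻¹) * (a * s * a⁻¹) := by group
        _ = s := by rw [haz, has, ← mul_assoc, hzz, one_mul]
    have htzs : t * (z * s) * t⁻¹ = z := by
      calc t * (z * s) * t⁻¹ = (t * z * t⁻¹) * (t * s * t⁻¹) := by group
        _ = z := by rw [htz, hts, mul_assoc, hss, mul_one]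
    have hzX : z ∈ X := (hX z).mpr (Or.inl rfl)
    have hsX : s ∈ X := (hX s).mpr (Or.inr (Or.inl rfl))
    have hzsX : z * s ∈ X := (hX (z * s)).mpr (Or.inr (Or.inr rfl))
    let xz : ↥X := ⟨z, hzX⟩
    let xs : ↥X := ⟨s, hsX⟩
    let xzs : ↥X := ⟨z * s, hzsX⟩
    have nzs : xz ≠ xs := fun h => hzs' (congrArg Subtype.val h)
    have nzzs : xz ≠ xzs := fun h => d1 (congrArg Subtype.val h)
    have nszs : xs ≠ xzs := fun h => d2 (congrArg Subtype.val h)
    have hcases : ∀ x : ↥X, x = xz ∨ x = xs ∨ x = xzs := by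
      intro x
      rcases (hX x).mp x.2 with h | h | h
      · exact Or.inl (Subtype.ext h)
      · exact Or.inr (Or.inl (Subtype.ext h))
      · exact Or.inr (Or.inr (Subtype.ext h))
    have hφa : ψ ⟨a, haY⟩ = Equiv.swap xzs xs := by
      ext x
      rcases hcases x with rfl | rfl | rfl
      · rw [Equiv.swap_apply_of_ne_of_ne nzzs nzs, hψ]; exact haz
      · rw [Equiv.swap_apply_right, hψ]; exact has
      · rw [Equiv.swap_apply_left, hψ]; exact hazs
    have hφt : ψ ⟨t, htY⟩ = Equiv.swap xzs xz := by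
      ext x
      rcases hcases x with rfl | rfl | rfl
      · rw [Equiv.swap_apply_right, hψ]; exact htz
      · rw [Equiv.swap_apply_of_ne_of_ne nszs nzs.symm, hψ]; exact hts
      · rw [Equiv.swap_apply_left, hψ]; exact htzs
    have h2 : 2 ∣ Nat.card ψ.range := by
      have ho : orderOf (ψ ⟨a, haY⟩) = 2 := by
        rw [hφa]; exact Equiv.Perm.IsSwap.orderOf ⟨xzs, xs, nszs.symm, rfl⟩
      have hmem : ψ ⟨a, haY⟩ ∈ ψ.range := ⟨_, rfl⟩
      have := orderOf_dvd_natCard (⟨_, hmem⟩ : ψ.range)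
      rwa [Subgroup.orderOf_mk, ho] at this
    have h3 : 3 ∣ Nat.card ψ.range := by
      have ho : orderOf (ψ (⟨a, haY⟩ * ⟨t, htY⟩)) = 3 := by
        rw [map_mul, hφa, hφt]
        exact (Equiv.Perm.isThreeCycle_swap_mul_swap_same nszs.symm nzzs.symm nzs.symm).orderOf
      have hmem : ψ (⟨a, haY⟩ * ⟨t, htY⟩) ∈ ψ.range := ⟨_, rfl⟩
      have := orderOf_dvd_natCard (⟨_, hmem⟩ : ψ.range)
      rwa [Subgroup.orderOf_mk, ho] at this
    have h6 : 6 ∣ Nat.card ψ.range :=
      Nat.Coprime.mul_dvd_of_dvd_of_dvd (by norm_num : Nat.Coprime 2 3) h2 h3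
    have hdvd : Nat.card ψ.range ∣ 6 := by
      rw [← hcardPerm]; exact Subgroup.card_subgroup_dvd_card _
    have hrange : Nat.card ψ.range = 6 := Nat.dvd_antisymm hdvd h6
    have htop : ψ.range = ⊤ := Subgroup.eq_top_of_card_eq _ (by rw [hrange, hcardPerm])
    exact MonoidHom.range_eq_top.mp htop
  -- transport to Fin 3
  let e : Equiv.Perm ↥X ≃* Equiv.Perm (Fin 3) := (Fintype.equivFinOfCardEq hXcard).permCongrHom
  refine ⟨e.toMonoidHom.comp φ₀, ?_, ?_⟩
  · rw [← hker]
    ext n
    simp only [MonoidHom.mem_ker, MonoidHom.coe_comp, Function.comp_apply]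
    constructor
    · intro h
      exact e.injective (by rw [map_one]; exact h)
    · intro h
      show e (φ₀ n) = 1
      rw [h, map_one]
  · intro a t haz has hts htz Y hY haY htY
    have h := hsurj₀ a t haz has hts htz Y hY haY htY
    intro σ
    obtain ⟨y, hy⟩ := h (e.symm σ)
    refine ⟨y, ?_⟩
    show e (φ₀ (Subgroup.inclusion hY y)) = σ
    have : φ₀ (Subgroup.inclusion hY y) = e.symm σ := hy
    rw [this, MulEquiv.apply_symm_apply]

end

end Cfsg.Agent.Lib.Helper90
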