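import Mathlib
import Cfsg.Prelude.Def_MonsterType
import Cfsg.Agent.Lib.Helper90.ESPairY
import Cfsg.Agent.Lib.Helper90.KleinAction
import Cfsg.Agent.Lib.Helper90.Basic

set_option autoImplicit false

namespace Cfsg.Agent.Lib.Helper90

open Cfsg

/-- `klein_action` for a subgroup known to equal the four-group. -/
theorem klein_action' {G : Type*} [Group G] (V : Subgroup G) (z s : G) (hzz : z * z = 1)
    (hss : s * s = 1) (hzs : z * s = s * z) (hz1 : z ≠ 1) (hs1 : s ≠ 1) (hzs' : z ≠ s)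
    (hV : V = kleinFour z s hzz hss hzs) :
    ∃ φ : ↥(Subgroup.normalizer (V : Set G)) →* Equiv.Perm (Fin 3),
      φ.ker = (Subgroup.centralizer (V : Set G)).subgroupOf (Subgroup.normalizer (V : Set G)) ∧
      ∀ (a t : G), a * z * a⁻¹ = z → a * s * a⁻¹ = z * s → t * s * t⁻¹ = s → t * z * t⁻¹ = z * s →
        ∀ (Y : Subgroup G) (hY : Y ≤ Subgroup.normalizer (V : Set G)),
          a ∈ Y → t ∈ Y → Function.Surjective (φ.comp (Subgroup.inclusion hY)) := by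
  subst hV
  exact klein_action z s hzz hss hzs hz1 hs1 hzs'

namespace ESPair

variable {G : Type*} [Group G] {Q₁ Q₂ : Subgroup G} {z₁ z₂ : G}

/-- The structure of `X = ⟨Q₁, Q₂⟩` and of `N_G(V)`. -/
theorem main (hp : ESPair Q₁ Q₂ z₁ z₂)
    (hconj : ∀ x y : G, x * z₁ * x⁻¹ = y * z₂ * y⁻¹ →
      Q₁.map (MulAut.conj x).toMonoidHom = Q₂.map (MulAut.conj y).toMonoidHom)
    (V X R : Subgroup G) (hV : V = Subgroup.closure ({z₁, z₂} : Set G)) (hX : X = Q₁ ⊔ Q₂)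
    (hR : R = (Q₂ ⊓ Subgroup.centralizer ({z₁} : Set G)) ⊔
      (Q₁ ⊓ Subgroup.centralizer ({z₂} : Set G))) :
    R = X ⊓ Subgroup.centralizer (V : Set G) ∧ R = (Cfsg.pCore 2 ↥X).map X.subtype ∧
    (∃ _h : (R.subgroupOf X).Normal, Nonempty (↥X ⧸ R.subgroupOf X ≃* Equiv.Perm (Fin 3))) ∧
    Subgroup.normalizer (V : Set G) =
      X ⊔ (Subgroup.centralizer ({z₁} : Set G) ⊓ Subgroup.centralizer (V : Set G)) ∧
    (∀ y ∈ Subgroup.normalizer (V : Set G), ∀ x ∈ X, y * x * y⁻¹ ∈ X) ∧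
    R ≤ Subgroup.centralizer ({z₁} : Set G) ⊓ Subgroup.centralizer (V : Set G) ∧
    (∀ x ∈ X, ∀ c ∈ Subgroup.centralizer ({z₁} : Set G) ⊓ Subgroup.centralizer (V : Set G),
      x * c * x⁻¹ * c⁻¹ ∈ R) ∧
    X ⊓ (Subgroup.centralizer ({z₁} : Set G) ⊓ Subgroup.centralizer (V : Set G)) = R := by
  have hCV : ∀ x : G, x ∈ Subgroup.centralizer (V : Set G) ↔
      (x * z₁ = z₁ * x ∧ x * z₂ = z₂ * x) := by
    intro x; rw [hV]; exact hp.mem_CV_iff x
  have hRX : R ≤ X := by rw [hR, hX]; exact hp.R_le_X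
  have hRCV : ∀ x ∈ R, x * z₁ = z₁ * x ∧ x * z₂ = z₂ * x := by
    intro x hx; rw [hR] at hx; exact hp.R_le_CV hx
  have hK4 : ∀ x ∈ X, x * z₁ = z₁ * x → x * z₂ = z₂ * x → x ∈ R := by
    intro x hx h1 h2
    rw [hX] at hx
    rw [hR]
    exact hp.X_inf_CV_le_R hconj hx h1 h2
  have c1 : R = X ⊓ Subgroup.centralizer (V : Set G) := by
    apply le_antisymm
    · intro x hx; exact ⟨hRX hx, (hCV x).mpr (hRCV x hx)⟩
    · rintro x ⟨hx1, hx2⟩
      have := (hCV x).mp hx2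
      exact hK4 x hx1 this.1 this.2
  have hHV : Subgroup.centralizer ({z₁} : Set G) ⊓ Subgroup.centralizer (V : Set G) =
      Subgroup.centralizer (V : Set G) :=
    inf_eq_right.mpr (fun x hx => Subgroup.mem_centralizer_singleton_iff.mpr ((hCV x).mp hx).1)
  have hVK : V = kleinFour z₁ z₂ hp.h₁.zz hp.h₂.zz hp.comm12 := by
    rw [hV]; exact closure_pair_eq_kleinFour z₁ z₂ hp.h₁.zz hp.h₂.zz hp.comm12
  obtain ⟨φ, hker, hsurj⟩ := klein_action' V z₁ z₂ hp.h₁.zz hp.h₂.zz hp.comm12 hp.h₁.z1 hp.h₂.z1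
    hp.ne hVK
  have hXN : X ≤ Subgroup.normalizer (V : Set G) := by
    intro x hx
    rw [hX] at hx
    have hk := hp.X_le_auxK hx
    rw [Subgroup.mem_normalizer_iff]
    intro v
    rw [hV]
    constructor
    · intro hv; exact hk.1 v hv
    · intro hv
      have := hk.2.1 _ hv
      have e : x⁻¹ * (x * v * x⁻¹) * x = v := by group
      rwa [e] at this
  obtain ⟨a, ha, haz'⟩ := hp.h₁.exists_conj_noncentral hp.m₁ hp.h₂.z1 hp.ne.symm
  obtain ⟨b, hb, hbz'⟩ := hp.h₂.exists_conj_noncentral hp.m₂ hp.h₁.z1 hp.ne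
  have haz : a * z₂ * a⁻¹ = z₁ * z₂ := haz'
  have hbz : b * z₁ * b⁻¹ = z₁ * z₂ := hbz'.trans hp.comm12.symm
  have ca : a * z₁ * a⁻¹ = z₁ := by rw [hp.h₁.zc a ha]; group
  have cb : b * z₂ * b⁻¹ = z₂ := by rw [hp.h₂.zc b hb]; group
  have haX : a ∈ X := by rw [hX]; exact Subgroup.mem_sup_left ha
  have hbX : b ∈ X := by rw [hX]; exact Subgroup.mem_sup_right hb
  have hψsurj := hsurj a b ca haz cb hbz X hXN haX hbX
  set ψ := φ.comp (Subgroup.inclusion hXN) with hψ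
  have hkerψ : ψ.ker = R.subgroupOf X := by
    ext x
    rw [MonoidHom.mem_ker, hψ, MonoidHom.comp_apply, ← MonoidHom.mem_ker, hker,
      Subgroup.mem_subgroupOf, Subgroup.coe_inclusion, Subgroup.mem_subgroupOf, c1]
    constructor
    · intro h; exact ⟨x.2, h⟩
    · intro h; exact h.2
  have hnorm : (R.subgroupOf X).Normal := by rw [← hkerψ]; exact MonoidHom.normal_ker ψ
  have c3 : ∃ h : (R.subgroupOf X).Normal,
      Nonempty (↥X ⧸ R.subgroupOf X ≃* Equiv.Perm (Fin 3)) := by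
    refine ⟨hnorm, ⟨?_⟩⟩
    exact (QuotientGroup.quotientMulEquivOfEq hkerψ.symm).trans
      (QuotientGroup.quotientKerEquivOfSurjective ψ hψsurj)
  have c2 : R = (Cfsg.pCore 2 ↥X).map X.subtype := by
    apply le_antisymm
    · have h2R : IsPGroup 2 ↥R := by
        rw [hR]
        apply IsPGroup.to_sup_of_normal_right' (hp.h₂.two.to_inf_left) (hp.h₁.two.to_inf_left)
        rw [Subgroup.le_normalizer_iff]
        intro a ha b hb
        have ha' := (mem_P_iff a).mp ha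
        exact hp.conj_mem_P₁ hb ha'.2 (hp.h₂.zc a ha'.1)
      have h2 : IsPGroup 2 ↥(R.subgroupOf X) := h2R.comap_subtype
      have := le_pCore (R.subgroupOf X) hnorm h2
      have h3 := Subgroup.map_mono (f := X.subtype) this
      rwa [Subgroup.map_subgroupOf_eq_of_le hRX] at h3
    · rw [Subgroup.map_le_iff_le_comap]
      show Cfsg.pCore 2 ↥X ≤ R.subgroupOf X
      rw [← hkerψ]
      intro x hx
      rw [MonoidHom.mem_ker]
      have hbot := perm_three_normal_two_subgroup_eq_bot ((Cfsg.pCore 2 ↥X).map ψ)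
        ((pCore_normal 2 ↥X).map ψ hψsurj) ((pCore_isPGroup 2 ↥X).map ψ)
      have : ψ x ∈ (Cfsg.pCore 2 ↥X).map ψ := Subgroup.mem_map_of_mem ψ hx
      rw [hbot] at this
      exact Subgroup.mem_bot.mp this
  have hdecomp : ∀ n ∈ Subgroup.normalizer (V : Set G),
      ∃ x ∈ X, ∃ c ∈ Subgroup.centralizer (V : Set G), n = x * c := by
    intro n hn
    obtain ⟨x, hx⟩ := hψsurj (φ ⟨n, hn⟩)
    refine ⟨x.1, x.2, x.1⁻¹ * n, ?_, by group⟩
    have hmem : (Subgroup.inclusion hXN x)⁻¹ * ⟨n, hn⟩ ∈ φ.ker := by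
      rw [MonoidHom.mem_ker, map_mul, map_inv]
      have : φ (Subgroup.inclusion hXN x) = φ ⟨n, hn⟩ := hx
      rw [this]; group
    rw [hker, Subgroup.mem_subgroupOf] at hmem
    simpa using hmem
  have c4 : Subgroup.normalizer (V : Set G) =
      X ⊔ (Subgroup.centralizer ({z₁} : Set G) ⊓ Subgroup.centralizer (V : Set G)) := by
    rw [hHV]
    apply le_antisymm
    · intro n hn
      obtain ⟨x, hx, c, hc, rfl⟩ := hdecomp n hn
      exact Subgroup.mul_mem _ (Subgroup.mem_sup_left hx) (Subgroup.mem_sup_right hc)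
    · exact sup_le hXN (Subgroup.centralizer_le_normalizer _)
  have hCX : ∀ c ∈ Subgroup.centralizer (V : Set G), ∀ x ∈ X, c * x * c⁻¹ ∈ X := by
    intro c hc x hx
    have hc' := (hCV c).mp hc
    rw [hX] at hx ⊢
    exact conj_mem_sup_of_mem_normalizer (hp.h₁.norm c hc'.1) (hp.h₂.norm c hc'.2) hx
  have c5 : ∀ y ∈ Subgroup.normalizer (V : Set G), ∀ x ∈ X, y * x * y⁻¹ ∈ X := by
    intro y hy x hx
    obtain ⟨x₀, hx₀, c, hc, rfl⟩ := hdecomp y hy
    have := hCX c hc x hx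
    have e : x₀ * c * x * (x₀ * c)⁻¹ = x₀ * (c * x * c⁻¹) * x₀⁻¹ := by group
    rw [e]; exact X.mul_mem (X.mul_mem hx₀ this) (X.inv_mem hx₀)
  have c6 : R ≤ Subgroup.centralizer ({z₁} : Set G) ⊓ Subgroup.centralizer (V : Set G) := by
    rw [hHV]; intro x hx; exact (hCV x).mpr (hRCV x hx)
  have c7 : ∀ x ∈ X, ∀ c ∈ Subgroup.centralizer ({z₁} : Set G) ⊓
      Subgroup.centralizer (V : Set G), x * c * x⁻¹ * c⁻¹ ∈ R := by
    rw [hHV]
    have hnR := hp.X_le_normalizer_R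
    rw [← hR] at hnR
    intro x hx c hc
    rw [hX] at hx
    refine comm_mem_of_sup R Q₁ Q₂ (Subgroup.centralizer (V : Set G) : Set G)
      (le_sup_left.trans hnR) (le_sup_right.trans hnR) ?_ ?_ x hx c hc
    · intro q hq c hc
      have hc' := (hCV c).mp hc
      rw [hR]; exact Subgroup.mem_sup_right (hp.comm_mem_P₁ hq hc'.1 hc'.2)
    · intro q hq c hc
      have hc' := (hCV c).mp hc
      rw [hR]; exact Subgroup.mem_sup_left (hp.symm.comm_mem_P₁ hq hc'.2 hc'.1)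
  have c8 : X ⊓ (Subgroup.centralizer ({z₁} : Set G) ⊓ Subgroup.centralizer (V : Set G)) = R := by
    rw [hHV]; exact c1.symm
  exact ⟨c1, c2, c3, c4, c5, c6, c7, c8⟩

/-- The conjugacy hypothesis of `main` in the situation `Q₂ = Q₁^g`. -/
theorem hconj_of_conj (h : ESData Q₁ z₁) (g : G) :
    ∀ x y : G, x * z₁ * x⁻¹ = y * (g * z₁ * g⁻¹) * y⁻¹ →
      Q₁.map (MulAut.conj x).toMonoidHom =
        (Q₁.map (MulAut.conj g).toMonoidHom).map (MulAut.conj y).toMonoidHom := by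
  intro x y hxy
  have hc : (g⁻¹ * y⁻¹ * x) * z₁ = z₁ * (g⁻¹ * y⁻¹ * x) := by
    calc (g⁻¹ * y⁻¹ * x) * z₁ = g⁻¹ * y⁻¹ * (x * z₁ * x⁻¹) * x := by group
      _ = g⁻¹ * y⁻¹ * (y * (g * z₁ * g⁻¹) * y⁻¹) * x := by rw [hxy]
      _ = z₁ * (g⁻¹ * y⁻¹ * x) := by group
  have hn := h.norm _ hc
  ext t
  rw [mem_map_conj_iff, mem_map_conj_iff, mem_map_conj_iff]
  rw [Subgroup.mem_normalizer_iff''.mp hn (g⁻¹ * (y⁻¹ * t * y) * g)]
  have e : (g⁻¹ * y⁻¹ * x)⁻¹ * (g⁻¹ * (y⁻¹ * t * y) * g) * (g⁻¹ * y⁻¹ * x) = x⁻¹ * t * x := by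
    group
  rw [e]

end ESPair

end Cfsg.Agent.Lib.Helper90
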