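import Mathlib

set_option autoImplicit false

namespace Cfsg.Agent.Lib.Helper90

section

variable {L : Type*} [Group L]

/-- The subgroup `Y ∪ xY` for an element `x` normalizing `Y` with `x² ∈ Y`. -/
def extTwo (Y : Subgroup L) (x : L) (hx2 : x * x ∈ Y)
    (hxn' : ∀ y ∈ Y, x⁻¹ * y * x ∈ Y) : Subgroup L where
  carrier := {w | w ∈ Y ∨ x⁻¹ * w ∈ Y}
  one_mem' := Or.inl Y.one_mem
  mul_mem' := by
    rintro w₁ w₂ (h1 | h1) (h2 | h2)
    · exact Or.inl (Y.mul_mem h1 h2)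
    · right
      have e : x⁻¹ * (w₁ * w₂) = (x⁻¹ * w₁ * x) * (x⁻¹ * w₂) := by group
      rw [e]; exact Y.mul_mem (hxn' _ h1) h2
    · right
      have e : x⁻¹ * (w₁ * w₂) = (x⁻¹ * w₁) * w₂ := by group
      rw [e]; exact Y.mul_mem h1 h2
    · left
      have e : w₁ * w₂ = (x * x) * (x⁻¹ * (x⁻¹ * w₁) * x) * (x⁻¹ * w₂) := by group
      rw [e]; exact Y.mul_mem (Y.mul_mem hx2 (hxn' _ h1)) h2
  inv_mem' := by
    rintro w (h1 | h1)
    · exact Or.inl (Y.inv_mem h1)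
    · right
      have e : x⁻¹ * w⁻¹ = (x⁻¹ * (x⁻¹ * w)⁻¹ * x) * (x * x)⁻¹ := by group
      rw [e]; exact Y.mul_mem (hxn' _ (Y.inv_mem h1)) (Y.inv_mem hx2)

theorem mem_extTwo (Y : Subgroup L) (x : L) (hx2 : x * x ∈ Y)
    (hxn' : ∀ y ∈ Y, x⁻¹ * y * x ∈ Y) (w : L) :
    w ∈ extTwo Y x hx2 hxn' ↔ (w ∈ Y ∨ x⁻¹ * w ∈ Y) := Iff.rfl

/-- In a finite commutative subgroup `Z` of exponent two, two independent elements `z`, `u` are
separated by a subgroup of index two: `z ∈ Z₁`, `u ∉ Z₁`, `Z = Z₁ ∪ uZ₁`. -/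
theorem exists_hyperplane [Finite L] (Z : Subgroup L) (hcomm : ∀ x ∈ Z, ∀ y ∈ Z, x * y = y * x)
    (hsq : ∀ x ∈ Z, x * x = 1) (z u : L) (hz : z ∈ Z) (hu : u ∈ Z) (hu1 : u ≠ 1) (huz : u ≠ z) :
    ∃ Z₁ : Subgroup L, Z₁ ≤ Z ∧ z ∈ Z₁ ∧ u ∉ Z₁ ∧ ∀ x ∈ Z, x ∈ Z₁ ∨ u * x ∈ Z₁ := by
  have hinv : ∀ x ∈ Z, x⁻¹ = x := fun x hx => inv_eq_of_mul_eq_one_left (hsq x hx)
  -- normalizing facts inside the commutative group
  have hn' : ∀ (Y : Subgroup L), Y ≤ Z → ∀ x ∈ Z, ∀ y ∈ Y, x⁻¹ * y * x ∈ Y := by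
    intro Y hY x hx y hy
    have : x⁻¹ * y * x = y := by rw [mul_assoc, hcomm y (hY hy) x hx]; group
    rw [this]; exact hy
  let p : Subgroup L → Prop := fun Y => Y ≤ Z ∧ z ∈ Y ∧ u ∉ Y
  -- the starting subgroup `{1, z}`
  let Y₀ : Subgroup L := extTwo ⊥ z (by rw [hsq z hz]; exact Subgroup.one_mem _)
    (hn' ⊥ bot_le z hz)
  have hY₀ : p Y₀ := by
    refine ⟨?_, ?_, ?_⟩
    · rintro w (h1 | h1)
      · rw [Subgroup.mem_bot] at h1; rw [h1]; exact Z.one_mem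
      · rw [Subgroup.mem_bot] at h1
        have : w = z := by
          calc w = z * (z⁻¹ * w) := by group
            _ = z := by rw [h1, mul_one]
        rw [this]; exact hz
    · right
      rw [Subgroup.mem_bot]; group
    · rintro (h1 | h1)
      · rw [Subgroup.mem_bot] at h1; exact hu1 h1
      · rw [Subgroup.mem_bot] at h1
        apply huz
        calc u = z * (z⁻¹ * u) := by group
          _ = z := by rw [h1, mul_one]
  obtain ⟨Y₁, _, hmax⟩ := Finite.exists_le_maximal (p := p) hY₀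
  obtain ⟨⟨hY₁Z, hzY₁, huY₁⟩, hmax'⟩ := hmax
  refine ⟨Y₁, hY₁Z, hzY₁, huY₁, ?_⟩
  intro x hx
  by_cases hxY : x ∈ Y₁
  · exact Or.inl hxY
  · right
    let Y₂ : Subgroup L := extTwo Y₁ x (by rw [hsq x hx]; exact Y₁.one_mem)
      (hn' Y₁ hY₁Z x hx)
    have hle : Y₁ ≤ Y₂ := fun w hw => Or.inl hw
    have hxY₂ : x ∈ Y₂ := by
      right
      have : x⁻¹ * x = 1 := by group
      rw [this]; exact Y₁.one_mem
    have hY₂Z : Y₂ ≤ Z := by
      rintro w (h1 | h1)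
      · exact hY₁Z h1
      · have : w = x * (x⁻¹ * w) := by group
        rw [this]; exact Z.mul_mem hx (hY₁Z h1)
    by_contra hcon
    have huY₂ : u ∉ Y₂ := by
      rintro (h1 | h1)
      · exact huY₁ h1
      · apply hcon
        have : u * x = x⁻¹ * u := by rw [hinv x hx, hcomm u hu x hx]
        rw [this]; exact h1
    have := hmax' ⟨hY₂Z, hle hzY₁, huY₂⟩ hle
    exact hxY (this hxY₂)

end

end Cfsg.Agent.Lib.Helper90
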