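import Mathlib

set_option autoImplicit false
set_option linter.unusedSectionVars false

/-!
A Moore graph of diameter two (regular, no triangles, two non-adjacent vertices have exactly one
common neighbour) whose valency is a power `3 ^ m` of three has `m ≤ 1`: the trace argument over
`ZMod p` for a prime `p ≡ 3 (mod 4)` dividing `4 * 3 ^ (m - 1) - 1`.
-/

namespace Cfsg.Agent.Lib.Helper90

open Matrix Finset

theorem exists_prime_three_mod_four :
    ∀ n : ℕ, n % 4 = 3 → ∃ p : ℕ, p.Prime ∧ p ∣ n ∧ p % 4 = 3 := by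
  intro n
  induction n using Nat.strong_induction_on with
  | _ n ih =>
    intro hn
    by_cases hp : n.Prime
    · exact ⟨n, hp, dvd_rfl, hn⟩
    · have h2 : 2 ≤ n := by omega
      obtain ⟨a, ha, ha1, han⟩ := Nat.exists_dvd_of_not_prime2 h2 hp
      obtain ⟨b, rfl⟩ := ha
      have hb0 : 0 < b := by
        rcases Nat.eq_zero_or_pos b with h | h
        · rw [h] at hn; simp at hn
        · exact h
      have hbn : b < a * b := by nlinarith
      have hmod : ((a % 4) * (b % 4)) % 4 = 3 := by rw [← Nat.mul_mod]; exact hn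
      have hx : a % 4 < 4 := Nat.mod_lt _ (by norm_num)
      have hy : b % 4 < 4 := Nat.mod_lt _ (by norm_num)
      have hcases : a % 4 = 3 ∨ b % 4 = 3 := by
        generalize a % 4 = x at *
        generalize b % 4 = y at *
        interval_cases x <;> interval_cases y <;> simp_all
      rcases hcases with h | h
      · obtain ⟨p, hp, hpa, hp4⟩ := ih a han h
        exact ⟨p, hp, hpa.trans (dvd_mul_right a b), hp4⟩
      · obtain ⟨p, hp, hpb, hp4⟩ := ih b hbn h
        exact ⟨p, hp, hpb.trans (dvd_mul_left b a), hp4⟩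

theorem prime_dvd_fifteen_aux (p : ℕ) (hp : p.Prime) (h : p ∣ 15) (h4 : p % 4 = 3) (h3 : p ≠ 3) :
    False := by
  have hle : p ≤ 15 := Nat.le_of_dvd (by norm_num) h
  interval_cases p <;> first | omega | (norm_num at hp)

section Moore

variable {V : Type*} [Fintype V] [DecidableEq V] (R : V → V → Prop) [DecidableRel R]

/-- adjacency matrix -/
def adjM (K : Type*) [Zero K] [One K] : Matrix V V K := fun x y => if R x y then 1 else 0

/-- all-ones matrix -/
def oneM (V : Type*) (K : Type*) [One K] : Matrix V V K := fun _ _ => 1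

variable {R}

theorem moore_adj_sq {K : Type*} [CommRing K] (v : ℕ)
    (hirr : ∀ x, ¬ R x x) (hsymm : ∀ x y, R x y → R y x)
    (hreg : ∀ x, (univ.filter (fun z => R x z)).card = v)
    (hlam : ∀ x y, R x y → ∀ z, ¬ (R x z ∧ R y z))
    (hmu : ∀ x y, x ≠ y → ¬ R x y → (univ.filter (fun z => R x z ∧ R y z)).card = 1) :
    adjM R K * adjM R K = ((v : K) - 1) • (1 : Matrix V V K) + oneM V K - adjM R K := by
  ext x y
  have hsum : (adjM R K * adjM R K) x y = ((univ.filter (fun z => R x z ∧ R y z)).card : K) := by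
    rw [Matrix.mul_apply, Finset.card_filter, Nat.cast_sum]
    apply Finset.sum_congr rfl
    intro z _
    unfold adjM
    by_cases h1 : R x z
    · by_cases h2 : R y z
      · have h2' : R z y := hsymm y z h2
        simp [h1, h2, h2']
      · have h2' : ¬ R z y := fun h => h2 (hsymm z y h)
        simp [h1, h2, h2']
    · simp [h1]
  rw [hsum]
  simp only [Matrix.sub_apply, Matrix.add_apply, Matrix.smul_apply, smul_eq_mul]
  unfold oneM adjM
  by_cases hxy : x = y
  · subst hxy
    have : (univ.filter (fun z => R x z ∧ R x z)) = univ.filter (fun z => R x z) := by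
      ext z; simp
    rw [this, hreg x]
    simp [hirr x]
  · by_cases hR : R x y
    · have : (univ.filter (fun z => R x z ∧ R y z)) = ∅ := by
        ext z
        simp only [Finset.mem_filter, Finset.mem_univ, true_and, Finset.notMem_empty, iff_false]
        exact hlam x y hR z
      rw [this]
      simp [hxy, hR]
    · rw [hmu x y hxy hR]
      simp [hxy, hR]

theorem moore_adj_one {K : Type*} [CommRing K] (v : ℕ)
    (hreg : ∀ x, (univ.filter (fun z => R x z)).card = v) :
    adjM R K * oneM V K = (v : K) • oneM V K := by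
  ext x y
  rw [Matrix.mul_apply]
  simp only [Matrix.smul_apply, smul_eq_mul]
  unfold oneM adjM
  simp only [mul_one]
  rw [← hreg x, Finset.card_filter, Nat.cast_sum]
  apply Finset.sum_congr rfl
  intro z _
  by_cases h : R x z <;> simp [h]

theorem moore_one_adj {K : Type*} [CommRing K] (v : ℕ) (hsymm : ∀ x y, R x y → R y x)
    (hreg : ∀ x, (univ.filter (fun z => R x z)).card = v) :
    oneM V K * adjM R K = (v : K) • oneM V K := by
  ext x y
  rw [Matrix.mul_apply]
  simp only [Matrix.smul_apply, smul_eq_mul]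
  unfold oneM adjM
  simp only [one_mul, mul_one]
  rw [← hreg y, Finset.card_filter, Nat.cast_sum]
  apply Finset.sum_congr rfl
  intro z _
  by_cases h : R y z
  · have h' : R z y := hsymm y z h
    simp [h, h']
  · have h' : ¬ R z y := fun hh => h (hsymm z y hh)
    simp [h, h']

theorem oneM_mul_oneM {K : Type*} [CommRing K] :
    oneM V K * oneM V K = (Fintype.card V : K) • oneM V K := by
  ext x y
  rw [Matrix.mul_apply]
  simp [oneM]

theorem oneM_pow {K : Type*} [CommRing K] (j : ℕ) :
    oneM V K ^ (j + 1) = ((Fintype.card V : K) ^ j) • oneM V K := by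
  induction j with
  | zero => simp
  | succ j ih =>
    rw [pow_succ, ih, Matrix.smul_mul, oneM_mul_oneM, smul_smul, pow_succ]

theorem trace_oneM {K : Type*} [CommRing K] : Matrix.trace (oneM V K) = (Fintype.card V : K) := by
  simp [Matrix.trace, oneM]

theorem trace_adjM {K : Type*} [CommRing K] (hirr : ∀ x, ¬ R x x) :
    Matrix.trace (adjM R K) = 0 := by
  simp [Matrix.trace, adjM, hirr]

/-- **Moore graphs of valency `3 ^ m`** have `m ≤ 1` -/
theorem moore_three_pow [Nonempty V] (m : ℕ)
    (hirr : ∀ x, ¬ R x x) (hsymm : ∀ x y, R x y → R y x)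
    (hreg : ∀ x, (univ.filter (fun z => R x z)).card = 3 ^ m)
    (hlam : ∀ x y, R x y → ∀ z, ¬ (R x z ∧ R y z))
    (hmu : ∀ x y, x ≠ y → ¬ R x y → (univ.filter (fun z => R x z ∧ R y z)).card = 1) :
    m ≤ 1 := by
  by_contra hm
  push Not at hm
  obtain ⟨k, rfl⟩ : ∃ k, m = k + 2 := ⟨m - 2, by omega⟩
  have hk1 : 1 ≤ 3 ^ k := Nat.one_le_pow _ _ (by norm_num)
  have hc4 : (12 * 3 ^ k - 1) % 4 = 3 := by omega
  obtain ⟨p, hp, hpc, hp4⟩ := exists_prime_three_mod_four _ hc4
  have : Fact p.Prime := ⟨hp⟩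
  have hp3 : p ≠ 3 := by
    rintro rfl
    omega
  have hp2 : p ≠ 2 := by
    rintro rfl
    omega
  have hp5 : p ≠ 5 := by
    rintro rfl
    omega
  set K := ZMod p
  set v : ℕ := 3 ^ (k + 2) with hv
  obtain ⟨c, hc⟩ : ∃ c : ℕ, c = 12 * 3 ^ k - 1 := ⟨_, rfl⟩
  have hc1 : c + 1 = 12 * 3 ^ k := by omega
  have hvn : 4 * v = 3 * c + 3 := by
    rw [hv, pow_succ, pow_succ]; omega
  have hc0 : ((c : ℕ) : K) = 0 := by
    rw [hc]; exact (ZMod.natCast_eq_zero_iff _ _).2 hpc
  have hv4 : (4 : K) * (v : K) = 3 := by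
    have h1 : ((4 * v : ℕ) : K) = ((3 * c + 3 : ℕ) : K) := by rw [hvn]
    rw [Nat.cast_mul, Nat.cast_add, Nat.cast_mul, hc0] at h1
    simpa using h1
  have h2ne : (2 : K) ≠ 0 := by
    intro h
    have : ((2 : ℕ) : K) = 0 := by exact_mod_cast h
    rw [ZMod.natCast_eq_zero_iff] at this
    exact hp2 ((Nat.prime_dvd_prime_iff_eq hp Nat.prime_two).1 this)
  have h4ne : (4 : K) ≠ 0 := by
    have : (4 : K) = 2 * 2 := by norm_num
    rw [this]; exact mul_ne_zero h2ne h2ne
  have h5ne : (5 : K) ≠ 0 := by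
    intro h
    have : ((5 : ℕ) : K) = 0 := by exact_mod_cast h
    rw [ZMod.natCast_eq_zero_iff] at this
    exact hp5 ((Nat.prime_dvd_prime_iff_eq hp Nat.prime_five).1 this)
  set h : K := (2 : K)⁻¹ with hh
  have h2h : (2 : K) * h = 1 := mul_inv_cancel₀ h2ne
  set A := adjM R K with hA
  set J := oneM V K with hJ
  set n : K := (Fintype.card V : K) with hn
  have hAA := moore_adj_sq (R := R) (K := K) v hirr hsymm hreg hlam hmu
  have hAJ := moore_adj_one (R := R) (K := K) v hreg
  have hJA := moore_one_adj (R := R) (K := K) v hsymm hreg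
  have hJJ : J * J = n • J := oneM_mul_oneM
  rw [← hA, ← hJ] at hAA hAJ hJA
  -- `n = v² + 1`
  have hnv : n = (v : K) * v + 1 := by
    have e1 : A * A * J = ((v : K) * v) • J := by
      rw [Matrix.mul_assoc, hAJ, Matrix.mul_smul, hAJ, smul_smul]
    have e2 : A * A * J = ((v : K) - 1 + n - v) • J := by
      rw [hAA, Matrix.sub_mul, Matrix.add_mul, Matrix.smul_mul, Matrix.one_mul, hJJ, hAJ]
      simp only [sub_smul, add_smul]
    have e3 := e1.symm.trans e2
    obtain ⟨x₀⟩ := (inferInstance : Nonempty V)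
    have e4 := congrFun (congrFun e3 x₀) x₀
    simp only [Matrix.smul_apply, smul_eq_mul, hJ, oneM, mul_one] at e4
    linear_combination -e4
  -- `B = A + h`
  set B : Matrix V V K := A + h • (1 : Matrix V V K) with hB
  have hcoef : (v : K) - 1 + h * h = 0 := by
    have : (4 : K) * ((v : K) - 1 + h * h) = 0 := by
      linear_combination hv4 + (2 * h + 1) * h2h
    rcases mul_eq_zero.1 this with h' | h'
    · exact absurd h' h4ne
    · exact h'
  have hBB : B * B = J := by
    rw [hB, Matrix.add_mul, Matrix.mul_add, Matrix.mul_add, hAA]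
    simp only [Matrix.smul_mul, Matrix.mul_smul, Matrix.one_mul, Matrix.mul_one, smul_smul]
    have : ((v : K) - 1) • (1 : Matrix V V K) + J - A + h • A + (h • A + (h * h) • 1)
        = ((v : K) - 1 + h * h) • (1 : Matrix V V K) + J + (2 * h - 1) • A := by
      module
    rw [this, hcoef, zero_smul, zero_add]
    have : (2 * h - 1 : K) = 0 := by rw [h2h, sub_self]
    rw [this, zero_smul, add_zero]
  have hJB : J * B = ((v : K) + h) • J := by
    rw [hB, Matrix.mul_add, hJA, Matrix.mul_smul, Matrix.mul_one, add_smul]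
  -- `p = 2 j + 3`... write `p = 2 * (j + 1) + 1`
  obtain ⟨j, hj⟩ : ∃ j, p = 2 * (j + 1) + 1 := ⟨(p - 3) / 2, by omega⟩
  have hBp : B ^ p = ((n ^ j) * ((v : K) + h)) • J := by
    have e : B ^ (2 * (j + 1) + 1) = ((n ^ j) * ((v : K) + h)) • J := by
      rw [pow_succ, pow_mul, pow_two, hBB, hJ, oneM_pow, ← hJ, ← hn, Matrix.smul_mul, hJB,
        smul_smul]
    rw [← hj] at e
    exact e
  have htr := ZMod.trace_pow_card B
  have htrB : Matrix.trace B = h * n := by
    rw [hB, Matrix.trace_add, Matrix.trace_smul, hA, trace_adjM hirr, Matrix.trace_one, zero_add,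
      smul_eq_mul]
  rw [hBp, Matrix.trace_smul, hJ, trace_oneM, ← hn, htrB, ZMod.pow_card, smul_eq_mul] at htr
  -- htr : n ^ j * (v + h) * n = h * n
  have h16n : (16 : K) * n = 25 := by
    rw [hnv]; linear_combination (4 * (v : K) + 3) * hv4
  have hpow : n ^ (j + 1) = 1 := by
    have e1 : ((16 : K) * n) ^ (j + 1) = 1 := by
      rw [h16n]
      have : (25 : K) = 5 ^ 2 := by norm_num
      rw [this, ← pow_mul]
      have hpj : 2 * (j + 1) = p - 1 := by omega
      rw [hpj]
      exact ZMod.pow_card_sub_one_eq_one h5ne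
    have e2 : (16 : K) ^ (j + 1) = 1 := by
      have : (16 : K) = 4 ^ 2 := by norm_num
      rw [this, ← pow_mul]
      have hpj : 2 * (j + 1) = p - 1 := by omega
      rw [hpj]
      exact ZMod.pow_card_sub_one_eq_one h4ne
    rw [mul_pow, e2, one_mul] at e1
    exact e1
  have hfin : (v : K) + h = h * n := by
    have : n ^ j * ((v : K) + h) * n = n ^ (j + 1) * ((v : K) + h) := by
      rw [pow_succ]; ring
    rw [this, hpow, one_mul] at htr
    exact htr
  have h15 : (15 : K) = 0 := by
    linear_combination 32 * hfin - 8 * hv4 - (16 - 16 * n) * h2h + h16n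
  have : ((15 : ℕ) : K) = 0 := by exact_mod_cast h15
  rw [ZMod.natCast_eq_zero_iff] at this
  exact prime_dvd_fifteen_aux p hp this hp4 hp3

end Moore

end Cfsg.Agent.Lib.Helper90
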