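import Mathlib
import Cfsg.Agent.Lib.Helper90.WClass

set_option autoImplicit false

/-!
Fischer's hypotheses, local odd core not central: phase one.

`P d` is an (abstract) family of odd-order subgroups attached to the members of a
conjugation-invariant set `D` of 3-transpositions, `P d` normalized by the centralizer of `d`
and moving every partner of `d`.  Under transitivity of `C(d)` on the non-partners of `d` and
triviality of the classes "same partners", the partners of `d` are pairwise non-commuting and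
form a single orbit of `P d`.
-/

namespace Cfsg.Agent.Lib.Helper90

open Cfsg

variable {G : Type*} [Group G] {D : Set G}

/-- the standing hypotheses of phase one -/
structure OddFam (D : Set G) (P : G → Subgroup G) : Prop where
  hT : IsThreeTranspositionSet D
  hc : ∀ g : G, ∀ d ∈ D, g * d * g⁻¹ ∈ D
  odd : ∀ d ∈ D, ∀ p ∈ P d, p * p = 1 → p = 1
  equiv : ∀ g : G, ∀ d ∈ D, ∀ p ∈ P d, g * p * g⁻¹ ∈ P (g * d * g⁻¹)
  cent : ∀ d ∈ D, ∀ p ∈ P d, Commute p d
  moves : ∀ d ∈ D, ∀ y ∈ cpart D d, ∃ p ∈ P d, ¬ Commute p y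
  hne : ∀ d ∈ D, (cpart D d).Nonempty
  hT1 : ∀ d ∈ D, ∀ a ∈ D, ∀ b ∈ D, ¬ Commute d a → ¬ Commute d b →
    ∃ g : G, Commute g d ∧ g * a * g⁻¹ = b
  hSim : ∀ d ∈ D, ∀ a ∈ D, cpart D d = cpart D a → d = a

theorem cpart_symm0 {x y : G} (hx : x ∈ D) (hy : y ∈ cpart D x) : x ∈ cpart D y :=
  ⟨hx, fun h => hy.2.1 h.symm, hy.2.2.symm⟩

namespace OddFam

variable {P : G → Subgroup G} (F : OddFam D P)
include F

/-- partners of `d` normalize `P d` -/
theorem norm {d y p : G} (hd : d ∈ D) (hy : y ∈ cpart D d) (hp : p ∈ P d) :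
    y * p * y⁻¹ ∈ P d := by
  have h := F.equiv y d hd p hp
  have e : y * d * y⁻¹ = d := by
    rw [← hy.2.2.eq, mul_inv_cancel_right]
  rwa [e] at h

/-- the orbit of a partner consists of partners -/
theorem orb_mem {d y p : G} (hd : d ∈ D) (hy : y ∈ cpart D d) (hp : p ∈ P d) :
    p * y * p⁻¹ ∈ cpart D d := by
  have hpd : p * d = d * p := (F.cent d hd p hp).eq
  refine ⟨F.hc p y hy.1, ?_, ?_⟩
  · intro h
    apply hy.2.1
    have : y = p⁻¹ * d * p := by rw [← h]; group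
    rw [this, mul_assoc, ← hpd, inv_mul_cancel_left]
  · show d * (p * y * p⁻¹) = p * y * p⁻¹ * d
    have hdy : d * y = y * d := hy.2.2.eq
    have hpd' : p⁻¹ * d = d * p⁻¹ := by
      have := (F.cent d hd p hp).inv_left
      exact this.eq
    calc d * (p * y * p⁻¹) = (d * p) * y * p⁻¹ := by simp only [mul_assoc]
      _ = p * (d * y) * p⁻¹ := by rw [← hpd]; simp only [mul_assoc]
      _ = p * y * (d * p⁻¹) := by rw [hdy]; simp only [mul_assoc]
      _ = p * y * p⁻¹ * d := by rw [← hpd']; simp only [mul_assoc]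

/-- the product of a partner with a member of its orbit lies in `P d` -/
theorem mul_conj_mem {d y p : G} (hd : d ∈ D) (hy : y ∈ cpart D d) (hp : p ∈ P d) :
    y * (p * y * p⁻¹) ∈ P d := by
  have h1 := F.norm hd hy hp
  have e : y * (p * y * p⁻¹) = (y * p * y⁻¹) * p⁻¹ := by
    rw [tt_inv F.hT hy.1]; simp only [mul_assoc]
  rw [e]
  exact (P d).mul_mem h1 ((P d).inv_mem hp)

/-- different members of an orbit do not commute -/
theorem orb_nc {d y p : G} (hd : d ∈ D) (hy : y ∈ cpart D d) (hp : p ∈ P d)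
    (hne : p * y * p⁻¹ ≠ y) : ¬ Commute y (p * y * p⁻¹) := by
  intro hcom
  have hm := F.mul_conj_mem hd hy hp
  have hy' := F.orb_mem hd hy hp
  have h1 : y * (p * y * p⁻¹) * (y * (p * y * p⁻¹)) = 1 := by
    have hyy := tt_sq F.hT hy.1
    have hy'y' := tt_sq F.hT hy'.1
    calc y * (p * y * p⁻¹) * (y * (p * y * p⁻¹))
        = y * ((p * y * p⁻¹) * y) * (p * y * p⁻¹) := by simp only [mul_assoc]
      _ = y * (y * (p * y * p⁻¹)) * (p * y * p⁻¹) := by rw [hcom.eq]
      _ = (y * y) * ((p * y * p⁻¹) * (p * y * p⁻¹)) := by simp only [mul_assoc]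
      _ = 1 := by rw [hyy, hy'y', one_mul]
  have h2 := F.odd d hd _ hm h1
  apply hne
  have := eq_inv_of_mul_eq_one_right h2
  rw [tt_inv F.hT hy.1] at this
  exact this

/-- **all or none**: a partner of `d` commuting with `y` commutes with the whole orbit of `y` -/
theorem all_or_none {d y z p : G} (hd : d ∈ D) (hy : y ∈ cpart D d) (hz : z ∈ cpart D d)
    (hzy : Commute z y) (hne : z ≠ y) (hp : p ∈ P d) : Commute z (p * y * p⁻¹) := by
  by_contra hnc
  have hy' := F.orb_mem hd hy hp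
  have hzz := tt_sq F.hT hz.1
  have hy'y' := tt_sq F.hT hy'.1
  have hzi := tt_inv F.hT hz.1
  have hbr := tt_braid F.hT hz.1 hy'.1 hnc
  -- hbr : y' * z * y' = z * y' * z
  have hp₁ := F.norm hd hz hp
  have hr : (z * p * z⁻¹) * p⁻¹ ∈ P d := (P d).mul_mem hp₁ ((P d).inv_mem hp)
  have hm := F.mul_conj_mem hd hy' hr
  have e1 : (z * p * z⁻¹ * p⁻¹) * (p * y * p⁻¹) * (z * p * z⁻¹ * p⁻¹)⁻¹ = z * (p * y * p⁻¹) * z := by
    have hzy' : z * y * z⁻¹ = y := by rw [hzy.eq, mul_inv_cancel_right]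
    calc (z * p * z⁻¹ * p⁻¹) * (p * y * p⁻¹) * (z * p * z⁻¹ * p⁻¹)⁻¹
        = z * p * (z⁻¹ * y * z) * p⁻¹ * z⁻¹ := by group
      _ = z * p * y * p⁻¹ * z⁻¹ := by
          have : z⁻¹ * y * z = y := by
            rw [mul_assoc, ← hzy.eq, inv_mul_cancel_left]
          rw [this]
      _ = z * (p * y * p⁻¹) * z := by rw [hzi]; simp only [mul_assoc]
  rw [e1] at hm
  have e2 : p * y * p⁻¹ * (z * (p * y * p⁻¹) * z) = z * (p * y * p⁻¹) := by
    calc p * y * p⁻¹ * (z * (p * y * p⁻¹) * z)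
        = (p * y * p⁻¹ * z * (p * y * p⁻¹)) * z := by simp only [mul_assoc]
      _ = (z * (p * y * p⁻¹) * z) * z := by rw [hbr]
      _ = z * (p * y * p⁻¹) * (z * z) := by simp only [mul_assoc]
      _ = z * (p * y * p⁻¹) := by rw [hzz, mul_one]
  rw [e2] at hm
  -- hm : z * y' ∈ P d ; now z is in the orbit of y
  set g := z * (p * y * p⁻¹) with hg
  have hgp : g⁻¹ * p ∈ P d := (P d).mul_mem ((P d).inv_mem hm) hp
  have e3 : (g⁻¹ * p) * y * (g⁻¹ * p)⁻¹ = z := by
    have : (g⁻¹ * p) * y * (g⁻¹ * p)⁻¹ = g⁻¹ * (p * y * p⁻¹) * g := by group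
    rw [this, hg, mul_inv_rev, hzi, tt_inv F.hT hy'.1]
    calc p * y * p⁻¹ * z * (p * y * p⁻¹) * (z * (p * y * p⁻¹))
        = (p * y * p⁻¹ * z * (p * y * p⁻¹)) * z * (p * y * p⁻¹) := by simp only [mul_assoc]
      _ = (z * (p * y * p⁻¹) * z) * z * (p * y * p⁻¹) := by rw [hbr]
      _ = z * ((p * y * p⁻¹) * ((z * z) * (p * y * p⁻¹))) := by simp only [mul_assoc]
      _ = z := by rw [hzz, one_mul, hy'y', mul_one]
  have hnc2 := F.orb_nc hd hy hgp (by rw [e3]; exact hne)
  rw [e3] at hnc2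
  exact hnc2 hzy.symm

/-- **key property**: if `a` lies in the `P y`-orbit of `d`, the common partners of `d` and `y`
commute with `a` -/
theorem key_prop {d y z q : G} (hd : d ∈ D) (hy : y ∈ cpart D d) (hq : q ∈ P y)
    (hz : z ∈ cpart D d) (hzy : Commute z y) (hne : z ≠ y) : Commute z (q * d * q⁻¹) := by
  have hdy : d ∈ cpart D y := cpart_symm0 hd hy
  have hzy' : z ∈ cpart D y := ⟨hz.1, hne, hzy.symm⟩
  exact F.all_or_none hy.1 hdy hzy' hz.2.2.symm hz.2.1 hq

/-- being special for a line is inherited along non-commuting common partners -/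
theorem spec_transfer {d a y w : G} (hy : y ∈ D) (hw : w ∈ D)
    (cwd : Commute w d) (cwa : Commute w a) (cyd : Commute y d) (cya : Commute y a)
    (nyw : ¬ Commute y w) (hs : d * a ∈ P y) : d * a ∈ P w := by
  have hw' : w * y * w⁻¹ ∈ D := F.hc w y hy
  have h := F.equiv (w * y * w⁻¹) y hy (d * a) hs
  have hwi := tt_inv F.hT hw
  have hww := tt_sq F.hT hw
  have hyy := tt_sq F.hT hy
  have hbr := tt_braid F.hT hy hw nyw
  -- hbr : w * y * w = y * w * y
  have e1 : w * y * w⁻¹ * y * (w * y * w⁻¹)⁻¹ = w := by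
    rw [tt_inv F.hT hw', hwi]
    calc w * y * w * y * (w * y * w) = (w * y * w) * y * (w * y * w) := by simp only [mul_assoc]
      _ = (y * w * y) * y * (y * w * y) := by rw [hbr]
      _ = y * w * ((y * y) * (y * (w * y))) := by simp only [mul_assoc]
      _ = y * (w * y * w) * y := by rw [hyy, one_mul]; simp only [mul_assoc]
      _ = y * (y * w * y) * y := by rw [hbr]
      _ = (y * y) * w * (y * y) := by simp only [mul_assoc]
      _ = w := by rw [hyy, one_mul, mul_one]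
  have e2 : w * y * w⁻¹ * (d * a) * (w * y * w⁻¹)⁻¹ = d * a := by
    have c1 : Commute (w * y * w⁻¹) d := (cwd.mul_left cyd).mul_left cwd.inv_left
    have c2 : Commute (w * y * w⁻¹) a := (cwa.mul_left cya).mul_left cwa.inv_left
    have c3 : Commute (w * y * w⁻¹) (d * a) := c1.mul_right c2
    rw [c3.eq, mul_inv_cancel_right]
  rwa [e1, e2] at h

/-- if `d a` lies in `P y` then `a` is in the `P y`-orbit of `d` -/
theorem conj_of_spec {d a : G} (hd : d ∈ D) (ha : a ∈ D) (nda : ¬ Commute d a) :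
    (d * a) * d * (d * a)⁻¹ = a := conj_mul_eq F.hT hd ha nda

/-- **every line is special** -/
theorem exists_special {d a : G} (hd : d ∈ D) (ha : a ∈ D) (nda : ¬ Commute d a) :
    ∃ y ∈ cpart D d, Commute a y ∧ d * a ∈ P y := by
  obtain ⟨y₀, hy₀⟩ := F.hne d hd
  have hdy₀ : d ∈ cpart D y₀ := cpart_symm0 hd hy₀
  obtain ⟨q, hq, hqd⟩ := F.moves y₀ hy₀.1 d hdy₀
  have hne : q * d * q⁻¹ ≠ d := by
    intro h
    apply hqd
    show q * d = d * q
    calc q * d = (q * d * q⁻¹) * q := by group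
      _ = d * q := by rw [h]
  have nda₀ : ¬ Commute d (q * d * q⁻¹) := F.orb_nc hy₀.1 hdy₀ hq hne
  have ha₀ : q * d * q⁻¹ ∈ D := F.hc q d hd
  obtain ⟨g, hgd, hga⟩ := F.hT1 d hd _ ha₀ a ha nda₀ nda
  have hgd' : g * d * g⁻¹ = d := by rw [hgd.eq, mul_inv_cancel_right]
  have hy : g * y₀ * g⁻¹ ∈ cpart D d := by
    have := (mem_cpart_conj F.hc g d (g * y₀ * g⁻¹)).2 (by
      have e : g⁻¹ * (g * y₀ * g⁻¹) * g = y₀ := by group
      rw [e]; exact hy₀)
    rwa [hgd'] at this
  have hq' : g * q * g⁻¹ ∈ P (g * y₀ * g⁻¹) := F.equiv g y₀ hy₀.1 q hq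
  have ea : a = (g * q * g⁻¹) * d * (g * q * g⁻¹)⁻¹ := by
    rw [← hga]
    calc g * (q * d * q⁻¹) * g⁻¹ = (g * q * g⁻¹) * (g * d * g⁻¹) * (g * q * g⁻¹)⁻¹ := by group
      _ = (g * q * g⁻¹) * d * (g * q * g⁻¹)⁻¹ := by rw [hgd']
  refine ⟨g * y₀ * g⁻¹, hy, ?_, ?_⟩
  · have c1 : Commute (g * q * g⁻¹) (g * y₀ * g⁻¹) := F.cent _ hy.1 _ hq'
    have c2 : Commute d (g * y₀ * g⁻¹) := hy.2.2
    rw [ea]
    exact (c1.mul_left c2).mul_left c1.inv_left
  · have hdy : d ∈ cpart D (g * y₀ * g⁻¹) := cpart_symm0 hd hy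
    have h1 := F.norm hy.1 hdy hq'
    have e : d * a = (d * (g * q * g⁻¹) * d⁻¹) * (g * q * g⁻¹)⁻¹ := by
      rw [ea, tt_inv F.hT hd]; simp only [mul_assoc]
    rw [e]
    exact (P _).mul_mem h1 ((P _).inv_mem hq')

/-- a partner of `d` not commuting with `y` and outside the orbit of `y` commutes with every
`a` in the `P y`-orbit of `d` -/
theorem star {d y a z : G} (hd : d ∈ D) (hy : y ∈ cpart D d) (ha : a ∈ D)
    (nda : ¬ Commute d a) (cay : Commute a y) (hs : d * a ∈ P y)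
    (hz : z ∈ cpart D d) (nzy : ¬ Commute z y) (hzo : ∀ p ∈ P d, z ≠ p * y * p⁻¹) :
    Commute z a := by
  have nyz : ¬ Commute y z := fun h => nzy h.symm
  obtain ⟨w, hw, czw, hsw⟩ := F.exists_special hy.1 hz.1 nyz
  -- w ∈ cpart D y, z ~ w, y * z ∈ P w
  have hzconj : (y * z) * y * (y * z)⁻¹ = z := conj_mul_eq F.hT hy.1 hz.1 nyz
  have hwd : w ≠ d := by
    rintro rfl
    exact hzo _ hsw hzconj.symm
  have cwd : Commute w d := by
    by_contra hnc
    have := F.spec_transfer (d := y) (a := z) (y := w) (w := d) hw.1 hd hy.2.2 hz.2.2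
      hw.2.2.symm czw.symm hnc hsw
    exact hzo _ this hzconj.symm
  have hwd' : w ∈ cpart D d := ⟨hw.1, hwd, cwd.symm⟩
  -- w commutes with a
  have hq : (d * a) ∈ P y := hs
  have hcw : Commute w a := by
    have := F.key_prop hd hy hq hwd' hw.2.2.symm hw.2.1
    rwa [conj_mul_eq F.hT hd ha nda] at this
  -- work at base w
  have hyw : y ∈ cpart D w := cpart_symm0 hy.1 hw
  have haw : a ∈ cpart D w := by
    refine ⟨ha, ?_, hcw⟩
    rintro rfl
    exact nda cwd.symm
  have hay : a ≠ y := by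
    rintro rfl
    exact nda hy.2.2
  have := F.all_or_none hw.1 hyw haw cay hay hsw
  rw [hzconj] at this
  exact this.symm

/-- partners of `d` not commuting with `a` lie in the orbit of `y` -/
theorem out_in_orbit {d y a z : G} (hd : d ∈ D) (hy : y ∈ cpart D d) (ha : a ∈ D)
    (nda : ¬ Commute d a) (cay : Commute a y) (hs : d * a ∈ P y)
    (hz : z ∈ cpart D d) (nza : ¬ Commute z a) : ∃ p ∈ P d, z = p * y * p⁻¹ := by
  have hzy : z ≠ y := by
    rintro rfl
    exact nza cay.symm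
  have nzy : ¬ Commute z y := by
    intro h
    have := F.key_prop hd hy hs hz h hzy
    rw [conj_mul_eq F.hT hd ha nda] at this
    exact nza this
  by_contra hcon
  push Not at hcon
  exact nza (F.star hd hy ha nda cay hs hz nzy hcon)

/-- some partner of `d` does not commute with `a` -/
theorem exists_nc {d a : G} (hd : d ∈ D) (ha : a ∈ D) (nda : ¬ Commute d a) :
    ∃ z ∈ cpart D d, ¬ Commute z a := by
  by_contra hcon
  push Not at hcon
  have hsub : cpart D d ⊆ cpart D a := by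
    intro z hz
    refine ⟨hz.1, ?_, (hcon z hz).symm⟩
    rintro rfl
    exact nda hz.2.2
  -- the involution `d a d` swaps `d` and `a`
  have hdd := tt_sq F.hT hd
  have haa := tt_sq F.hT ha
  have hbr := tt_braid F.hT hd ha nda
  -- hbr : a * d * a = d * a * d
  have hgi : (d * a * d)⁻¹ = d * a * d := by
    rw [mul_inv_rev, mul_inv_rev, tt_inv F.hT hd, tt_inv F.hT ha, mul_assoc]
  have e1 : (d * a * d) * d * (d * a * d)⁻¹ = a := by
    rw [hgi]
    calc d * a * d * d * (d * a * d) = d * a * (d * d) * (d * a * d) := by simp only [mul_assoc]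
      _ = d * (a * d * a) * d := by rw [hdd, mul_one]; simp only [mul_assoc]
      _ = d * (d * a * d) * d := by rw [hbr]
      _ = (d * d) * a * (d * d) := by simp only [mul_assoc]
      _ = a := by rw [hdd, one_mul, mul_one]
  have e2 : (d * a * d) * a * (d * a * d)⁻¹ = d := by
    rw [hgi]
    calc d * a * d * a * (d * a * d) = d * (a * d * a) * (d * a * d) := by simp only [mul_assoc]
      _ = d * (d * a * d) * (d * a * d) := by rw [hbr]
      _ = (d * d) * a * (d * d) * a * d := by simp only [mul_assoc]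
      _ = a * a * d := by rw [hdd, one_mul, mul_one]
      _ = d := by rw [haa, one_mul]
  have hsub' : cpart D a ⊆ cpart D d := by
    intro z hz
    -- z ∈ cpart D (g d g⁻¹) ↔ g⁻¹ z g ∈ cpart D d
    have h1 : z ∈ cpart D ((d * a * d) * d * (d * a * d)⁻¹) := by rw [e1]; exact hz
    have h2 := (mem_cpart_conj F.hc (d * a * d) d z).1 h1
    have h3 := hsub h2
    -- g⁻¹ z g ∈ cpart D a = cpart D (g⁻¹ d g) ; conjugate back
    have h4 : (d * a * d)⁻¹ * z * (d * a * d) ∈ cpart D ((d * a * d)⁻¹ * d * (d * a * d)⁻¹⁻¹) := by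
      have : (d * a * d)⁻¹ * d * (d * a * d)⁻¹⁻¹ = a := by
        rw [inv_inv, hgi]
        have := e1
        rw [hgi] at this
        exact this
      rw [this]; exact h3
    have h5 := (mem_cpart_conj F.hc (d * a * d)⁻¹ d _).1 h4
    have : (d * a * d)⁻¹⁻¹ * ((d * a * d)⁻¹ * z * (d * a * d)) * (d * a * d)⁻¹ = z := by group
    rwa [this] at h5
  have := F.hSim d hd a ha (Set.Subset.antisymm hsub hsub')
  rw [this] at nda
  exact nda (Commute.refl a)

/-- **complete multipartite**: partners of `d` not commuting with `y` lie in the orbit of `y` -/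
theorem nc_in_orbit {d y z : G} (hd : d ∈ D) (hy : y ∈ cpart D d) (hz : z ∈ cpart D d)
    (nzy : ¬ Commute z y) : ∃ p ∈ P d, z = p * y * p⁻¹ := by
  have hdy : d ∈ cpart D y := cpart_symm0 hd hy
  obtain ⟨q, hq, hqd⟩ := F.moves y hy.1 d hdy
  have hne : q * d * q⁻¹ ≠ d := by
    intro h
    apply hqd
    show q * d = d * q
    calc q * d = (q * d * q⁻¹) * q := by group
      _ = d * q := by rw [h]
  have nda : ¬ Commute d (q * d * q⁻¹) := F.orb_nc hy.1 hdy hq hne
  have ha : q * d * q⁻¹ ∈ D := F.hc q d hd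
  have cay : Commute (q * d * q⁻¹) y := by
    have c1 : Commute q y := F.cent y hy.1 q hq
    exact (c1.mul_left hy.2.2).mul_left c1.inv_left
  have hs : d * (q * d * q⁻¹) ∈ P y := F.mul_conj_mem hy.1 hdy hq
  by_contra hcon
  push Not at hcon
  have cza := F.star hd hy ha nda cay hs hz nzy hcon
  -- `d a ∈ P z`
  have hsz : d * (q * d * q⁻¹) ∈ P z :=
    F.spec_transfer (d := d) (a := q * d * q⁻¹) (y := y) (w := z) hy.1 hz.1 hz.2.2.symm cza
      hy.2.2.symm cay.symm (fun h => nzy h.symm) hs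
  obtain ⟨z₀, hz₀, nz₀⟩ := F.exists_nc hd ha nda
  obtain ⟨p₁, hp₁, e₁⟩ := F.out_in_orbit hd hy ha nda cay hs hz₀ nz₀
  obtain ⟨p₂, hp₂, e₂⟩ := F.out_in_orbit hd hz ha nda cza.symm hsz hz₀ nz₀
  apply hcon (p₂⁻¹ * p₁) ((P d).mul_mem ((P d).inv_mem hp₂) hp₁)
  have : z = p₂⁻¹ * z₀ * p₂ := by rw [e₂]; group
  rw [this, e₁]; group

/-- **no commuting partners**: two different partners of `d` do not commute -/
theorem partners_nc {d y y₁ : G} (hd : d ∈ D) (hy : y ∈ cpart D d) (hy₁ : y₁ ∈ cpart D d)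
    (hne : y₁ ≠ y) : ¬ Commute y y₁ := by
  intro hcom
  have hdy : d ∈ cpart D y := cpart_symm0 hd hy
  obtain ⟨q, hq, hqd⟩ := F.moves y hy.1 d hdy
  have hne' : q * d * q⁻¹ ≠ d := by
    intro h
    apply hqd
    show q * d = d * q
    calc q * d = (q * d * q⁻¹) * q := by group
      _ = d * q := by rw [h]
  have nda : ¬ Commute d (q * d * q⁻¹) := F.orb_nc hy.1 hdy hq hne'
  have ha : q * d * q⁻¹ ∈ D := F.hc q d hd
  have cay : Commute (q * d * q⁻¹) y := by
    have c1 : Commute q y := F.cent y hy.1 q hq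
    exact (c1.mul_left hy.2.2).mul_left c1.inv_left
  have hs : d * (q * d * q⁻¹) ∈ P y := F.mul_conj_mem hy.1 hdy hq
  obtain ⟨z, hz, nza⟩ := F.exists_nc hd ha nda
  obtain ⟨p, hp, rfl⟩ := F.out_in_orbit hd hy ha nda cay hs hz nza
  apply nza
  have hzy : p * y * p⁻¹ ≠ y := by
    intro h
    rw [h] at nza
    exact nza cay.symm
  -- base `y₁`
  have cy₁a : Commute y₁ (q * d * q⁻¹) := F.key_prop hd hy hq hy₁ hcom.symm hne
  have hdy₁ : d ∈ cpart D y₁ := cpart_symm0 hd hy₁
  have hay₁ : q * d * q⁻¹ ∈ cpart D y₁ := by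
    refine ⟨ha, ?_, cy₁a⟩
    intro h
    rw [h] at nda
    exact nda hy₁.2.2
  have cy₁z : Commute y₁ (p * y * p⁻¹) := F.all_or_none hd hy hy₁ hcom.symm hne hp
  have hzy₁ : p * y * p⁻¹ ∈ cpart D y₁ := by
    refine ⟨hz.1, ?_, cy₁z⟩
    intro h
    have := F.orb_nc hd hy hp hzy
    rw [h] at this
    exact this hcom
  obtain ⟨r, hr, er⟩ := F.nc_in_orbit hy₁.1 hdy₁ hay₁ (fun h => nda h.symm)
  have := F.all_or_none hy₁.1 hdy₁ hzy₁ hz.2.2.symm hz.2.1 hr
  rwa [← er] at this

/-- **single orbit** -/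
theorem single_orbit {d y z : G} (hd : d ∈ D) (hy : y ∈ cpart D d) (hz : z ∈ cpart D d) :
    ∃ p ∈ P d, z = p * y * p⁻¹ := by
  by_cases h : z = y
  · exact ⟨1, (P d).one_mem, by rw [h]; group⟩
  · exact F.nc_in_orbit hd hy hz (fun hc => F.partners_nc hd hy hz h hc.symm)

end OddFam

end Cfsg.Agent.Lib.Helper90
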