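import Mathlib
import Cfsg.Agent.Lib.Helper90.WClass

set_option autoImplicit false

/-!
Fischer's hypotheses, local odd core not central: phase two, part one.

Conjugation by an element of `3`-power order on a finite conjugation-stable set, and the
consequences for a 3-transposition class without commuting triangles.
-/

namespace Cfsg.Agent.Lib.Helper90

open Cfsg

variable {G : Type*} [Group G]

section ConjPerm

/-- conjugation by `g` as a permutation of a `g`-stable set -/
def conjPermOn (S : Set G) (g : G) (hS : ∀ x, g * x * g⁻¹ ∈ S ↔ x ∈ S) : Equiv.Perm S :=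
  (MulAut.toPerm G (MulAut.conj g)).subtypePerm hS

theorem conjPermOn_apply (S : Set G) (g : G) (hS : ∀ x, g * x * g⁻¹ ∈ S ↔ x ∈ S) (x : S) :
    ((conjPermOn S g hS x : S) : G) = g * x * g⁻¹ := rfl

theorem conjPermOn_pow_apply (S : Set G) (g : G) (hS : ∀ x, g * x * g⁻¹ ∈ S ↔ x ∈ S) (n : ℕ)
    (x : S) : (((conjPermOn S g hS ^ n) x : S) : G) = g ^ n * x * (g ^ n)⁻¹ := by
  induction n with
  | zero => simp
  | succ n ih =>
    rw [pow_succ', Equiv.Perm.mul_apply, conjPermOn_apply, ih, pow_succ']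
    group

theorem conjPermOn_pow_eq_one (S : Set G) (g : G) (hS : ∀ x, g * x * g⁻¹ ∈ S ↔ x ∈ S) (n : ℕ)
    (hg : g ^ n = 1) : conjPermOn S g hS ^ n = 1 := by
  ext x
  rw [conjPermOn_pow_apply, hg]
  simp

variable [Finite G]

/-- a fixed-point-free conjugation of `3`-power order: the set has size divisible by three -/
theorem three_dvd_card_of_fpf (S : Set G) (g : G) (hS : ∀ x, g * x * g⁻¹ ∈ S ↔ x ∈ S) (k : ℕ)
    (hg : g ^ 3 ^ k = 1) (hfpf : ∀ x ∈ S, g * x * g⁻¹ ≠ x) : 3 ∣ Nat.card S := by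
  classical
  have : Fintype S := Fintype.ofFinite S
  have : Fact (Nat.Prime 3) := ⟨Nat.prime_three⟩
  rw [Nat.card_eq_fintype_card]
  by_contra hnd
  obtain ⟨a, ha⟩ := Equiv.Perm.exists_fixed_point_of_prime (p := 3) (n := k) hnd
    (conjPermOn_pow_eq_one S g hS _ hg)
  apply hfpf a a.2
  have := congrArg Subtype.val ha
  rwa [conjPermOn_apply] at this

/-- a second fixed point -/
theorem exists_second_fixed (S : Set G) (g : G) (hS : ∀ x, g * x * g⁻¹ ∈ S ↔ x ∈ S) (k : ℕ)
    (hg : g ^ 3 ^ k = 1) (h3 : 3 ∣ Nat.card S) {a : G} (ha : a ∈ S) (hga : g * a * g⁻¹ = a) :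
    ∃ b ∈ S, g * b * g⁻¹ = b ∧ b ≠ a := by
  classical
  have : Fintype S := Fintype.ofFinite S
  have : Fact (Nat.Prime 3) := ⟨Nat.prime_three⟩
  rw [Nat.card_eq_fintype_card] at h3
  have hfix : conjPermOn S g hS ⟨a, ha⟩ = ⟨a, ha⟩ := by
    apply Subtype.ext
    rw [conjPermOn_apply]
    exact hga
  obtain ⟨b, hb, hba⟩ := Equiv.Perm.exists_fixed_point_of_prime' (p := 3) (n := k) h3
    (conjPermOn_pow_eq_one S g hS _ hg) hfix
  refine ⟨b, b.2, ?_, ?_⟩
  · have := congrArg Subtype.val hb
    rwa [conjPermOn_apply] at this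
  · intro h
    apply hba
    exact Subtype.ext h

end ConjPerm

variable {D : Set G}

/-- a member of `D` commuting with the product of two non-commuting members commutes with
both -/
theorem comm_of_comm_mul (hT : IsThreeTranspositionSet D) {x u w : G} (hx : x ∈ D) (hu : u ∈ D)
    (hw : w ∈ D) (nuw : ¬ Commute u w) (h : Commute x (u * w)) : Commute x u ∧ Commute x w := by
  by_cases hxu : Commute x u
  · refine ⟨hxu, ?_⟩
    have : Commute x (u⁻¹ * (u * w)) := hxu.inv_right.mul_right h
    rwa [inv_mul_cancel_left] at this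
  · exfalso
    have hxw : ¬ Commute x w := by
      intro hxw
      apply hxu
      have : Commute x (u * w * w⁻¹) := h.mul_right hxw.inv_right
      rwa [mul_inv_cancel_right] at this
    have b1 := tt_braid hT hx hu hxu  -- u * x * u = x * u * x
    have b2 := tt_braid hT hx hw hxw  -- w * x * w = x * w * x
    have huu := tt_sq hT hu
    have hww := tt_sq hT hw
    have hxx := tt_sq hT hx
    -- x (u w) = (u w) x  ⇒  u x u = w x w
    have e1 : u * x * u = w * x * w := by
      have h' : x * (u * w) = u * w * x := h.eq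
      calc u * x * u = u * (x * (u * w)) * w := by
            rw [show u * (x * (u * w)) * w = u * x * u * (w * w) by simp only [mul_assoc], hww,
              mul_one]
        _ = u * (u * w * x) * w := by rw [h']
        _ = (u * u) * w * x * w := by simp only [mul_assoc]
        _ = w * x * w := by rw [huu, one_mul]
    rw [b1, b2] at e1
    -- x u x = x w x ⇒ u = w
    have e2 : u = w := by
      have := congrArg (fun t => x * t * x) e1
      have l : x * (x * u * x) * x = u := by
        calc x * (x * u * x) * x = (x * x) * u * (x * x) := by simp only [mul_assoc]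
          _ = u := by rw [hxx, one_mul, mul_one]
      have r : x * (x * w * x) * x = w := by
        calc x * (x * w * x) * x = (x * x) * w * (x * x) := by simp only [mul_assoc]
          _ = w := by rw [hxx, one_mul, mul_one]
      rw [l, r] at this
      exact this
    rw [e2] at nuw
    exact nuw (Commute.refl w)

/-- the standing hypotheses of phase two -/
structure ThreeCtx (D : Set G) : Prop where
  hT : IsThreeTranspositionSet D
  hc : ∀ g : G, ∀ d ∈ D, g * d * g⁻¹ ∈ D
  hconj : ∀ a ∈ D, ∀ b ∈ D, ∃ g : G, g * a * g⁻¹ = b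
  pnc : ∀ d ∈ D, ∀ y ∈ cpart D d, ∀ y₁ ∈ cpart D d, y₁ ≠ y → ¬ Commute y y₁
  hne : ∀ d ∈ D, (cpart D d).Nonempty
  two : ∀ d ∈ D, ∀ y ∈ cpart D d, ∃ y' ∈ cpart D d, y' ≠ y
  hT1 : ∀ d ∈ D, ∀ a ∈ D, ∀ b ∈ D, ¬ Commute d a → ¬ Commute d b →
    ∃ g : G, Commute g d ∧ g * a * g⁻¹ = b
  common : ∀ d ∈ D, ∀ a ∈ D, ¬ Commute d a → ∃ y ∈ cpart D d, Commute a y
  exists_nc : ∀ d ∈ D, ∀ a ∈ D, ¬ Commute d a → ∃ z ∈ cpart D d, ¬ Commute z a
  hmax : ∀ d ∈ D, ∀ z : G, Commute z d → (∀ y ∈ cpart D d, Commute z y) →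
    (∃ a ∈ D, ¬ Commute d a ∧ Commute z a) → z = 1

namespace ThreeCtx

variable (C : ThreeCtx D)
include C

/-- an element commuting with `y` stabilizes the partners of `y` -/
theorem conj_cpart_iff {y g : G} (hg : Commute g y) (x : G) :
    g * x * g⁻¹ ∈ cpart D y ↔ x ∈ cpart D y := by
  have e : g * y * g⁻¹ = y := by rw [hg.eq, mul_inv_cancel_right]
  constructor
  · intro h
    have h1 : g * x * g⁻¹ ∈ cpart D (g * y * g⁻¹) := by rw [e]; exact h
    have h2 := (mem_cpart_conj C.hc g y _).1 h1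
    have e2 : g⁻¹ * (g * x * g⁻¹) * g = x := by group
    rwa [e2] at h2
  · intro h
    have h1 : g * x * g⁻¹ ∈ cpart D (g * y * g⁻¹) := by
      apply (mem_cpart_conj C.hc g y _).2
      have e2 : g⁻¹ * (g * x * g⁻¹) * g = x := by group
      rw [e2]; exact h
    rwa [e] at h1

variable [Finite G]

/-- the number of partners is divisible by three -/
theorem three_dvd {y : G} (hy : y ∈ D) : 3 ∣ Nat.card (cpart D y) := by
  obtain ⟨d, hd⟩ := C.hne y hy
  obtain ⟨a, ha, had⟩ := C.two y hy d hd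
  have nda : ¬ Commute d a := C.pnc y hy d hd a ha had
  have hcube : (d * a) ^ 3 = 1 := tt_cube C.hT hd.1 ha.1 nda
  have hcom : Commute (d * a) y := (hd.2.2.symm).mul_left ha.2.2.symm
  apply three_dvd_card_of_fpf (cpart D y) (d * a) (C.conj_cpart_iff hcom) 1 (by simpa using hcube)
  intro x hx hfix
  have hxc : Commute x (d * a) := by
    show x * (d * a) = d * a * x
    calc x * (d * a) = (d * a * x * (d * a)⁻¹) * (d * a) := by rw [hfix]
      _ = d * a * x := by group
  obtain ⟨h1, h2⟩ := comm_of_comm_mul C.hT hx.1 hd.1 ha.1 nda hxc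
  have e1 : x = d := by
    by_contra hne
    exact C.pnc y hy d hd x hx hne h1.symm
  have e2 : x = a := by
    by_contra hne
    exact C.pnc y hy a ha x hx hne h2.symm
  exact had (e2.symm.trans e1)

/-- no non-trivial element of `3`-power order centralizes `d` and all its partners -/
theorem no_three_central {d z : G} (hd : d ∈ D) (k : ℕ) (hz : z ^ 3 ^ k = 1) (hzd : Commute z d)
    (hzp : ∀ y ∈ cpart D d, Commute z y) : z = 1 := by
  obtain ⟨y, hy⟩ := C.hne d hd
  have hdy : d ∈ cpart D y := ⟨hd, fun h => hy.2.1 h.symm, hy.2.2.symm⟩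
  have hfix : z * d * z⁻¹ = d := by rw [hzd.eq, mul_inv_cancel_right]
  obtain ⟨b, hb, hzb, hbd⟩ := exists_second_fixed (cpart D y) z (C.conj_cpart_iff (hzp y hy)) k hz
    (C.three_dvd hy.1) hdy hfix
  apply C.hmax d hd z hzd hzp
  refine ⟨b, hb.1, C.pnc y hy.1 d hdy b hb hbd, ?_⟩
  show z * b = b * z
  calc z * b = (z * b * z⁻¹) * z := by group
    _ = b * z := by rw [hzb]

end ThreeCtx

end Cfsg.Agent.Lib.Helper90
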