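import Mathlib
import Cfsg.Agent.Lib.Helper90.FisOddB

set_option autoImplicit false

/-!
Fischer's hypotheses, local odd core not central: phase two, part two.

With a `3`-group `Q ≤ C(d)` transitive on the partners of `d`: two non-commuting members of `D`
have exactly one common partner, and the number of partners is a power of three.
-/

namespace Cfsg.Agent.Lib.Helper90

open Cfsg

variable {G : Type*} [Group G] {D : Set G}

theorem eq_one_of_sq_of_pow_three {c : G} (k : ℕ) (h2 : c * c = 1) (h3 : c ^ 3 ^ k = 1) : c = 1 := by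
  have h2' : c ^ 2 = 1 := by rw [pow_two]; exact h2
  have hord : orderOf c ∣ Nat.gcd (3 ^ k) 2 :=
    Nat.dvd_gcd (orderOf_dvd_of_pow_eq_one h3) (orderOf_dvd_of_pow_eq_one h2')
  have hg : Nat.gcd (3 ^ k) 2 = 1 := by
    apply Nat.Coprime.pow_left; norm_num
  rw [hg, Nat.dvd_one, orderOf_eq_one_iff] at hord
  exact hord

theorem commute_of_commute_sq {x c : G} (k : ℕ) (h3 : c ^ 3 ^ k = 1) (h : Commute x (c * c)) :
    Commute x c := by
  have hodd : Odd (3 ^ k) := Odd.pow (by decide)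
  obtain ⟨m, hm⟩ := hodd
  have e : (c * c) ^ (m + 1) = c := by
    rw [← pow_two, ← pow_mul]
    have : 2 * (m + 1) = 3 ^ k + 1 := by omega
    rw [this, pow_succ, h3, one_mul]
  rw [← e]
  exact h.pow_right _

/-- a `3`-group attached to `d`, transitive on the partners of `d` -/
structure QData (D : Set G) (d : G) (Q : Subgroup G) : Prop where
  hd : d ∈ D
  p3 : IsPGroup 3 Q
  cent : ∀ q ∈ Q, Commute q d
  norm : ∀ y ∈ cpart D d, ∀ q ∈ Q, y * q * y⁻¹ ∈ Q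
  orbit : ∀ y ∈ cpart D d, ∀ z ∈ cpart D d, ∃ q ∈ Q, z = q * y * q⁻¹

namespace ThreeCtx

variable (C : ThreeCtx D)
include C

variable [Finite G]

omit C [Finite G] in
theorem pow_three_of_mem {d : G} {Q : Subgroup G} (hQ : QData D d Q) {c : G} (hc : c ∈ Q) :
    ∃ k : ℕ, c ^ 3 ^ k = 1 := by
  obtain ⟨k, hk⟩ := hQ.p3 ⟨c, hc⟩
  refine ⟨k, ?_⟩
  have := congrArg Subtype.val hk
  simpa using this

omit [Finite G] in
theorem orbit_mem {d : G} {Q : Subgroup G} (hQ : QData D d Q) {y q : G} (hy : y ∈ cpart D d)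
    (hq : q ∈ Q) : q * y * q⁻¹ ∈ cpart D d :=
  (C.conj_cpart_iff (hQ.cent q hq) y).2 hy

/-- a central element of `Q` inverted by a partner `y` -/
theorem exists_inverted {d : G} {Q : Subgroup G} (hQ : QData D d Q) {y : G}
    (hy : y ∈ cpart D d) :
    ∃ c ∈ Q, c ≠ 1 ∧ (∀ q ∈ Q, Commute q c) ∧ y * c * y⁻¹ = c⁻¹ := by
  have hd := hQ.hd
  by_cases h : ∀ c ∈ Q, (∀ q ∈ Q, Commute q c) → Commute y c
  · exfalso
    -- `Q` is non-trivial
    obtain ⟨y₂, hy₂, hne⟩ := C.two d hd y hy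
    obtain ⟨q₀, hq₀, e₀⟩ := hQ.orbit y hy y₂ hy₂
    have hq₀1 : q₀ ≠ 1 := by
      rintro rfl
      apply hne
      rw [e₀]; group
    have : Nontrivial ↥Q := ⟨⟨⟨q₀, hq₀⟩, 1, fun h => hq₀1 (congrArg Subtype.val h)⟩⟩
    have hcn : Nontrivial (Subgroup.center ↥Q) := hQ.p3.center_nontrivial
    obtain ⟨⟨c₁, hc₁⟩, hc₁ne⟩ := exists_ne (1 : Subgroup.center ↥Q)
    have hcentral : ∀ q ∈ Q, Commute q (c₁ : G) := by
      intro q hq
      have := Subgroup.mem_center_iff.1 hc₁ ⟨q, hq⟩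
      have := congrArg Subtype.val this
      exact this
    have hyc : Commute y (c₁ : G) := h _ c₁.2 hcentral
    obtain ⟨k, hk⟩ := pow_three_of_mem hQ c₁.2
    have h1 : (c₁ : G) = 1 := by
      apply C.no_three_central hd k hk (hQ.cent _ c₁.2)
      intro z hz
      obtain ⟨q, hq, rfl⟩ := hQ.orbit y hy z hz
      have c1 : Commute (c₁ : G) q := (hcentral q hq).symm
      exact (c1.mul_right hyc.symm).mul_right c1.inv_right
    apply hc₁ne
    apply Subtype.ext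
    apply Subtype.ext
    exact h1
  · push Not at h
    obtain ⟨c₀, hc₀, hcen, hyc₀⟩ := h
    have hyy := tt_sq C.hT hy.1
    have hyi := tt_inv C.hT hy.1
    have hn : y * c₀ * y⁻¹ ∈ Q := hQ.norm y hy c₀ hc₀
    have hcen' : ∀ q ∈ Q, Commute q (y * c₀ * y⁻¹) := by
      intro q hq
      have hq' : y * q * y⁻¹ ∈ Q := hQ.norm y hy q hq
      have h1 := hcen _ hq'
      -- conjugate by y
      have h2 : Commute (y * (y * q * y⁻¹) * y⁻¹) (y * c₀ * y⁻¹) := by
        show y * (y * q * y⁻¹) * y⁻¹ * (y * c₀ * y⁻¹) = y * c₀ * y⁻¹ * (y * (y * q * y⁻¹) * y⁻¹)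
        calc y * (y * q * y⁻¹) * y⁻¹ * (y * c₀ * y⁻¹) = y * ((y * q * y⁻¹) * c₀) * y⁻¹ := by group
          _ = y * (c₀ * (y * q * y⁻¹)) * y⁻¹ := by rw [h1.eq]
          _ = y * c₀ * y⁻¹ * (y * (y * q * y⁻¹) * y⁻¹) := by group
      have e : y * (y * q * y⁻¹) * y⁻¹ = q := by
        rw [hyi]
        calc y * (y * q * y) * y = (y * y) * q * (y * y) := by simp only [mul_assoc]
          _ = q := by rw [hyy, one_mul, mul_one]
      rwa [e] at h2
    refine ⟨c₀⁻¹ * (y * c₀ * y⁻¹), Q.mul_mem (Q.inv_mem hc₀) hn, ?_, ?_, ?_⟩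
    · intro h1
      apply hyc₀
      have : y * c₀ * y⁻¹ = c₀ := by
        have := congrArg (fun t => c₀ * t) h1
        simpa using this
      show y * c₀ = c₀ * y
      calc y * c₀ = (y * c₀ * y⁻¹) * y := by group
        _ = c₀ * y := by rw [this]
    · intro q hq
      exact (hcen q hq).inv_right.mul_right (hcen' q hq)
    · have e1 : y * (c₀⁻¹ * (y * c₀ * y⁻¹)) * y⁻¹ = y * c₀⁻¹ * y * c₀ * (y⁻¹ * y⁻¹) := by group
      have e2 : (c₀⁻¹ * (y * c₀ * y⁻¹))⁻¹ = y * c₀⁻¹ * y⁻¹ * c₀ := by group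
      rw [e1, e2, hyi, hyy, mul_one]

/-- two partners of `d` whose only common partner is `d` -/
theorem exists_pair_unique {d : G} {Q : Subgroup G} (hQ : QData D d Q) :
    ∃ y ∈ cpart D d, ∃ y' ∈ cpart D d, y' ≠ y ∧
      ∀ x ∈ D, Commute x y → Commute x y' → x = d := by
  have hd := hQ.hd
  obtain ⟨y, hy⟩ := C.hne d hd
  obtain ⟨c, hc, hc1, hcen, hyc⟩ := C.exists_inverted hQ hy
  obtain ⟨k, hk⟩ := pow_three_of_mem hQ hc
  have hyy := tt_sq C.hT hy.1
  have hyi := tt_inv C.hT hy.1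
  have hy' : c * y * c⁻¹ ∈ cpart D d := C.orbit_mem hQ hy hc
  have hcc : c * c ≠ 1 := fun h => hc1 (eq_one_of_sq_of_pow_three k h hk)
  -- `y c = c⁻¹ y`
  have hyc' : y * c = c⁻¹ * y := by
    calc y * c = (y * c * y⁻¹) * y := by group
      _ = c⁻¹ * y := by rw [hyc]
  -- `y' * y = c * c`
  have hprod : (c * y * c⁻¹) * y = c * c := by
    have : c⁻¹ * y = y * c := hyc'.symm
    calc c * y * c⁻¹ * y = c * (y * (c⁻¹ * y)) := by simp only [mul_assoc]
      _ = c * (y * (y * c)) := by rw [this]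
      _ = c * ((y * y) * c) := by simp only [mul_assoc]
      _ = c * c := by rw [hyy, one_mul]
  have hne : c * y * c⁻¹ ≠ y := by
    intro h
    apply hcc
    rw [← hprod, h, hyy]
  have nyy' : ¬ Commute (c * y * c⁻¹) y := fun h => C.pnc d hd _ hy' y hy (Ne.symm hne) h
  refine ⟨y, hy, c * y * c⁻¹, hy', hne, ?_⟩
  intro x hx hxy hxy'
  have hxcc : Commute x (c * c) := by
    rw [← hprod]; exact hxy'.mul_right hxy
  have hxc : Commute x c := commute_of_commute_sq k hk hxcc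
  by_contra hxd
  by_cases hdx : Commute d x
  · -- `x` is a partner of `d`
    have hxp : x ∈ cpart D d := ⟨hx, hxd, hdx⟩
    obtain ⟨q, hq, rfl⟩ := hQ.orbit y hy x hxp
    have hqc : Commute q c := hcen q hq
    have e : (q * y * q⁻¹) * c * (q * y * q⁻¹)⁻¹ = c⁻¹ := by
      calc (q * y * q⁻¹) * c * (q * y * q⁻¹)⁻¹ = q * (y * (q⁻¹ * c * q) * y⁻¹) * q⁻¹ := by group
        _ = q * (y * c * y⁻¹) * q⁻¹ := by
            have : q⁻¹ * c * q = c := by rw [mul_assoc, ← hqc.eq, inv_mul_cancel_left]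
            rw [this]
        _ = q * c⁻¹ * q⁻¹ := by rw [hyc]
        _ = c⁻¹ := by rw [hqc.inv_right.eq, mul_inv_cancel_right]
    have e' : (q * y * q⁻¹) * c * (q * y * q⁻¹)⁻¹ = c := by rw [hxc.eq, mul_inv_cancel_right]
    apply hcc
    have : c = c⁻¹ := e'.symm.trans e
    calc c * c = c * c⁻¹ := by rw [← this]
      _ = 1 := mul_inv_cancel c
  · -- `x` does not commute with `d`
    obtain ⟨z, hz, nzx⟩ := C.exists_nc d hd x hx hdx
    apply nzx
    obtain ⟨q, hq, rfl⟩ := hQ.orbit y hy z hz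
    have hqc : Commute q c := hcen q hq
    have hx' : q⁻¹ * x * q ∈ D := by
      have := C.hc q⁻¹ x hx
      rwa [inv_inv] at this
    have hx'c : Commute (q⁻¹ * x * q) (c * c) := by
      have c1 : Commute q (c * c) := hqc.mul_right hqc
      exact (c1.inv_left.mul_left hxcc).mul_left c1
    rw [← hprod] at hx'c
    obtain ⟨-, h2⟩ := comm_of_comm_mul C.hT hx' hy'.1 hy.1 nyy' hx'c
    -- conjugate back
    show q * y * q⁻¹ * x = x * (q * y * q⁻¹)
    have h2' : q⁻¹ * x * q * y = y * (q⁻¹ * x * q) := h2.eq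
    calc q * y * q⁻¹ * x = q * (y * (q⁻¹ * x * q)) * q⁻¹ := by group
      _ = q * (q⁻¹ * x * q * y) * q⁻¹ := by rw [h2']
      _ = x * (q * y * q⁻¹) := by group

/-- **`μ = 1`**: two non-commuting members of `D` have at most one common partner -/
theorem common_unique {d : G} {Q : Subgroup G} (hQ : QData D d Q) {e a y₁ y₂ : G} (he : e ∈ D)
    (ha : a ∈ D) (nea : ¬ Commute e a) (h1 : y₁ ∈ cpart D e) (h2 : y₂ ∈ cpart D e)
    (c1 : Commute a y₁) (c2 : Commute a y₂) : y₁ = y₂ := by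
  by_contra hne
  obtain ⟨y, hy, y', hy', hne', huniq⟩ := C.exists_pair_unique hQ
  have hd := hQ.hd
  have n12 : ¬ Commute y₁ y₂ := C.pnc e he y₁ h1 y₂ h2 (Ne.symm hne)
  have nyy' : ¬ Commute y y' := C.pnc d hd y hy y' hy' hne'
  obtain ⟨g₀, hg₀⟩ := C.hconj y hy.1 y₁ h1.1
  have hy'' : g₀ * y' * g₀⁻¹ ∈ D := C.hc g₀ y' hy'.1
  have n1 : ¬ Commute y₁ (g₀ * y' * g₀⁻¹) := by
    intro h
    apply nyy'
    rw [← hg₀] at h
    have h' : g₀ * y * g₀⁻¹ * (g₀ * y' * g₀⁻¹) = g₀ * y' * g₀⁻¹ * (g₀ * y * g₀⁻¹) := h.eq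
    show y * y' = y' * y
    calc y * y' = g₀⁻¹ * (g₀ * y * g₀⁻¹ * (g₀ * y' * g₀⁻¹)) * g₀ := by group
      _ = g₀⁻¹ * (g₀ * y' * g₀⁻¹ * (g₀ * y * g₀⁻¹)) * g₀ := by rw [h']
      _ = y' * y := by group
  obtain ⟨g₁, hg₁, hg₁'⟩ := C.hT1 y₁ h1.1 _ hy'' y₂ h2.1 n1 n12
  -- `g = g₁ g₀` maps `(y, y')` to `(y₁, y₂)`
  have e1 : (g₁ * g₀) * y * (g₁ * g₀)⁻¹ = y₁ := by
    calc (g₁ * g₀) * y * (g₁ * g₀)⁻¹ = g₁ * (g₀ * y * g₀⁻¹) * g₁⁻¹ := by group
      _ = g₁ * y₁ * g₁⁻¹ := by rw [hg₀]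
      _ = y₁ := by rw [hg₁.eq, mul_inv_cancel_right]
  have e2 : (g₁ * g₀) * y' * (g₁ * g₀)⁻¹ = y₂ := by
    calc (g₁ * g₀) * y' * (g₁ * g₀)⁻¹ = g₁ * (g₀ * y' * g₀⁻¹) * g₁⁻¹ := by group
      _ = y₂ := hg₁'
  set g := g₁ * g₀ with hg
  -- pull back a member commuting with `y₁, y₂`
  have pull : ∀ x ∈ D, Commute x y₁ → Commute x y₂ → g⁻¹ * x * g = d := by
    intro x hx hx1 hx2
    have hx' : g⁻¹ * x * g ∈ D := by
      have := C.hc g⁻¹ x hx
      rwa [inv_inv] at this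
    apply huniq _ hx'
    · rw [← e1] at hx1
      have h' : x * (g * y * g⁻¹) = g * y * g⁻¹ * x := hx1.eq
      show g⁻¹ * x * g * y = y * (g⁻¹ * x * g)
      calc g⁻¹ * x * g * y = g⁻¹ * (x * (g * y * g⁻¹)) * g := by group
        _ = g⁻¹ * (g * y * g⁻¹ * x) * g := by rw [h']
        _ = y * (g⁻¹ * x * g) := by group
    · rw [← e2] at hx2
      have h' : x * (g * y' * g⁻¹) = g * y' * g⁻¹ * x := hx2.eq
      show g⁻¹ * x * g * y' = y' * (g⁻¹ * x * g)
      calc g⁻¹ * x * g * y' = g⁻¹ * (x * (g * y' * g⁻¹)) * g := by group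
        _ = g⁻¹ * (g * y' * g⁻¹ * x) * g := by rw [h']
        _ = y' * (g⁻¹ * x * g) := by group
  have p1 := pull e he h1.2.2 h2.2.2
  have p2 := pull a ha c1 c2
  have : e = a := by
    have := p1.trans p2.symm
    calc e = g * (g⁻¹ * e * g) * g⁻¹ := by group
      _ = g * (g⁻¹ * a * g) * g⁻¹ := by rw [this]
      _ = a := by group
  rw [this] at nea
  exact nea (Commute.refl a)

/-- the number of partners of `d` is a power of three -/
theorem card_partners {d : G} {Q : Subgroup G} (hQ : QData D d Q) :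
    ∃ m : ℕ, Nat.card (cpart D d) = 3 ^ m := by
  obtain ⟨y, hy⟩ := C.hne d hQ.hd
  let _ : MulAction ↥Q G := MulAction.compHom G ((MulAut.conj : G →* MulAut G).comp Q.subtype)
  have hsmul : ∀ (q : ↥Q) (x : G), q • x = (q : G) * x * (q : G)⁻¹ := fun q x => rfl
  have horb : MulAction.orbit ↥Q y = cpart D d := by
    ext z
    constructor
    · rintro ⟨q, rfl⟩
      show q • y ∈ cpart D d
      rw [hsmul]
      exact C.orbit_mem hQ hy q.2
    · intro hz
      obtain ⟨q, hq, rfl⟩ := hQ.orbit y hy z hz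
      exact ⟨⟨q, hq⟩, rfl⟩
  obtain ⟨m, hm⟩ := hQ.p3.card_orbit (α := G) y
  refine ⟨m, ?_⟩
  rw [← horb]
  exact hm

end ThreeCtx

end Cfsg.Agent.Lib.Helper90
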