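import Mathlib
import Cfsg.Agent.Lib.Helper90.WClass

set_option autoImplicit false

/-!
3-transposition sets in which the commuting partners of every member generate `S₃`:
the set of partners is a triangle `{a, b, a b a}` of pairwise non-commuting members.
-/

namespace Cfsg.Agent.Lib.Helper90

open Cfsg

theorem perm3_invol_nc : ∀ σ τ : Equiv.Perm (Fin 3), σ * σ = 1 → τ * τ = 1 → σ ≠ 1 → τ ≠ 1 →
    σ ≠ τ → σ * τ ≠ τ * σ := by decide

set_option synthInstance.maxHeartbeats 400000 in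
set_option synthInstance.maxSize 4096 in
theorem perm3_invol_four' : ∀ σ τ ρ υ : Equiv.Perm (Fin 3),
    ((σ * σ = 1 ∧ τ * τ = 1 ∧ ρ * ρ = 1 ∧ υ * υ = 1) ∧ (σ ≠ 1 ∧ τ ≠ 1 ∧ ρ ≠ 1 ∧ υ ≠ 1) ∧
      (σ ≠ τ ∧ σ ≠ ρ ∧ τ ≠ ρ)) → υ = σ ∨ υ = τ ∨ υ = ρ := by decide

theorem perm3_invol_four (σ τ ρ υ : Equiv.Perm (Fin 3)) (h1 : σ * σ = 1) (h2 : τ * τ = 1)
    (h3 : ρ * ρ = 1) (h4 : υ * υ = 1) (h5 : σ ≠ 1) (h6 : τ ≠ 1) (h7 : ρ ≠ 1) (h8 : υ ≠ 1)
    (h9 : σ ≠ τ) (h10 : σ ≠ ρ) (h11 : τ ≠ ρ) : υ = σ ∨ υ = τ ∨ υ = ρ :=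
  perm3_invol_four' σ τ ρ υ ⟨⟨h1, h2, h3, h4⟩, ⟨h5, h6, h7, h8⟩, ⟨h9, h10, h11⟩⟩

theorem perm3_center : ∀ k : Equiv.Perm (Fin 3), (∀ σ : Equiv.Perm (Fin 3), σ * k = k * σ) →
    k = 1 := by decide

theorem perm3_noncomm : ∃ σ τ : Equiv.Perm (Fin 3), σ * τ ≠ τ * σ := by decide

section
variable {G : Type*} [Group G] {D : Set G}

/-- local `S₃` hypothesis at `d` -/
def LocS3 (D : Set G) (d : G) : Prop :=
  Nonempty (↥(Subgroup.closure (cpart D d)) ≃* Equiv.Perm (Fin 3))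

namespace LocS3

variable {d : G}

/-- the image of a partner under the isomorphism is a non-trivial involution -/
theorem img_invol (hT : IsThreeTranspositionSet D)
    (e : ↥(Subgroup.closure (cpart D d)) ≃* Equiv.Perm (Fin 3)) {y : G} (hy : y ∈ cpart D d) :
    e ⟨y, Subgroup.subset_closure hy⟩ * e ⟨y, Subgroup.subset_closure hy⟩ = 1 ∧
      e ⟨y, Subgroup.subset_closure hy⟩ ≠ 1 := by
  constructor
  · rw [← map_mul]
    have : (⟨y, Subgroup.subset_closure hy⟩ : ↥(Subgroup.closure (cpart D d))) *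
        ⟨y, Subgroup.subset_closure hy⟩ = 1 := by
      apply Subtype.ext
      exact tt_sq hT hy.1
    rw [this, map_one]
  · intro h
    have h1 : (⟨y, Subgroup.subset_closure hy⟩ : ↥(Subgroup.closure (cpart D d))) = 1 := by
      apply e.injective
      rw [h, map_one]
    have h2 : y = 1 := congrArg Subtype.val h1
    exact tt_ne_one hT hy.1 h2

theorem nc (hT : IsThreeTranspositionSet D) (h : LocS3 D d) {a b : G} (ha : a ∈ cpart D d)
    (hb : b ∈ cpart D d) (hab : a ≠ b) : ¬ Commute a b := by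
  obtain ⟨e⟩ := h
  intro hcom
  obtain ⟨ha2, ha1⟩ := img_invol hT e ha
  obtain ⟨hb2, hb1⟩ := img_invol hT e hb
  have hne : e ⟨a, Subgroup.subset_closure ha⟩ ≠ e ⟨b, Subgroup.subset_closure hb⟩ := by
    intro h
    have := e.injective h
    exact hab (congrArg Subtype.val this)
  apply perm3_invol_nc _ _ ha2 hb2 ha1 hb1 hne
  rw [← map_mul, ← map_mul]
  congr 1
  apply Subtype.ext
  exact hcom.eq

theorem four (hT : IsThreeTranspositionSet D) (h : LocS3 D d) {a b c y : G} (ha : a ∈ cpart D d)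
    (hb : b ∈ cpart D d) (hc : c ∈ cpart D d) (hy : y ∈ cpart D d) (hab : a ≠ b) (hac : a ≠ c)
    (hbc : b ≠ c) : y = a ∨ y = b ∨ y = c := by
  obtain ⟨e⟩ := h
  obtain ⟨ha2, ha1⟩ := img_invol hT e ha
  obtain ⟨hb2, hb1⟩ := img_invol hT e hb
  obtain ⟨hc2, hc1⟩ := img_invol hT e hc
  obtain ⟨hy2, hy1⟩ := img_invol hT e hy
  have hne : ∀ {p q : G} (hp : p ∈ cpart D d) (hq : q ∈ cpart D d), p ≠ q →
      e ⟨p, Subgroup.subset_closure hp⟩ ≠ e ⟨q, Subgroup.subset_closure hq⟩ := by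
    intro p q hp hq hpq h
    have := e.injective h
    exact hpq (congrArg Subtype.val this)
  have heq : ∀ {p q : G} (hp : p ∈ cpart D d) (hq : q ∈ cpart D d),
      e ⟨p, Subgroup.subset_closure hp⟩ = e ⟨q, Subgroup.subset_closure hq⟩ → p = q := by
    intro p q hp hq h
    have := e.injective h
    exact congrArg Subtype.val this
  rcases perm3_invol_four _ _ _ _ ha2 hb2 hc2 hy2 ha1 hb1 hc1 hy1 (hne ha hb hab) (hne ha hc hac)
    (hne hb hc hbc) with h | h | h
  · exact Or.inl (heq hy ha h)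
  · exact Or.inr (Or.inl (heq hy hb h))
  · exact Or.inr (Or.inr (heq hy hc h))

theorem exists_pair (h : LocS3 D d) : ∃ a ∈ cpart D d, ∃ b ∈ cpart D d, a ≠ b := by
  obtain ⟨e⟩ := h
  by_contra hcon
  push Not at hcon
  have hcomm : ∀ x ∈ cpart D d, ∀ y ∈ cpart D d, x * y = y * x := by
    intro x hx y hy
    rw [hcon x hx y hy]
  have hK := Subgroup.isMulCommutative_closure hcomm
  obtain ⟨σ, τ, hστ⟩ := perm3_noncomm
  apply hστ
  have h1 : e.symm σ * e.symm τ = e.symm τ * e.symm σ := hK.is_comm.comm _ _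
  have := congrArg e h1
  simpa using this

theorem third (hT : IsThreeTranspositionSet D) (hc : ∀ g : G, ∀ d ∈ D, g * d * g⁻¹ ∈ D)
    (h : LocS3 D d) {a b : G} (ha : a ∈ cpart D d)
    (hb : b ∈ cpart D d) (hab : a ≠ b) :
    a * b * a ∈ cpart D d ∧ a * b * a ≠ a ∧ a * b * a ≠ b := by
  have hnc := nc hT h ha hb hab
  have haa := tt_sq hT ha.1
  refine ⟨⟨?_, ?_, ?_⟩, ?_, ?_⟩
  · have := hc a b hb.1
    rwa [tt_inv hT ha.1] at this
  · intro h1
    -- a * b * a = d, so b = a * d * a = d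
    apply hb.2.1
    have h2 : b = a * (a * b * a) * a := by
      calc b = (a * a) * b * (a * a) := by rw [haa, one_mul, mul_one]
        _ = a * (a * b * a) * a := by simp only [mul_assoc]
    rw [h2, h1, ← ha.2.2.eq, mul_assoc, haa, mul_one]
  · exact (ha.2.2.mul_right hb.2.2).mul_right ha.2.2
  · intro h1
    -- a * b * a = a → a * b = 1 ...
    apply hab
    have h2 : a * b = 1 := by
      have : a * b * a * a = a * a := by rw [h1]
      rw [mul_assoc, haa, mul_one] at this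
      exact this
    have h3 := eq_inv_of_mul_eq_one_left h2
    rw [tt_inv hT hb.1] at h3
    exact h3
  · intro h1
    apply hnc
    show a * b = b * a
    calc a * b = a * b * (a * a) := by rw [haa, mul_one]
      _ = (a * b * a) * a := by simp only [mul_assoc]
      _ = b * a := by rw [h1]

theorem eq_triple (hT : IsThreeTranspositionSet D) (hc : ∀ g : G, ∀ d ∈ D, g * d * g⁻¹ ∈ D)
    (h : LocS3 D d) {a b : G} (ha : a ∈ cpart D d)
    (hb : b ∈ cpart D d) (hab : a ≠ b) : cpart D d = {a, b, a * b * a} := by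
  obtain ⟨h3, h3a, h3b⟩ := third hT hc h ha hb hab
  ext y
  simp only [Set.mem_insert_iff, Set.mem_singleton_iff]
  constructor
  · intro hy
    exact four hT h ha hb h3 hy hab (Ne.symm h3a) (Ne.symm h3b)
  · rintro (rfl | rfl | rfl)
    · exact ha
    · exact hb
    · exact h3

end LocS3

end

end Cfsg.Agent.Lib.Helper90
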