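import Mathlib
import Cfsg.Agent.Lib.Helper90.LocS3A

set_option autoImplicit false

/-!
The "type 0" lemma: if `x ∈ D` commutes with neither `d` nor any commuting partner of `d`, then all
partners of `d` have the same partners.
-/

namespace Cfsg.Agent.Lib.Helper90

open Cfsg

section words
variable {G : Type*} [Group G]

/-- `d α x α d` commutes with `x` -/
theorem w_comm {d α x : G} (hdα : d * α = α * d) (hxd : x * d * x = d * x * d)
    (hxα : x * α * x = α * x * α) :
    x * (d * α * x * α * d) = (d * α * x * α * d) * x := by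
  calc x * (d * α * x * α * d)
      = x * d * (α * x * α) * d := by simp only [mul_assoc]
    _ = x * d * (x * α * x) * d := by rw [hxα]
    _ = (x * d * x) * α * x * d := by simp only [mul_assoc]
    _ = (d * x * d) * α * x * d := by rw [hxd]
    _ = d * x * (d * α) * x * d := by simp only [mul_assoc]
    _ = d * x * (α * d) * x * d := by rw [hdα]
    _ = d * x * α * (d * x * d) := by simp only [mul_assoc]
    _ = d * x * α * (x * d * x) := by rw [hxd]
    _ = d * (x * α * x) * d * x := by simp only [mul_assoc]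
    _ = d * (α * x * α) * d * x := by rw [hxα]
    _ = (d * α * x * α * d) * x := by simp only [mul_assoc]

/-- an involution braided with `a` and `b` and commuting with `a b` forces `a = b` -/
theorem w_eq_of_comm_mul {a b x : G} (ha : a * a = 1) (hb : b * b = 1)
    (hxa : x * a * x = a * x * a) (hxb : x * b * x = b * x * b)
    (hcom : x * (a * b) = (a * b) * x) : a = b := by
  have h1 : a * x * a = b * x * b := by
    calc a * x * a = a * x * a * (b * b) := by rw [hb, mul_one]
      _ = a * (x * (a * b)) * b := by simp only [mul_assoc]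
      _ = a * ((a * b) * x) * b := by rw [hcom]
      _ = (a * a) * b * x * b := by simp only [mul_assoc]
      _ = b * x * b := by rw [ha, one_mul]
  have h2 : x * a * x = x * b * x := by rw [hxa, hxb, h1]
  exact mul_left_cancel (mul_right_cancel h2)

end words

section
variable {G : Type*} [Group G] {D : Set G}

/-- the standing hypotheses -/
structure LocCtx (D : Set G) : Prop where
  hT : IsThreeTranspositionSet D
  hc : ∀ g : G, ∀ d ∈ D, g * d * g⁻¹ ∈ D
  hL : ∀ d ∈ D, LocS3 D d

theorem cpart_symm {x y : G} (hx : x ∈ D) (hy : y ∈ cpart D x) : x ∈ cpart D y :=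
  ⟨hx, fun h => hy.2.1 h.symm, hy.2.2.symm⟩

namespace LocCtx

variable (C : LocCtx D)
include C

theorem cpart_eq_of_two {p q e₁ e₂ : G} (hp : p ∈ D) (hq : q ∈ D) (h1 : e₁ ∈ cpart D p)
    (h2 : e₂ ∈ cpart D p) (h1' : e₁ ∈ cpart D q) (h2' : e₂ ∈ cpart D q) (hne : e₁ ≠ e₂) :
    cpart D p = cpart D q := by
  rw [LocS3.eq_triple C.hT C.hc (C.hL p hp) h1 h2 hne,
    LocS3.eq_triple C.hT C.hc (C.hL q hq) h1' h2' hne]

/-- the conjugate of `x` by `d α` -/
def yy (d α x : G) : G := (d * α) * x * (d * α)⁻¹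

omit C in
theorem yy_eq (hT : IsThreeTranspositionSet D) {d α x : G} (hd : d ∈ D) (hα : α ∈ D) :
    yy d α x = d * α * x * α * d := by
  unfold yy
  rw [mul_inv_rev, tt_inv hT hd, tt_inv hT hα]
  simp only [mul_assoc]

omit C in
theorem conj_yy (g d α x : G) : g * yy d α x * g⁻¹ = (g * (d * α)) * x * (g * (d * α))⁻¹ := by
  unfold yy; group

theorem yy_mem {d x α : G} (hd : d ∈ D) (hx : x ∈ D) (hxd : ¬ Commute x d)
    (hα : α ∈ cpart D d) (hxα : ¬ Commute x α) : yy d α x ∈ cpart D x := by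
  have hT := C.hT
  have bd := tt_braid hT hd hx (fun h => hxd h.symm)  -- x * d * x = d * x * d
  have bα := tt_braid hT hα.1 hx (fun h => hxα h.symm)
  refine ⟨C.hc _ x hx, ?_, ?_⟩
  · intro h
    -- x commutes with d * α
    have hcom : x * (d * α) = (d * α) * x := by
      have := congrArg (· * (d * α)) h
      simp only [yy] at this
      rw [inv_mul_cancel_right] at this
      exact this.symm
    exact hα.2.1 (w_eq_of_comm_mul (tt_sq hT hd) (tt_sq hT hα.1) bd bα hcom).symm
  · show x * yy d α x = yy d α x * x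
    rw [yy_eq hT hd hα.1]
    exact w_comm hα.2.2.eq bd bα

theorem yy_inj {d x a b : G} (hx : x ∈ D) (ha : a ∈ D) (hb : b ∈ D)
    (hxa : ¬ Commute x a) (hxb : ¬ Commute x b) (h : yy d a x = yy d b x) : a = b := by
  have hT := C.hT
  have ba := tt_braid hT ha hx (fun h => hxa h.symm)
  have bb := tt_braid hT hb hx (fun h => hxb h.symm)
  have hcom : x * (a⁻¹ * b) = (a⁻¹ * b) * x := by
    unfold yy at h
    calc x * (a⁻¹ * b) = (d * a)⁻¹ * ((d * a) * x * (d * a)⁻¹) * (d * b) := by group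
      _ = (d * a)⁻¹ * ((d * b) * x * (d * b)⁻¹) * (d * b) := by rw [h]
      _ = (a⁻¹ * b) * x := by group
  rw [tt_inv hT ha] at hcom
  exact w_eq_of_comm_mul (tt_sq hT ha) (tt_sq hT hb) ba bb hcom

omit C in
theorem yy_d_nc {d x α : G} (hxd : ¬ Commute x d) (hα : α ∈ cpart D d) :
    ¬ Commute d (yy d α x) := by
  intro h
  apply hxd
  have hp : Commute d (d * α) := (Commute.refl d).mul_right hα.2.2
  have e1 : (d * α) * d * (d * α)⁻¹ = d := by
    rw [← hp.eq]; group
  have h2 : Commute ((d * α) * d * (d * α)⁻¹) ((d * α) * x * (d * α)⁻¹) := by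
    rw [e1]; exact h
  exact ((Commute.conj_iff (d * α)).mp h2).symm

/-- every partner of `x` is some `yy d α x` -/
theorem type0_cover {d x : G} (hd : d ∈ D) (hx : x ∈ D) (hxd : ¬ Commute x d)
    (h0 : ∀ α ∈ cpart D d, ¬ Commute x α) {p : G} (hp : p ∈ cpart D x) :
    ∃ α ∈ cpart D d, p = yy d α x := by
  obtain ⟨a, ha, b, hb, hab⟩ := LocS3.exists_pair (C.hL d hd)
  obtain ⟨hc3, hca, hcb⟩ := LocS3.third C.hT C.hc (C.hL d hd) ha hb hab
  have ya := C.yy_mem hd hx hxd ha (h0 a ha)
  have yb := C.yy_mem hd hx hxd hb (h0 b hb)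
  have yc := C.yy_mem hd hx hxd hc3 (h0 _ hc3)
  have nab : yy d a x ≠ yy d b x := fun h => hab (C.yy_inj hx ha.1 hb.1 (h0 a ha) (h0 b hb) h)
  have nac : yy d a x ≠ yy d (a * b * a) x := fun h =>
    hca (C.yy_inj hx ha.1 hc3.1 (h0 a ha) (h0 _ hc3) h).symm
  have nbc : yy d b x ≠ yy d (a * b * a) x := fun h =>
    hcb (C.yy_inj hx hb.1 hc3.1 (h0 b hb) (h0 _ hc3) h).symm
  rcases LocS3.four C.hT (C.hL x hx) ya yb yc hp nab nac nbc with h | h | h
  · exact ⟨a, ha, h⟩
  · exact ⟨b, hb, h⟩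
  · exact ⟨_, hc3, h⟩

theorem type0_sim_pair {d x a b : G} (hd : d ∈ D) (hx : x ∈ D) (hxd : ¬ Commute x d)
    (h0 : ∀ α ∈ cpart D d, ¬ Commute x α) (ha : a ∈ cpart D d) (hb : b ∈ cpart D d)
    (hab : a ≠ b) : Sim D (yy d a x) (yy d b x) := by
  have hT := C.hT
  obtain ⟨hc3, hca, hcb⟩ := LocS3.third C.hT C.hc (C.hL d hd) ha hb hab
  have ya := C.yy_mem hd hx hxd ha (h0 a ha)
  have yb := C.yy_mem hd hx hxd hb (h0 b hb)
  have yc := C.yy_mem hd hx hxd hc3 (h0 _ hc3)
  have haa := tt_sq hT ha.1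
  have hbb := tt_sq hT hb.1
  have hdd := tt_sq hT hd
  have hbr := tt_braid hT ha.1 hb.1 (LocS3.nc hT (C.hL d hd) ha hb hab)  -- b * a * b = a * b * a
  -- identities
  have e2 : (a * b) * (d * b) = d * a := by
    calc (a * b) * (d * b) = a * (b * d) * b := by simp only [mul_assoc]
      _ = a * (d * b) * b := by rw [hb.2.2.eq]
      _ = (a * d) * (b * b) := by simp only [mul_assoc]
      _ = d * a := by rw [hbb, mul_one, ha.2.2.eq]
  have e3 : (a * b) * (d * (a * b * a)) = d * b := by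
    calc (a * b) * (d * (a * b * a)) = a * (b * d) * (a * b * a) := by simp only [mul_assoc]
      _ = a * (d * b) * (a * b * a) := by rw [hb.2.2.eq]
      _ = (a * d) * (b * (a * b * a)) := by simp only [mul_assoc]
      _ = (d * a) * (b * (b * a * b)) := by rw [ha.2.2.eq, hbr]
      _ = d * a * ((b * b) * a * b) := by simp only [mul_assoc]
      _ = d * ((a * a) * b) := by rw [hbb, one_mul]; simp only [mul_assoc]
      _ = d * b := by rw [haa, one_mul]
  have c2 : (a * b) * yy d b x * (a * b)⁻¹ = yy d a x := by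
    rw [conj_yy, e2]; rfl
  have c3 : (a * b) * yy d (a * b * a) x * (a * b)⁻¹ = yy d b x := by
    rw [conj_yy, e3]; rfl
  -- conjugating memberships
  have m2 : yy d a x ∈ cpart D ((a * b) * x * (a * b)⁻¹) := by
    rw [mem_cpart_conj C.hc, ← c2]
    have : (a * b)⁻¹ * ((a * b) * yy d b x * (a * b)⁻¹) * (a * b) = yy d b x := by group
    rw [this]; exact yb
  have m3 : yy d b x ∈ cpart D ((a * b) * x * (a * b)⁻¹) := by
    rw [mem_cpart_conj C.hc, ← c3]
    have : (a * b)⁻¹ * ((a * b) * yy d (a * b * a) x * (a * b)⁻¹) * (a * b) =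
        yy d (a * b * a) x := by group
    rw [this]; exact yc
  have hux : (a * b) * x * (a * b)⁻¹ ∈ D := C.hc _ x hx
  have hne : x ≠ (a * b) * x * (a * b)⁻¹ := by
    intro h
    apply hab
    have ba := tt_braid hT ha.1 hx (fun h => h0 a ha h.symm)
    have bb := tt_braid hT hb.1 hx (fun h => h0 b hb h.symm)
    have hcom : x * (a * b) = (a * b) * x := by
      have := congrArg (· * (a * b)) h
      rw [inv_mul_cancel_right] at this
      exact this
    exact w_eq_of_comm_mul haa hbb ba bb hcom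
  exact C.cpart_eq_of_two ya.1 yb.1 (cpart_symm hx ya) (cpart_symm hux m2) (cpart_symm hx yb)
    (cpart_symm hux m3) hne

theorem type0_sim {d x : G} (hd : d ∈ D) (hx : x ∈ D) (hxd : ¬ Commute x d)
    (h0 : ∀ α ∈ cpart D d, ¬ Commute x α) {p q : G} (hp : p ∈ cpart D x) (hq : q ∈ cpart D x) :
    Sim D p q := by
  obtain ⟨a, ha, rfl⟩ := C.type0_cover hd hx hxd h0 hp
  obtain ⟨b, hb, rfl⟩ := C.type0_cover hd hx hxd h0 hq
  by_cases hab : a = b
  · rw [hab]; exact Sim.rfl' _
  · exact C.type0_sim_pair hd hx hxd h0 ha hb hab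

/-- **type 0 lemma** -/
theorem type0_split {d x : G} (hd : d ∈ D) (hx : x ∈ D) (hxd : ¬ Commute x d)
    (h0 : ∀ α ∈ cpart D d, ¬ Commute x α) {p q : G} (hp : p ∈ cpart D d) (hq : q ∈ cpart D d) :
    Sim D p q := by
  apply C.type0_sim hx hd (fun h => hxd h.symm) ?_ hp hq
  intro β hβ
  obtain ⟨α, hα, rfl⟩ := C.type0_cover hd hx hxd h0 hβ
  exact yy_d_nc hxd hα

end LocCtx

end

end Cfsg.Agent.Lib.Helper90
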