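import Mathlib
import Cfsg.Agent.S2530

set_option autoImplicit false

/-!
Recognition of `S₅`: four involutions satisfying the Coxeter relations of type `A₄`, the first two
different, generate a group isomorphic to the symmetric group of degree 5.
-/

namespace Cfsg.Agent.Lib.Helper90

open Equiv

set_option maxRecDepth 100000 in
theorem perm5_central_trivial : ∀ k : Perm (Fin 5), k * swap 0 1 = swap 0 1 * k →
    k * swap 1 2 = swap 1 2 * k → k * swap 2 3 = swap 2 3 * k → k * swap 3 4 = swap 3 4 * k →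
    k = 1 := by
  decide

section
variable {G : Type*} [Group G]

theorem pow_three_of_braid {a b : G} (ha : a * a = 1) (hb : b * b = 1)
    (h : a * b * a = b * a * b) : (a * b) ^ 3 = 1 := by
  rw [pow_three]
  calc a * b * (a * b * (a * b)) = (a * b * a) * (b * a * b) := by simp only [mul_assoc]
    _ = (b * a * b) * (b * a * b) := by rw [h]
    _ = b * a * (b * b) * a * b := by simp only [mul_assoc]
    _ = b * (a * a) * b := by rw [hb, mul_one]; simp only [mul_assoc]
    _ = 1 := by rw [ha, mul_one, hb]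

theorem pow_two_of_comm {a b : G} (ha : a * a = 1) (hb : b * b = 1)
    (h : a * b = b * a) : (a * b) ^ 2 = 1 := by
  rw [pow_two]
  calc a * b * (a * b) = a * (b * a) * b := by simp only [mul_assoc]
    _ = a * (a * b) * b := by rw [h]
    _ = (a * a) * (b * b) := by simp only [mul_assoc]
    _ = 1 := by rw [ha, hb, one_mul]

/-- **Recognition of `S₅`** from the Coxeter relations of type `A₄`. -/
theorem s5_recognition {s₁ s₂ s₃ s₄ : G}
    (h1 : s₁ * s₁ = 1) (h2 : s₂ * s₂ = 1) (h3 : s₃ * s₃ = 1) (h4 : s₄ * s₄ = 1)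
    (b12 : s₁ * s₂ * s₁ = s₂ * s₁ * s₂) (b23 : s₂ * s₃ * s₂ = s₃ * s₂ * s₃)
    (b34 : s₃ * s₄ * s₃ = s₄ * s₃ * s₄)
    (c13 : s₁ * s₃ = s₃ * s₁) (c14 : s₁ * s₄ = s₄ * s₁) (c24 : s₂ * s₄ = s₄ * s₂)
    (hne : s₁ ≠ s₂) :
    Nonempty (↥(Subgroup.closure ({s₁, s₂, s₃, s₄} : Set G)) ≃* Perm (Fin 5)) := by
  obtain ⟨cs, hcs⟩ := Cfsg.Agent.S2530.result 4
  set f : Fin 4 → G := ![s₁, s₂, s₃, s₄] with hf
  have hlift : (CoxeterMatrix.A 4).IsLiftable f := by
    intro i j
    fin_cases i <;> fin_cases j
    · simpa [CoxeterMatrix.A, f] using h1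
    · simpa [CoxeterMatrix.A, f] using pow_three_of_braid h1 h2 b12
    · simpa [CoxeterMatrix.A, f] using pow_two_of_comm h1 h3 c13
    · simpa [CoxeterMatrix.A, f] using pow_two_of_comm h1 h4 c14
    · simpa [CoxeterMatrix.A, f] using pow_three_of_braid h2 h1 b12.symm
    · simpa [CoxeterMatrix.A, f] using h2
    · simpa [CoxeterMatrix.A, f] using pow_three_of_braid h2 h3 b23
    · simpa [CoxeterMatrix.A, f] using pow_two_of_comm h2 h4 c24
    · simpa [CoxeterMatrix.A, f] using pow_two_of_comm h3 h1 c13.symm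
    · simpa [CoxeterMatrix.A, f] using pow_three_of_braid h3 h2 b23.symm
    · simpa [CoxeterMatrix.A, f] using h3
    · simpa [CoxeterMatrix.A, f] using pow_three_of_braid h3 h4 b34
    · simpa [CoxeterMatrix.A, f] using pow_two_of_comm h4 h1 c14.symm
    · simpa [CoxeterMatrix.A, f] using pow_two_of_comm h4 h2 c24.symm
    · simpa [CoxeterMatrix.A, f] using pow_three_of_braid h4 h3 b34.symm
    · simpa [CoxeterMatrix.A, f] using h4
  set φ : Perm (Fin 5) →* G := cs.lift ⟨f, hlift⟩ with hφ
  have hφs : ∀ i : Fin 4, φ (cs.simple i) = f i := fun i => cs.lift_apply_simple hlift i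
  have e01 : φ (swap 0 1) = s₁ := by
    have := hφs 0
    rw [hcs 0] at this
    exact this
  have e12 : φ (swap 1 2) = s₂ := by
    have := hφs 1
    rw [hcs 1] at this
    exact this
  -- the range
  have hrange : φ.range = Subgroup.closure ({s₁, s₂, s₃, s₄} : Set G) := by
    rw [MonoidHom.range_eq_map, ← cs.subgroup_closure_range_simple, MonoidHom.map_closure]
    congr 1
    ext g
    simp only [Set.mem_image, Set.mem_range, exists_exists_eq_and, Set.mem_insert_iff,
      Set.mem_singleton_iff]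
    constructor
    · rintro ⟨i, rfl⟩
      rw [hφs i]
      fin_cases i <;> simp [f]
    · rintro (rfl | rfl | rfl | rfl)
      · exact ⟨0, by rw [hφs]; rfl⟩
      · exact ⟨1, by rw [hφs]; rfl⟩
      · exact ⟨2, by rw [hφs]; rfl⟩
      · exact ⟨3, by rw [hφs]; rfl⟩
  -- injectivity
  have hker : φ.ker = ⊥ := by
    have hsimple : IsSimpleGroup (alternatingGroup (Fin 5)) :=
      alternatingGroup.isSimpleGroup (by simp)
    have hN : (φ.ker.subgroupOf (alternatingGroup (Fin 5))).Normal := inferInstance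
    rcases hN.eq_bot_or_eq_top with hb | ht
    · rw [Subgroup.subgroupOf_eq_bot] at hb
      rw [eq_bot_iff]
      intro k hk
      rw [Subgroup.mem_bot]
      have hcomm : ∀ σ : Perm (Fin 5), k * σ = σ * k := by
        intro σ
        have hm1 : k * σ * k⁻¹ * σ⁻¹ ∈ φ.ker := by
          have : k * σ * k⁻¹ * σ⁻¹ = k * (σ * k⁻¹ * σ⁻¹) := by group
          rw [this]
          exact mul_mem hk ((inferInstance : φ.ker.Normal).conj_mem _ (inv_mem hk) σ)
        have hm2 : k * σ * k⁻¹ * σ⁻¹ ∈ alternatingGroup (Fin 5) := by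
          rw [Perm.mem_alternatingGroup, map_mul, map_mul, map_mul, map_inv, map_inv,
            mul_comm (Perm.sign k) (Perm.sign σ), mul_inv_cancel_right, mul_inv_cancel]
        have := hb.le_bot ⟨hm1, hm2⟩
        rw [Subgroup.mem_bot] at this
        calc k * σ = (k * σ * k⁻¹ * σ⁻¹) * (σ * k) := by group
          _ = σ * k := by rw [this, one_mul]
      exact perm5_central_trivial k (hcomm _) (hcomm _) (hcomm _) (hcomm _)
    · rw [Subgroup.subgroupOf_eq_top] at ht
      exfalso
      apply hne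
      have hm : swap (0 : Fin 5) 1 * swap 1 2 ∈ alternatingGroup (Fin 5) := by
        rw [Perm.mem_alternatingGroup]; decide
      have := ht hm
      rw [MonoidHom.mem_ker, map_mul, e01, e12] at this
      have h' := eq_inv_of_mul_eq_one_left this
      rw [inv_eq_of_mul_eq_one_right h2] at h'
      exact h'
  have hinj : Function.Injective φ := (MonoidHom.ker_eq_bot_iff φ).mp hker
  exact ⟨((MulEquiv.subgroupCongr hrange.symm).trans (MonoidHom.ofInjective hinj).symm)⟩

end

end Cfsg.Agent.Lib.Helper90
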