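import Mathlib
import Cfsg.Agent.Lib.Helper90.LocS3B
import Cfsg.Agent.Lib.Helper90.S5Recog

set_option autoImplicit false

/-!
The non-split case: `⟨D⟩ ≅ S₅`.
-/

namespace Cfsg.Agent.Lib.Helper90

open Cfsg

section
variable {G : Type*} [Group G] {D : Set G}

namespace LocCtx

variable (C : LocCtx D)
include C

/-- a subgroup containing two different partners of `α` contains all of them -/
theorem cpart_subset_of_two {K : Subgroup G} {α e₁ e₂ : G} (hα : α ∈ D) (h1 : e₁ ∈ cpart D α)
    (h2 : e₂ ∈ cpart D α) (hne : e₁ ≠ e₂) (h1K : e₁ ∈ K) (h2K : e₂ ∈ K) :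
    cpart D α ⊆ K := by
  rw [LocS3.eq_triple C.hT C.hc (C.hL α hα) h1 h2 hne]
  rintro y (rfl | rfl | rfl)
  · exact h1K
  · exact h2K
  · exact K.mul_mem (K.mul_mem h1K h2K) h1K

/-- some partner of `b` other than `d` -/
theorem exists_partner_ne {b : G} (hb : b ∈ D) (d : G) : ∃ b₁ ∈ cpart D b, b₁ ≠ d := by
  obtain ⟨p, hp, q, hq, hpq⟩ := LocS3.exists_pair (C.hL b hb)
  by_cases h : p = d
  · exact ⟨q, hq, fun h' => hpq (h.trans h'.symm)⟩
  · exact ⟨p, hp, h⟩

theorem caseB {d : G} (hd : d ∈ D)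
    (hns : ∀ a ∈ cpart D d, ∀ b ∈ cpart D d, a ≠ b → ¬ Sim D a b) :
    Nonempty (↥(Subgroup.closure D) ≃* Equiv.Perm (Fin 5)) := by
  have hT := C.hT
  obtain ⟨a, ha, b, hb, hab⟩ := LocS3.exists_pair (C.hL d hd)
  obtain ⟨hc3, hca, hcb⟩ := LocS3.third C.hT C.hc (C.hL d hd) ha hb hab
  have htri := LocS3.eq_triple C.hT C.hc (C.hL d hd) ha hb hab
  obtain ⟨b₁, hb₁, hb₁d⟩ := C.exists_partner_ne hb.1 d
  have hdb : d ∈ cpart D b := cpart_symm hd hb
  have hda : d ∈ cpart D a := cpart_symm hd ha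
  have hdc : d ∈ cpart D (a * b * a) := cpart_symm hd hc3
  have nab : ¬ Commute a b := LocS3.nc hT (C.hL d hd) ha hb hab
  have ndb₁ : ¬ Commute d b₁ := LocS3.nc hT (C.hL b hb.1) hdb hb₁ (Ne.symm hb₁d)
  have hb₁a : b₁ ≠ a := by
    rintro rfl
    exact nab hb₁.2.2.symm
  have nb₁a : ¬ Commute b₁ a := by
    intro hcom
    have hmem : b₁ ∈ cpart D a := ⟨hb₁.1, hb₁a, hcom.symm⟩
    exact hns a ha b hb hab (C.cpart_eq_of_two ha.1 hb.1 hda hmem hdb hb₁ (Ne.symm hb₁d))
  have haa := tt_sq hT ha.1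
  have hbb := tt_sq hT hb.1
  have hdd := tt_sq hT hd
  have hbr := tt_braid hT ha.1 hb.1 nab  -- b * a * b = a * b * a
  -- recognition
  obtain ⟨e⟩ := s5_recognition (s₁ := d) (s₂ := b₁) (s₃ := a) (s₄ := b) hdd (tt_sq hT hb₁.1) haa hbb
    (tt_braid hT hb₁.1 hd (fun h => ndb₁ h.symm))
    (tt_braid hT ha.1 hb₁.1 (fun h => nb₁a h.symm))
    (tt_braid hT hb.1 ha.1 (fun h => nab h.symm))
    ha.2.2.eq hb.2.2.eq hb₁.2.2.eq.symm (Ne.symm hb₁d)
  set K : Subgroup G := Subgroup.closure ({d, b₁, a, b} : Set G) with hK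
  have hdK : d ∈ K := Subgroup.subset_closure (by simp)
  have hb₁K : b₁ ∈ K := Subgroup.subset_closure (by simp)
  have haK : a ∈ K := Subgroup.subset_closure (by simp)
  have hbK : b ∈ K := Subgroup.subset_closure (by simp)
  have hcK : a * b * a ∈ K := K.mul_mem (K.mul_mem haK hbK) haK
  have hle : K ≤ Subgroup.closure D := by
    rw [hK, Subgroup.closure_le]
    rintro y (rfl | rfl | rfl | rfl)
    · exact Subgroup.subset_closure hd
    · exact Subgroup.subset_closure hb₁.1
    · exact Subgroup.subset_closure ha.1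
    · exact Subgroup.subset_closure hb.1
  have hge : Subgroup.closure D ≤ K := by
    rw [Subgroup.closure_le]
    intro x hx
    by_cases hxd : x = d
    · rw [hxd]; exact hdK
    by_cases hcom : Commute d x
    · exact C.cpart_subset_of_two hd ha hb hab haK hbK ⟨hx, hxd, hcom⟩
    -- `x` commutes with some partner of `d`
    have hex : ∃ α ∈ cpart D d, Commute x α := by
      by_contra hcon
      push Not at hcon
      exact hns a ha b hb hab (C.type0_split hd hx (fun h => hcom h.symm) hcon ha hb)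
    obtain ⟨α, hα, hxα⟩ := hex
    have hxα' : x ∈ cpart D α := by
      refine ⟨hx, ?_, hxα.symm⟩
      rintro rfl
      exact hcom hα.2.2
    have hα' := hα
    rw [htri] at hα'
    rcases hα' with rfl | rfl | rfl
    · -- α = a : partners `d` and `c b₁ c⁻¹`
      have hcbc : (α * b * α) * b * (α * b * α)⁻¹ = α := by
        rw [tt_inv hT hc3.1]
        calc (α * b * α) * b * (α * b * α) = α * (b * α * b) * α * b * α := by
              simp only [mul_assoc]
          _ = α * (α * b * α) * α * b * α := by rw [hbr]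
          _ = (α * α) * b * (α * α) * b * α := by simp only [mul_assoc]
          _ = α := by rw [haa, one_mul, mul_one, hbb, one_mul]
      have hp : (α * b * α) * b₁ * (α * b * α)⁻¹ ∈ cpart D α := by
        have h1 : (α * b * α) * b₁ * (α * b * α)⁻¹ ∈
            cpart D ((α * b * α) * b * (α * b * α)⁻¹) := by
          rw [mem_cpart_conj C.hc]
          have : (α * b * α)⁻¹ * ((α * b * α) * b₁ * (α * b * α)⁻¹) * (α * b * α) = b₁ := by group
          rw [this]; exact hb₁
        rwa [hcbc] at h1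
      have hpd : d ≠ (α * b * α) * b₁ * (α * b * α)⁻¹ := by
        intro h
        apply hb₁d
        have h2 : b₁ = (α * b * α)⁻¹ * d * (α * b * α) := by rw [h]; group
        rw [h2, mul_assoc, hc3.2.2.eq, inv_mul_cancel_left]
      exact C.cpart_subset_of_two hα.1 hda hp hpd hdK
        (K.mul_mem (K.mul_mem hcK hb₁K) (K.inv_mem hcK)) hxα'
    · -- α = b
      exact C.cpart_subset_of_two hα.1 hdb hb₁ (Ne.symm hb₁d) hdK hb₁K hxα'
    · -- α = c : partners `d` and `a b₁ a⁻¹`
      have hq : a * b₁ * a⁻¹ ∈ cpart D (a * b * a) := by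
        have h1 : a * b₁ * a⁻¹ ∈ cpart D (a * b * a⁻¹) := by
          rw [mem_cpart_conj C.hc]
          have : a⁻¹ * (a * b₁ * a⁻¹) * a = b₁ := by group
          rw [this]; exact hb₁
        have e1 : a * b * a⁻¹ = a * b * a := by rw [tt_inv hT ha.1]
        rwa [e1] at h1
      have hqd : d ≠ a * b₁ * a⁻¹ := by
        intro h
        apply hb₁d
        have h2 : b₁ = a⁻¹ * d * a := by rw [h]; group
        rw [h2, mul_assoc, ha.2.2.eq, inv_mul_cancel_left]
      exact C.cpart_subset_of_two hα.1 hdc hq hqd hdK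
        (K.mul_mem (K.mul_mem haK hb₁K) (K.inv_mem haK)) hxα'
  have hEq : Subgroup.closure D = K := le_antisymm hge hle
  exact ⟨(MulEquiv.subgroupCongr hEq).trans e⟩

end LocCtx

end

end Cfsg.Agent.Lib.Helper90
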