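import Mathlib
import Cfsg.Agent.Lib.Helper90.FisOddC
import Cfsg.Agent.Lib.Helper90.FisMoore
import Cfsg.Agent.Lib.Helper90.LocS3C
import Cfsg.Agent.S0444

set_option autoImplicit false

/-!
Fischer's hypotheses, local odd core not central: phase two, part three.

The commuting graph is a Moore graph of valency `3 ^ m`, hence every member of `D` has exactly
three partners, which generate `S₃`; the local `S₃` theory then gives `S₅`.
-/

namespace Cfsg.Agent.Lib.Helper90

open Cfsg

variable {G : Type*} [Group G] {D : Set G}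

namespace ThreeCtx

variable (C : ThreeCtx D)
include C

/-- conjugate members have the same number of partners -/
theorem ncard_cpart_conj (g d : G) :
    (cpart D (g * d * g⁻¹)).ncard = (cpart D d).ncard := by
  have himg : cpart D (g * d * g⁻¹) = (fun y => g * y * g⁻¹) '' cpart D d := by
    ext z
    rw [mem_cpart_conj C.hc]
    constructor
    · intro h
      exact ⟨g⁻¹ * z * g, h, by group⟩
    · rintro ⟨y, hy, rfl⟩
      have : g⁻¹ * (g * y * g⁻¹) * g = y := by group
      rw [this]; exact hy
  rw [himg]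
  apply Set.ncard_image_of_injective
  intro a b hab
  have h1 : g * a * g⁻¹ = g * b * g⁻¹ := hab
  calc a = g⁻¹ * (g * a * g⁻¹) * g := by group
    _ = g⁻¹ * (g * b * g⁻¹) * g := by rw [h1]
    _ = b := by group

variable [Finite G]

/-- every member of `D` has exactly three partners -/
theorem ncard_partners_eq_three {d : G} {Q : Subgroup G} (hQ : QData D d Q) :
    ∀ e ∈ D, (cpart D e).ncard = 3 := by
  classical
  obtain ⟨m, hm⟩ := C.card_partners hQ
  have hd := hQ.hd
  have hall : ∀ e ∈ D, (cpart D e).ncard = 3 ^ m := by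
    intro e he
    obtain ⟨g, rfl⟩ := C.hconj d hd e he
    rw [C.ncard_cpart_conj, ← hm]
    rfl
  suffices hm1 : m = 1 by
    intro e he
    rw [hall e he, hm1, pow_one]
  -- the Moore graph
  have hfin : Finite ↥D := Set.toFinite D |>.to_subtype
  have : Fintype ↥D := Fintype.ofFinite _
  have : Nonempty ↥D := ⟨⟨d, hd⟩⟩
  let R : ↥D → ↥D → Prop := fun x y => (y : G) ≠ x ∧ Commute (x : G) (y : G)
  have hRmem : ∀ x y : ↥D, R x y ↔ (y : G) ∈ cpart D (x : G) := by
    intro x y
    exact ⟨fun h => ⟨y.2, h.1, h.2⟩, fun h => ⟨h.2.1, h.2.2⟩⟩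
  have hreg : ∀ x : ↥D, (Finset.univ.filter (fun z => R x z)).card = 3 ^ m := by
    intro x
    rw [← hall x x.2]
    rw [Set.ncard_eq_toFinset_card (cpart D (x : G)) (Set.toFinite _)]
    apply Finset.card_bij (fun (z : ↥D) _ => (z : G))
    · intro z hz
      rw [Finset.mem_filter] at hz
      rw [Set.Finite.mem_toFinset]
      exact (hRmem x z).1 hz.2
    · intro z₁ _ z₂ _ h
      exact Subtype.ext h
    · intro y hy
      rw [Set.Finite.mem_toFinset] at hy
      refine ⟨⟨y, hy.1⟩, ?_, rfl⟩
      rw [Finset.mem_filter]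
      exact ⟨Finset.mem_univ _, (hRmem x ⟨y, hy.1⟩).2 hy⟩
  have hirr : ∀ x : ↥D, ¬ R x x := fun x h => h.1 rfl
  have hsymm : ∀ x y : ↥D, R x y → R y x := fun x y h => ⟨fun h' => h.1 h'.symm, h.2.symm⟩
  have hlam : ∀ x y : ↥D, R x y → ∀ z, ¬ (R x z ∧ R y z) := by
    rintro x y hxy z ⟨hxz, hyz⟩
    exact C.pnc x x.2 y ((hRmem x y).1 hxy) z ((hRmem x z).1 hxz) hyz.1 hyz.2
  have hmu : ∀ x y : ↥D, x ≠ y → ¬ R x y →
      (Finset.univ.filter (fun z => R x z ∧ R y z)).card = 1 := by
    intro x y hxy hnR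
    have nxy : ¬ Commute (x : G) (y : G) := by
      intro h
      apply hnR
      exact ⟨fun h' => hxy (Subtype.ext h'.symm), h⟩
    obtain ⟨z, hz, hyz⟩ := C.common x x.2 y y.2 nxy
    have hzy : z ≠ (y : G) := by
      rintro rfl
      exact nxy hz.2.2
    rw [Finset.card_eq_one]
    refine ⟨⟨z, hz.1⟩, ?_⟩
    ext w
    rw [Finset.mem_filter, Finset.mem_singleton]
    constructor
    · rintro ⟨-, hxw, hyw⟩
      apply Subtype.ext
      exact C.common_unique hQ x.2 y.2 nxy ((hRmem x w).1 hxw) hz hyw.2 hyz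
    · rintro rfl
      exact ⟨Finset.mem_univ _, (hRmem x _).2 hz, hzy, hyz⟩
  have hle := moore_three_pow (R := R) m hirr hsymm hreg hlam hmu
  have h3 := C.three_dvd hd
  rw [hm] at h3
  have hm0 : m ≠ 0 := by
    rintro rfl
    norm_num at h3
  omega

/-- the partners of `e` generate `S₃` -/
theorem locS3 {d : G} {Q : Subgroup G} (hQ : QData D d Q) : ∀ e ∈ D, LocS3 D e := by
  intro e he
  have h3 := C.ncard_partners_eq_three hQ e he
  obtain ⟨y, hy⟩ := C.hne e he
  obtain ⟨y', hy', hne⟩ := C.two e he y hy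
  have nyy' : ¬ Commute y y' := C.pnc e he y hy y' hy' hne
  have hyi := tt_inv C.hT hy.1
  have hy'' : y * y' * y⁻¹ ∈ cpart D e := (C.conj_cpart_iff hy.2.2.symm y').2 hy'
  rw [hyi] at hy''
  have hbr := tt_braid C.hT hy.1 hy'.1 nyy'
  -- hbr : y' * y * y' = y * y' * y
  have hyy := tt_sq C.hT hy.1
  have hy'y' := tt_sq C.hT hy'.1
  have ne1 : y * y' * y ≠ y := by
    intro h
    apply hne
    have : y * (y * y' * y) * y = y * y * y := by rw [h]
    calc y' = (y * y) * y' * (y * y) := by rw [hyy, one_mul, mul_one]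
      _ = y * (y * y' * y) * y := by simp only [mul_assoc]
      _ = y * y * y := this
      _ = y := by rw [hyy, one_mul]
  have ne2 : y * y' * y ≠ y' := by
    intro h
    apply hne
    rw [← hbr] at h
    -- y' * y * y' = y'  ⇒ y = 1?? use: y' y y' = y' ⇒ y y' = 1 ⇒ y = y'
    have : y * y' = 1 := by
      calc y * y' = y' * (y' * y * y') := by
            rw [show y' * (y' * y * y') = (y' * y') * y * y' by simp only [mul_assoc], hy'y',
              one_mul]
        _ = y' * y' := by rw [h]
        _ = 1 := hy'y'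
    have := eq_inv_of_mul_eq_one_right this
    rw [hyi] at this
    exact this
  have hsub : ({y, y', y * y' * y} : Set G) ⊆ cpart D e := by
    rintro z (rfl | rfl | rfl)
    · exact hy
    · exact hy'
    · exact hy''
  have hcard : ({y, y', y * y' * y} : Set G).ncard = 3 := by
    rw [Set.ncard_eq_three]
    exact ⟨y, y', y * y' * y, Ne.symm hne, Ne.symm ne1, Ne.symm ne2, rfl⟩
  have heq : ({y, y', y * y' * y} : Set G) = cpart D e := by
    apply Set.eq_of_subset_of_ncard_le hsub _ (Set.toFinite _)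
    rw [hcard, h3]
  have hclos : Subgroup.closure (cpart D e) = Subgroup.closure ({y, y'} : Set G) := by
    rw [← heq]
    apply le_antisymm
    · rw [Subgroup.closure_le]
      rintro z (rfl | rfl | rfl)
      · exact Subgroup.subset_closure (by simp)
      · exact Subgroup.subset_closure (by simp)
      · have h1 : y ∈ Subgroup.closure ({y, y'} : Set G) := Subgroup.subset_closure (by simp)
        have h2 : y' ∈ Subgroup.closure ({y, y'} : Set G) := Subgroup.subset_closure (by simp)
        exact mul_mem (mul_mem h1 h2) h1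
    · apply Subgroup.closure_mono
      rintro z (rfl | rfl)
      · simp
      · simp
  obtain ⟨e₃⟩ := Cfsg.Agent.S0444.result C.hT hy.1 hy'.1 nyy'
  exact ⟨(MulEquiv.subgroupCongr hclos).trans e₃⟩

end ThreeCtx

end Cfsg.Agent.Lib.Helper90
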