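import Mathlib
import Cfsg.Agent.Lib.Helper90.FisOddA
import Cfsg.Agent.Lib.Helper90.FisOddD
import Cfsg.Agent.Lib.Helper90.WidthOne
import Cfsg.Agent.Lib.Helper90.TTMax
import Cfsg.Agent.Lib.Helper22.GTBasic
import Cfsg.Agent.Lib.Helper8.FischerTrans3

set_option autoImplicit false

/-!
Fischer's hypotheses, local odd core not central: assembly.

A primitive class `D` of 3-transpositions of a finite group `G` with trivial centre and trivial
`O₃(G)`, such that for some `x ∈ D` the odd core of the subgroup generated by the partners of `x`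
is not central in it, generates `S₅`.
-/

namespace Cfsg.Agent.Lib.Helper90

open Cfsg

variable {G : Type*} [Group G] {D : Set G}

/-- the odd core of a subgroup, inside the ambient group -/
def oddOf (K : Subgroup G) : Subgroup G := (oddCore ↥K).map K.subtype

/-- the largest normal 3-subgroup of a subgroup, inside the ambient group -/
def threeOf (K : Subgroup G) : Subgroup G := (pCore 3 ↥K).map K.subtype

theorem oddOf_le (K : Subgroup G) : oddOf K ≤ K := by
  rintro _ ⟨p, -, rfl⟩
  exact p.2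

theorem threeOf_le (K : Subgroup G) : threeOf K ≤ K := by
  rintro _ ⟨p, -, rfl⟩
  exact p.2

theorem oddOf_conj (K : Subgroup G) (g : G) {p : G} (hp : p ∈ oddOf K) :
    g * p * g⁻¹ ∈ oddOf (K.map (MulAut.conj g).toMonoidHom) := by
  obtain ⟨p', hp', rfl⟩ := hp
  let e : ↥K ≃* ↥(K.map (MulAut.conj g).toMonoidHom) := (MulAut.conj g).subgroupMap K
  have h1 : e p' ∈ oddCore ↥(K.map (MulAut.conj g).toMonoidHom) := by
    have := Cfsg.Agent.Lib.Helper22.pPrimeCore_map_mulEquiv 2 e
    show e p' ∈ pPrimeCore 2 _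
    rw [← this]
    exact ⟨p', hp', rfl⟩
  refine ⟨e p', h1, ?_⟩
  rfl

theorem oddOf_normal (K : Subgroup G) {k p : G} (hk : k ∈ K) (hp : p ∈ oddOf K) :
    k * p * k⁻¹ ∈ oddOf K := by
  obtain ⟨p', hp', rfl⟩ := hp
  have hn : (oddCore ↥K).Normal := Cfsg.Agent.Lib.Helper1.pPrimeCore_normal 2
  exact ⟨⟨k, hk⟩ * p' * ⟨k, hk⟩⁻¹, hn.conj_mem p' hp' ⟨k, hk⟩, rfl⟩

theorem threeOf_normal (K : Subgroup G) {k p : G} (hk : k ∈ K) (hp : p ∈ threeOf K) :
    k * p * k⁻¹ ∈ threeOf K := by
  obtain ⟨p', hp', rfl⟩ := hp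
  have hn : (pCore 3 ↥K).Normal := pCore_normal 3 ↥K
  exact ⟨⟨k, hk⟩ * p' * ⟨k, hk⟩⁻¹, hn.conj_mem p' hp' ⟨k, hk⟩, rfl⟩

theorem oddOf_sq [Finite G] (K : Subgroup G) {p : G} (hp : p ∈ oddOf K) (h2 : p * p = 1) : p = 1 := by
  obtain ⟨p', hp', rfl⟩ := hp
  have hodd := Cfsg.Agent.Lib.Helper22.GT.odd_orderOf_of_mem_oddCore hp'
  have h2' : p' ^ 2 = 1 := by
    apply Subtype.ext
    rw [pow_two]
    exact h2
  have hdvd : orderOf p' ∣ 2 := orderOf_dvd_of_pow_eq_one h2'
  have h1 : orderOf p' = 1 := by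
    rcases (Nat.dvd_prime Nat.prime_two).1 hdvd with h | h
    · exact h
    · rw [h] at hodd; exact absurd hodd (by decide)
  rw [orderOf_eq_one_iff] at h1
  rw [h1]; rfl

theorem closure_cpart_le_centralizer (d : G) :
    Subgroup.closure (cpart D d) ≤ Subgroup.centralizer {d} := by
  rw [Subgroup.closure_le]
  intro y hy
  rw [SetLike.mem_coe, Subgroup.mem_centralizer_iff]
  intro x hx
  rw [Set.mem_singleton_iff] at hx
  rw [hx]; exact hy.2.2.eq

theorem closure_cpart_conj (hc : ∀ g : G, ∀ d ∈ D, g * d * g⁻¹ ∈ D) (g d : G) :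
    Subgroup.closure (cpart D (g * d * g⁻¹))
      = (Subgroup.closure (cpart D d)).map (MulAut.conj g).toMonoidHom := by
  rw [MonoidHom.map_closure]
  congr 1
  ext z
  rw [mem_cpart_conj hc]
  constructor
  · intro h
    exact ⟨g⁻¹ * z * g, h, by simp [MulAut.conj_apply]; group⟩
  · rintro ⟨y, hy, rfl⟩
    have : g⁻¹ * ((MulAut.conj g).toMonoidHom y) * g = y := by
      simp [MulAut.conj_apply]; group
    rw [this]; exact hy

/-- maximality of `⟨C_D(d)⟩` in the form used in phase two -/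
theorem hmax_of_prim [Finite G] (hG : IsThreeTranspositionGroup D) (hprim : IsPrimitiveUnderConj D)
    (hw : ∃ a ∈ D, ∃ b ∈ D, a ≠ b ∧ Commute a b) (hZ : Subgroup.center G = ⊥)
    {d : G} (hd : d ∈ D) (z : G) (hzd : Commute z d) (hzp : ∀ y ∈ cpart D d, Commute z y)
    (ha : ∃ a ∈ D, ¬ Commute d a ∧ Commute z a) : z = 1 := by
  obtain ⟨a, haD, nda, hza⟩ := ha
  obtain ⟨hT, hc, hgen⟩ := hG
  obtain ⟨-, hmax⟩ := tt_centralizer_maximal ⟨hT, hc, hgen⟩ hprim hw hd
  set K := Subgroup.closure {x : G | x ∈ D ∧ Commute z x} with hK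
  have hKD : IsDSubgroup D K := by
    unfold IsDSubgroup
    apply le_antisymm
    · rw [Subgroup.closure_le]
      intro x hx
      exact hx.2
    · rw [hK]
      apply Subgroup.closure_mono
      intro x hx
      exact ⟨hx.1, Subgroup.subset_closure hx⟩
  have hMK : Subgroup.closure {y : G | y ∈ D ∧ Commute d y} ≤ K := by
    apply Subgroup.closure_mono
    intro y hy
    refine ⟨hy.1, ?_⟩
    by_cases hyd : y = d
    · rw [hyd]; exact hzd
    · exact hzp y ⟨hy.1, hyd, hy.2⟩
  have haK : a ∈ K := Subgroup.subset_closure ⟨haD, hza⟩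
  have hKz : K ≤ Subgroup.centralizer {z} := by
    rw [Subgroup.closure_le]
    intro y hy
    rw [SetLike.mem_coe, Subgroup.mem_centralizer_iff]
    intro x hx
    rw [Set.mem_singleton_iff] at hx
    rw [hx]; exact hy.2.eq
  rcases hmax K hKD hMK with h | h
  · exfalso
    rw [h] at haK
    have hMle : Subgroup.closure {y : G | y ∈ D ∧ Commute d y} ≤ Subgroup.centralizer {d} := by
      rw [Subgroup.closure_le]
      intro y hy
      rw [SetLike.mem_coe, Subgroup.mem_centralizer_iff]
      intro x hx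
      rw [Set.mem_singleton_iff] at hx
      rw [hx]; exact hy.2.eq
    have := hMle haK
    rw [Subgroup.mem_centralizer_iff] at this
    exact nda (this d rfl)
  · have hzc : z ∈ Subgroup.center G := by
      rw [Subgroup.mem_center_iff]
      intro g
      have hg : g ∈ K := by rw [h]; exact Subgroup.mem_top g
      have := hKz hg
      rw [Subgroup.mem_centralizer_iff] at this
      exact (this z rfl).symm
    rw [hZ, Subgroup.mem_bot] at hzc
    exact hzc

end Cfsg.Agent.Lib.Helper90
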