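import Mathlib
import Cfsg.Agent.Lib.Helper90.FisOddE

set_option autoImplicit false

/-!
Fischer's hypotheses, local odd core not central: the `3`-group and the main theorem.
-/

namespace Cfsg.Agent.Lib.Helper90

open Cfsg

variable {G : Type*} [Group G] {D : Set G}

theorem conj_mem_cpart_of_commute (hc : ∀ g : G, ∀ d ∈ D, g * d * g⁻¹ ∈ D) {y g x : G}
    (hg : Commute g y) (hx : x ∈ cpart D y) : g * x * g⁻¹ ∈ cpart D y := by
  have e : g * y * g⁻¹ = y := by rw [hg.eq, mul_inv_cancel_right]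
  have h1 : g * x * g⁻¹ ∈ cpart D (g * y * g⁻¹) := by
    apply (mem_cpart_conj hc g y _).2
    have e2 : g⁻¹ * (g * x * g⁻¹) * g = x := by group
    rw [e2]; exact hx
  rwa [e] at h1

/-- the `3`-group attached to `x` when the partners of `x` pairwise do not commute -/
theorem qdata_of_partners_nc [Finite G]
    (hZs : ∀ H : Subgroup G, Cfsg.Agent.Lib.Helper58.ZStarProd.ZStarHyp ↥H)
    (hT : IsThreeTranspositionSet D) (hc : ∀ g : G, ∀ d ∈ D, g * d * g⁻¹ ∈ D)
    {x : G} (hx : x ∈ D)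
    (hpnc : ∀ y ∈ cpart D x, ∀ y₁ ∈ cpart D x, y₁ ≠ y → ¬ Commute y y₁)
    (htrans : ∀ y ∈ cpart D x, ∀ z ∈ cpart D x,
      ∃ g ∈ Subgroup.closure (cpart D x), g * y * g⁻¹ = z) :
    QData D x (threeOf (Subgroup.closure (cpart D x))) := by
  set K := Subgroup.closure (cpart D x) with hK
  have hKc : K ≤ Subgroup.centralizer {x} := closure_cpart_le_centralizer x
  have hcomm : ∀ k ∈ K, Commute k x := by
    intro k hk
    have := hKc hk
    rw [Subgroup.mem_centralizer_iff] at this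
    exact (this x rfl).symm
  refine ⟨hx, ?_, ?_, ?_, ?_⟩
  · exact (pCore_isPGroup 3 ↥K).map K.subtype
  · intro q hq
    exact hcomm q (threeOf_le K hq)
  · intro y hy q hq
    exact threeOf_normal K (Subgroup.subset_closure hy) hq
  · intro y hy z hz
    -- the 3-transposition group `K`
    let DK : Set ↥K := {k | (k : G) ∈ cpart D x}
    have hDK : IsThreeTranspositionGroup DK := by
      refine ⟨⟨?_, ?_⟩, ?_, ?_⟩
      · intro k hk
        rw [← Subgroup.orderOf_coe]
        exact hT.1 _ hk.1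
      · intro k hk e he
        rcases hT.2 _ hk.1 _ he.1 with h | h
        · left
          apply Subtype.ext
          simpa using h
        · right
          apply Subtype.ext
          simpa using h
      · intro g k hk
        show ((g * k * g⁻¹ : ↥K) : G) ∈ cpart D x
        have : ((g * k * g⁻¹ : ↥K) : G) = (g : G) * k * (g : G)⁻¹ := by simp
        rw [this]
        exact conj_mem_cpart_of_commute hc (hcomm g g.2) hk
      · exact Subgroup.closure_closure_coe_preimage
    have hyK : (⟨y, Subgroup.subset_closure hy⟩ : ↥K) ∈ DK := hy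
    have hw1 : commutingWidth DK = 1 := by
      apply width_one_of_not_commute hyK
      intro a ha b hb hab hcom
      apply hpnc _ ha _ hb
      · intro h
        exact hab (Subtype.ext h.symm)
      · have h1 := congrArg Subtype.val hcom.eq
        have h2 : (a : G) * (b : G) = (b : G) * (a : G) := by simpa using h1
        exact h2
    have htop := (width_one_iff (hZs K) hDK hyK).1 hw1
    obtain ⟨g, hg, hgy⟩ := htrans y hy z hz
    have hgtop : (⟨g, hg⟩ : ↥K) ∈ pCore 3 ↥K ⊔ Subgroup.zpowers (⟨y, Subgroup.subset_closure hy⟩ : ↥K) := by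
      rw [sup_comm, htop]; exact Subgroup.mem_top _
    haveI : (pCore 3 ↥K).Normal := pCore_normal 3 ↥K
    have hmem : (⟨g, hg⟩ : ↥K) ∈
        ((pCore 3 ↥K ⊔ Subgroup.zpowers (⟨y, Subgroup.subset_closure hy⟩ : ↥K) : Subgroup ↥K) : Set ↥K) :=
      hgtop
    rw [Subgroup.normal_mul] at hmem
    obtain ⟨n, hn, h, hh, hnh⟩ := Set.mem_mul.1 hmem
    refine ⟨(n : G), ⟨n, hn, rfl⟩, ?_⟩
    have hhy : Commute (h : G) y := by
      obtain ⟨k, rfl⟩ := Subgroup.mem_zpowers_iff.1 hh
      have : ((⟨y, Subgroup.subset_closure hy⟩ : ↥K) ^ k : ↥K) = ⟨y ^ k, K.zpow_mem (Subgroup.subset_closure hy) k⟩ := by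
        apply Subtype.ext; simp
      rw [this]
      exact (Commute.refl y).zpow_left k
    have hg' : g = (n : G) * (h : G) := by
      have := congrArg Subtype.val hnh
      simpa using this.symm
    rw [← hgy, hg']
    calc (n : G) * (h : G) * y * ((n : G) * (h : G))⁻¹ = (n : G) * ((h : G) * y * (h : G)⁻¹) * (n : G)⁻¹ := by
          group
      _ = (n : G) * y * (n : G)⁻¹ := by rw [hhy.eq, mul_inv_cancel_right]

/-- **main theorem**: a primitive class of 3-transpositions with trivial centre and trivial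
`O₃(G)` in which the odd core of `⟨D_x⟩` is not central generates `S₅` -/
theorem fischer_odd_core_s5 [Finite G]
    (hZs : ∀ H : Subgroup G, Cfsg.Agent.Lib.Helper58.ZStarProd.ZStarHyp ↥H)
    (hD : IsThreeTranspositionClass D) (hprim : IsPrimitiveUnderConj D)
    (hZ : Subgroup.center G = ⊥) (h3 : pCore 3 G = ⊥) {x : G} (hx : x ∈ D)
    (h : ¬ oddCore ↥(Subgroup.closure (cpart D x)) ≤
      Subgroup.center ↥(Subgroup.closure (cpart D x))) :
    Nonempty (G ≃* Equiv.Perm (Fin 5)) := by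
  have hG := class_to_group hD
  obtain ⟨hT, hc, hgen⟩ := hG
  have hconjD : ∀ a ∈ D, ∀ b ∈ D, ∃ g : G, g * a * g⁻¹ = b := hprim.1
  -- a non-central element of the odd core
  rw [SetLike.not_le_iff_exists] at h
  obtain ⟨n', hn', hncen⟩ := h
  have hex : ∃ y₀ ∈ cpart D x, ¬ Commute (n' : G) y₀ := by
    by_contra hcon
    push Not at hcon
    apply hncen
    rw [Subgroup.mem_center_iff]
    intro k
    have hle : Subgroup.closure (cpart D x) ≤ Subgroup.centralizer {(n' : G)} := by
      rw [Subgroup.closure_le]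
      intro y hy
      rw [SetLike.mem_coe, Subgroup.mem_centralizer_iff]
      intro w hw
      rw [Set.mem_singleton_iff] at hw
      rw [hw]; exact (hcon y hy).eq
    have := hle k.2
    rw [Subgroup.mem_centralizer_iff] at this
    apply Subtype.ext
    have := this (n' : G) rfl
    simpa using this.symm
  obtain ⟨y₀, hy₀, hny₀⟩ := hex
  have hw : ∃ a ∈ D, ∃ b ∈ D, a ≠ b ∧ Commute a b :=
    ⟨x, hx, y₀, hy₀.1, fun h => hy₀.2.1 h.symm, hy₀.2.2⟩
  have htransD : ∀ d ∈ D, ∀ y ∈ cpart D d, ∀ z ∈ cpart D d,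
      ∃ g ∈ Subgroup.closure (cpart D d), g * y * g⁻¹ = z :=
    fun d hd y hy z hz =>
      Cfsg.Agent.Lib.Helper8.FT.prim_Dd_transitive ⟨hT, hc, hgen⟩ hprim hw hd hy hz
  have hT1 : ∀ d ∈ D, ∀ a ∈ D, ∀ b ∈ D, ¬ Commute d a → ¬ Commute d b →
      ∃ g : G, Commute g d ∧ g * a * g⁻¹ = b :=
    fun d hd a ha b hb nda ndb =>
      Cfsg.Agent.Lib.Helper8.FT.prim_Ad_transitive ⟨hT, hc, hgen⟩ hprim hw hd ha hb nda ndb
  have hn'P : (n' : G) ∈ oddOf (Subgroup.closure (cpart D x)) := ⟨n', hn', rfl⟩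
  -- the family
  have hequiv : ∀ g : G, ∀ d ∈ D, ∀ p ∈ oddOf (Subgroup.closure (cpart D d)),
      g * p * g⁻¹ ∈ oddOf (Subgroup.closure (cpart D (g * d * g⁻¹))) := by
    intro g d _ p hp
    rw [closure_cpart_conj hc]
    exact oddOf_conj _ g hp
  have hcent : ∀ d ∈ D, ∀ p ∈ oddOf (Subgroup.closure (cpart D d)), Commute p d := by
    intro d _ p hp
    have := closure_cpart_le_centralizer (D := D) d (oddOf_le _ hp)
    rw [Subgroup.mem_centralizer_iff] at this
    exact (this d rfl).symm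
  have F : OddFam D (fun d => oddOf (Subgroup.closure (cpart D d))) := by
    refine ⟨hT, hc, ?_, hequiv, hcent, ?_, ?_, hT1, ?_⟩
    · intro d _ p hp h2
      exact oddOf_sq _ hp h2
    · -- moves
      intro d hd y hy
      obtain ⟨g, rfl⟩ := hconjD x hx d hd
      have hy₁ : g⁻¹ * y * g ∈ cpart D x := (mem_cpart_conj hc g x y).1 hy
      obtain ⟨k, hk, hky⟩ := htransD x hx y₀ hy₀ _ hy₁
      have hp₁ := oddOf_normal _ hk hn'P
      refine ⟨g * (k * (n' : G) * k⁻¹) * g⁻¹, hequiv g x hx _ hp₁, ?_⟩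
      intro hcom
      apply hny₀
      have e : y = g * (k * y₀ * k⁻¹) * g⁻¹ := by rw [hky]; group
      rw [e] at hcom
      have h' : g * (k * (n' : G) * k⁻¹) * g⁻¹ * (g * (k * y₀ * k⁻¹) * g⁻¹)
          = g * (k * y₀ * k⁻¹) * g⁻¹ * (g * (k * (n' : G) * k⁻¹) * g⁻¹) := hcom.eq
      show (n' : G) * y₀ = y₀ * (n' : G)
      calc (n' : G) * y₀ = (g * k)⁻¹ * (g * (k * (n' : G) * k⁻¹) * g⁻¹ * (g * (k * y₀ * k⁻¹) * g⁻¹))
            * (g * k) := by group
        _ = (g * k)⁻¹ * (g * (k * y₀ * k⁻¹) * g⁻¹ * (g * (k * (n' : G) * k⁻¹) * g⁻¹)) * (g * k) := by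
            rw [h']
        _ = y₀ * (n' : G) := by group
    · -- hne
      intro d hd
      obtain ⟨g, rfl⟩ := hconjD x hx d hd
      refine ⟨g * y₀ * g⁻¹, (mem_cpart_conj hc g x _).2 ?_⟩
      have : g⁻¹ * (g * y₀ * g⁻¹) * g = y₀ := by group
      rw [this]; exact hy₀
    · -- hSim
      intro d hd a ha hsim
      have hmem := sim_mul_mem_pCore hZs hT hc hd ha hsim
      rw [h3, Subgroup.mem_bot] at hmem
      have := eq_inv_of_mul_eq_one_left hmem
      rw [tt_inv hT ha] at this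
      exact this
  -- phase two
  have C : ThreeCtx D := by
    refine ⟨hT, hc, hconjD, ?_, F.hne, ?_, hT1, ?_, ?_, ?_⟩
    · intro d hd y hy y₁ hy₁ hne
      exact F.partners_nc hd hy hy₁ hne
    · intro d hd y hy
      obtain ⟨p, hp, hpy⟩ := F.moves d hd y hy
      refine ⟨p * y * p⁻¹, F.orb_mem hd hy hp, ?_⟩
      intro h
      apply hpy
      show p * y = y * p
      calc p * y = (p * y * p⁻¹) * p := by group
        _ = y * p := by rw [h]
    · intro d hd a ha nda
      obtain ⟨y, hy, hay, -⟩ := F.exists_special hd ha nda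
      exact ⟨y, hy, hay⟩
    · intro d hd a ha nda
      exact F.exists_nc hd ha nda
    · intro d hd z hzd hzp hza
      exact hmax_of_prim ⟨hT, hc, hgen⟩ hprim hw hZ hd z hzd hzp hza
  have hQ : QData D x (threeOf (Subgroup.closure (cpart D x))) :=
    qdata_of_partners_nc hZs hT hc hx (fun y hy y₁ hy₁ hne => F.partners_nc hx hy hy₁ hne)
      (htransD x hx)
  have hL := C.locS3 hQ
  have LC : LocCtx D := ⟨hT, hc, hL⟩
  have hns : ∀ a ∈ cpart D x, ∀ b ∈ cpart D x, a ≠ b → ¬ Sim D a b := by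
    intro a ha b hb hab hsim
    exact hab (F.hSim a ha.1 b hb.1 hsim)
  obtain ⟨e⟩ := LC.caseB hx hns
  rw [hgen] at e
  exact ⟨Subgroup.topEquiv.symm.trans e⟩

end Cfsg.Agent.Lib.Helper90
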