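import Mathlib
import Cfsg.Prelude.Def_FischerSpaces
set_option autoImplicit false

/-!
Abstract criterion: a parametrisation `F : Y → X` of a set of points of a partial linear space, mapping
model lines to lines and such that collinear image points come from collinear model points, identifies
the generated subspace with the model.
-/

namespace Cfsg.Agent.Lib.Helper90

open Cfsg Cfsg.LineSystem

theorem fischer_iso_of_param {X Y : Type*} (L : Set (Set X)) (M : Set (Set Y))
    (hPL : IsPartialLinear L)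
    (h2pts : ∀ l ∈ L, ∃ u v : X, u ≠ v ∧ u ∈ l ∧ v ∈ l)
    (F : Y → X) (hinj : Function.Injective F)
    (h1 : ∀ k ∈ M, F '' k ∈ L)
    (h2 : ∀ y₁ y₂ : Y, y₁ ≠ y₂ → (∃ l ∈ L, F y₁ ∈ l ∧ F y₂ ∈ l) → ∃ k ∈ M, y₁ ∈ k ∧ y₂ ∈ k)
    (A : Set X) (h4 : A ⊆ Set.range F)
    (h3 : ∀ T : Set X, A ⊆ T → IsSubspace L T → Set.range F ⊆ T) :
    Isomorphic (restrict L (span L A)) M := by
  -- key: a line through two distinct points of the range is the image of a model line
  have key : ∀ l ∈ L, ∀ y₁ y₂ : Y, y₁ ≠ y₂ → F y₁ ∈ l → F y₂ ∈ l → ∃ k ∈ M, l = F '' k := by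
    intro l hl y₁ y₂ hne h1l h2l
    obtain ⟨k, hk, hy1, hy2⟩ := h2 y₁ y₂ hne ⟨l, hl, h1l, h2l⟩
    refine ⟨k, hk, ?_⟩
    exact hPL l hl (F '' k) (h1 k hk) (F y₁) (F y₂) (fun h => hne (hinj h)) h1l h2l
      ⟨y₁, hy1, rfl⟩ ⟨y₂, hy2, rfl⟩
  have hsub : IsSubspace L (Set.range F) := by
    intro l hl x hx y hy hxy hxl hyl
    obtain ⟨y₁, rfl⟩ := hx
    obtain ⟨y₂, rfl⟩ := hy
    have hne : y₁ ≠ y₂ := fun h => hxy (by rw [h])
    obtain ⟨k, -, rfl⟩ := key l hl y₁ y₂ hne hxl hyl
    exact Set.image_subset_range F k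
  have hspan : span L A = Set.range F := by
    apply Set.Subset.antisymm
    · intro x hx
      exact hx (Set.range F) ⟨h4, hsub⟩
    · intro x hx
      intro T hT
      exact h3 T hT.1 hT.2 hx
  suffices H : ∀ S : Set X, S = Set.range F → Isomorphic (restrict L S) M from H _ hspan
  intro S hS
  subst hS
  let e : ↥(Set.range F) ≃ Y := (Equiv.ofInjective F hinj).symm
  have he : ∀ x : ↥(Set.range F), F (e x) = (x : X) := by
    intro x
    have := (Equiv.ofInjective F hinj).apply_symm_apply x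
    exact congrArg Subtype.val this
  have he' : ∀ y : Y, e ⟨F y, y, rfl⟩ = y := by
    intro y
    apply hinj
    rw [he]
  refine ⟨e, ?_⟩
  intro t
  constructor
  · rintro ⟨l, hl, hlS, rfl⟩
    obtain ⟨u, v, huv, hu, hv⟩ := h2pts l hl
    obtain ⟨y₁, rfl⟩ := hlS hu
    obtain ⟨y₂, rfl⟩ := hlS hv
    have hne : y₁ ≠ y₂ := fun h => huv (by rw [h])
    obtain ⟨k, hk, rfl⟩ := key l hl y₁ y₂ hne hu hv
    have : e '' {x : ↥(Set.range F) | (x : X) ∈ F '' k} = k := by
      ext y
      constructor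
      · rintro ⟨x, hx, rfl⟩
        obtain ⟨y', hy', hy'x⟩ := hx
        have : y' = e x := hinj (by rw [hy'x, he])
        rw [← this]; exact hy'
      · intro hy
        exact ⟨⟨F y, y, rfl⟩, ⟨y, hy, rfl⟩, he' y⟩
    rw [this]; exact hk
  · intro hk
    refine ⟨F '' (e '' t), h1 _ hk, Set.image_subset_range F _, ?_⟩
    ext x
    constructor
    · intro hx
      exact ⟨e x, ⟨x, hx, rfl⟩, he x⟩
    · rintro ⟨y, ⟨x', hx', rfl⟩, hyx⟩
      have : x' = x := by
        apply Subtype.ext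
        rw [← he x', hyx]
      rw [← this]; exact hx'

end Cfsg.Agent.Lib.Helper90
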