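import Mathlib
import Cfsg.Prelude.Def_FischerSpaces
import Cfsg.Agent.Lib.Helper90.FischerIso
import Cfsg.Agent.Lib.Helper90.FischerTri
set_option autoImplicit false

/-!
Case A of the Fischer space property: two meeting lines `{a,b,c}`, `{a,d,e}` with `b, d` commuting generate a
dual affine plane of order two.
-/

namespace Cfsg.Agent.Lib.Helper90

open Cfsg Cfsg.LineSystem

def dap01 : DualAffinePoint := ⟨{0,1}, by decide⟩
def dap12 : DualAffinePoint := ⟨{1,2}, by decide⟩
def dap02 : DualAffinePoint := ⟨{0,2}, by decide⟩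
def dap03 : DualAffinePoint := ⟨{0,3}, by decide⟩
def dap13 : DualAffinePoint := ⟨{1,3}, by decide⟩
def dap23 : DualAffinePoint := ⟨{2,3}, by decide⟩

theorem dap_cases : ∀ s : DualAffinePoint,
    s = dap01 ∨ s = dap12 ∨ s = dap02 ∨ s = dap03 ∨ s = dap13 ∨ s = dap23 := by
  decide

theorem dap_pairs : ∀ y₁ y₂ : DualAffinePoint, y₁ ≠ y₂ →
    (y₁ = dap01 ∧ y₂ = dap23) ∨ (y₁ = dap23 ∧ y₂ = dap01) ∨ (y₁ = dap12 ∧ y₂ = dap03) ∨
    (y₁ = dap03 ∧ y₂ = dap12) ∨ (y₁ = dap02 ∧ y₂ = dap13) ∨ (y₁ = dap13 ∧ y₂ = dap02) ∨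
    ∃ i : Fin 4, i ∉ y₁.val ∧ i ∉ y₂.val := by
  decide

theorem dap_line0 : ∀ s : DualAffinePoint, (0 : Fin 4) ∉ s.val ↔ (s = dap12 ∨ s = dap13 ∨ s = dap23) := by
  decide
theorem dap_line1 : ∀ s : DualAffinePoint, (1 : Fin 4) ∉ s.val ↔ (s = dap02 ∨ s = dap03 ∨ s = dap23) := by
  decide
theorem dap_line2 : ∀ s : DualAffinePoint, (2 : Fin 4) ∉ s.val ↔ (s = dap01 ∨ s = dap03 ∨ s = dap13) := by
  decide
theorem dap_line3 : ∀ s : DualAffinePoint, (3 : Fin 4) ∉ s.val ↔ (s = dap01 ∨ s = dap12 ∨ s = dap02) := by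
  decide

theorem dap_lineSet0 : {s : DualAffinePoint | (0 : Fin 4) ∉ s.val} = {dap12, dap13, dap23} := by
  ext s; exact dap_line0 s
theorem dap_lineSet1 : {s : DualAffinePoint | (1 : Fin 4) ∉ s.val} = {dap02, dap03, dap23} := by
  ext s; exact dap_line1 s
theorem dap_lineSet2 : {s : DualAffinePoint | (2 : Fin 4) ∉ s.val} = {dap01, dap03, dap13} := by
  ext s; exact dap_line2 s
theorem dap_lineSet3 : {s : DualAffinePoint | (3 : Fin 4) ∉ s.val} = {dap01, dap12, dap02} := by
  ext s; exact dap_line3 s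

/-- the parametrisation of six points by the points of the dual affine plane -/
def dapMap {X : Type*} (xa xb xc xd xe xf : X) : DualAffinePoint → X := fun s =>
  if s = dap01 then xa else if s = dap12 then xb else if s = dap02 then xc else
  if s = dap03 then xd else if s = dap13 then xe else xf

section
variable {X : Type*} (xa xb xc xd xe xf : X)
theorem dapMap01 : dapMap xa xb xc xd xe xf dap01 = xa := by
  simp [dapMap]
theorem dapMap12 : dapMap xa xb xc xd xe xf dap12 = xb := by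
  have h1 : dap12 ≠ dap01 := by decide
  simp [dapMap, h1]
theorem dapMap02 : dapMap xa xb xc xd xe xf dap02 = xc := by
  have h1 : dap02 ≠ dap01 := by decide
  have h2 : dap02 ≠ dap12 := by decide
  simp [dapMap, h1, h2]
theorem dapMap03 : dapMap xa xb xc xd xe xf dap03 = xd := by
  have h1 : dap03 ≠ dap01 := by decide
  have h2 : dap03 ≠ dap12 := by decide
  have h3 : dap03 ≠ dap02 := by decide
  simp [dapMap, h1, h2, h3]
theorem dapMap13 : dapMap xa xb xc xd xe xf dap13 = xe := by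
  have h1 : dap13 ≠ dap01 := by decide
  have h2 : dap13 ≠ dap12 := by decide
  have h3 : dap13 ≠ dap02 := by decide
  have h4 : dap13 ≠ dap03 := by decide
  simp [dapMap, h1, h2, h3, h4]
theorem dapMap23 : dapMap xa xb xc xd xe xf dap23 = xf := by
  have h1 : dap23 ≠ dap01 := by decide
  have h2 : dap23 ≠ dap12 := by decide
  have h3 : dap23 ≠ dap02 := by decide
  have h4 : dap23 ≠ dap03 := by decide
  have h5 : dap23 ≠ dap13 := by decide
  simp [dapMap, h1, h2, h3, h4, h5]
end

theorem inj_on_triple {Y X : Type*} (F : Y → X) {u v w : Y} (h12 : F u ≠ F v) (h13 : F u ≠ F w)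
    (h23 : F v ≠ F w) {y₁ y₂ : Y} (h1 : y₁ = u ∨ y₁ = v ∨ y₁ = w) (h2 : y₂ = u ∨ y₂ = v ∨ y₂ = w)
    (h : F y₁ = F y₂) : y₁ = y₂ := by
  rcases h1 with rfl | rfl | rfl <;> rcases h2 with rfl | rfl | rfl
  · rfl
  · exact absurd h h12
  · exact absurd h h13
  · exact absurd h.symm h12
  · rfl
  · exact absurd h h23
  · exact absurd h.symm h13
  · exact absurd h.symm h23
  · rfl

variable {G : Type*} [Group G] {D : Set G}

theorem caseA_core (hT : IsThreeTranspositionSet D) (hc : ∀ g : G, ∀ d ∈ D, g * d * g⁻¹ ∈ D)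
    {a b c d e f : G}
    (h1 : Tri D a b c) (h2 : Tri D a d e) (h3 : Tri D b e f) (h4 : Tri D c d f)
    (c1 : Commute a f) (c2 : Commute b d) (c3 : Commute c e)
    (n1 : a ≠ f) (n2 : b ≠ d) (n3 : c ≠ e) :
    Isomorphic (restrict (threeTranspositionLines D)
      (span (threeTranspositionLines D) (lineSet D a b c ∪ lineSet D a d e))) dualAffinePlaneTwo := by
  have ha := h1.hx
  have hb := h1.hy
  have hcD := h1.mem_z hc
  have hd := h2.hy
  have he := h2.mem_z hc
  have hf := h3.mem_z hc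
  set pa : D := ⟨a, ha⟩ with hpa
  set pb : D := ⟨b, hb⟩ with hpb
  set pc : D := ⟨c, hcD⟩ with hpc
  set pd : D := ⟨d, hd⟩ with hpd
  set pe : D := ⟨e, he⟩ with hpe
  set pf : D := ⟨f, hf⟩ with hpf
  set F : DualAffinePoint → D := dapMap pa pb pc pd pe pf with hF
  have F01 : F dap01 = pa := dapMap01 _ _ _ _ _ _
  have F12 : F dap12 = pb := dapMap12 _ _ _ _ _ _
  have F02 : F dap02 = pc := dapMap02 _ _ _ _ _ _
  have F03 : F dap03 = pd := dapMap03 _ _ _ _ _ _
  have F13 : F dap13 = pe := dapMap13 _ _ _ _ _ _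
  have F23 : F dap23 = pf := dapMap23 _ _ _ _ _ _
  -- images of the four model lines
  have im0 : F '' {s : DualAffinePoint | (0 : Fin 4) ∉ s.val} = lineSet D b e f := by
    rw [dap_lineSet0, Set.image_insert_eq, Set.image_pair, F12, F13, F23, lineSet_eq_triple hb he hf]
  have im1 : F '' {s : DualAffinePoint | (1 : Fin 4) ∉ s.val} = lineSet D c d f := by
    rw [dap_lineSet1, Set.image_insert_eq, Set.image_pair, F02, F03, F23, lineSet_eq_triple hcD hd hf]
  have im2 : F '' {s : DualAffinePoint | (2 : Fin 4) ∉ s.val} = lineSet D a d e := by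
    rw [dap_lineSet2, Set.image_insert_eq, Set.image_pair, F01, F03, F13, lineSet_eq_triple ha hd he]
  have im3 : F '' {s : DualAffinePoint | (3 : Fin 4) ∉ s.val} = lineSet D a b c := by
    rw [dap_lineSet3, Set.image_insert_eq, Set.image_pair, F01, F12, F02, lineSet_eq_triple ha hb hcD]
  have ne_of {x y : G} (hx : x ∈ D) (hy : y ∈ D) (hxy : x ≠ y) : (⟨x, hx⟩ : D) ≠ ⟨y, hy⟩ :=
    fun h => hxy (congrArg Subtype.val h)
  -- injectivity
  have hinj : Function.Injective F := by
    intro y₁ y₂ h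
    by_contra hne
    rcases dap_pairs y₁ y₂ hne with ⟨rfl, rfl⟩ | ⟨rfl, rfl⟩ | ⟨rfl, rfl⟩ | ⟨rfl, rfl⟩ | ⟨rfl, rfl⟩ |
      ⟨rfl, rfl⟩ | ⟨i, hi1, hi2⟩
    · rw [F01, F23] at h; exact n1 (congrArg Subtype.val h)
    · rw [F01, F23] at h; exact n1 (congrArg Subtype.val h).symm
    · rw [F12, F03] at h; exact n2 (congrArg Subtype.val h)
    · rw [F12, F03] at h; exact n2 (congrArg Subtype.val h).symm
    · rw [F02, F13] at h; exact n3 (congrArg Subtype.val h)
    · rw [F02, F13] at h; exact n3 (congrArg Subtype.val h).symm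
    · apply hne
      fin_cases i
      · refine inj_on_triple F ?_ ?_ ?_ ((dap_line0 y₁).mp hi1) ((dap_line0 y₂).mp hi2) h
        · rw [F12, F13]; exact ne_of hb he h3.ne12
        · rw [F12, F23]; exact ne_of hb hf (h3.ne13 hT hc)
        · rw [F13, F23]; exact ne_of he hf (h3.ne23 hT hc)
      · refine inj_on_triple F ?_ ?_ ?_ ((dap_line1 y₁).mp hi1) ((dap_line1 y₂).mp hi2) h
        · rw [F02, F03]; exact ne_of hcD hd h4.ne12
        · rw [F02, F23]; exact ne_of hcD hf (h4.ne13 hT hc)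
        · rw [F03, F23]; exact ne_of hd hf (h4.ne23 hT hc)
      · refine inj_on_triple F ?_ ?_ ?_ ((dap_line2 y₁).mp hi1) ((dap_line2 y₂).mp hi2) h
        · rw [F01, F03]; exact ne_of ha hd h2.ne12
        · rw [F01, F13]; exact ne_of ha he (h2.ne13 hT hc)
        · rw [F03, F13]; exact ne_of hd he (h2.ne23 hT hc)
      · refine inj_on_triple F ?_ ?_ ?_ ((dap_line3 y₁).mp hi1) ((dap_line3 y₂).mp hi2) h
        · rw [F01, F12]; exact ne_of ha hb h1.ne12
        · rw [F01, F02]; exact ne_of ha hcD (h1.ne13 hT hc)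
        · rw [F12, F02]; exact ne_of hb hcD (h1.ne23 hT hc)
  apply fischer_iso_of_param (threeTranspositionLines D) dualAffinePlaneTwo (tt_partialLinear hT hc)
    (tt_two_points hT hc) F hinj
  · -- model lines map to lines
    rintro k ⟨i, rfl⟩
    fin_cases i
    · show F '' {s : DualAffinePoint | (0 : Fin 4) ∉ s.val} ∈ _
      rw [im0]; exact h3.mem_lines
    · show F '' {s : DualAffinePoint | (1 : Fin 4) ∉ s.val} ∈ _
      rw [im1]; exact h4.mem_lines
    · show F '' {s : DualAffinePoint | (2 : Fin 4) ∉ s.val} ∈ _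
      rw [im2]; exact h2.mem_lines
    · show F '' {s : DualAffinePoint | (3 : Fin 4) ∉ s.val} ∈ _
      rw [im3]; exact h1.mem_lines
  · -- collinear image points come from collinear model points
    intro y₁ y₂ hne hcol
    have hFne : F y₁ ≠ F y₂ := fun h => hne (hinj h)
    have hnc := not_commute_of_collinear hT hc hFne hcol
    rcases dap_pairs y₁ y₂ hne with ⟨rfl, rfl⟩ | ⟨rfl, rfl⟩ | ⟨rfl, rfl⟩ | ⟨rfl, rfl⟩ | ⟨rfl, rfl⟩ |
      ⟨rfl, rfl⟩ | ⟨i, hi1, hi2⟩
    · rw [F01, F23] at hnc; exact absurd c1 hnc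
    · rw [F01, F23] at hnc; exact absurd c1.symm hnc
    · rw [F12, F03] at hnc; exact absurd c2 hnc
    · rw [F12, F03] at hnc; exact absurd c2.symm hnc
    · rw [F02, F13] at hnc; exact absurd c3 hnc
    · rw [F02, F13] at hnc; exact absurd c3.symm hnc
    · exact ⟨{s | i ∉ s.val}, ⟨i, rfl⟩, hi1, hi2⟩
  · -- the two lines lie in the range
    intro x hx
    rcases hx with hx | hx
    · rw [← im3] at hx; exact Set.image_subset_range F _ hx
    · rw [← im2] at hx; exact Set.image_subset_range F _ hx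
  · -- generation
    intro T hAT hTsub
    have hl : lineSet D a b c ⊆ T := fun x hx => hAT (Or.inl hx)
    have hm : lineSet D a d e ⊆ T := fun x hx => hAT (Or.inr hx)
    have hbT : pb ∈ T := hl (by simp [lineSet, hpb])
    have heT : pe ∈ T := hm (by simp [lineSet, hpe])
    have hbe : pb ≠ pe := ne_of hb he h3.ne12
    have hline : lineSet D b e f ⊆ T :=
      hTsub _ h3.mem_lines pb hbT pe heT hbe (by simp [lineSet, hpb]) (by simp [lineSet, hpe])
    rintro x ⟨y, rfl⟩
    rcases dap_cases y with rfl | rfl | rfl | rfl | rfl | rfl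
    · rw [F01]; exact hl (by simp [lineSet, hpa])
    · rw [F12]; exact hbT
    · rw [F02]; exact hl (by simp [lineSet, hpc])
    · rw [F03]; exact hm (by simp [lineSet, hpd])
    · rw [F13]; exact heT
    · rw [F23]; exact hline (by simp [lineSet, hpf])

end Cfsg.Agent.Lib.Helper90
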