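import Mathlib
import Cfsg.Prelude.Def_FischerSpaces
import Cfsg.Agent.Lib.Helper90.FischerIso
import Cfsg.Agent.Lib.Helper90.FischerTri
set_option autoImplicit false

/-!
Case B of the Fischer space property: nine points parametrised by the affine plane of order three with the
twelve lines being lines of 3-transpositions generate an affine plane of order three.
-/

namespace Cfsg.Agent.Lib.Helper90

open Cfsg Cfsg.LineSystem

/-- the points of the affine plane of order three -/
abbrev AffPt3 := Fin 2 → ZMod 3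

/-- the twelve lines of the affine plane of order three, in the labelling used below -/
def affLines12 : List (AffPt3 × AffPt3 × AffPt3) :=
  [(![0,0],![1,0],![2,0]), (![0,0],![0,1],![0,2]), (![1,0],![0,1],![2,2]), (![1,0],![0,2],![2,1]),
   (![2,0],![0,1],![1,2]), (![2,0],![0,2],![1,1]), (![2,0],![2,2],![2,1]), (![1,0],![1,2],![1,1]),
   (![0,2],![2,2],![1,2]), (![0,1],![2,1],![1,1]), (![0,0],![2,2],![1,1]), (![0,0],![2,1],![1,2])]

def affPerms6 (t : AffPt3 × AffPt3 × AffPt3) : List (AffPt3 × AffPt3 × AffPt3) :=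
  [(t.1,t.2.1,t.2.2),(t.2.1,t.1,t.2.2),(t.1,t.2.2,t.2.1),(t.2.2,t.1,t.2.1),(t.2.1,t.2.2,t.1),(t.2.2,t.2.1,t.1)]

theorem aff_comb : ∀ u v : AffPt3, u ≠ v → ∃ t ∈ affLines12, (u, v, -u - v) ∈ affPerms6 t := by
  decide

theorem aff_cases : ∀ y : AffPt3, y = ![0,0] ∨ y = ![1,0] ∨ y = ![2,0] ∨ y = ![0,1] ∨ y = ![0,2] ∨
    y = ![2,2] ∨ y = ![2,1] ∨ y = ![1,2] ∨ y = ![1,1] := by
  decide

theorem aff_third : ∀ v w : AffPt3, v + (2 : ZMod 3) • w = -v - (v + w) := by
  decide

theorem zmod3_cases : ∀ c : ZMod 3, c = 0 ∨ c = 1 ∨ c = 2 := by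
  decide

theorem aff_line_eq (v w : AffPt3) :
    {x : AffPt3 | ∃ c : ZMod 3, x = v + c • w} = {v, v + w, -v - (v + w)} := by
  ext x
  simp only [Set.mem_setOf_eq, Set.mem_insert_iff, Set.mem_singleton_iff]
  constructor
  · rintro ⟨c, rfl⟩
    rcases zmod3_cases c with rfl | rfl | rfl
    · left; simp
    · right; left; simp
    · right; right; exact aff_third v w
  · rintro (rfl | rfl | rfl)
    · exact ⟨0, by simp⟩
    · exact ⟨1, by simp⟩
    · exact ⟨2, (aff_third v w).symm⟩

variable {G : Type*} [Group G] {D : Set G}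

theorem caseB_core (hT : IsThreeTranspositionSet D) (hc : ∀ g : G, ∀ d ∈ D, g * d * g⁻¹ ∈ D)
    (tbl : AffPt3 → G)
    (H : ∀ t ∈ affLines12, Tri D (tbl t.1) (tbl t.2.1) (tbl t.2.2)) :
    Isomorphic (restrict (threeTranspositionLines D)
      (span (threeTranspositionLines D)
        (lineSet D (tbl ![0,0]) (tbl ![1,0]) (tbl ![2,0]) ∪ lineSet D (tbl ![0,0]) (tbl ![0,1]) (tbl ![0,2]))))
      affinePlaneThree := by
  -- all triples
  have T : ∀ u v : AffPt3, u ≠ v → Tri D (tbl u) (tbl v) (tbl (-u - v)) := by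
    intro u v huv
    obtain ⟨t, ht, hp⟩ := aff_comb u v huv
    have h0 := H t ht
    simp only [affPerms6, List.mem_cons, List.not_mem_nil, or_false, Prod.mk.injEq] at hp
    rcases hp with ⟨e1, e2, e3⟩ | ⟨e1, e2, e3⟩ | ⟨e1, e2, e3⟩ | ⟨e1, e2, e3⟩ | ⟨e1, e2, e3⟩ | ⟨e1, e2, e3⟩
    · rw [e3, e1, e2]; exact h0
    · rw [e3, e1, e2]; exact h0.swap12 hT
    · rw [e3, e1, e2]; exact h0.swap23 hT hc
    · rw [e3, e1, e2]; exact (h0.swap23 hT hc).swap12 hT
    · rw [e3, e1, e2]; exact (h0.swap12 hT).swap23 hT hc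
    · rw [e3, e1, e2]; exact ((h0.swap12 hT).swap23 hT hc).swap12 hT
  have hne1 : ∀ u : AffPt3, u ≠ u + ![1, 0] := by decide
  have hmem : ∀ u : AffPt3, tbl u ∈ D := fun u => (T u (u + ![1,0]) (hne1 u)).hx
  set F : AffPt3 → D := fun u => ⟨tbl u, hmem u⟩ with hF
  have hinj : Function.Injective F := by
    intro u v h
    by_contra hne
    exact (T u v hne).ne12 (congrArg Subtype.val h)
  have himage : ∀ u v : AffPt3, u ≠ v →
      F '' {u, v, -u - v} = lineSet D (tbl u) (tbl v) (tbl (-u - v)) := by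
    intro u v _
    rw [Set.image_insert_eq, Set.image_pair, lineSet_eq_triple (hmem u) (hmem v) (hmem _)]
  apply fischer_iso_of_param (threeTranspositionLines D) affinePlaneThree (tt_partialLinear hT hc)
    (tt_two_points hT hc) F hinj
  · rintro k ⟨v, w, hw, rfl⟩
    rw [aff_line_eq]
    have hvw : v ≠ v + w := fun h => hw (by simpa using h.symm)
    rw [himage v (v + w) hvw]
    exact (T v (v + w) hvw).mem_lines
  · intro y₁ y₂ hne _
    refine ⟨{x | ∃ c : ZMod 3, x = y₁ + c • (y₂ - y₁)}, ⟨y₁, y₂ - y₁, sub_ne_zero.mpr (Ne.symm hne), rfl⟩,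
      ⟨0, by simp⟩, ⟨1, by simp⟩⟩
  · intro x hx
    rcases hx with hx | hx
    · simp only [lineSet, Set.mem_setOf_eq] at hx
      rcases hx with hx | hx | hx
      · exact ⟨![0,0], Subtype.ext hx.symm⟩
      · exact ⟨![1,0], Subtype.ext hx.symm⟩
      · exact ⟨![2,0], Subtype.ext hx.symm⟩
    · simp only [lineSet, Set.mem_setOf_eq] at hx
      rcases hx with hx | hx | hx
      · exact ⟨![0,0], Subtype.ext hx.symm⟩
      · exact ⟨![0,1], Subtype.ext hx.symm⟩
      · exact ⟨![0,2], Subtype.ext hx.symm⟩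
  · intro S hAS hSsub
    have hl : lineSet D (tbl ![0,0]) (tbl ![1,0]) (tbl ![2,0]) ⊆ S := fun x hx => hAS (Or.inl hx)
    have hm : lineSet D (tbl ![0,0]) (tbl ![0,1]) (tbl ![0,2]) ⊆ S := fun x hx => hAS (Or.inr hx)
    have closed : ∀ u v : AffPt3, u ≠ v → F u ∈ S → F v ∈ S → F (-u - v) ∈ S := by
      intro u v huv hu hv
      have hline := hSsub _ (T u v huv).mem_lines (F u) hu (F v) hv (fun h => huv (hinj h))
        (by simp [lineSet, hF]) (by simp [lineSet, hF])
      exact hline (by simp [lineSet, hF])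
    have h00 : F ![0,0] ∈ S := hl (by simp [lineSet, hF])
    have h10 : F ![1,0] ∈ S := hl (by simp [lineSet, hF])
    have h20 : F ![2,0] ∈ S := hl (by simp [lineSet, hF])
    have h01 : F ![0,1] ∈ S := hm (by simp [lineSet, hF])
    have h02 : F ![0,2] ∈ S := hm (by simp [lineSet, hF])
    have h22 : F ![2,2] ∈ S := by
      have := closed ![1,0] ![0,1] (by decide) h10 h01
      rwa [show (-![1,0] - ![0,1] : AffPt3) = ![2,2] by decide] at this
    have h21 : F ![2,1] ∈ S := by
      have := closed ![1,0] ![0,2] (by decide) h10 h02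
      rwa [show (-![1,0] - ![0,2] : AffPt3) = ![2,1] by decide] at this
    have h12 : F ![1,2] ∈ S := by
      have := closed ![2,0] ![0,1] (by decide) h20 h01
      rwa [show (-![2,0] - ![0,1] : AffPt3) = ![1,2] by decide] at this
    have h11 : F ![1,1] ∈ S := by
      have := closed ![2,0] ![0,2] (by decide) h20 h02
      rwa [show (-![2,0] - ![0,2] : AffPt3) = ![1,1] by decide] at this
    rintro x ⟨y, rfl⟩
    rcases aff_cases y with rfl | rfl | rfl | rfl | rfl | rfl | rfl | rfl | rfl <;> assumption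

end Cfsg.Agent.Lib.Helper90
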