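import Mathlib
import Cfsg.Prelude.Def_FischerSpaces
import Cfsg.Agent.Lib.Helper90.FischerCaseA
import Cfsg.Agent.Lib.Helper90.FischerCaseB
set_option autoImplicit false

/-!
Assembly of the two cases of the Fischer space property from two meeting lines of 3-transpositions.
-/

namespace Cfsg.Agent.Lib.Helper90

open Cfsg Cfsg.LineSystem

/-- the parametrisation of nine points by the points of the affine plane of order three -/
def affMap {X : Type*} (xa xb xc xd xe xp xq xr xs : X) : AffPt3 → X := fun y =>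
  if y = ![0,0] then xa else if y = ![1,0] then xb else if y = ![2,0] then xc else
  if y = ![0,1] then xd else if y = ![0,2] then xe else if y = ![2,2] then xp else
  if y = ![2,1] then xq else if y = ![1,2] then xr else xs

section
variable {X : Type*} (xa xb xc xd xe xp xq xr xs : X)

theorem affMap00 : affMap xa xb xc xd xe xp xq xr xs ![0,0] = xa := by
  simp [affMap]
theorem affMap10 : affMap xa xb xc xd xe xp xq xr xs ![1,0] = xb := by
  have h0 : (![1,0] : AffPt3) ≠ ![0,0] := by decide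
  simp [affMap, h0]
theorem affMap20 : affMap xa xb xc xd xe xp xq xr xs ![2,0] = xc := by
  have h0 : (![2,0] : AffPt3) ≠ ![0,0] := by decide
  have h1 : (![2,0] : AffPt3) ≠ ![1,0] := by decide
  simp [affMap, h0, h1]
theorem affMap01 : affMap xa xb xc xd xe xp xq xr xs ![0,1] = xd := by
  have h0 : (![0,1] : AffPt3) ≠ ![0,0] := by decide
  have h1 : (![0,1] : AffPt3) ≠ ![1,0] := by decide
  have h2 : (![0,1] : AffPt3) ≠ ![2,0] := by decide
  simp [affMap, h0, h1, h2]
theorem affMap02 : affMap xa xb xc xd xe xp xq xr xs ![0,2] = xe := by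
  have h0 : (![0,2] : AffPt3) ≠ ![0,0] := by decide
  have h1 : (![0,2] : AffPt3) ≠ ![1,0] := by decide
  have h2 : (![0,2] : AffPt3) ≠ ![2,0] := by decide
  have h3 : (![0,2] : AffPt3) ≠ ![0,1] := by decide
  simp [affMap, h0, h1, h2, h3]
theorem affMap22 : affMap xa xb xc xd xe xp xq xr xs ![2,2] = xp := by
  have h0 : (![2,2] : AffPt3) ≠ ![0,0] := by decide
  have h1 : (![2,2] : AffPt3) ≠ ![1,0] := by decide
  have h2 : (![2,2] : AffPt3) ≠ ![2,0] := by decide
  have h3 : (![2,2] : AffPt3) ≠ ![0,1] := by decide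
  have h4 : (![2,2] : AffPt3) ≠ ![0,2] := by decide
  simp [affMap, h0, h1, h2, h3, h4]
theorem affMap21 : affMap xa xb xc xd xe xp xq xr xs ![2,1] = xq := by
  have h0 : (![2,1] : AffPt3) ≠ ![0,0] := by decide
  have h1 : (![2,1] : AffPt3) ≠ ![1,0] := by decide
  have h2 : (![2,1] : AffPt3) ≠ ![2,0] := by decide
  have h3 : (![2,1] : AffPt3) ≠ ![0,1] := by decide
  have h4 : (![2,1] : AffPt3) ≠ ![0,2] := by decide
  have h5 : (![2,1] : AffPt3) ≠ ![2,2] := by decide
  simp [affMap, h0, h1, h2, h3, h4, h5]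
theorem affMap12 : affMap xa xb xc xd xe xp xq xr xs ![1,2] = xr := by
  have h0 : (![1,2] : AffPt3) ≠ ![0,0] := by decide
  have h1 : (![1,2] : AffPt3) ≠ ![1,0] := by decide
  have h2 : (![1,2] : AffPt3) ≠ ![2,0] := by decide
  have h3 : (![1,2] : AffPt3) ≠ ![0,1] := by decide
  have h4 : (![1,2] : AffPt3) ≠ ![0,2] := by decide
  have h5 : (![1,2] : AffPt3) ≠ ![2,2] := by decide
  have h6 : (![1,2] : AffPt3) ≠ ![2,1] := by decide
  simp [affMap, h0, h1, h2, h3, h4, h5, h6]
theorem affMap11 : affMap xa xb xc xd xe xp xq xr xs ![1,1] = xs := by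
  have h0 : (![1,1] : AffPt3) ≠ ![0,0] := by decide
  have h1 : (![1,1] : AffPt3) ≠ ![1,0] := by decide
  have h2 : (![1,1] : AffPt3) ≠ ![2,0] := by decide
  have h3 : (![1,1] : AffPt3) ≠ ![0,1] := by decide
  have h4 : (![1,1] : AffPt3) ≠ ![0,2] := by decide
  have h5 : (![1,1] : AffPt3) ≠ ![2,2] := by decide
  have h6 : (![1,1] : AffPt3) ≠ ![2,1] := by decide
  have h7 : (![1,1] : AffPt3) ≠ ![1,2] := by decide
  simp [affMap, h0, h1, h2, h3, h4, h5, h6, h7]
end
variable {G : Type*} [Group G] {D : Set G}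

theorem commute_conj {x y : G} (h : Commute x y) (g : G) :
    Commute (g * x * g⁻¹) (g * y * g⁻¹) := by
  show g * x * g⁻¹ * (g * y * g⁻¹) = g * y * g⁻¹ * (g * x * g⁻¹)
  have h1 : g * x * g⁻¹ * (g * y * g⁻¹) = g * (x * y) * g⁻¹ := by group
  have h2 : g * y * g⁻¹ * (g * x * g⁻¹) = g * (y * x) * g⁻¹ := by group
  rw [h1, h2, h.eq]

theorem conj_injective {x y : G} (g : G) (h : g * x * g⁻¹ = g * y * g⁻¹) : x = y :=
  mul_left_cancel (mul_right_cancel h)

/-- Case A: `b` and `d` commute. -/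
theorem fischer_caseA (hT : IsThreeTranspositionSet D) (hc : ∀ g : G, ∀ d ∈ D, g * d * g⁻¹ ∈ D)
    {a b c d e : G} (h1 : Tri D a b c) (h2 : Tri D a d e) (cbd : Commute b d) (nbd : b ≠ d) :
    Isomorphic (restrict (threeTranspositionLines D)
      (span (threeTranspositionLines D) (lineSet D a b c ∪ lineSet D a d e))) dualAffinePlaneTwo := by
  have hba : Tri D b a c := h1.swap12 hT
  have hda : Tri D d a e := h2.swap12 hT
  have cce : Commute c e := by
    rw [hba.hz, hda.hz]; exact commute_conj cbd a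
  have nce : c ≠ e := by
    intro h
    rw [hba.hz, hda.hz] at h
    exact nbd (conj_injective a h)
  have hdea : Tri D d e a := hda.swap23 hT hc
  have nbe : ¬ Commute b e := by
    intro hbe
    apply h1.nc
    have : Commute b a := by
      rw [hdea.hz]; exact (hbe.mul_right cbd).mul_right hbe.inv_right
    exact this.symm
  obtain ⟨f, hf⟩ : ∃ f : G, f = e * b * e⁻¹ := ⟨_, rfl⟩
  have h3 : Tri D b e f := ⟨h1.hy, h2.mem_z hc, nbe, hf⟩
  have heb : Tri D e b f := h3.swap12 hT
  have hcba : Tri D c b a := ((h1.swap23 hT hc).swap12 hT).swap23 hT hc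
  have caf : Commute a f := by
    rw [hcba.hz, heb.hz]; exact commute_conj cce b
  have head : Tri D e a d := (h2.swap23 hT hc).swap12 hT
  have h4 : Tri D c d f := by
    have := h3.conj hc a
    rw [← hba.hz, ← head.hz] at this
    have hfa : a * f * a⁻¹ = f := by rw [caf.eq, mul_inv_cancel_right]
    rwa [hfa] at this
  have naf : a ≠ f := by
    intro h
    have hfbe : Tri D f b e := (h3.swap23 hT hc).swap12 hT
    apply nce
    rw [h1.hz, hfbe.hz, h]
  exact caseA_core hT hc h1 h2 h3 h4 caf cbd cce naf nbd nce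

/-- Case B: none of `b, c` commutes with any of `d, e`. -/
theorem fischer_caseB (hT : IsThreeTranspositionSet D) (hc : ∀ g : G, ∀ d ∈ D, g * d * g⁻¹ ∈ D)
    {a b c d e : G} (h1 : Tri D a b c) (h2 : Tri D a d e)
    (nbd : ¬ Commute b d) (nbe : ¬ Commute b e) (ncd : ¬ Commute c d) (nce : ¬ Commute c e) :
    Isomorphic (restrict (threeTranspositionLines D)
      (span (threeTranspositionLines D) (lineSet D a b c ∪ lineSet D a d e))) affinePlaneThree := by
  have hb := h1.hy
  have hcD := h1.mem_z hc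
  have hd := h2.hy
  have he := h2.mem_z hc
  obtain ⟨p, hp⟩ : ∃ p : G, p = d * b * d⁻¹ := ⟨_, rfl⟩
  obtain ⟨q, hq⟩ : ∃ q : G, q = e * b * e⁻¹ := ⟨_, rfl⟩
  obtain ⟨r, hr⟩ : ∃ r : G, r = d * c * d⁻¹ := ⟨_, rfl⟩
  obtain ⟨s, hs⟩ : ∃ s : G, s = e * c * e⁻¹ := ⟨_, rfl⟩
  have h3 : Tri D b d p := ⟨hb, hd, nbd, hp⟩
  have h4 : Tri D b e q := ⟨hb, he, nbe, hq⟩
  have h5 : Tri D c d r := ⟨hcD, hd, ncd, hr⟩
  have h6 : Tri D c e s := ⟨hcD, he, nce, hs⟩
  have h7 : Tri D c p q := by
    have := h2.conj hc b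
    rwa [← h1.hz, ← (h3.swap12 hT).hz, ← (h4.swap12 hT).hz] at this
  have h8 : Tri D b r s := by
    have := h2.conj hc c
    rwa [← (h1.swap23 hT hc).hz, ← (h5.swap12 hT).hz, ← (h6.swap12 hT).hz] at this
  have h9 : Tri D e p r := by
    have := h1.conj hc d
    rwa [← h2.hz, ← h3.hz, ← h5.hz] at this
  have h10 : Tri D d q s := by
    have := h1.conj hc e
    rwa [← (h2.swap23 hT hc).hz, ← h4.hz, ← h6.hz] at this
  have h11 : Tri D a p s := by
    have hconj := h3.conj hc a
    rw [← (h1.swap12 hT).hz, ← (h2.swap12 hT).hz] at hconj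
    have hs' : a * p * a⁻¹ = s := hconj.third_unique h6
    have nap : ¬ Commute p a := by
      intro hcom
      apply ncd
      have := commute_conj hcom b
      rw [← ((h3.swap23 hT hc).swap12 hT).hz, ← h1.hz] at this
      exact this.symm
    have : Tri D p a s := ⟨h3.mem_z hc, h1.hx, nap, hs'.symm⟩
    exact this.swap12 hT
  have h12 : Tri D a q r := by
    have hconj := h4.conj hc a
    rw [← (h1.swap12 hT).hz, ← ((h2.swap23 hT hc).swap12 hT).hz] at hconj
    have hr' : a * q * a⁻¹ = r := hconj.third_unique h5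
    have naq : ¬ Commute q a := by
      intro hcom
      apply nce
      have := commute_conj hcom b
      rw [← ((h4.swap23 hT hc).swap12 hT).hz, ← h1.hz] at this
      exact this.symm
    have : Tri D q a r := ⟨h4.mem_z hc, h1.hx, naq, hr'.symm⟩
    exact this.swap12 hT
  set tbl : AffPt3 → G := affMap a b c d e p q r s with htbl
  have e00 : tbl ![0,0] = a := affMap00 _ _ _ _ _ _ _ _ _
  have e10 : tbl ![1,0] = b := affMap10 _ _ _ _ _ _ _ _ _
  have e20 : tbl ![2,0] = c := affMap20 _ _ _ _ _ _ _ _ _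
  have e01 : tbl ![0,1] = d := affMap01 _ _ _ _ _ _ _ _ _
  have e02 : tbl ![0,2] = e := affMap02 _ _ _ _ _ _ _ _ _
  have e22 : tbl ![2,2] = p := affMap22 _ _ _ _ _ _ _ _ _
  have e21 : tbl ![2,1] = q := affMap21 _ _ _ _ _ _ _ _ _
  have e12 : tbl ![1,2] = r := affMap12 _ _ _ _ _ _ _ _ _
  have e11 : tbl ![1,1] = s := affMap11 _ _ _ _ _ _ _ _ _
  have H : ∀ t ∈ affLines12, Tri D (tbl t.1) (tbl t.2.1) (tbl t.2.2) := by
    intro t ht
    simp only [affLines12, List.mem_cons, List.not_mem_nil, or_false] at ht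
    rcases ht with rfl | rfl | rfl | rfl | rfl | rfl | rfl | rfl | rfl | rfl | rfl | rfl
    · show Tri D (tbl ![0,0]) (tbl ![1,0]) (tbl ![2,0])
      rw [e00, e10, e20]; exact h1
    · show Tri D (tbl ![0,0]) (tbl ![0,1]) (tbl ![0,2])
      rw [e00, e01, e02]; exact h2
    · show Tri D (tbl ![1,0]) (tbl ![0,1]) (tbl ![2,2])
      rw [e10, e01, e22]; exact h3
    · show Tri D (tbl ![1,0]) (tbl ![0,2]) (tbl ![2,1])
      rw [e10, e02, e21]; exact h4
    · show Tri D (tbl ![2,0]) (tbl ![0,1]) (tbl ![1,2])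
      rw [e20, e01, e12]; exact h5
    · show Tri D (tbl ![2,0]) (tbl ![0,2]) (tbl ![1,1])
      rw [e20, e02, e11]; exact h6
    · show Tri D (tbl ![2,0]) (tbl ![2,2]) (tbl ![2,1])
      rw [e20, e22, e21]; exact h7
    · show Tri D (tbl ![1,0]) (tbl ![1,2]) (tbl ![1,1])
      rw [e10, e12, e11]; exact h8
    · show Tri D (tbl ![0,2]) (tbl ![2,2]) (tbl ![1,2])
      rw [e02, e22, e12]; exact h9
    · show Tri D (tbl ![0,1]) (tbl ![2,1]) (tbl ![1,1])
      rw [e01, e21, e11]; exact h10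
    · show Tri D (tbl ![0,0]) (tbl ![2,2]) (tbl ![1,1])
      rw [e00, e22, e11]; exact h11
    · show Tri D (tbl ![0,0]) (tbl ![2,1]) (tbl ![1,2])
      rw [e00, e21, e12]; exact h12
  have key := caseB_core hT hc tbl H
  rw [e00, e10, e20, e01, e02] at key
  exact key

/-- distinct meeting lines `{a,b,c}`, `{a,d,e}` have no further common point -/
theorem tri_disjoint (hT : IsThreeTranspositionSet D) (hc : ∀ g : G, ∀ d ∈ D, g * d * g⁻¹ ∈ D)
    {a b c d e : G} (h1 : Tri D a b c) (h2 : Tri D a d e)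
    (hne : lineSet D a b c ≠ lineSet D a d e) : b ≠ d ∧ b ≠ e ∧ c ≠ d ∧ c ≠ e := by
  refine ⟨?_, ?_, ?_, ?_⟩
  · intro h
    subst h
    apply hne
    rw [h1.third_unique h2]
  · intro h
    subst h
    apply hne
    rw [h1.third_unique (h2.swap23 hT hc), lineSet_swap23 a d b]
  · intro h
    subst h
    apply hne
    rw [← (h1.swap23 hT hc).third_unique h2, lineSet_swap23 a b c]
  · intro h
    subst h
    apply hne
    rw [(h1.swap23 hT hc).third_unique (h2.swap23 hT hc), lineSet_swap23 a d c, lineSet_swap23 a c d]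

/-- re-present a line with a given point first -/
theorem Tri.repr1 (hT : IsThreeTranspositionSet D) (hc : ∀ g : G, ∀ d ∈ D, g * d * g⁻¹ ∈ D)
    {x y z : G} (h : Tri D x y z) {u : D} (hu : u ∈ lineSet D x y z) :
    ∃ v w : G, Tri D u v w ∧ lineSet D x y z = lineSet D u v w := by
  simp only [lineSet, Set.mem_setOf_eq] at hu
  rcases hu with hu | hu | hu
  · exact ⟨y, z, by rw [hu]; exact h, by rw [hu]⟩
  · refine ⟨x, z, by rw [hu]; exact h.swap12 hT, ?_⟩
    rw [hu]; exact lineSet_swap12 x y z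
  · refine ⟨x, y, by rw [hu]; exact (h.swap23 hT hc).swap12 hT, ?_⟩
    rw [hu, lineSet_swap23 x y z, lineSet_swap12 x z y]

/-- The line system of a conjugation-invariant set of 3-transpositions is a Fischer space. -/
theorem tt_isFischerSpace (hT : IsThreeTranspositionSet D) (hc : ∀ g : G, ∀ d ∈ D, g * d * g⁻¹ ∈ D) :
    IsFischerSpace (threeTranspositionLines D) := by
  refine ⟨tt_partialLinear hT hc, ?_, ?_⟩
  · intro l hl
    obtain ⟨x, y, z, h, rfl⟩ := exists_tri_of_mem_lines hl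
    exact h.ncard hT hc
  · intro l hl m hm hlm hne
    obtain ⟨x, y, z, h, rfl⟩ := exists_tri_of_mem_lines hl
    obtain ⟨x', y', z', h', rfl⟩ := exists_tri_of_mem_lines hm
    obtain ⟨pa, hpal, hpam⟩ := hne
    obtain ⟨b, c, h1, e1⟩ := h.repr1 hT hc hpal
    obtain ⟨d, e, h2, e2⟩ := h'.repr1 hT hc hpam
    rw [e1, e2] at hlm ⊢
    obtain ⟨nbd, nbe, ncd, nce⟩ := tri_disjoint hT hc h1 h2 hlm
    by_cases c1 : Commute b d
    · left; exact fischer_caseA hT hc h1 h2 c1 nbd
    by_cases c2 : Commute b e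
    · left
      have := fischer_caseA hT hc h1 (h2.swap23 hT hc) c2 nbe
      rwa [lineSet_swap23 (pa : G) e d] at this
    by_cases c3 : Commute c d
    · left
      have := fischer_caseA hT hc (h1.swap23 hT hc) h2 c3 ncd
      rwa [lineSet_swap23 (pa : G) c b] at this
    by_cases c4 : Commute c e
    · left
      have := fischer_caseA hT hc (h1.swap23 hT hc) (h2.swap23 hT hc) c4 nce
      rwa [lineSet_swap23 (pa : G) c b, lineSet_swap23 (pa : G) e d] at this
    · right; exact fischer_caseB hT hc h1 h2 c1 c2 c3 c4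

end Cfsg.Agent.Lib.Helper90
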