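import Mathlib
import Cfsg.Agent.Lib.Helper90.ExtTwo

set_option autoImplicit false

namespace Cfsg.Agent.Lib.Helper90

section

variable {X : Type*} [Group X]

/-- The order of `Y ∪ xY` is twice the order of `Y` when `x ∉ Y`. -/
theorem card_extTwo (Y : Subgroup X) (x : X) (hx2 : x * x ∈ Y)
    (hxn' : ∀ y ∈ Y, x⁻¹ * y * x ∈ Y) (hx : x ∉ Y) :
    Nat.card (extTwo Y x hx2 hxn') = 2 * Nat.card Y := by
  have hle : Y ≤ extTwo Y x hx2 hxn' := fun w hw => Or.inl hw
  have hxE : x ∈ extTwo Y x hx2 hxn' := Or.inr (by rw [inv_mul_cancel]; exact Y.one_mem)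
  have h2 : Y.relIndex (extTwo Y x hx2 hxn') = 2 := by
    rw [Subgroup.relIndex_eq_two_iff_exists_notMem_and']
    refine ⟨x⁻¹, Subgroup.inv_mem _ hxE, fun h => hx (by simpa using Y.inv_mem h), ?_⟩
    intro b hb
    rcases hb with hb | hb
    · exact Or.inr hb
    · exact Or.inl hb
  have h3 := Subgroup.relIndex_mul_relIndex (⊥ : Subgroup X) Y (extTwo Y x hx2 hxn') bot_le hle
  rw [Subgroup.relIndex_bot_left, Subgroup.relIndex_bot_left, h2] at h3
  omega

/-- A strict inclusion of finite subgroups at least doubles the order. -/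
theorem two_mul_card_le_of_lt [Finite X] {H K : Subgroup X} (h : H < K) :
    2 * Nat.card H ≤ Nat.card K := by
  obtain ⟨m, hm⟩ := Subgroup.card_dvd_of_le h.le
  have hlt : Nat.card H < Nat.card K := by
    by_contra hcon
    push Not at hcon
    exact h.ne (Subgroup.eq_of_le_of_card_ge h.le hcon)
  have hpos : 0 < Nat.card H := Nat.card_pos
  have hm2 : 2 ≤ m := by
    by_contra hcon
    push Not at hcon
    interval_cases m
    · omega
    · omega
  calc 2 * Nat.card H ≤ m * Nat.card H := Nat.mul_le_mul_right _ hm2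
    _ = Nat.card K := by rw [hm, mul_comm]

end

/-- Fibre counting: if every fibre of `f` has at most `n` elements then `|α| ≤ n |β|`. -/
theorem card_le_mul_of_fiber_le {α β : Type*} [Finite α] [Finite β] (f : α → β) (n : ℕ)
    (h : ∀ a₀ : α, Nat.card {a // f a = f a₀} ≤ n) : Nat.card α ≤ n * Nat.card β := by
  classical
  have := Fintype.ofFinite β
  rw [← Nat.card_congr (Equiv.sigmaFiberEquiv f), Nat.card_sigma]
  calc ∑ b : β, Nat.card {a // f a = b} ≤ ∑ _b : β, n := by
        apply Finset.sum_le_sum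
        intro b _
        by_cases hb : ∃ a₀, f a₀ = b
        · obtain ⟨a₀, rfl⟩ := hb
          exact h a₀
        · have : IsEmpty {a // f a = b} := ⟨fun a => hb ⟨a.1, a.2⟩⟩
          rw [Nat.card_of_isEmpty]
          exact Nat.zero_le _
    _ = n * Nat.card β := by
        rw [Finset.sum_const, Finset.card_univ, Nat.card_eq_fintype_card, smul_eq_mul, mul_comm]

section

variable {X : Type*} [Group X] [Finite X]

/-- If the `P`-conjugates of `v` all lie in a finite set with at most `n` elements, then the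
centralizer of `v` in `P` has index at most `n`. -/
theorem card_le_mul_card_centralizer (P : Subgroup X) (v : X) (S : Finset X) (n : ℕ)
    (hS : S.card ≤ n) (hconj : ∀ x ∈ P, x * v * x⁻¹ ∈ S) :
    Nat.card P ≤ n * Nat.card ↥(P ⊓ Subgroup.centralizer {v}) := by
  classical
  let f : ↥P → ↥S := fun x => ⟨x * v * (x : X)⁻¹, hconj x x.2⟩
  have hfib : ∀ a₀ : ↥P, Nat.card {a // f a = f a₀} ≤
      Nat.card ↥(P ⊓ Subgroup.centralizer {v}) := by
    intro a₀
    let g : {a // f a = f a₀} → ↥(P ⊓ Subgroup.centralizer {v}) := fun a =>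
      ⟨(a₀ : X)⁻¹ * (a.1 : X), by
        refine Subgroup.mem_inf.mpr ⟨P.mul_mem (P.inv_mem a₀.2) a.1.2, ?_⟩
        rw [Subgroup.mem_centralizer_singleton_iff]
        have h1 : (a.1 : X) * v * (a.1 : X)⁻¹ = a₀ * v * (a₀ : X)⁻¹ := by
          have := a.2
          exact congrArg (fun s : ↥S => (s : X)) this
        calc (a₀ : X)⁻¹ * (a.1 : X) * v
            = (a₀ : X)⁻¹ * ((a.1 : X) * v * (a.1 : X)⁻¹) * a.1 := by group
          _ = (a₀ : X)⁻¹ * (a₀ * v * (a₀ : X)⁻¹) * a.1 := by rw [h1]
          _ = v * ((a₀ : X)⁻¹ * (a.1 : X)) := by group⟩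
    apply Nat.card_le_card_of_injective g
    intro a b hab
    have h1 : (a₀ : X)⁻¹ * (a.1 : X) = (a₀ : X)⁻¹ * (b.1 : X) :=
      congrArg (fun s : ↥(P ⊓ Subgroup.centralizer {v}) => (s : X)) hab
    have h2 : (a.1 : X) = b.1 := mul_left_cancel h1
    exact Subtype.ext (Subtype.ext h2)
  have h1 := card_le_mul_of_fiber_le f _ hfib
  have h2 : Nat.card ↥S ≤ n := by
    rw [Nat.card_eq_fintype_card, Fintype.card_coe]; exact hS
  calc Nat.card P ≤ Nat.card ↥(P ⊓ Subgroup.centralizer {v}) * Nat.card ↥S := h1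
    _ ≤ Nat.card ↥(P ⊓ Subgroup.centralizer {v}) * n := Nat.mul_le_mul_left _ h2
    _ = n * Nat.card ↥(P ⊓ Subgroup.centralizer {v}) := mul_comm _ _

end

/-- If `m` divides the index of every stabilizer then `m` divides the size of the set. -/
theorem dvd_card_of_forall_dvd_index {G S : Type*} [Group G] [Finite G] [MulAction G S] [Finite S]
    (m : ℕ) (h : ∀ s : S, m ∣ (MulAction.stabilizer G s).index) : m ∣ Nat.card S := by
  classical
  have : Fintype (Quotient (MulAction.orbitRel G S)) := Fintype.ofFinite _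
  rw [Nat.card_congr (MulAction.selfEquivSigmaOrbitsQuotientStabilizer G S), Nat.card_sigma]
  apply Finset.dvd_sum
  intro ω _
  rw [← Subgroup.index_eq_card]
  exact h _

section

variable {X : Type*} [Group X]

/-- If `b x b⁻¹ = g x` with `g` commuting with `b`, then `b^k x b^-k = g^k x`. -/
theorem conj_pow_eq_of_commute {b x g : X} (h : b * x * b⁻¹ = g * x) (hbg : b * g = g * b)
    (k : ℕ) : b ^ k * x * (b ^ k)⁻¹ = g ^ k * x := by
  induction k with
  | zero => simp
  | succ k ih =>
    have hc : Commute b g := hbg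
    calc b ^ (k + 1) * x * (b ^ (k + 1))⁻¹ = b * (b ^ k * x * (b ^ k)⁻¹) * b⁻¹ := by
          rw [pow_succ']; group
      _ = b * (g ^ k * x) * b⁻¹ := by rw [ih]
      _ = (b * g ^ k * b⁻¹) * (b * x * b⁻¹) := by group
      _ = g ^ k * (g * x) := by
          rw [h, (hc.pow_right k).eq]; group
      _ = g ^ (k + 1) * x := by rw [pow_succ]; group

end

end Cfsg.Agent.Lib.Helper90
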