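import Mathlib
import Cfsg.Agent.Lib.Helper90.FpfGen

set_option autoImplicit false

namespace Cfsg.Agent.Lib.Helper90

section

variable {X : Type*} [Group X]

/-- A `2`-subgroup `P` normalized by `d`, with `C_P(d) = 1` and all elementary abelian subgroups of
order at most `4`. -/
structure FpfData (d : X) (P : Subgroup X) : Prop where
  pgroup : IsPGroup 2 P
  norm : d ∈ Subgroup.normalizer (P : Set X)
  fpf : ∀ x ∈ P, d * x = x * d → x = 1
  rank : ∀ A : Subgroup X, A ≤ P → (∀ a ∈ A, ∀ b ∈ A, a * b = b * a) → (∀ a ∈ A, a * a = 1) →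
    Nat.card A ≤ 4

theorem FpfData.mono {d : X} {P Q : Subgroup X} (h : FpfData d P) (hQP : Q ≤ P)
    (hdQ : d ∈ Subgroup.normalizer (Q : Set X)) : FpfData d Q where
  pgroup := h.pgroup.to_le hQP
  norm := hdQ
  fpf x hx hc := h.fpf x (hQP hx) hc
  rank A hA h1 h2 := h.rank A (hA.trans hQP) h1 h2

theorem FpfData.conj_mem {d : X} {P : Subgroup X} (h : FpfData d P) {x : X} (hx : x ∈ P) :
    d * x * d⁻¹ ∈ P := (Subgroup.mem_normalizer_iff.mp h.norm x).mp hx

theorem FpfData.conj_mem' {d : X} {P : Subgroup X} (h : FpfData d P) {x : X} (hx : x ∈ P) :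
    d⁻¹ * x * d ∈ P := (Subgroup.mem_normalizer_iff''.mp h.norm x).mp hx

/-- Extending a central elementary abelian subgroup `Y` of `P` by an involution `t ∈ P`. -/
theorem exists_ext_central (P Y : Subgroup X) (hYP : Y ≤ P) (hY2 : ∀ y ∈ Y, y * y = 1)
    (hYc : ∀ y ∈ Y, ∀ x ∈ P, x * y = y * x) (t : X) (htP : t ∈ P) (ht2 : t * t = 1) :
    ∃ E : Subgroup X, E ≤ P ∧ (∀ a ∈ E, ∀ b ∈ E, a * b = b * a) ∧ (∀ a ∈ E, a * a = 1) ∧
      (∀ w, w ∈ E ↔ (w ∈ Y ∨ t⁻¹ * w ∈ Y)) ∧ (t ∉ Y → Nat.card E = 2 * Nat.card Y) ∧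
      ((∀ x ∈ P, x * t = t * x) → ∀ y ∈ E, ∀ x ∈ P, x * y = y * x) := by
  have htinv : t⁻¹ = t := inv_eq_of_mul_eq_one_left ht2
  have hx2 : t * t ∈ Y := by rw [ht2]; exact Y.one_mem
  have hxn' : ∀ y ∈ Y, t⁻¹ * y * t ∈ Y := by
    intro y hy
    have : t⁻¹ * y * t = y := by
      rw [mul_assoc, ← hYc y hy t htP]; group
    rw [this]; exact hy
  refine ⟨extTwo Y t hx2 hxn', ?_, ?_, ?_, fun w => Iff.rfl, fun h => card_extTwo Y t hx2 hxn' h, ?_⟩
  · rintro w (hw | hw)
    · exact hYP hw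
    · have : w = t * (t⁻¹ * w) := by group
      rw [this]; exact P.mul_mem htP (hYP hw)
  · -- commutativity
    have hrep : ∀ w ∈ extTwo Y t hx2 hxn', ∃ y ∈ Y, w = y ∨ w = t * y := by
      rintro w (hw | hw)
      · exact ⟨w, hw, Or.inl rfl⟩
      · exact ⟨t⁻¹ * w, hw, Or.inr (by group)⟩
    intro a ha b hb
    obtain ⟨y₁, hy₁, h1 | h1⟩ := hrep a ha <;> obtain ⟨y₂, hy₂, h2 | h2⟩ := hrep b hb <;>
      rw [h1, h2]
    · exact hYc y₂ hy₂ y₁ (hYP hy₁)
    · have e1 := hYc y₁ hy₁ t htP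
      have e2 := hYc y₂ hy₂ y₁ (hYP hy₁)
      calc y₁ * (t * y₂) = (y₁ * t) * y₂ := by group
        _ = (t * y₁) * y₂ := by rw [← e1]
        _ = t * (y₁ * y₂) := by group
        _ = t * (y₂ * y₁) := by rw [e2]
        _ = t * y₂ * y₁ := by group
    · have e1 := hYc y₂ hy₂ t htP
      have e2 := hYc y₂ hy₂ y₁ (hYP hy₁)
      calc t * y₁ * y₂ = t * (y₁ * y₂) := by group
        _ = t * (y₂ * y₁) := by rw [e2]
        _ = (t * y₂) * y₁ := by group
        _ = (y₂ * t) * y₁ := by rw [e1]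
        _ = y₂ * (t * y₁) := by group
    · have e1 := hYc y₂ hy₂ t htP
      have e3 := hYc y₁ hy₁ t htP
      have e2 := hYc y₂ hy₂ y₁ (hYP hy₁)
      calc t * y₁ * (t * y₂) = t * (y₁ * t) * y₂ := by group
        _ = t * (t * y₁) * y₂ := by rw [← e3]
        _ = t * t * (y₁ * y₂) := by group
        _ = t * t * (y₂ * y₁) := by rw [e2]
        _ = t * (t * y₂) * y₁ := by group
        _ = t * (y₂ * t) * y₁ := by rw [e1]
        _ = t * y₂ * (t * y₁) := by group
  · rintro a (ha | ha)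
    · exact hY2 a ha
    · have e1 := hYc _ ha t htP
      have e2 := hY2 _ ha
      calc a * a = t * (t⁻¹ * a) * (t * (t⁻¹ * a)) := by group
        _ = t * ((t⁻¹ * a) * t) * (t⁻¹ * a) := by group
        _ = t * (t * (t⁻¹ * a)) * (t⁻¹ * a) := by rw [← e1]
        _ = (t * t) * ((t⁻¹ * a) * (t⁻¹ * a)) := by group
        _ = 1 := by rw [ht2, e2, mul_one]
  · intro htc y hy x hx
    rcases hy with hy | hy
    · exact hYc y hy x hx
    · have e1 := hYc _ hy x hx
      have e2 := htc x hx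
      calc x * y = (x * t) * (t⁻¹ * y) := by group
        _ = (t * x) * (t⁻¹ * y) := by rw [e2]
        _ = t * (x * (t⁻¹ * y)) := by group
        _ = t * ((t⁻¹ * y) * x) := by rw [e1]
        _ = y * x := by group


/-- A nontrivial `2`-subgroup contains a central involution. -/
theorem exists_central_involution [Finite X] (P : Subgroup X) (hP : IsPGroup 2 P) (hne : P ≠ ⊥) :
    ∃ z ∈ P, z ≠ 1 ∧ z * z = 1 ∧ ∀ x ∈ P, x * z = z * x := by
  haveI : Fact (Nat.Prime 2) := ⟨Nat.prime_two⟩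
  haveI : Nontrivial ↥P := (Subgroup.nontrivial_iff_ne_bot P).mpr hne
  haveI : Nontrivial ↥(Subgroup.center ↥P) := hP.center_nontrivial
  have hZ : IsPGroup 2 ↥(Subgroup.center ↥P) := hP.to_subgroup _
  obtain ⟨k, hk⟩ := IsPGroup.iff_card.mp hZ
  have hk0 : k ≠ 0 := by
    intro h0
    rw [h0, pow_zero] at hk
    have := Finite.one_lt_card (α := ↥(Subgroup.center ↥P))
    omega
  have h2 : 2 ∣ Nat.card ↥(Subgroup.center ↥P) := by
    rw [hk]; exact dvd_pow_self 2 hk0
  obtain ⟨c, hc⟩ := exists_prime_orderOf_dvd_card' 2 h2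
  refine ⟨((c : ↥P) : X), (c : ↥P).2, ?_, ?_, ?_⟩
  · intro h1
    have : c = 1 := by
      apply Subtype.ext; apply Subtype.ext; exact h1
    rw [this, orderOf_one] at hc
    omega
  · have h1 : c ^ 2 = 1 := by rw [← hc]; exact pow_orderOf_eq_one c
    have h2 : (((c ^ 2 : ↥(Subgroup.center ↥P)) : ↥P) : X) = 1 := by rw [h1]; rfl
    rw [pow_two] at h2
    exact h2
  · intro x hx
    have h1 := Subgroup.mem_center_iff.mp c.2 ⟨x, hx⟩
    exact congrArg (fun t : ↥P => (t : X)) h1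

/-- The involutions of `P`: they are `z`, `z' = d z d⁻¹` and `z z'`, all central, permuted
cyclically by `d`. -/
theorem FpfData.involutions [Finite X] {d : X} {P : Subgroup X} (h : FpfData d P) (hne : P ≠ ⊥) :
    ∃ z ∈ P, z ≠ 1 ∧ z * z = 1 ∧ (∀ x ∈ P, x * z = z * x) ∧ d * z * d⁻¹ ≠ z ∧
      d * (d * z * d⁻¹) * d⁻¹ = z * (d * z * d⁻¹) ∧
      ∀ t ∈ P, t * t = 1 → t = 1 ∨ t = z ∨ t = d * z * d⁻¹ ∨ t = z * (d * z * d⁻¹) := by
  obtain ⟨z, hzP, hz1, hz2, hzc⟩ := exists_central_involution P h.pgroup hne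
  set z' := d * z * d⁻¹ with hz'
  have hz'P : z' ∈ P := h.conj_mem hzP
  have hz'2 : z' * z' = 1 := by
    calc z' * z' = d * (z * z) * d⁻¹ := by rw [hz']; group
      _ = 1 := by rw [hz2]; group
  have hz'c : ∀ x ∈ P, x * z' = z' * x := by
    intro x hx
    have e1 := hzc _ (h.conj_mem' hx)
    calc x * z' = d * ((d⁻¹ * x * d) * z) * d⁻¹ := by rw [hz']; group
      _ = d * (z * (d⁻¹ * x * d)) * d⁻¹ := by rw [e1]
      _ = z' * x := by rw [hz']; group
  have hz'z : z' ≠ z := by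
    intro heq
    apply hz1
    apply h.fpf z hzP
    calc d * z = (d * z * d⁻¹) * d := by group
      _ = z * d := by rw [← hz', heq]
  have hz'1 : z' ≠ 1 := by
    intro h1
    apply hz1
    calc z = d⁻¹ * z' * d := by rw [hz']; group
      _ = 1 := by rw [h1]; group
  -- the chain of elementary abelian subgroups
  obtain ⟨E₁, hE₁P, hE₁c, hE₁2, hE₁m, hE₁card, hE₁cen⟩ :=
    exists_ext_central P ⊥ bot_le (fun y hy => by rw [Subgroup.mem_bot.mp hy]; group)
      (fun y hy x _ => by rw [Subgroup.mem_bot.mp hy]; group) z hzP hz2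
  have hzb : z ∉ (⊥ : Subgroup X) := fun hb => hz1 (Subgroup.mem_bot.mp hb)
  have hE₁card' : Nat.card E₁ = 2 := by rw [hE₁card hzb, Subgroup.card_bot]
  have hE₁cen' := hE₁cen hzc
  have hE₁m' : ∀ w, w ∈ E₁ ↔ (w = 1 ∨ w = z) := by
    intro w
    rw [hE₁m, Subgroup.mem_bot, Subgroup.mem_bot]
    constructor
    · rintro (hw | hw)
      · exact Or.inl hw
      · right
        calc w = z * (z⁻¹ * w) := by group
          _ = z := by rw [hw, mul_one]
    · rintro (hw | hw)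
      · exact Or.inl hw
      · right; rw [hw]; group
  obtain ⟨E₂, hE₂P, hE₂c, hE₂2, hE₂m, hE₂card, hE₂cen⟩ :=
    exists_ext_central P E₁ hE₁P hE₁2 hE₁cen' z' hz'P hz'2
  have hz'E₁ : z' ∉ E₁ := by
    rw [hE₁m']
    rintro (h1 | h1)
    · exact hz'1 h1
    · exact hz'z h1
  have hE₂card' : Nat.card E₂ = 4 := by rw [hE₂card hz'E₁, hE₁card']
  have hE₂cen' := hE₂cen hz'c
  have hzz' : z * z' = z' * z := hz'c z hzP
  have hE₂m' : ∀ w, w ∈ E₂ ↔ (w = 1 ∨ w = z ∨ w = z' ∨ w = z * z') := by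
    intro w
    rw [hE₂m, hE₁m', hE₁m']
    constructor
    · rintro ((hw | hw) | (hw | hw))
      · exact Or.inl hw
      · exact Or.inr (Or.inl hw)
      · right; right; left
        calc w = z' * (z'⁻¹ * w) := by group
          _ = z' := by rw [hw, mul_one]
      · right; right; right
        calc w = z' * (z'⁻¹ * w) := by group
          _ = z' * z := by rw [hw]
          _ = z * z' := hzz'.symm
    · rintro (hw | hw | hw | hw)
      · exact Or.inl (Or.inl hw)
      · exact Or.inl (Or.inr hw)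
      · right; left; rw [hw]; group
      · right; right; rw [hw, hzz']; group
  have hall : ∀ t ∈ P, t * t = 1 → t = 1 ∨ t = z ∨ t = z' ∨ t = z * z' := by
    intro t htP ht2
    rw [← hE₂m']
    by_contra htE
    obtain ⟨E₃, hE₃P, hE₃c, hE₃2, _, hE₃card, _⟩ :=
      exists_ext_central P E₂ hE₂P hE₂2 hE₂cen' t htP ht2
    have h8 : Nat.card E₃ = 8 := by rw [hE₃card htE, hE₂card']
    have := h.rank E₃ hE₃P hE₃c hE₃2
    omega
  refine ⟨z, hzP, hz1, hz2, hzc, hz'z, ?_, hall⟩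
  -- the image of `z'`
  set t := d * z' * d⁻¹ with ht
  have htP : t ∈ P := h.conj_mem hz'P
  have ht2 : t * t = 1 := by
    calc t * t = d * (z' * z') * d⁻¹ := by rw [ht]; group
      _ = 1 := by rw [hz'2]; group
  rcases hall t htP ht2 with h1 | h1 | h1 | h1
  · exfalso
    apply hz'1
    calc z' = d⁻¹ * t * d := by rw [ht]; group
      _ = 1 := by rw [h1]; group
  · exfalso
    -- then `d` fixes `z z'`
    have hfix : d * (z * z') = (z * z') * d := by
      calc d * (z * z') = (d * z * d⁻¹) * (d * z' * d⁻¹) * d := by group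
        _ = z' * t * d := by rw [← hz', ← ht]
        _ = z' * z * d := by rw [h1]
        _ = (z * z') * d := by rw [hzz']
    have h3 := h.fpf _ (P.mul_mem hzP hz'P) hfix
    apply hz'z
    calc z' = z⁻¹ * (z * z') := by group
      _ = z⁻¹ := by rw [h3, mul_one]
      _ = z := inv_eq_of_mul_eq_one_left hz2
  · exfalso
    apply hz'1
    apply h.fpf z' hz'P
    calc d * z' = (d * z' * d⁻¹) * d := by group
      _ = z' * d := by rw [← ht, h1]
  · exact h1

end

end Cfsg.Agent.Lib.Helper90
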