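import Mathlib
import Cfsg.Agent.Lib.Helper90.FpfInv

set_option autoImplicit false

namespace Cfsg.Agent.Lib.Helper90

section

variable {X : Type*} [Group X]

/-- Extending a commutative subgroup by an element commuting with it gives a commutative subgroup. -/
theorem extTwo_comm (Y : Subgroup X) (x : X) (hx2 : x * x ∈ Y)
    (hxn' : ∀ y ∈ Y, x⁻¹ * y * x ∈ Y) (hY : ∀ a ∈ Y, ∀ b ∈ Y, a * b = b * a)
    (hx : ∀ y ∈ Y, x * y = y * x) :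
    ∀ a ∈ extTwo Y x hx2 hxn', ∀ b ∈ extTwo Y x hx2 hxn', a * b = b * a := by
  have hrep : ∀ w ∈ extTwo Y x hx2 hxn', ∃ y ∈ Y, w = y ∨ w = x * y := by
    rintro w (hw | hw)
    · exact ⟨w, hw, Or.inl rfl⟩
    · exact ⟨x⁻¹ * w, hw, Or.inr (by group)⟩
  intro a ha b hb
  obtain ⟨y₁, hy₁, h1 | h1⟩ := hrep a ha <;> obtain ⟨y₂, hy₂, h2 | h2⟩ := hrep b hb <;>
    rw [h1, h2]
  · exact hY y₁ hy₁ y₂ hy₂
  · have e1 := hx y₁ hy₁
    have e2 := hY y₁ hy₁ y₂ hy₂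
    calc y₁ * (x * y₂) = (y₁ * x) * y₂ := by group
      _ = (x * y₁) * y₂ := by rw [e1]
      _ = x * (y₁ * y₂) := by group
      _ = x * (y₂ * y₁) := by rw [e2]
      _ = x * y₂ * y₁ := by group
  · have e1 := hx y₂ hy₂
    have e2 := hY y₁ hy₁ y₂ hy₂
    calc x * y₁ * y₂ = x * (y₁ * y₂) := by group
      _ = x * (y₂ * y₁) := by rw [e2]
      _ = (x * y₂) * y₁ := by group
      _ = (y₂ * x) * y₁ := by rw [e1]
      _ = y₂ * (x * y₁) := by group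
  · have e1 := hx y₂ hy₂
    have e3 := hx y₁ hy₁
    have e2 := hY y₁ hy₁ y₂ hy₂
    calc x * y₁ * (x * y₂) = x * (y₁ * x) * y₂ := by group
      _ = x * (x * y₁) * y₂ := by rw [e3]
      _ = x * x * (y₁ * y₂) := by group
      _ = x * x * (y₂ * y₁) := by rw [e2]
      _ = x * (x * y₂) * y₁ := by group
      _ = x * (y₂ * x) * y₁ := by rw [e1]
      _ = x * y₂ * (x * y₁) := by group

/-- If `x` commutes with `Y` and with `u`, and `u` commutes with `Y`, then `u` commutes with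
`Y ∪ xY`. -/
theorem extTwo_commute_of (Y : Subgroup X) (x : X) (hx2 : x * x ∈ Y)
    (hxn' : ∀ y ∈ Y, x⁻¹ * y * x ∈ Y) (u : X) (hu : ∀ y ∈ Y, u * y = y * u) (hux : u * x = x * u) :
    ∀ y ∈ extTwo Y x hx2 hxn', u * y = y * u := by
  rintro y (hy | hy)
  · exact hu y hy
  · have e1 := hu _ hy
    calc u * y = (u * x) * (x⁻¹ * y) := by group
      _ = (x * u) * (x⁻¹ * y) := by rw [hux]
      _ = x * (u * (x⁻¹ * y)) := by group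
      _ = x * ((x⁻¹ * y) * u) := by rw [e1]
      _ = y * u := by group


/-- The configuration reached at the end: `Φ ≤ Z(P)` contains all squares, commutators and
involutions of `P`, and the involutions are `z`, `z'`, `z z'`. -/
structure ClassTwo (P Φ : Subgroup X) (z z' : X) : Prop where
  le : Φ ≤ P
  sq : ∀ x ∈ P, x * x ∈ Φ
  comm : ∀ x ∈ P, ∀ y ∈ P, x * y * x⁻¹ * y⁻¹ ∈ Φ
  cen : ∀ x ∈ P, ∀ f ∈ Φ, x * f = f * x
  hz : z ∈ Φ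
  hz' : z' ∈ Φ
  all : ∀ t ∈ P, t * t = 1 → t = 1 ∨ t = z ∨ t = z' ∨ t = z * z'

namespace ClassTwo

variable {P Φ : Subgroup X} {z z' : X}

theorem inv_mem_phi (h : ClassTwo P Φ z z') {t : X} (ht : t ∈ P) (ht2 : t * t = 1) : t ∈ Φ := by
  rcases h.all t ht ht2 with h1 | h1 | h1 | h1 <;> rw [h1]
  · exact Φ.one_mem
  · exact h.hz
  · exact h.hz'
  · exact Φ.mul_mem h.hz h.hz'

theorem comm_sq (h : ClassTwo P Φ z z') {x v : X} (hx : x ∈ P) (hv : v ∈ P) :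
    (x * v * x⁻¹ * v⁻¹) * (x * v * x⁻¹ * v⁻¹) = 1 := by
  have hc := h.comm x hx v hv
  have e1 := h.cen v⁻¹ (P.inv_mem hv) _ hc
  have e2 := h.cen x hx _ (h.sq v hv)
  calc (x * v * x⁻¹ * v⁻¹) * (x * v * x⁻¹ * v⁻¹)
      = x * v * x⁻¹ * (v⁻¹ * (x * v * x⁻¹ * v⁻¹)) := by group
    _ = x * v * x⁻¹ * ((x * v * x⁻¹ * v⁻¹) * v⁻¹) := by rw [e1]
    _ = (x * (v * v)) * x⁻¹ * v⁻¹ * v⁻¹ := by group
    _ = ((v * v) * x) * x⁻¹ * v⁻¹ * v⁻¹ := by rw [e2]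
    _ = 1 := by group

theorem comm_mem_inv (h : ClassTwo P Φ z z') {x v : X} (hx : x ∈ P) (hv : v ∈ P) :
    x * v * x⁻¹ * v⁻¹ = 1 ∨ x * v * x⁻¹ * v⁻¹ = z ∨ x * v * x⁻¹ * v⁻¹ = z' ∨
      x * v * x⁻¹ * v⁻¹ = z * z' :=
  h.all _ (h.le (h.comm x hx v hv)) (h.comm_sq hx hv)

variable [Finite X]

theorem card_le_four_mul (h : ClassTwo P Φ z z') {v : X} (hv : v ∈ P) :
    Nat.card P ≤ 4 * Nat.card ↥(P ⊓ Subgroup.centralizer {v}) := by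
  classical
  apply card_le_mul_card_centralizer P v {v, z * v, z' * v, z * z' * v} 4 Finset.card_le_four
  intro x hx
  have e : x * v * x⁻¹ = (x * v * x⁻¹ * v⁻¹) * v := by group
  rw [e]
  simp only [Finset.mem_insert, Finset.mem_singleton]
  rcases h.comm_mem_inv hx hv with h1 | h1 | h1 | h1 <;> rw [h1]
  · left; group
  · right; left; rfl
  · right; right; left; rfl
  · right; right; right; rfl


/-- The abelian subgroup `B₁ = ⟨u₁, v₁⟩Φ` of order `4|Φ|`. -/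
theorem exists_chain (h : ClassTwo P Φ z z') (hbig : 64 * Nat.card Φ ≤ Nat.card P) :
    ∃ (v₁ u₁ : X) (A₁ B₁ : Subgroup X), v₁ ∈ P ∧ v₁ ∉ Φ ∧ u₁ ∈ P ∧ u₁ * v₁ = v₁ * u₁ ∧ u₁ ∉ A₁ ∧
      (∀ w, w ∈ A₁ ↔ (w ∈ Φ ∨ v₁⁻¹ * w ∈ Φ)) ∧ (∀ w, w ∈ B₁ ↔ (w ∈ A₁ ∨ u₁⁻¹ * w ∈ A₁)) ∧
      Nat.card A₁ = 2 * Nat.card Φ ∧ Nat.card B₁ = 4 * Nat.card Φ ∧ B₁ ≤ P ∧
      (∀ a ∈ B₁, ∀ b ∈ B₁, a * b = b * a) := by
  have hΦpos : 0 < Nat.card Φ := Nat.card_pos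
  -- `v₁`
  have hv : ∃ v₁ ∈ P, v₁ ∉ Φ := by
    by_contra hcon
    push Not at hcon
    have : P ≤ Φ := hcon
    have := Subgroup.card_le_of_le this
    omega
  obtain ⟨v₁, hv₁P, hv₁Φ⟩ := hv
  have hΦab : ∀ a ∈ Φ, ∀ b ∈ Φ, a * b = b * a := fun a ha b hb => h.cen a (h.le ha) b hb
  have hv₁c : ∀ y ∈ Φ, v₁ * y = y * v₁ := fun y hy => h.cen v₁ hv₁P y hy
  have hx2 : v₁ * v₁ ∈ Φ := h.sq v₁ hv₁P
  have hxn' : ∀ y ∈ Φ, v₁⁻¹ * y * v₁ ∈ Φ := by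
    intro y hy
    have : v₁⁻¹ * y * v₁ = y := by
      rw [mul_assoc, ← hv₁c y hy]; group
    rw [this]; exact hy
  set A₁ := extTwo Φ v₁ hx2 hxn' with hA₁
  have hA₁card : Nat.card A₁ = 2 * Nat.card Φ := card_extTwo Φ v₁ hx2 hxn' hv₁Φ
  have hA₁ab := extTwo_comm Φ v₁ hx2 hxn' hΦab hv₁c
  have hΦA₁ : Φ ≤ A₁ := fun w hw => Or.inl hw
  have hA₁P : A₁ ≤ P := by
    rintro w (hw | hw)
    · exact h.le hw
    · have : w = v₁ * (v₁⁻¹ * w) := by group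
      rw [this]; exact P.mul_mem hv₁P (h.le hw)
  -- `u₁`
  have h4 := h.card_le_four_mul hv₁P
  have hu : ∃ u₁ ∈ P, u₁ * v₁ = v₁ * u₁ ∧ u₁ ∉ A₁ := by
    by_contra hcon
    push Not at hcon
    have hle : P ⊓ Subgroup.centralizer {v₁} ≤ A₁ := by
      intro w hw
      obtain ⟨hwP, hwc⟩ := Subgroup.mem_inf.mp hw
      rw [Subgroup.mem_centralizer_singleton_iff] at hwc
      exact hcon w hwP hwc
    have := Subgroup.card_le_of_le hle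
    omega
  obtain ⟨u₁, hu₁P, hu₁v₁, hu₁A₁⟩ := hu
  have hu₁c : ∀ y ∈ A₁, u₁ * y = y * u₁ :=
    extTwo_commute_of Φ v₁ hx2 hxn' u₁ (fun y hy => h.cen u₁ hu₁P y hy) hu₁v₁
  have hx2' : u₁ * u₁ ∈ A₁ := hΦA₁ (h.sq u₁ hu₁P)
  have hxn'' : ∀ y ∈ A₁, u₁⁻¹ * y * u₁ ∈ A₁ := by
    intro y hy
    have : u₁⁻¹ * y * u₁ = y := by
      rw [mul_assoc, ← hu₁c y hy]; group
    rw [this]; exact hy
  set B₁ := extTwo A₁ u₁ hx2' hxn'' with hB₁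
  have hB₁card : Nat.card B₁ = 4 * Nat.card Φ := by
    rw [hB₁, card_extTwo A₁ u₁ hx2' hxn'' hu₁A₁, hA₁card]; ring
  have hB₁ab := extTwo_comm A₁ u₁ hx2' hxn'' hA₁ab hu₁c
  have hB₁P : B₁ ≤ P := by
    rintro w (hw | hw)
    · exact hA₁P hw
    · have : w = u₁ * (u₁⁻¹ * w) := by group
      rw [this]; exact P.mul_mem hu₁P (hA₁P hw)
  exact ⟨v₁, u₁, A₁, B₁, hv₁P, hv₁Φ, hu₁P, hu₁v₁, hu₁A₁, fun w => Iff.rfl, fun w => Iff.rfl,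
    hA₁card, hB₁card, hB₁P, hB₁ab⟩


/-- Case (II): every involution is the square of an element of `Φ`. -/
theorem caseII (h : ClassTwo P Φ z z') (hbig : 64 * Nat.card Φ ≤ Nat.card P)
    (hII : ∀ t ∈ P, t * t = 1 → ∃ f ∈ Φ, f * f = t) : False := by
  classical
  have hΦpos : 0 < Nat.card Φ := Nat.card_pos
  obtain ⟨v₁, u₁, A₁, B₁, hv₁P, hv₁Φ, hu₁P, hu₁v₁, hu₁A₁, hA₁m, hB₁m, hA₁card, hB₁card, hB₁P,
    hB₁ab⟩ := h.exists_chain hbig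
  have hΦB₁ : Φ ≤ B₁ := fun w hw => (hB₁m w).mpr (Or.inl ((hA₁m w).mpr (Or.inl hw)))
  -- every element of `Φ` is the square of an element of `B₁`
  have hsurj : ∀ φ ∈ Φ, ∃ w ∈ B₁, w * w = φ := by
    by_contra hcon
    push Not at hcon
    obtain ⟨φ₀, hφ₀, hno⟩ := hcon
    let β := ↥((Φ : Set X) \ {φ₀})
    let f : ↥B₁ → β := fun w => ⟨(w : X) * w, ⟨h.sq w (hB₁P w.2), fun heq => hno w w.2 heq⟩⟩
    have hfib : ∀ w₀ : ↥B₁, Nat.card {w // f w = f w₀} ≤ 4 := by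
      intro w₀
      let T : Finset X := {1, z, z', z * z'}
      have hT : Nat.card ↥T ≤ 4 := by
        rw [Nat.card_eq_fintype_card, Fintype.card_coe]; exact Finset.card_le_four
      let g : {w // f w = f w₀} → ↥T := fun w => ⟨(w₀ : X)⁻¹ * (w.1 : X), by
        have hsq : ((w.1 : ↥B₁) : X) * (w.1 : X) = (w₀ : X) * w₀ :=
          congrArg (fun t : β => (t : X)) w.2
        have hc := hB₁ab _ (B₁.inv_mem w₀.2) _ w.1.2
        have h2 : ((w₀ : X)⁻¹ * (w.1 : X)) * ((w₀ : X)⁻¹ * (w.1 : X)) = 1 := by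
          calc ((w₀ : X)⁻¹ * (w.1 : X)) * ((w₀ : X)⁻¹ * (w.1 : X))
              = (w₀ : X)⁻¹ * ((w.1 : X) * (w₀ : X)⁻¹) * (w.1 : X) := by group
            _ = (w₀ : X)⁻¹ * ((w₀ : X)⁻¹ * (w.1 : X)) * (w.1 : X) := by rw [hc]
            _ = (w₀ : X)⁻¹ * (w₀ : X)⁻¹ * ((w.1 : X) * (w.1 : X)) := by group
            _ = 1 := by rw [hsq]; group
        have hP' : (w₀ : X)⁻¹ * (w.1 : X) ∈ P :=
          P.mul_mem (P.inv_mem (hB₁P w₀.2)) (hB₁P w.1.2)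
        simp only [T, Finset.mem_insert, Finset.mem_singleton]
        exact h.all _ hP' h2⟩
      have hginj : Function.Injective g := by
        intro a b hab
        have h1 : (w₀ : X)⁻¹ * (a.1 : X) = (w₀ : X)⁻¹ * (b.1 : X) :=
          congrArg (fun s : ↥T => (s : X)) hab
        have h2 : (a.1 : X) = b.1 := mul_left_cancel h1
        exact Subtype.ext (Subtype.ext h2)
      exact (Nat.card_le_card_of_injective g hginj).trans hT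
    have h1 := card_le_mul_of_fiber_le f 4 hfib
    have h2 : Nat.card β = Nat.card Φ - 1 := by
      show Nat.card ↥((Φ : Set X) \ {φ₀}) = Nat.card Φ - 1
      rw [Nat.card_coe_set_eq, Set.ncard_sdiff_singleton_of_mem (by exact_mod_cast hφ₀)]
      rfl
    rw [h2, hB₁card] at h1
    omega
  -- an element outside `B₁`
  have hy : ∃ y ∈ P, y ∉ B₁ := by
    by_contra hcon
    push Not at hcon
    have : P ≤ B₁ := hcon
    have := Subgroup.card_le_of_le this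
    omega
  obtain ⟨y, hyP, hyB⟩ := hy
  obtain ⟨w, hwB, hw⟩ := hsurj _ (h.sq y hyP)
  have hwP : w ∈ P := hB₁P hwB
  have hwinvP : w⁻¹ ∈ P := P.inv_mem hwP
  -- the commutator
  set c := y * w⁻¹ * y⁻¹ * w⁻¹⁻¹ with hc
  have hcΦ : c ∈ Φ := h.comm y hyP w⁻¹ hwinvP
  have hc2 : c * c = 1 := h.comm_sq hyP hwinvP
  have hyy : ∀ x ∈ P, x * (y * y) = (y * y) * x := fun x hx => h.cen x hx _ (h.sq y hyP)
  have hsq' : (y * w⁻¹) * (y * w⁻¹) = c := by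
    have e1 := hyy w⁻¹ hwinvP
    calc (y * w⁻¹) * (y * w⁻¹) = (y * w⁻¹ * y⁻¹ * w⁻¹⁻¹) * (w⁻¹ * (y * y)) * w⁻¹ := by group
      _ = c * ((y * y) * w⁻¹) * w⁻¹ := by rw [e1]
      _ = c * ((w * w) * w⁻¹) * w⁻¹ := by rw [hw]
      _ = c := by group
  obtain ⟨f, hfΦ, hf⟩ := hII c (h.le hcΦ) hc2
  have hfc : ∀ x ∈ P, x * f⁻¹ = f⁻¹ * x := fun x hx => h.cen x hx _ (Φ.inv_mem hfΦ)
  have hy''2 : (y * w⁻¹ * f⁻¹) * (y * w⁻¹ * f⁻¹) = 1 := by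
    have e1 := hfc (y * w⁻¹) (P.mul_mem hyP hwinvP)
    calc (y * w⁻¹ * f⁻¹) * (y * w⁻¹ * f⁻¹) = (y * w⁻¹) * (f⁻¹ * (y * w⁻¹)) * f⁻¹ := by group
      _ = (y * w⁻¹) * ((y * w⁻¹) * f⁻¹) * f⁻¹ := by rw [e1]
      _ = ((y * w⁻¹) * (y * w⁻¹)) * (f * f)⁻¹ := by group
      _ = 1 := by rw [hsq', hf]; group
  have hy''Φ : y * w⁻¹ * f⁻¹ ∈ Φ :=
    h.inv_mem_phi (P.mul_mem (P.mul_mem hyP hwinvP) (P.inv_mem (h.le hfΦ))) hy''2
  apply hyB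
  have e : y = (y * w⁻¹ * f⁻¹) * f * w := by group
  rw [e]
  exact B₁.mul_mem (B₁.mul_mem (hΦB₁ hy''Φ) (hΦB₁ hfΦ)) hwB


omit [Finite X] in
/-- A commutative group of exponent two and order at most four is `{1, a, b, ab}`. -/
theorem four_elements [Finite X] (Φ : Subgroup X) (h2 : ∀ f ∈ Φ, f * f = 1)
    (hab : ∀ a ∈ Φ, ∀ b ∈ Φ, a * b = b * a) (hcard : Nat.card Φ ≤ 4) {a b : X} (ha : a ∈ Φ)
    (hb : b ∈ Φ) (ha1 : a ≠ 1) (hb1 : b ≠ 1) (hba : b ≠ a) :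
    ∀ t ∈ Φ, t = 1 ∨ t = a ∨ t = b ∨ t = a * b := by
  obtain ⟨E₁, hE₁P, _, hE₁2, hE₁m, hE₁card, hE₁cen⟩ :=
    exists_ext_central Φ ⊥ bot_le (fun y hy => by rw [Subgroup.mem_bot.mp hy]; group)
      (fun y hy x _ => by rw [Subgroup.mem_bot.mp hy]; group) a ha (h2 a ha)
  have hab' : a ∉ (⊥ : Subgroup X) := fun hb => ha1 (Subgroup.mem_bot.mp hb)
  have hE₁card' : Nat.card E₁ = 2 := by rw [hE₁card hab', Subgroup.card_bot]
  have hE₁cen' := hE₁cen (fun x hx => hab x hx a ha)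
  have hE₁m' : ∀ w, w ∈ E₁ ↔ (w = 1 ∨ w = a) := by
    intro w
    rw [hE₁m, Subgroup.mem_bot, Subgroup.mem_bot]
    constructor
    · rintro (hw | hw)
      · exact Or.inl hw
      · right
        calc w = a * (a⁻¹ * w) := by group
          _ = a := by rw [hw, mul_one]
    · rintro (hw | hw)
      · exact Or.inl hw
      · right; rw [hw]; group
  obtain ⟨E₂, hE₂P, _, _, hE₂m, hE₂card, _⟩ :=
    exists_ext_central Φ E₁ hE₁P hE₁2 hE₁cen' b hb (h2 b hb)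
  have hbE₁ : b ∉ E₁ := by
    rw [hE₁m']
    rintro (h1 | h1)
    · exact hb1 h1
    · exact hba h1
  have hE₂card' : Nat.card E₂ = 4 := by rw [hE₂card hbE₁, hE₁card']
  have hEΦ : E₂ = Φ := Subgroup.eq_of_le_of_card_ge hE₂P (by omega)
  intro t ht
  rw [← hEΦ, hE₂m, hE₁m', hE₁m'] at ht
  rcases ht with (hw | hw) | (hw | hw)
  · exact Or.inl hw
  · exact Or.inr (Or.inl hw)
  · right; right; left
    calc t = b * (b⁻¹ * t) := by group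
      _ = b := by rw [hw, mul_one]
  · right; right; right
    calc t = b * (b⁻¹ * t) := by group
      _ = b * a := by rw [hw]
      _ = a * b := hab b hb a ha

/-- Case (I): `Φ` has exponent two. -/
theorem caseI (h : ClassTwo P Φ z z') (hbig : 64 * Nat.card Φ ≤ Nat.card P)
    (hI : ∀ f ∈ Φ, f * f = 1) : False := by
  classical
  have hΦpos : 0 < Nat.card Φ := Nat.card_pos
  obtain ⟨v₁, u₁, A₁, B₁, hv₁P, hv₁Φ, hu₁P, hu₁v₁, hu₁A₁, hA₁m, hB₁m, hA₁card, hB₁card, hB₁P,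
    hB₁ab⟩ := h.exists_chain hbig
  have hΦA₁ : Φ ≤ A₁ := fun w hw => (hA₁m w).mpr (Or.inl hw)
  have hA₁B₁ : A₁ ≤ B₁ := fun w hw => (hB₁m w).mpr (Or.inl hw)
  have hΦB₁ : Φ ≤ B₁ := hΦA₁.trans hA₁B₁
  have hΦab : ∀ a ∈ Φ, ∀ b ∈ Φ, a * b = b * a := fun a ha b hb => h.cen a (h.le ha) b hb
  -- `Φ` has at most four elements
  have hΦ4 : Nat.card Φ ≤ 4 := by
    let T : Finset X := {1, z, z', z * z'}
    have hT : Nat.card ↥T ≤ 4 := by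
      rw [Nat.card_eq_fintype_card, Fintype.card_coe]; exact Finset.card_le_four
    let g : ↥Φ → ↥T := fun f => ⟨(f : X), by
      simp only [T, Finset.mem_insert, Finset.mem_singleton]
      exact h.all _ (h.le f.2) (hI _ f.2)⟩
    have hginj : Function.Injective g := by
      intro a b hab
      exact Subtype.ext (congrArg (fun s : ↥T => (s : X)) hab)
    exact (Nat.card_le_card_of_injective g hginj).trans hT
  set z₁ := v₁ * v₁ with hz₁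
  set z₂ := u₁ * u₁ with hz₂
  have hz₁Φ : z₁ ∈ Φ := h.sq v₁ hv₁P
  have hz₂Φ : z₂ ∈ Φ := h.sq u₁ hu₁P
  have hz₁1 : z₁ ≠ 1 := fun h1 => hv₁Φ (h.inv_mem_phi hv₁P h1)
  have hz₂1 : z₂ ≠ 1 := fun h1 => hu₁A₁ (hΦA₁ (h.inv_mem_phi hu₁P h1))
  have hu₁v₁' : u₁ * v₁⁻¹ = v₁⁻¹ * u₁ := by
    calc u₁ * v₁⁻¹ = v₁⁻¹ * (v₁ * u₁) * v₁⁻¹ := by group
      _ = v₁⁻¹ * (u₁ * v₁) * v₁⁻¹ := by rw [hu₁v₁]
      _ = v₁⁻¹ * u₁ := by group
  have hz₂z₁ : z₂ ≠ z₁ := by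
    intro heq
    apply hu₁A₁
    rw [hA₁m]
    right
    apply h.inv_mem_phi (P.mul_mem (P.inv_mem hv₁P) hu₁P)
    calc (v₁⁻¹ * u₁) * (v₁⁻¹ * u₁) = v₁⁻¹ * (u₁ * v₁⁻¹) * u₁ := by group
      _ = v₁⁻¹ * (v₁⁻¹ * u₁) * u₁ := by rw [hu₁v₁']
      _ = (v₁ * v₁)⁻¹ * (u₁ * u₁) := by group
      _ = 1 := by rw [← hz₁, ← hz₂, heq]; group
  have hfour := four_elements Φ hI hΦab hΦ4 hz₁Φ hz₂Φ hz₁1 hz₂1 hz₂z₁
  have r11 : z₁ * z₁ = 1 := hI _ hz₁Φ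
  have r22 : z₂ * z₂ = 1 := hI _ hz₂Φ
  have r21 : z₂ * z₁ = z₁ * z₂ := hΦab _ hz₂Φ _ hz₁Φ
  have hz₁inv : z₁⁻¹ = z₁ := inv_eq_of_mul_eq_one_left r11
  have hz₂inv : z₂⁻¹ = z₂ := inv_eq_of_mul_eq_one_left r22
  -- the key claim
  have key : ∀ u ∈ P, u * v₁ = v₁ * u → u ∉ B₁ →
      u * u₁ * u⁻¹ * u₁⁻¹ ≠ 1 ∧ u * u₁ * u⁻¹ * u₁⁻¹ ≠ z₁ := by
    intro u huP huv huB
    set c := u * u₁ * u⁻¹ * u₁⁻¹ with hc
    set s := u * u with hs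
    have hcΦ : c ∈ Φ := h.comm u huP u₁ hu₁P
    have hsΦ : s ∈ Φ := h.sq u huP
    have huv' : u * v₁⁻¹ = v₁⁻¹ * u := by
      calc u * v₁⁻¹ = v₁⁻¹ * (v₁ * u) * v₁⁻¹ := by group
        _ = v₁⁻¹ * (u * v₁) * v₁⁻¹ := by rw [huv]
        _ = v₁⁻¹ * u := by group
    have k1 : s ≠ 1 := fun h1 => huB (hΦB₁ (h.inv_mem_phi huP h1))
    have k2 : s ≠ z₁ := by
      intro heq
      apply huB
      apply hA₁B₁
      rw [hA₁m]
      right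
      apply h.inv_mem_phi (P.mul_mem (P.inv_mem hv₁P) huP)
      calc (v₁⁻¹ * u) * (v₁⁻¹ * u) = v₁⁻¹ * (u * v₁⁻¹) * u := by group
        _ = v₁⁻¹ * (v₁⁻¹ * u) * u := by rw [huv']
        _ = (v₁ * v₁)⁻¹ * (u * u) := by group
        _ = 1 := by rw [← hz₁, ← hs, heq]; group
    have hsq3 : (u₁⁻¹ * u) * (u₁⁻¹ * u) = (u₁ * u₁)⁻¹ * c⁻¹ * (u * u) := by
      rw [hc]; group
    have k3 : s ≠ c * z₂ := by
      intro heq
      apply huB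
      rw [hB₁m]
      right
      apply hΦA₁
      apply h.inv_mem_phi (P.mul_mem (P.inv_mem hu₁P) huP)
      rw [hsq3, ← hs, ← hz₂, heq]; group
    have k4 : s ≠ z₁ * (c * z₂) := by
      intro heq
      apply huB
      rw [hB₁m]
      right
      rw [hA₁m]
      right
      apply h.inv_mem_phi (P.mul_mem (P.inv_mem hv₁P) (P.mul_mem (P.inv_mem hu₁P) huP))
      have e1 : (u₁⁻¹ * u) * v₁⁻¹ = v₁⁻¹ * (u₁⁻¹ * u) := by
        calc (u₁⁻¹ * u) * v₁⁻¹ = u₁⁻¹ * (u * v₁⁻¹) := by group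
          _ = u₁⁻¹ * (v₁⁻¹ * u) := by rw [huv']
          _ = (v₁ * u₁)⁻¹ * u := by group
          _ = (u₁ * v₁)⁻¹ * u := by rw [hu₁v₁]
          _ = v₁⁻¹ * (u₁⁻¹ * u) := by group
      have e2 : (z₂⁻¹ * c⁻¹) * z₁ = z₁ * (z₂⁻¹ * c⁻¹) :=
        h.cen _ (P.mul_mem (P.inv_mem (h.le hz₂Φ)) (P.inv_mem (h.le hcΦ))) _ hz₁Φ
      calc (v₁⁻¹ * (u₁⁻¹ * u)) * (v₁⁻¹ * (u₁⁻¹ * u))
          = v₁⁻¹ * ((u₁⁻¹ * u) * v₁⁻¹) * (u₁⁻¹ * u) := by group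
        _ = v₁⁻¹ * (v₁⁻¹ * (u₁⁻¹ * u)) * (u₁⁻¹ * u) := by rw [e1]
        _ = (v₁ * v₁)⁻¹ * ((u₁⁻¹ * u) * (u₁⁻¹ * u)) := by group
        _ = z₁⁻¹ * (z₂⁻¹ * c⁻¹ * s) := by rw [hsq3]
        _ = z₁⁻¹ * (z₂⁻¹ * c⁻¹ * (z₁ * (c * z₂))) := by rw [heq]
        _ = z₁⁻¹ * ((z₂⁻¹ * c⁻¹ * z₁) * (c * z₂)) := by group
        _ = z₁⁻¹ * ((z₁ * (z₂⁻¹ * c⁻¹)) * (c * z₂)) := by rw [e2]
        _ = 1 := by group
    constructor
    · intro hc1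
      rw [hc1, one_mul] at k3 k4
      rcases hfour s hsΦ with h1 | h1 | h1 | h1
      · exact k1 h1
      · exact k2 h1
      · exact k3 h1
      · exact k4 h1
    · intro hc1
      rw [hc1] at k3 k4
      rw [← mul_assoc, r11, one_mul] at k4
      rcases hfour s hsΦ with h1 | h1 | h1 | h1
      · exact k1 h1
      · exact k2 h1
      · exact k4 h1
      · exact k3 h1
  have h4 := h.card_le_four_mul hv₁P
  by_cases hC : ∀ u ∈ P, u * v₁ = v₁ * u → u ∈ B₁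
  · have hle : P ⊓ Subgroup.centralizer {v₁} ≤ B₁ := by
      intro w hw
      obtain ⟨hwP, hwc⟩ := Subgroup.mem_inf.mp hw
      rw [Subgroup.mem_centralizer_singleton_iff] at hwc
      exact hC w hwP hwc
    have := Subgroup.card_le_of_le hle
    omega
  · push Not at hC
    obtain ⟨u₂, hu₂P, hu₂v, hu₂B⟩ := hC
    have hx2 : u₂ * u₂ ∈ B₁ := hΦB₁ (h.sq u₂ hu₂P)
    have hxn' : ∀ y ∈ B₁, u₂⁻¹ * y * u₂ ∈ B₁ := by
      intro y hy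
      have e : u₂⁻¹ * y * u₂ = (u₂⁻¹ * y * u₂⁻¹⁻¹ * y⁻¹) * y := by group
      rw [e]
      exact B₁.mul_mem (hΦB₁ (h.comm _ (P.inv_mem hu₂P) _ (hB₁P hy))) hy
    have hEcard := card_extTwo B₁ u₂ hx2 hxn' hu₂B
    have hle : P ⊓ Subgroup.centralizer {v₁} ≤ extTwo B₁ u₂ hx2 hxn' := by
      intro u hu
      obtain ⟨huP, huc⟩ := Subgroup.mem_inf.mp hu
      rw [Subgroup.mem_centralizer_singleton_iff] at huc
      rw [mem_extTwo]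
      by_contra hcon
      push Not at hcon
      obtain ⟨huB, hu'B⟩ := hcon
      have hu'P : u₂⁻¹ * u ∈ P := P.mul_mem (P.inv_mem hu₂P) huP
      have hu'v : (u₂⁻¹ * u) * v₁ = v₁ * (u₂⁻¹ * u) := by
        calc (u₂⁻¹ * u) * v₁ = u₂⁻¹ * (u * v₁) := by group
          _ = u₂⁻¹ * (v₁ * u) := by rw [huc]
          _ = u₂⁻¹ * (v₁ * u₂) * u₂⁻¹ * u := by group
          _ = u₂⁻¹ * (u₂ * v₁) * u₂⁻¹ * u := by rw [hu₂v]
          _ = v₁ * (u₂⁻¹ * u) := by group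
      obtain ⟨ka1, ka2⟩ := key u huP huc huB
      obtain ⟨kb1, kb2⟩ := key u₂ hu₂P hu₂v hu₂B
      obtain ⟨kc1, kc2⟩ := key _ hu'P hu'v hu'B
      set a := u * u₁ * u⁻¹ * u₁⁻¹ with ha
      set b := u₂ * u₁ * u₂⁻¹ * u₁⁻¹ with hb
      have haΦ : a ∈ Φ := h.comm u huP u₁ hu₁P
      have hbΦ : b ∈ Φ := h.comm u₂ hu₂P u₁ hu₁P
      have hcab : (u₂⁻¹ * u) * u₁ * (u₂⁻¹ * u)⁻¹ * u₁⁻¹ = a * b⁻¹ := by
        have e1 : u₂⁻¹ * (a * b⁻¹) = (a * b⁻¹) * u₂⁻¹ :=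
          h.cen _ (P.inv_mem hu₂P) _ (Φ.mul_mem haΦ (Φ.inv_mem hbΦ))
        calc (u₂⁻¹ * u) * u₁ * (u₂⁻¹ * u)⁻¹ * u₁⁻¹
            = u₂⁻¹ * ((u * u₁ * u⁻¹ * u₁⁻¹) * (u₂ * u₁ * u₂⁻¹ * u₁⁻¹)⁻¹) * u₂ := by group
          _ = (u₂⁻¹ * (a * b⁻¹)) * u₂ := by rw [← ha, ← hb]
          _ = ((a * b⁻¹) * u₂⁻¹) * u₂ := by rw [e1]
          _ = a * b⁻¹ := by group
      rw [hcab] at kc1 kc2
      rcases hfour a haΦ with h1 | h1 | h1 | h1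
      · exact ka1 h1
      · exact ka2 h1
      · rcases hfour b hbΦ with h2 | h2 | h2 | h2
        · exact kb1 h2
        · exact kb2 h2
        · apply kc1; rw [h1, h2]; group
        · apply kc2; rw [h1, h2]
          calc z₂ * (z₁ * z₂)⁻¹ = z₁⁻¹ := by group
            _ = z₁ := hz₁inv
      · rcases hfour b hbΦ with h2 | h2 | h2 | h2
        · exact kb1 h2
        · exact kb2 h2
        · apply kc2; rw [h1, h2]; group
        · apply kc1; rw [h1, h2]; group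
    have := Subgroup.card_le_of_le hle
    omega

end ClassTwo

end

end Cfsg.Agent.Lib.Helper90
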