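import Mathlib
import Cfsg.Agent.Lib.Helper90.FpfGen

set_option autoImplicit false

namespace Cfsg.Agent.Lib.Helper90

section

variable {X : Type*} [Group X]

/-- Conjugation action of the cyclic group `⟨d⟩` on an invariant subset. -/
def zpowersConjAction (d : X) (S : Set X)
    (hS : ∀ h ∈ Subgroup.zpowers d, ∀ x ∈ S, h * x * h⁻¹ ∈ S) :
    MulAction ↥(Subgroup.zpowers d) ↥S where
  smul h x := ⟨h * x * (h : X)⁻¹, hS h h.2 x x.2⟩
  one_smul x := Subtype.ext (by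
    show ((1 : ↥(Subgroup.zpowers d)) : X) * x * ((1 : ↥(Subgroup.zpowers d)) : X)⁻¹ = x
    simp)
  mul_smul a b x := Subtype.ext (by
    show ((a * b : ↥(Subgroup.zpowers d)) : X) * x * ((a * b : ↥(Subgroup.zpowers d)) : X)⁻¹ =
      (a : X) * ((b : X) * x * (b : X)⁻¹) * (a : X)⁻¹
    rw [Subgroup.coe_mul]; group)

theorem two_pow_mod_nine {j : ℕ} (h : 9 ∣ 2 ^ j - 1) (hj : j ≠ 0) : 64 ≤ 2 ^ j := by
  by_contra hcon
  push Not at hcon
  have hj6 : j < 6 := by
    by_contra h6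
    push Not at h6
    have : 2 ^ 6 ≤ 2 ^ j := Nat.pow_le_pow_right (by norm_num) h6
    omega
  interval_cases j <;> omega

variable [Finite X]

/-- Orbit counting: if the fixed points of `d³` on the `2`-group `P` form the proper subgroup `W`,
and `d` is a `3`-element normalizing `P`, then `|P : W| ≥ 64`. -/
theorem card_ge_of_cube_fixed (d : X) (n : ℕ) (hd : orderOf d = 3 ^ n) (P W : Subgroup X)
    (hP : IsPGroup 2 P) (hdP : d ∈ Subgroup.normalizer (P : Set X)) (hWP : W ≤ P)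
    (hW : ∀ x ∈ P, (d ^ 3 * x = x * d ^ 3 ↔ x ∈ W)) (hne : W ≠ P) :
    64 * Nat.card W ≤ Nat.card P := by
  classical
  set H := Subgroup.zpowers d with hH
  have hHN : H ≤ Subgroup.normalizer (P : Set X) := by
    rw [hH, Subgroup.zpowers_le]; exact hdP
  have hcomm : ∀ h ∈ H, h * d ^ 3 = d ^ 3 * h := by
    intro h hh
    obtain ⟨k, rfl⟩ := Subgroup.mem_zpowers_iff.mp hh
    have : Commute (d ^ k) (d ^ 3) := (Commute.refl d).zpow_left k |>.pow_right 3
    exact this.eq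
  let S : Set X := {x | x ∈ P ∧ x ∉ W}
  have hS : ∀ h ∈ H, ∀ x ∈ S, h * x * h⁻¹ ∈ S := by
    rintro h hh x ⟨hxP, hxW⟩
    refine ⟨(Subgroup.mem_normalizer_iff.mp (hHN hh) x).mp hxP, ?_⟩
    intro hcon
    apply hxW
    have h1 := (hW _ ((Subgroup.mem_normalizer_iff.mp (hHN hh) x).mp hxP)).mpr hcon
    apply (hW x hxP).mp
    have hc := hcomm h hh
    calc d ^ 3 * x = h⁻¹ * (h * d ^ 3) * x := by group
      _ = h⁻¹ * (d ^ 3 * h) * x := by rw [hc]
      _ = h⁻¹ * (d ^ 3 * (h * x * h⁻¹)) * h := by group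
      _ = h⁻¹ * ((h * x * h⁻¹) * d ^ 3) * h := by rw [h1]
      _ = x * h⁻¹ * (d ^ 3 * h) := by group
      _ = x * h⁻¹ * (h * d ^ 3) := by rw [hc]
      _ = x * d ^ 3 := by group
  letI act : MulAction ↥H ↥S := zpowersConjAction d S hS
  have hsmul : ∀ (h : ↥H) (x : ↥S), ((h • x : ↥S) : X) = h * x * (h : X)⁻¹ := fun h x => rfl
  have hcardH : Nat.card ↥H = 3 ^ n := by rw [hH, Nat.card_zpowers, hd]
  have hdH : d ∈ H := Subgroup.mem_zpowers d
  have key : ∀ s : ↥S, 9 ∣ (MulAction.stabilizer ↥H s).index := by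
    intro s
    set T := MulAction.stabilizer ↥H s with hT
    have hdvd : T.index ∣ 3 ^ n := by
      rw [← hcardH]; exact Subgroup.index_dvd_card T
    obtain ⟨i, hi, hidx⟩ := (Nat.dvd_prime_pow Nat.prime_three).mp hdvd
    by_cases hi2 : 2 ≤ i
    · rw [hidx]
      exact pow_dvd_pow 3 hi2
    · exfalso
      push Not at hi2
      have hdvd3 : T.index ∣ 3 := by
        rw [hidx]
        calc 3 ^ i ∣ 3 ^ 1 := pow_dvd_pow 3 (by omega)
          _ = 3 := by norm_num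
      haveI : T.Normal := Subgroup.normal_of_comm T
      have hmem : (⟨d, hdH⟩ : ↥H) ^ 3 ∈ T := by
        obtain ⟨k, hk⟩ := hdvd3
        have h1 := T.pow_index_mem (⟨d, hdH⟩ : ↥H)
        have h2 := T.pow_mem h1 k
        rw [← pow_mul, ← hk] at h2
        exact h2
      have h3 : ((⟨d, hdH⟩ : ↥H) ^ 3) • s = s := MulAction.mem_stabilizer_iff.mp hmem
      have h4 : d ^ 3 * (s : X) * (d ^ 3)⁻¹ = s := by
        have := congrArg (fun t : ↥S => (t : X)) h3
        simpa [hsmul] using this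
      have h5 : d ^ 3 * (s : X) = s * d ^ 3 := by
        calc d ^ 3 * (s : X) = (d ^ 3 * (s : X) * (d ^ 3)⁻¹) * d ^ 3 := by group
          _ = s * d ^ 3 := by rw [h4]
      exact s.2.2 ((hW _ s.2.1).mp h5)
  have h9 : 9 ∣ Nat.card ↥S := dvd_card_of_forall_dvd_index 9 key
  -- cardinality of `S`
  have hScard : Nat.card ↥S = Nat.card P - Nat.card W := by
    have hSeq : S = (P : Set X) \ (W : Set X) := by
      ext x; rfl
    rw [Nat.card_coe_set_eq, hSeq, Set.ncard_diff (by exact_mod_cast hWP) (Set.toFinite _)]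
    rfl
  obtain ⟨a, ha⟩ := (IsPGroup.iff_card.mp hP : ∃ a, Nat.card ↥P = 2 ^ a)
  obtain ⟨m, hm⟩ := Subgroup.card_dvd_of_le hWP
  have hmdvd : m ∣ 2 ^ a := by rw [← ha, hm]; exact Dvd.intro_left _ rfl
  obtain ⟨j, hj, rfl⟩ := (Nat.dvd_prime_pow Nat.prime_two).mp hmdvd
  have hWdvd : Nat.card W ∣ 2 ^ a := by rw [← ha, hm]; exact Dvd.intro _ rfl
  obtain ⟨c, hc, hWc⟩ := (Nat.dvd_prime_pow Nat.prime_two).mp hWdvd
  have hj0 : j ≠ 0 := by
    intro h0
    apply hne
    apply Subgroup.eq_of_le_of_card_ge hWP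
    rw [hm, h0]; simp
  have h9' : 9 ∣ Nat.card W * (2 ^ j - 1) := by
    have : Nat.card ↥S = Nat.card W * (2 ^ j - 1) := by
      rw [hScard, hm, Nat.mul_sub, mul_one]
    rw [← this]; exact h9
  have hcop : Nat.Coprime 9 (Nat.card W) := by
    rw [hWc]
    apply Nat.Coprime.pow_right
    norm_num
  have h9'' : 9 ∣ 2 ^ j - 1 := hcop.dvd_of_dvd_mul_left h9'
  have := two_pow_mod_nine h9'' hj0
  rw [hm]
  calc 64 * Nat.card W ≤ 2 ^ j * Nat.card W := Nat.mul_le_mul_right _ this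
    _ = Nat.card W * 2 ^ j := mul_comm _ _

end

end Cfsg.Agent.Lib.Helper90
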