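import Mathlib
import Cfsg.Agent.S0012
import Cfsg.Agent.Lib.Helper90.FrattiniAct
import Cfsg.Agent.Lib.Helper90.FpfOrbit
import Cfsg.Agent.Lib.Helper90.FpfEnd

set_option autoImplicit false

namespace Cfsg.Agent.Lib.Helper90

open scoped commutatorElement

theorem frattini_ne_top_h90 {G : Type*} [Group G] [Finite G] [Nontrivial G] : frattini G ≠ ⊤ := by
  obtain h | ⟨M, hM, _⟩ := IsCoatomic.eq_top_or_exists_le_coatom (⊥ : Subgroup G)
  · exact absurd h bot_ne_top
  · intro htop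
    have := frattini_le_coatom hM
    rw [htop] at this
    exact hM.1 (top_le_iff.mp this)

section

variable {X : Type*} [Group X] [Finite X]

/-- An element of `Φ` whose square is not trivial yields an element of `Φ` whose square is an
involution. -/
theorem exists_sq_involution (Φ : Subgroup X) :
    ∀ (k : ℕ) (f : X), f ∈ Φ → f ^ (2 ^ k) = 1 → f * f ≠ 1 →
      ∃ g ∈ Φ, g * g ≠ 1 ∧ (g * g) * (g * g) = 1 := by
  intro k
  induction k with
  | zero =>
    intro f _ hf hne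
    exfalso
    apply hne
    rw [pow_zero, pow_one] at hf
    rw [hf, mul_one]
  | succ k ih =>
    intro f hfΦ hf hne
    by_cases h4 : (f * f) * (f * f) = 1
    · exact ⟨f, hfΦ, hne, h4⟩
    · apply ih (f * f) (Φ.mul_mem hfΦ hfΦ) _ h4
      rw [← pow_two, ← pow_mul, ← pow_succ']
      exact hf

/-- Main lemma: the cube of `d` centralizes `P`. -/
theorem FpfData.cube_centralizes {d : X} (n : ℕ) (hd : orderOf d = 3 ^ n) (P : Subgroup X)
    (h : FpfData d P) : ∀ x ∈ P, d ^ 3 * x = x * d ^ 3 := by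
  induction hk : Nat.card P using Nat.strong_induction_on generalizing P with
  | _ k ih =>
  by_contra hcon
  push Not at hcon
  obtain ⟨x₀, hx₀P, hx₀⟩ := hcon
  set b := d ^ 3 with hb
  haveI : Fact (Nat.Prime 2) := ⟨Nat.prime_two⟩
  have IH : ∀ Q : Subgroup X, Q < P → d ∈ Subgroup.normalizer (Q : Set X) →
      ∀ x ∈ Q, b * x = x * b := by
    intro Q hQ hdQ
    have hlt : Nat.card Q < k := by
      have := two_mul_card_le_of_lt hQ
      have hpos : 0 < Nat.card Q := Nat.card_pos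
      omega
    exact ih (Nat.card Q) hlt Q (h.mono hQ.le hdQ) rfl
  have hPne : P ≠ ⊥ := by
    intro hbot
    apply hx₀
    rw [hbot, Subgroup.mem_bot] at hx₀P
    rw [hx₀P, mul_one, one_mul]
  haveI : Nontrivial ↥P := (Subgroup.nontrivial_iff_ne_bot P).mpr hPne
  -- Step A: the Frattini subgroup
  set Φ := (frattini ↥P).map P.subtype with hΦ
  have hΦP : Φ ≤ P := Subgroup.map_subtype_le _
  have hΦne : Φ ≠ P := by
    intro heq
    apply frattini_ne_top_h90 (G := ↥P)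
    rw [eq_top_iff]
    intro y _
    have hy : (y : X) ∈ Φ := by rw [heq]; exact y.2
    obtain ⟨f, hf, hfy⟩ := hy
    have : f = y := Subtype.ext hfy
    rw [← this]; exact hf
  have hdΦ : d ∈ Subgroup.normalizer (Φ : Set X) :=
    Subgroup.mem_normalizer_fintype (fun n hn => conj_mem_frattini_map P h.norm hn)
  have hbΦ := IH Φ (lt_of_le_of_ne hΦP hΦne) hdΦ
  obtain ⟨hcomm, hpow⟩ := Cfsg.Agent.S0012.result (G := ↥P) 2 h.pgroup
  have hsq : ∀ x ∈ P, x * x ∈ Φ := by
    intro x hx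
    refine ⟨(⟨x, hx⟩ : ↥P) ^ 2, hpow _, ?_⟩
    rw [pow_two]; rfl
  have hcm : ∀ x ∈ P, ∀ y ∈ P, x * y * x⁻¹ * y⁻¹ ∈ Φ := by
    intro x hx y hy
    refine ⟨⁅(⟨x, hx⟩ : ↥P), (⟨y, hy⟩ : ↥P)⁆, hcomm ?_, ?_⟩
    · rw [commutator_def]
      exact Subgroup.commutator_mem_commutator (Subgroup.mem_top _) (Subgroup.mem_top _)
    · rw [commutatorElement_def]; rfl
  have hΦnorm : ∀ x ∈ P, ∀ f ∈ Φ, x * f * x⁻¹ ∈ Φ := by
    intro x hx f hf
    have e : x * f * x⁻¹ = (x * f * x⁻¹ * f⁻¹) * f := by group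
    rw [e]
    exact Φ.mul_mem (hcm x hx f (hΦP hf)) hf
  -- Step B: `Φ` is central
  have hbN : b ∈ Subgroup.normalizer (P : Set X) := Subgroup.pow_mem _ h.norm 3
  have hbP : ∀ x ∈ P, b * x * b⁻¹ ∈ P := fun x hx => (Subgroup.mem_normalizer_iff.mp hbN x).mp hx
  have hbpow : b ^ (3 ^ n) = 1 := by
    rw [hb, ← pow_mul, mul_comm, pow_mul, ← hd, pow_orderOf_eq_one, one_pow]
  set C := P ⊓ Subgroup.centralizer (Φ : Set X) with hC
  have hCP : C ≤ P := inf_le_left
  have hdC : d ∈ Subgroup.normalizer (C : Set X) := by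
    apply Subgroup.mem_normalizer_fintype
    intro x hx
    obtain ⟨hxP, hxc⟩ := Subgroup.mem_inf.mp hx
    refine Subgroup.mem_inf.mpr ⟨h.conj_mem hxP, ?_⟩
    rw [Subgroup.mem_centralizer_iff]
    intro f hf
    have hf' : d⁻¹ * f * d ∈ Φ := (Subgroup.mem_normalizer_iff''.mp hdΦ f).mp hf
    have e1 := (Subgroup.mem_centralizer_iff.mp hxc) _ hf'
    calc f * (d * x * d⁻¹) = d * ((d⁻¹ * f * d) * x) * d⁻¹ := by group
      _ = d * (x * (d⁻¹ * f * d)) * d⁻¹ := by rw [e1]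
      _ = d * x * d⁻¹ * f := by group
  have hcen : ∀ x ∈ P, ∀ f ∈ Φ, x * f = f * x := by
    by_cases hCeq : C = P
    · intro x hx f hf
      have hxC : x ∈ C := by rw [hCeq]; exact hx
      have := (Subgroup.mem_centralizer_iff.mp (Subgroup.mem_inf.mp hxC).2) f hf
      exact this.symm
    · exfalso
      have hbC := IH C (lt_of_le_of_ne hCP hCeq) hdC
      apply hx₀
      -- the element `g = b x₀ b⁻¹ x₀⁻¹`
      set g := b * x₀ * b⁻¹ * x₀⁻¹ with hg
      have hgP : g ∈ P := P.mul_mem (hbP x₀ hx₀P) (P.inv_mem hx₀P)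
      have hgC : g ∈ C := by
        refine Subgroup.mem_inf.mpr ⟨hgP, ?_⟩
        rw [Subgroup.mem_centralizer_iff]
        intro f hf
        have hf₁ : x₀⁻¹ * f * x₀⁻¹⁻¹ ∈ Φ := hΦnorm _ (P.inv_mem hx₀P) f hf
        have e1 := hbΦ _ hf₁
        have e2 := hbΦ f hf
        have e1' : b⁻¹ * (x₀⁻¹ * f * x₀⁻¹⁻¹) = (x₀⁻¹ * f * x₀⁻¹⁻¹) * b⁻¹ := by
          calc b⁻¹ * (x₀⁻¹ * f * x₀⁻¹⁻¹) = b⁻¹ * ((x₀⁻¹ * f * x₀⁻¹⁻¹) * b) * b⁻¹ := by group
            _ = b⁻¹ * (b * (x₀⁻¹ * f * x₀⁻¹⁻¹)) * b⁻¹ := by rw [e1]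
            _ = (x₀⁻¹ * f * x₀⁻¹⁻¹) * b⁻¹ := by group
        symm
        calc g * f = b * x₀ * (b⁻¹ * (x₀⁻¹ * f * x₀⁻¹⁻¹)) * x₀⁻¹ := by rw [hg]; group
          _ = b * x₀ * ((x₀⁻¹ * f * x₀⁻¹⁻¹) * b⁻¹) * x₀⁻¹ := by rw [e1']
          _ = (b * f) * x₀ * b⁻¹ * x₀⁻¹ := by group
          _ = (f * b) * x₀ * b⁻¹ * x₀⁻¹ := by rw [e2]
          _ = f * g := by rw [hg]; group
      have hbg : b * g = g * b := hbC g hgC
      have hconj : b * x₀ * b⁻¹ = g * x₀ := by rw [hg]; group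
      have hk := conj_pow_eq_of_commute hconj hbg (3 ^ n)
      rw [hbpow] at hk
      have hg3 : g ^ (3 ^ n) = 1 := by
        have : x₀ = g ^ (3 ^ n) * x₀ := by
          calc x₀ = 1 * x₀ * 1⁻¹ := by group
            _ = g ^ (3 ^ n) * x₀ := hk
        calc g ^ (3 ^ n) = (g ^ (3 ^ n) * x₀) * x₀⁻¹ := by group
          _ = x₀ * x₀⁻¹ := by rw [← this]
          _ = 1 := by group
      obtain ⟨j, hj⟩ := h.pgroup ⟨g, hgP⟩
      have hg2 : g ^ (2 ^ j) = 1 := by
        have := congrArg (fun t : ↥P => (t : X)) hj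
        simpa using this
      have ho1 : orderOf g ∣ 3 ^ n := orderOf_dvd_of_pow_eq_one hg3
      have ho2 : orderOf g ∣ 2 ^ j := orderOf_dvd_of_pow_eq_one hg2
      have hcop : Nat.Coprime (2 ^ j) (3 ^ n) := Nat.Coprime.pow _ _ (by norm_num)
      have ho : orderOf g = 1 := Nat.eq_one_of_dvd_coprimes hcop ho2 ho1
      have hg1 : g = 1 := orderOf_eq_one_iff.mp ho
      calc b * x₀ = (b * x₀ * b⁻¹ * x₀⁻¹) * x₀ * b := by group
        _ = x₀ * b := by rw [← hg, hg1, one_mul]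
  -- Step E: orbit counting
  set W := P ⊓ Subgroup.centralizer {b} with hW
  have hWP : W ≤ P := inf_le_left
  have hWmem : ∀ x ∈ P, (d ^ 3 * x = x * d ^ 3 ↔ x ∈ W) := by
    intro x hx
    rw [hW, Subgroup.mem_inf, Subgroup.mem_centralizer_singleton_iff]
    constructor
    · intro hc; exact ⟨hx, hc.symm⟩
    · intro hc; exact hc.2.symm
  have hWne : W ≠ P := by
    intro heq
    apply hx₀
    exact (hWmem x₀ hx₀P).mpr (by rw [heq]; exact hx₀P)
  have hΦW : Φ ≤ W := by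
    intro f hf
    exact (hWmem f (hΦP hf)).mp (hbΦ f hf)
  have h64 := card_ge_of_cube_fixed d n hd P W h.pgroup h.norm hWP hWmem hWne
  have hbig : 64 * Nat.card Φ ≤ Nat.card P := by
    have := Subgroup.card_le_of_le hΦW
    omega
  -- Step D: the involutions
  obtain ⟨z, hzP, hz1, hz2, hzc, hz'z, hdz', hall⟩ := h.involutions hPne
  set z' := d * z * d⁻¹ with hz'
  have hz'P : z' ∈ P := h.conj_mem hzP
  have hz'2 : z' * z' = 1 := by
    calc z' * z' = d * (z * z) * d⁻¹ := by rw [hz']; group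
      _ = 1 := by rw [hz2]; group
  have hzz' : z' * z = z * z' := hzc z' hz'P
  have hΦbot : Φ ≠ ⊥ := by
    intro hbot
    have hcard : Nat.card P ≤ 4 := by
      classical
      let T : Finset X := {1, z, z', z * z'}
      have hT : Nat.card ↥T ≤ 4 := by
        rw [Nat.card_eq_fintype_card, Fintype.card_coe]; exact Finset.card_le_four
      let g : ↥P → ↥T := fun x => ⟨(x : X), by
        simp only [T, Finset.mem_insert, Finset.mem_singleton]
        have := hsq x x.2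
        rw [hbot, Subgroup.mem_bot] at this
        exact hall _ x.2 this⟩
      have hginj : Function.Injective g := by
        intro a b hab
        exact Subtype.ext (congrArg (fun s : ↥T => (s : X)) hab)
      exact (Nat.card_le_card_of_injective g hginj).trans hT
    have hpos : 0 < Nat.card Φ := Nat.card_pos
    omega
  have hzΦ : z ∈ Φ := by
    obtain ⟨t, htΦ, ht1, ht2, _⟩ := exists_central_involution Φ (h.pgroup.to_le hΦP) hΦbot
    have hback : ∀ f ∈ Φ, d⁻¹ * f * d ∈ Φ := fun f hf =>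
      (Subgroup.mem_normalizer_iff''.mp hdΦ f).mp hf
    rcases hall t (hΦP htΦ) ht2 with h1 | h1 | h1 | h1
    · exact absurd h1 ht1
    · rw [← h1]; exact htΦ
    · have := hback t htΦ
      rw [h1, hz'] at this
      have e : d⁻¹ * (d * z * d⁻¹) * d = z := by group
      rw [e] at this; exact this
    · have h3 := hback t htΦ
      rw [h1, ← hdz'] at h3
      have e : d⁻¹ * (d * z' * d⁻¹) * d = z' := by group
      rw [e] at h3
      have h4 := hback z' h3
      rw [hz'] at h4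
      have e : d⁻¹ * (d * z * d⁻¹) * d = z := by group
      rw [e] at h4; exact h4
  have hz'Φ : z' ∈ Φ := (Subgroup.mem_normalizer_iff.mp hdΦ z).mp hzΦ
  have hCT : ClassTwo P Φ z z' :=
    { le := hΦP, sq := hsq, comm := hcm, cen := hcen, hz := hzΦ, hz' := hz'Φ, all := hall }
  -- Step F
  by_cases hI : ∀ f ∈ Φ, f * f = 1
  · exact hCT.caseI hbig hI
  · push Not at hI
    obtain ⟨f₀, hf₀Φ, hf₀⟩ := hI
    obtain ⟨j, hj⟩ := h.pgroup ⟨f₀, hΦP hf₀Φ⟩
    have hf₀2 : f₀ ^ (2 ^ j) = 1 := by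
      have := congrArg (fun t : ↥P => (t : X)) hj
      simpa using this
    obtain ⟨g, hgΦ, hg1, hg2⟩ := exists_sq_involution Φ j f₀ hf₀Φ hf₀2 hf₀
    -- the set of squares of elements of `Φ`
    have hstep : ∀ t, (∃ f ∈ Φ, f * f = t) → ∃ f ∈ Φ, f * f = d * t * d⁻¹ := by
      rintro t ⟨f, hf, rfl⟩
      refine ⟨d * f * d⁻¹, (Subgroup.mem_normalizer_iff.mp hdΦ f).mp hf, ?_⟩
      group
    have hcyc : d * (z * z') * d⁻¹ = z := by
      calc d * (z * z') * d⁻¹ = (d * z * d⁻¹) * (d * z' * d⁻¹) := by group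
        _ = z' * (z * z') := by rw [← hz', hdz']
        _ = (z' * z) * z' := by group
        _ = (z * z') * z' := by rw [hzz']
        _ = z * (z' * z') := by group
        _ = z := by rw [hz'2, mul_one]
    have hTz : ∃ f ∈ Φ, f * f = z := by
      rcases hall (g * g) (hΦP (Φ.mul_mem hgΦ hgΦ)) hg2 with h1 | h1 | h1 | h1
      · exact absurd h1 hg1
      · exact ⟨g, hgΦ, h1⟩
      · have h3 := hstep _ ⟨g, hgΦ, h1⟩
        rw [hdz'] at h3
        have h4 := hstep _ h3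
        rw [hcyc] at h4
        exact h4
      · have h3 := hstep _ ⟨g, hgΦ, h1⟩
        rw [hcyc] at h3
        exact h3
    have hTz' : ∃ f ∈ Φ, f * f = z' := hstep _ hTz
    have hTzz' : ∃ f ∈ Φ, f * f = z * z' := by
      have := hstep _ hTz'
      rw [hdz'] at this
      exact this
    have hII : ∀ t ∈ P, t * t = 1 → ∃ f ∈ Φ, f * f = t := by
      intro t ht ht2
      rcases hall t ht ht2 with h1 | h1 | h1 | h1 <;> rw [h1]
      · exact ⟨1, Φ.one_mem, by group⟩
      · exact hTz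
      · exact hTz'
      · exact hTzz'
    exact hCT.caseII hbig hII

end

end Cfsg.Agent.Lib.Helper90
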