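import Mathlib
import Cfsg.Prelude.Def_Transfer
import Cfsg.Agent.Lib.Helper90.LargeSimple

set_option autoImplicit false

namespace Cfsg.Agent.Lib.Helper90

open scoped commutatorElement

section

variable {G : Type*} [Group G] [Finite G]

theorem large_extraspecial_simple_aux (z : G) (hz : orderOf z = 2)
    (H : Subgroup G) (hH : H = Subgroup.centralizer ({z} : Set G))
    (Q : Subgroup H) [Q.Normal]
    (hQ : Cfsg.IsExtraspecial 2 ↥Q) (w : ℕ) (hw : 2 ≤ w) (hcard : Nat.card ↥Q = 2 ^ (2 * w + 1))
    (hnwc : ∃ g : G, (∃ hq : g * z * g⁻¹ ∈ H,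
      (⟨g * z * g⁻¹, hq⟩ : H) ∈ Q) ∧ g * z * g⁻¹ ≠ z)
    (hsimp : IsSimpleGroup (↥H ⧸ Q))
    (hirr : ∀ W : Subgroup H, W.Normal → W ≤ Q →
      (W = Q ∨ ∀ x ∈ W, (x : G) ∈ Subgroup.zpowers z))
    (hwcl : Subgroup.closure {x : H | IsConj z (x : G)} ≠ Q) :
    IsSimpleGroup G := by
  haveI : Fact (Nat.Prime 2) := ⟨Nat.prime_two⟩
  have hz2 : z * z = 1 := by
    have := pow_orderOf_eq_one z
    rw [hz, pow_two] at this
    exact this
  have hz1 : z ≠ 1 := by
    intro h1
    rw [h1, orderOf_one] at hz
    omega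
  have hzinv : z⁻¹ = z := inv_eq_of_mul_eq_one_left hz2
  have hmemH : ∀ x : G, x ∈ H ↔ x * z = z * x := fun x => by
    rw [hH]; exact Subgroup.mem_centralizer_singleton_iff
  have hzH : z ∈ H := (hmemH z).mpr rfl
  set ζ : ↥H := ⟨z, hzH⟩ with hζ
  have hζc : ∀ x : ↥H, x * ζ = ζ * x := by
    intro x
    apply Subtype.ext
    exact (hmemH x).mp x.2
  have hζ1 : ζ ≠ 1 := fun h1 => hz1 (congrArg Subtype.val h1)
  have hirr' : ∀ W : Subgroup ↥H, W.Normal → W ≤ Q → (W = Q ∨ ∀ x ∈ W, x = 1 ∨ x = ζ) := by
    intro W hWn hWQ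
    rcases hirr W hWn hWQ with h1 | h1
    · exact Or.inl h1
    · right
      intro x hx
      rcases mem_zpowers_involution hz2 (h1 x hx) with h2 | h2
      · left; exact Subtype.ext h2
      · right; exact Subtype.ext h2
  -- `Q` is not abelian
  obtain ⟨⟨hQp, hfrat, hcommQ⟩, hcen2⟩ := hQ
  have hQbig : 2 < Nat.card ↥Q := by
    rw [hcard]
    calc 2 < 2 ^ 5 := by norm_num
      _ ≤ 2 ^ (2 * w + 1) := Nat.pow_le_pow_right (by norm_num) (by omega)
  have hnc : ∃ x₀ ∈ Q, ∃ y₀ ∈ Q, x₀ * y₀ ≠ y₀ * x₀ := by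
    by_contra hcon
    push Not at hcon
    have : Subgroup.center ↥Q = ⊤ := by
      rw [eq_top_iff]
      intro x _
      rw [Subgroup.mem_center_iff]
      intro y
      apply Subtype.ext
      exact hcon y.1 y.2 x.1 x.2
    rw [this, Subgroup.card_top] at hcen2
    omega
  -- the centre of `Q` as a normal subgroup of `H`
  set ZQ : Subgroup ↥H := Subgroup.centralizer (Q : Set ↥H) ⊓ Q with hZQ
  have hZQn : ZQ.Normal := Subgroup.normal_inf_normal _ _
  have hZQsub : ∀ x ∈ ZQ, x = 1 ∨ x = ζ := by
    rcases hirr' ZQ hZQn inf_le_right with h1 | h1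
    · exfalso
      obtain ⟨x₀, hx₀, y₀, hy₀, hxy⟩ := hnc
      apply hxy
      have : x₀ ∈ ZQ := by rw [h1]; exact hx₀
      have := (Subgroup.mem_inf.mp this).1
      rw [Subgroup.mem_centralizer_iff] at this
      exact (this y₀ hy₀).symm
    · exact h1
  -- central elements of `Q` lie in `ZQ`
  have hcenZQ : ∀ c : ↥Q, c ∈ Subgroup.center ↥Q → (c : ↥H) ∈ ZQ := by
    intro c hc
    refine Subgroup.mem_inf.mpr ⟨?_, c.2⟩
    rw [Subgroup.mem_centralizer_iff]
    intro y hy
    have := Subgroup.mem_center_iff.mp hc ⟨y, hy⟩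
    exact congrArg Subtype.val this
  -- `ζ ∈ Q`
  have hζQ : ζ ∈ Q := by
    haveI : Nontrivial ↥Q := by
      apply (Finite.one_lt_card_iff_nontrivial).mp
      omega
    haveI : Nontrivial ↥(Subgroup.center ↥Q) := hQp.center_nontrivial
    obtain ⟨c, hc⟩ := exists_ne (1 : ↥(Subgroup.center ↥Q))
    have h1 := hZQsub _ (hcenZQ c.1 c.2)
    rcases h1 with h2 | h2
    · exfalso
      apply hc
      apply Subtype.ext; apply Subtype.ext
      exact h2
    · rw [← h2]; exact c.1.2
  have hcomm : ∀ a ∈ Q, ∀ b ∈ Q, a * b * a⁻¹ * b⁻¹ = 1 ∨ a * b * a⁻¹ * b⁻¹ = ζ := by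
    intro a ha b hb
    have hmem : ⁅(⟨a, ha⟩ : ↥Q), (⟨b, hb⟩ : ↥Q)⁆ ∈ Subgroup.center ↥Q := by
      rw [← hcommQ, commutator_def]
      exact Subgroup.commutator_mem_commutator (Subgroup.mem_top _) (Subgroup.mem_top _)
    have := hZQsub _ (hcenZQ _ hmem)
    rw [commutatorElement_def] at this
    exact this
  have hNS := normal_subgroups_of_irreducible Q ζ hζc hcomm hnc hsimp hirr'
  -- the conjugate of `z` in `Q`
  obtain ⟨g, ⟨hq, hgQ⟩, hgz⟩ := hnwc
  set z' := g * z * g⁻¹ with hz'
  have hz'1 : z' ≠ 1 := by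
    intro h1
    apply hz1
    calc z = g⁻¹ * z' * g := by rw [hz']; group
      _ = 1 := by rw [h1]; group
  have hz'2 : z' * z' = 1 := by
    calc z' * z' = g * (z * z) * g⁻¹ := by rw [hz']; group
      _ = 1 := by rw [hz2]; group
  -- nonidentity central elements of a Sylow 2-subgroup containing `Q` equal `z`
  refine { exists_pair_ne := ⟨z, 1, hz1⟩, eq_bot_or_eq_top_of_normal := ?_ }
  intro N hN
  by_contra hcon
  push Not at hcon
  obtain ⟨hNbot, hNtop⟩ := hcon
  haveI := hN
  set M := N.subgroupOf H with hM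
  have hMn : M.Normal := Subgroup.normal_subgroupOf
  have hMmem : ∀ x : ↥H, x ∈ M ↔ (x : G) ∈ N := fun x => Subgroup.mem_subgroupOf
  rcases hNS M hMn with hA | hB | hC
  · -- Case A
    by_cases hζM : ζ ∈ M
    · have hzN : z ∈ N := (hMmem ζ).mp hζM
      have hz'N : z' ∈ N := hN.conj_mem z hzN g
      rcases hA ⟨z', hq⟩ ((hMmem _).mpr hz'N) with h1 | h1
      · exact hz'1 (congrArg Subtype.val h1)
      · exact hgz (congrArg Subtype.val h1)
    · -- `N ∩ H = 1`
      have hfpf : ∀ n ∈ N, n * z = z * n → n = 1 := by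
        intro n hn hc
        have hnH : n ∈ H := (hmemH n).mpr hc
        rcases hA ⟨n, hnH⟩ ((hMmem _).mpr hn) with h1 | h1
        · exact congrArg Subtype.val h1
        · exfalso
          apply hζM
          rw [← h1]
          exact (hMmem _).mpr hn
      have hfpf' : ∀ n ∈ N, n * z' = z' * n → n = 1 := by
        intro n hn hc
        have h1 : (g⁻¹ * n * g) * z = z * (g⁻¹ * n * g) := by
          calc (g⁻¹ * n * g) * z = g⁻¹ * (n * (g * z * g⁻¹)) * g := by group
            _ = g⁻¹ * ((g * z * g⁻¹) * n) * g := by rw [← hz', hc]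
            _ = z * (g⁻¹ * n * g) := by group
        have h2 : g⁻¹ * n * g⁻¹⁻¹ ∈ N := hN.conj_mem n hn g⁻¹
        rw [inv_inv] at h2
        have h3 := hfpf _ h2 h1
        calc n = g * (g⁻¹ * n * g) * g⁻¹ := by group
          _ = 1 := by rw [h3]; group
      have hinv := inverts_of_fpf N z hz2 hfpf
      have hinv' := inverts_of_fpf N z' hz'2 hfpf'
      -- `u = z z'` centralizes `N`
      have hucen : ∀ n ∈ N, (z * z') * n = n * (z * z') := by
        intro n hn
        have h1 := hinv' n hn
        have h2 := hinv n⁻¹ (N.inv_mem hn)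
        rw [inv_inv] at h2
        calc (z * z') * n = z * (z' * n * z'⁻¹) * z' := by group
          _ = z * n⁻¹ * z' := by rw [h1]
          _ = (z * n⁻¹ * z⁻¹) * z * z' := by group
          _ = n * (z * z') := by rw [h2]; group
      set M' := (Subgroup.centralizer (N : Set G)).subgroupOf H with hM'
      have hM'n : M'.Normal := Subgroup.normal_subgroupOf
      have huH : z * z' ∈ H := H.mul_mem hzH hq
      have huM' : (⟨z * z', huH⟩ : ↥H) ∈ M' := by
        rw [hM', Subgroup.mem_subgroupOf, Subgroup.mem_centralizer_iff]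
        intro n hn
        exact (hucen n hn).symm
      have hζM' : ζ ∈ M' := by
        rcases hNS M' hM'n with h1 | h1 | h1
        · exfalso
          rcases h1 _ huM' with h2 | h2
          · have h3 : z * z' = 1 := congrArg Subtype.val h2
            apply hgz
            calc z' = z⁻¹ * (z * z') := by group
              _ = z := by rw [h3, mul_one, hzinv]
          · have h3 : z * z' = z := congrArg Subtype.val h2
            apply hz'1
            calc z' = z⁻¹ * (z * z') := by group
              _ = 1 := by rw [h3]; group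
        · rw [h1]; exact hζQ
        · rw [h1]; exact Subgroup.mem_top _
      rw [hM', Subgroup.mem_subgroupOf, Subgroup.mem_centralizer_iff] at hζM'
      apply hNbot
      rw [eq_bot_iff]
      intro n hn
      rw [Subgroup.mem_bot]
      exact hfpf n hn (hζM' n hn)
  · -- Case B
    have hzN : z ∈ N := by
      have : ζ ∈ M := by rw [hB]; exact hζQ
      exact (hMmem ζ).mp this
    set S : Set ↥H := {x : ↥H | IsConj z (x : G)} with hS
    set K := Subgroup.closure S with hK
    have hKQ : K ≤ Q := by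
      rw [hK, Subgroup.closure_le]
      intro x hx
      rw [← hB]
      rw [SetLike.mem_coe, hMmem]
      obtain ⟨c, hc⟩ := isConj_iff.mp hx
      rw [← hc]
      exact hN.conj_mem z hzN c
    have hKn : K.Normal := by
      have : K = Subgroup.normalClosure S := by
        apply le_antisymm Subgroup.closure_le_normalClosure
        rw [Subgroup.normalClosure]
        apply Subgroup.closure_mono
        intro x hx
        obtain ⟨b, hb, hbx⟩ := Group.mem_conjugatesOfSet_iff.mp hx
        show IsConj z (x : G)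
        have h1 : IsConj z (b : G) := hb
        obtain ⟨c, hc⟩ := isConj_iff.mp hbx
        have h2 : IsConj (b : G) (x : G) := by
          rw [isConj_iff]
          refine ⟨(c : G), ?_⟩
          have := congrArg Subtype.val hc
          simpa using this
        exact h1.trans h2
      rw [this]
      infer_instance
    rcases hirr' K hKn hKQ with h1 | h1
    · exact hwcl h1
    · have hmem : (⟨z', hq⟩ : ↥H) ∈ K := by
        apply Subgroup.subset_closure
        show IsConj z z'
        rw [isConj_iff]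
        exact ⟨g, rfl⟩
      rcases h1 _ hmem with h2 | h2
      · exact hz'1 (congrArg Subtype.val h2)
      · exact hgz (congrArg Subtype.val h2)
  · -- Case C
    have hHN : H ≤ N := by
      intro x hx
      have : (⟨x, hx⟩ : ↥H) ∈ M := by rw [hC]; exact Subgroup.mem_top _
      exact (hMmem _).mp this
    -- a Sylow 2-subgroup containing `Q`
    have hQ'p : IsPGroup 2 (Q.map H.subtype) := by
      have : IsPGroup 2 ↥Q := hQp
      exact this.map _
    obtain ⟨T, hT⟩ := hQ'p.exists_le_sylow
    have hQT : ∀ x : ↥H, x ∈ Q → (x : G) ∈ T := fun x hx => hT ⟨x, hx, rfl⟩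
    have hzT : z ∈ T := hQT ζ hζQ
    -- central elements of `T`
    have hcenT : ∀ c : G, c ∈ T → (∀ t ∈ T, t * c = c * t) → c ≠ 1 → c = z := by
      intro c hcT hcc hc1
      have hcH : c ∈ H := by
        rw [hmemH]
        exact (hcc z hzT).symm
      set CQ := Subgroup.centralizer (Q : Set ↥H) with hCQ
      have hCQn : CQ.Normal := inferInstance
      have hcCQ : (⟨c, hcH⟩ : ↥H) ∈ CQ := by
        rw [hCQ, Subgroup.mem_centralizer_iff]
        intro y hy
        apply Subtype.ext
        exact hcc y (hQT y hy)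
      have hQab : ¬ Q ≤ CQ := by
        intro hle
        obtain ⟨x₀, hx₀, y₀, hy₀, hxy⟩ := hnc
        apply hxy
        have := hle hx₀
        rw [hCQ, Subgroup.mem_centralizer_iff] at this
        exact (this y₀ hy₀).symm
      rcases hNS CQ hCQn with h1 | h1 | h1
      · rcases h1 _ hcCQ with h2 | h2
        · exact absurd (congrArg Subtype.val h2) hc1
        · exact congrArg Subtype.val h2
      · exfalso; apply hQab; rw [h1]
      · exfalso; apply hQab; rw [h1]; exact le_top
    -- `T` has a nontrivial centre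
    haveI : Nontrivial ↥(T : Subgroup G) := ⟨⟨⟨z, hzT⟩, 1, fun h1 => hz1 (congrArg Subtype.val h1)⟩⟩
    haveI : Nontrivial ↥(Subgroup.center ↥(T : Subgroup G)) := T.isPGroup'.center_nontrivial
    obtain ⟨c, hc⟩ := exists_ne (1 : ↥(Subgroup.center ↥(T : Subgroup G)))
    have hcz : ((c : ↥(T : Subgroup G)) : G) = z := by
      apply hcenT _ c.1.2
      · intro t ht
        have := Subgroup.mem_center_iff.mp c.2 ⟨t, ht⟩
        exact congrArg Subtype.val this
      · intro h1
        apply hc
        apply Subtype.ext; apply Subtype.ext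
        exact h1
    have hzcen : ∀ t ∈ T, t * z = z * t := by
      intro t ht
      have := Subgroup.mem_center_iff.mp c.2 ⟨t, ht⟩
      have := congrArg Subtype.val this
      rw [← hcz]
      exact this
    have hTH : (T : Subgroup G) ≤ H := by
      intro t ht
      rw [hmemH]
      exact hzcen t ht
    have hTN : (T : Subgroup G) ≤ N := hTH.trans hHN
    have hfrat := Sylow.normalizer_sup_eq_top' T hTN
    have hNT : Subgroup.normalizer ((T : Subgroup G) : Set G) ≤ N := by
      intro x hx
      apply hHN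
      rw [hmemH]
      have hxz : x * z * x⁻¹ = z := by
        apply hcenT
        · exact (Subgroup.mem_normalizer_iff.mp hx z).mp hzT
        · intro t ht
          have ht' : x⁻¹ * t * x ∈ T := (Subgroup.mem_normalizer_iff''.mp hx t).mp ht
          have e := hzcen _ ht'
          calc t * (x * z * x⁻¹) = x * ((x⁻¹ * t * x) * z) * x⁻¹ := by group
            _ = x * (z * (x⁻¹ * t * x)) * x⁻¹ := by rw [e]
            _ = x * z * x⁻¹ * t := by group
        · intro h1
          apply hz1
          calc z = x⁻¹ * (x * z * x⁻¹) * x := by group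
            _ = 1 := by rw [h1]; group
      calc x * z = (x * z * x⁻¹) * x := by group
        _ = z * x := by rw [hxz]
    apply hNtop
    rw [← hfrat]
    exact (sup_eq_right.mpr hNT).symm

theorem large_extraspecial_simple (z : G) (hz : orderOf z = 2)
    (Q : Subgroup (Subgroup.centralizer ({z} : Set G))) [Q.Normal]
    (hQ : Cfsg.IsExtraspecial 2 ↥Q) (w : ℕ) (hw : 2 ≤ w) (hcard : Nat.card ↥Q = 2 ^ (2 * w + 1))
    (hnwc : ∃ g : G, (∃ hq : g * z * g⁻¹ ∈ Subgroup.centralizer ({z} : Set G),
      (⟨g * z * g⁻¹, hq⟩ : Subgroup.centralizer ({z} : Set G)) ∈ Q) ∧ g * z * g⁻¹ ≠ z)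
    (hsimp : IsSimpleGroup (↥(Subgroup.centralizer ({z} : Set G)) ⧸ Q))
    (hirr : ∀ W : Subgroup (Subgroup.centralizer ({z} : Set G)), W.Normal → W ≤ Q →
      (W = Q ∨ ∀ x ∈ W, (x : G) ∈ Subgroup.zpowers z))
    (hwcl : Subgroup.closure {x : Subgroup.centralizer ({z} : Set G) | IsConj z (x : G)} ≠ Q) :
    IsSimpleGroup G :=
  large_extraspecial_simple_aux z hz _ rfl Q hQ w hw hcard hnwc hsimp hirr hwcl

end

end Cfsg.Agent.Lib.Helper90
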