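import Mathlib
import Cfsg.Agent.Lib.Helper90.LocS3C

set_option autoImplicit false

/-!
The split case: if two different partners of `d` have the same partners, then `D` is the union of
the partners of `d` and the partners of `a`.
-/

namespace Cfsg.Agent.Lib.Helper90

open Cfsg

section
variable {G : Type*} [Group G] [Finite G] {D : Set G}

omit [Finite G] in
/-- elements of `O₃(G)` centralizing `d` are powers of a given non-trivial one,
if `|O₃(C(d))| = 3` -/
theorem mem_zpowers_of_pCore_centralizer {d u : G}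
    (hO3 : Nat.card (pCore 3 ↥(Subgroup.centralizer ({d} : Set G))) = 3)
    (hu : u ∈ pCore 3 G) (hud : Commute u d) (hu1 : u ≠ 1) {q : G} (hq : q ∈ pCore 3 G)
    (hqd : Commute q d) : q ∈ Subgroup.zpowers u := by
  set Cd : Subgroup G := Subgroup.centralizer ({d} : Set G) with hCd
  have mem : ∀ g : G, Commute g d → g ∈ Cd := by
    intro g hg
    rw [hCd, Subgroup.mem_centralizer_iff]
    intro h hh
    rw [Set.mem_singleton_iff] at hh
    rw [hh]
    exact hg.eq.symm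
  set N : Subgroup ↥Cd := (pCore 3 G).subgroupOf Cd with hN
  have hNn : N.Normal := (pCore_normal 3 G).subgroupOf Cd
  have hN3 : IsPGroup 3 N := (pCore_isPGroup 3 G).comap_subtype
  have hNO : N ≤ pCore 3 ↥Cd := le_pCore N hNn hN3
  have hu'O : (⟨u, mem u hud⟩ : ↥Cd) ∈ pCore 3 ↥Cd := hNO (Subgroup.mem_subgroupOf.mpr hu)
  have hq'O : (⟨q, mem q hqd⟩ : ↥Cd) ∈ pCore 3 ↥Cd := hNO (Subgroup.mem_subgroupOf.mpr hq)
  have : Fact (Nat.Prime 3) := ⟨by norm_num⟩
  have hne : (⟨⟨u, mem u hud⟩, hu'O⟩ : ↥(pCore 3 ↥Cd)) ≠ 1 := by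
    intro h
    apply hu1
    have := congrArg (fun t : ↥(pCore 3 ↥Cd) => ((t : ↥Cd) : G)) h
    simpa using this
  have htop := zpowers_eq_top_of_prime_card hO3 hne
  have hmem : (⟨⟨q, mem q hqd⟩, hq'O⟩ : ↥(pCore 3 ↥Cd)) ∈
      Subgroup.zpowers (⟨⟨u, mem u hud⟩, hu'O⟩ : ↥(pCore 3 ↥Cd)) := by
    rw [htop]; trivial
  obtain ⟨k, hk⟩ := Subgroup.mem_zpowers_iff.mp hmem
  refine Subgroup.mem_zpowers_iff.mpr ⟨k, ?_⟩
  have := congrArg (fun t : ↥(pCore 3 ↥Cd) => ((t : ↥Cd) : G)) hk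
  simpa using this

omit [Finite G] in
/-- if `p d p⁻¹ = w d w⁻¹` then `w⁻¹ p` centralizes `d` -/
theorem commute_of_conj_eq {p w d : G} (h : p * d * p⁻¹ = w * d * w⁻¹) : Commute (w⁻¹ * p) d := by
  show w⁻¹ * p * d = d * (w⁻¹ * p)
  calc w⁻¹ * p * d = w⁻¹ * (p * d * p⁻¹) * p := by group
    _ = w⁻¹ * (w * d * w⁻¹) * p := by rw [h]
    _ = d * (w⁻¹ * p) := by group

namespace LocCtx

variable (C : LocCtx D)
include C

theorem caseA_cover
    (hZ : ∀ H : Subgroup G, Cfsg.Agent.Lib.Helper58.ZStarProd.ZStarHyp ↥H)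
    (hO3 : ∀ d ∈ D, Nat.card (pCore 3 ↥(Subgroup.centralizer ({d} : Set G))) = 3)
    {d a b : G} (hd : d ∈ D) (ha : a ∈ cpart D d) (hb : b ∈ cpart D d) (hab : a ≠ b)
    (hsim : Sim D a b) : ∀ x ∈ D, x ∈ cpart D d ∨ x ∈ cpart D a := by
  intro x hx
  by_contra hcon
  push Not at hcon
  obtain ⟨hx1, hx2⟩ := hcon
  have hT := C.hT
  have hda : d ∈ cpart D a := cpart_symm hd ha
  have hxd : x ≠ d := by
    rintro rfl
    exact hx2 hda
  have ncdx : ¬ Commute d x := fun h => hx1 ⟨hx, hxd, h⟩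
  have hxa : x ≠ a := by
    rintro rfl
    exact hx1 ha
  have ncax : ¬ Commute a x := fun h => hx2 ⟨hx, hxa, h⟩
  obtain ⟨d', hd', hd'd⟩ := C.exists_partner_ne ha.1 d
  have hd'b : d' ∈ cpart D b := by
    have : cpart D a = cpart D b := hsim
    rw [← this]; exact hd'
  have hsd : Sim D d d' :=
    C.cpart_eq_of_two hd hd'.1 ha hb (cpart_symm ha.1 hd') (cpart_symm hb.1 hd'b) hab
  have ncdd' : ¬ Commute d d' := LocS3.nc hT (C.hL a ha.1) hda hd' (Ne.symm hd'd)
  have ncab : ¬ Commute a b := LocS3.nc hT (C.hL d hd) ha hb hab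
  have hn := pCore_normal 3 G
  have hdd := tt_sq hT hd
  have haa := tt_sq hT ha.1
  have hbb := tt_sq hT hb.1
  have hd'd' := tt_sq hT hd'.1
  have hxx := tt_sq hT hx
  have hdi := tt_inv hT hd
  have hai := tt_inv hT ha.1
  have hbi := tt_inv hT hb.1
  have hd'i := tt_inv hT hd'.1
  have hxi := tt_inv hT hx
  -- the two elements of order 3
  have huP : a * b ∈ pCore 3 G := sim_mul_mem_pCore hZ hT C.hc ha.1 hb.1 hsim
  have hvP : d * d' ∈ pCore 3 G := sim_mul_mem_pCore hZ hT C.hc hd hd'.1 hsd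
  have hu1 : a * b ≠ 1 := by
    intro h
    apply hab
    have := eq_inv_of_mul_eq_one_left h
    rwa [hbi] at this
  have hud : Commute (a * b) d := (ha.2.2.mul_right hb.2.2).symm
  have hav : Commute a (d * d') := ha.2.2.symm.mul_right hd'.2.2
  have hbv : Commute b (d * d') := hb.2.2.symm.mul_right hd'b.2.2
  have huv : Commute (d * d') (a * b) := (hav.mul_left hbv).symm
  have hvconj : (d * d') * d * (d * d')⁻¹ = d' := conj_mul_eq hT hd hd'.1 ncdd'
  have hvconj' : (d * d')⁻¹ * d * (d * d')⁻¹⁻¹ = d * d' * d := by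
    rw [inv_inv, mul_inv_rev, hdi, hd'i]
    have hbr := tt_braid hT hd hd'.1 ncdd'  -- d' * d * d' = d * d' * d
    calc d' * d * d * (d * d') = d' * (d * d) * d * d' := by simp only [mul_assoc]
      _ = d' * d * d' := by rw [hdd, mul_one]
      _ = d * d' * d := hbr
  have htri := LocS3.eq_triple C.hT C.hc (C.hL a ha.1) hda hd' (Ne.symm hd'd)
  -- orbit of `d` under `O₃(G)`
  have horb : ∀ p ∈ pCore 3 G, p * d * p⁻¹ ∈ cpart D a := by
    intro p hp
    have hw : p * d * p⁻¹ ∈ D := C.hc p d hd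
    have hmem : d⁻¹ * (p * d * p⁻¹) ∈ pCore 3 G := by
      have e1 : d⁻¹ * (p * d * p⁻¹) = (d⁻¹ * p * d⁻¹⁻¹) * p⁻¹ := by group
      rw [e1]
      exact mul_mem (hn.conj_mem p hp d⁻¹) (inv_mem hp)
    exact cpart_symm hw (cpart_subset_of_mem_pCore hT hd hw hmem ha)
  -- decomposition of `O₃(G)`
  have hdec : ∀ p ∈ pCore 3 G, ∃ w : G, (w = 1 ∨ w = d * d' ∨ w = (d * d')⁻¹) ∧
      ∃ q ∈ Subgroup.zpowers (a * b), p = w * q := by
    intro p hp
    have h1 := horb p hp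
    rw [htri] at h1
    have key : ∀ w ∈ pCore 3 G, p * d * p⁻¹ = w * d * w⁻¹ →
        ∃ q ∈ Subgroup.zpowers (a * b), p = w * q := by
      intro w hw h
      refine ⟨w⁻¹ * p, ?_, by group⟩
      exact mem_zpowers_of_pCore_centralizer (hO3 d hd) huP hud hu1
        (mul_mem (inv_mem hw) hp) (commute_of_conj_eq h)
    rcases h1 with h | h | h
    · exact ⟨1, Or.inl rfl, key 1 (one_mem _) (by rw [h]; group)⟩
    · exact ⟨d * d', Or.inr (Or.inl rfl), key _ hvP (by rw [h, hvconj])⟩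
    · exact ⟨(d * d')⁻¹, Or.inr (Or.inr rfl), key _ (inv_mem hvP) (by rw [h, hvconj'])⟩
  -- `z = d a` inverts `O₃(G)`
  have hzv : (d * a) * (d * d') * (d * a)⁻¹ = (d * d')⁻¹ := by
    rw [mul_inv_rev, mul_inv_rev, hdi, hai, hd'i]
    calc d * a * (d * d') * (a * d) = d * (a * (d * d')) * a * d := by simp only [mul_assoc]
      _ = d * ((d * d') * a) * a * d := by rw [hav.eq]
      _ = (d * d) * d' * (a * a) * d := by simp only [mul_assoc]
      _ = d' * d := by rw [hdd, haa, one_mul, mul_one]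
  have hzu : (d * a) * (a * b) * (d * a)⁻¹ = (a * b)⁻¹ := by
    rw [mul_inv_rev, mul_inv_rev, hdi, hai, hbi]
    calc d * a * (a * b) * (a * d) = d * (a * a) * b * a * d := by simp only [mul_assoc]
      _ = d * (b * a) * d := by rw [haa, mul_one]; simp only [mul_assoc]
      _ = (b * a) * d * d := by rw [(hb.2.2.mul_right ha.2.2).eq]
      _ = b * a := by rw [mul_assoc, hdd, mul_one]
  have hinv : ∀ p ∈ pCore 3 G, (d * a) * p * (d * a)⁻¹ = p⁻¹ := by
    intro p hp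
    obtain ⟨w, hw, q, hq, rfl⟩ := hdec p hp
    obtain ⟨k, rfl⟩ := Subgroup.mem_zpowers_iff.mp hq
    have h1 : (d * a) * (a * b) ^ k * (d * a)⁻¹ = ((a * b) ^ k)⁻¹ := by
      rw [← conj_zpow, hzu, inv_zpow]
    have h2 : (d * a) * w * (d * a)⁻¹ = w⁻¹ := by
      rcases hw with rfl | rfl | rfl
      · group
      · exact hzv
      · have : (d * a) * (d * d')⁻¹ * (d * a)⁻¹ = ((d * a) * (d * d') * (d * a)⁻¹)⁻¹ := by group
        rw [this, hzv]
    have h3 : Commute w ((a * b) ^ k) := by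
      apply Commute.zpow_right
      rcases hw with rfl | rfl | rfl
      · exact Commute.one_left _
      · exact huv
      · exact huv.inv_left
    calc (d * a) * (w * (a * b) ^ k) * (d * a)⁻¹
        = ((d * a) * w * (d * a)⁻¹) * ((d * a) * (a * b) ^ k * (d * a)⁻¹) := by group
      _ = w⁻¹ * ((a * b) ^ k)⁻¹ := by rw [h1, h2]
      _ = (w * (a * b) ^ k)⁻¹ := by rw [mul_inv_rev, (h3.inv_left.inv_right).eq]
  -- the conjugate `x z x⁻¹` also inverts, so `m = z (x z x⁻¹)` centralizes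
  have hinv' : ∀ p ∈ pCore 3 G, (x * (d * a) * x⁻¹) * p * (x * (d * a) * x⁻¹)⁻¹ = p⁻¹ := by
    intro p hp
    have hp' : x⁻¹ * p * x⁻¹⁻¹ ∈ pCore 3 G := hn.conj_mem p hp x⁻¹
    have := hinv _ hp'
    calc (x * (d * a) * x⁻¹) * p * (x * (d * a) * x⁻¹)⁻¹
        = x * ((d * a) * (x⁻¹ * p * x⁻¹⁻¹) * (d * a)⁻¹) * x⁻¹ := by group
      _ = x * (x⁻¹ * p * x⁻¹⁻¹)⁻¹ * x⁻¹ := by rw [this]
      _ = p⁻¹ := by group
  have hcent : ∀ p ∈ pCore 3 G,
      ((d * a) * (x * (d * a) * x⁻¹)) * p * ((d * a) * (x * (d * a) * x⁻¹))⁻¹ = p := by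
    intro p hp
    have h1 := hinv' p hp
    have h2 := hinv _ (inv_mem hp)
    calc ((d * a) * (x * (d * a) * x⁻¹)) * p * ((d * a) * (x * (d * a) * x⁻¹))⁻¹
        = (d * a) * ((x * (d * a) * x⁻¹) * p * (x * (d * a) * x⁻¹)⁻¹) * (d * a)⁻¹ := by group
      _ = (d * a) * p⁻¹ * (d * a)⁻¹ := by rw [h1]
      _ = p := by rw [h2, inv_inv]
  -- `m` is conjugate to `z`
  have bxd := tt_braid hT hd hx ncdx  -- x * d * x = d * x * d
  have bxa := tt_braid hT ha.1 hx ncax  -- x * a * x = a * x * a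
  have hconj : (x * d * x) * (d * a) * (x * d * x)⁻¹ = (d * a) * (x * (d * a) * x⁻¹) := by
    rw [mul_inv_rev, mul_inv_rev, hxi, hdi]
    calc (x * d * x) * (d * a) * (x * (d * x))
        = ((x * d * x) * d) * a * x * d * x := by simp only [mul_assoc]
      _ = ((d * x * d) * d) * a * x * d * x := by rw [bxd]
      _ = d * x * (d * d) * a * x * d * x := by simp only [mul_assoc]
      _ = d * (x * a * x) * d * x := by rw [hdd, mul_one]; simp only [mul_assoc]
      _ = d * (a * x * a) * d * x := by rw [bxa]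
      _ = d * a * x * (a * d) * x := by simp only [mul_assoc]
      _ = d * a * x * (d * a) * x := by rw [ha.2.2.eq]
      _ = (d * a) * (x * (d * a) * x) := by simp only [mul_assoc]
  -- so `z` centralizes `O₃(G)`
  have hzc : (d * a) * (a * b) * (d * a)⁻¹ = a * b := by
    set g := x * d * x with hg
    have hp' : g * (a * b) * g⁻¹ ∈ pCore 3 G := hn.conj_mem _ huP g
    have h1 := hcent _ hp'
    rw [← hconj] at h1
    calc (d * a) * (a * b) * (d * a)⁻¹
        = g⁻¹ * ((g * (d * a) * g⁻¹) * (g * (a * b) * g⁻¹) * (g * (d * a) * g⁻¹)⁻¹) * g := by group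
      _ = g⁻¹ * (g * (a * b) * g⁻¹) * g := by rw [h1]
      _ = a * b := by group
  rw [hzu] at hzc
  -- (a b)⁻¹ = a b, so (a b)^2 = 1
  have hsq : (a * b) ^ 2 = 1 := by
    rw [pow_two]
    nth_rewrite 1 [← hzc]
    exact inv_mul_cancel _
  exact hu1 (eq_one_of_sq_of_mem_pCore3 hsq huP)

end LocCtx

end

end Cfsg.Agent.Lib.Helper90
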