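import Mathlib
import Cfsg.Agent.Lib.Helper90.LocS3D

set_option autoImplicit false

/-!
The split case: `⟨D⟩ ≅ S₃ × S₃`; and the main dichotomy.
-/

namespace Cfsg.Agent.Lib.Helper90

open Cfsg

section
variable {G : Type*} [Group G] {D : Set G}

theorem commute_closure_closure {S T : Set G} (h : ∀ s ∈ S, ∀ t ∈ T, Commute s t) :
    ∀ x ∈ Subgroup.closure S, ∀ y ∈ Subgroup.closure T, Commute x y := by
  have h1 : ∀ s ∈ S, Subgroup.closure T ≤ Subgroup.centralizer {s} := by
    intro s hs
    rw [Subgroup.closure_le]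
    intro t ht
    rw [SetLike.mem_coe, Subgroup.mem_centralizer_iff]
    intro k hk
    rw [Set.mem_singleton_iff] at hk
    rw [hk]
    exact (h s hs t ht).eq
  have h2 : Subgroup.closure S ≤ Subgroup.centralizer (Subgroup.closure T : Set G) := by
    rw [Subgroup.closure_le]
    intro s hs
    rw [SetLike.mem_coe, Subgroup.mem_centralizer_iff]
    intro y hy
    have := h1 s hs hy
    rw [Subgroup.mem_centralizer_iff] at this
    exact (this s rfl).symm
  intro x hx y hy
  have := h2 hx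
  rw [Subgroup.mem_centralizer_iff] at this
  exact (this y hy).symm

end

section
variable {G : Type*} [Group G] [Finite G] {D : Set G}

namespace LocCtx

variable (C : LocCtx D)
include C

theorem caseA
    (hZ : ∀ H : Subgroup G, Cfsg.Agent.Lib.Helper58.ZStarProd.ZStarHyp ↥H)
    (hO3 : ∀ d ∈ D, Nat.card (pCore 3 ↥(Subgroup.centralizer ({d} : Set G))) = 3)
    {d a b : G} (hd : d ∈ D) (ha : a ∈ cpart D d) (hb : b ∈ cpart D d) (hab : a ≠ b)
    (hsim : Sim D a b) :
    Nonempty (↥(Subgroup.closure D) ≃* Equiv.Perm (Fin 3) × Equiv.Perm (Fin 3)) := by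
  have hT := C.hT
  have hcover := C.caseA_cover hZ hO3 hd ha hb hab hsim
  have hDeq : D = cpart D d ∪ cpart D a := by
    ext x
    constructor
    · intro hx
      exact hcover x hx
    · rintro (h | h)
      · exact h.1
      · exact h.1
  have htri := LocS3.eq_triple C.hT C.hc (C.hL d hd) ha hb hab
  have hgens : ∀ s ∈ cpart D d, ∀ t ∈ cpart D a, Commute s t := by
    intro s hs t ht
    have hta : Commute a t := ht.2.2
    have htb : Commute b t := by
      have : cpart D a = cpart D b := hsim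
      rw [this] at ht
      exact ht.2.2
    rw [htri] at hs
    rcases hs with rfl | rfl | rfl
    · exact hta
    · exact htb
    · exact (hta.mul_left htb).mul_left hta
  have hcomm := commute_closure_closure hgens
  obtain ⟨e₁⟩ := C.hL d hd
  obtain ⟨e₂⟩ := C.hL a ha.1
  set K₁ : Subgroup G := Subgroup.closure (cpart D d) with hK₁
  set K₂ : Subgroup G := Subgroup.closure (cpart D a) with hK₂
  have hcomm' : ∀ (m : ↥K₁) (n : ↥K₂), Commute (K₁.subtype m) (K₂.subtype n) :=
    fun m n => hcomm m.1 m.2 n.1 n.2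
  set ψ : ↥K₁ × ↥K₂ →* G := MonoidHom.noncommCoprod K₁.subtype K₂.subtype hcomm' with hψ
  have hdisj : Disjoint K₁ K₂ := by
    rw [Subgroup.disjoint_def]
    intro g hg1 hg2
    have hcen : ∀ σ : Equiv.Perm (Fin 3), σ * e₁ ⟨g, hg1⟩ = e₁ ⟨g, hg1⟩ * σ := by
      intro σ
      have h1 : (e₁.symm σ) * ⟨g, hg1⟩ = ⟨g, hg1⟩ * (e₁.symm σ) := by
        apply Subtype.ext
        exact (hcomm _ (e₁.symm σ).2 g hg2).eq
      have := congrArg e₁ h1
      simpa using this
    have h1 := perm3_center _ hcen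
    have h2 : (⟨g, hg1⟩ : ↥K₁) = 1 := by
      apply e₁.injective
      rw [h1, map_one]
    exact congrArg Subtype.val h2
  have hinj : Function.Injective ψ := by
    rw [hψ, MonoidHom.noncommCoprod_injective]
    refine ⟨K₁.subtype_injective, K₂.subtype_injective, ?_⟩
    rw [Subgroup.range_subtype, Subgroup.range_subtype]
    exact hdisj
  have hrange : ψ.range = Subgroup.closure D := by
    rw [hψ, MonoidHom.noncommCoprod_range, Subgroup.range_subtype, Subgroup.range_subtype,
      hK₁, hK₂, ← Subgroup.closure_union, ← hDeq]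
  exact ⟨((MulEquiv.subgroupCongr hrange.symm).trans (MonoidHom.ofInjective hinj).symm).trans
    (MulEquiv.prodCongr e₁ e₂)⟩

end LocCtx

/-- **Main dichotomy** -/
theorem loc_s3_main
    (hZ : ∀ H : Subgroup G, Cfsg.Agent.Lib.Helper58.ZStarProd.ZStarHyp ↥H)
    (hT : IsThreeTranspositionSet D) (hc : ∀ g : G, ∀ d ∈ D, g * d * g⁻¹ ∈ D)
    (hne : D.Nonempty)
    (hloc : ∀ d ∈ D, LocS3 D d ∧
      Nat.card (pCore 3 ↥(Subgroup.centralizer ({d} : Set G))) = 3) :
    Nonempty (↥(Subgroup.closure D) ≃* Equiv.Perm (Fin 5)) ∨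
      Nonempty (↥(Subgroup.closure D) ≃* Equiv.Perm (Fin 3) × Equiv.Perm (Fin 3)) := by
  obtain ⟨d, hd⟩ := hne
  have C : LocCtx D := ⟨hT, hc, fun d hd => (hloc d hd).1⟩
  by_cases hs : ∃ a ∈ cpart D d, ∃ b ∈ cpart D d, a ≠ b ∧ Sim D a b
  · obtain ⟨a, ha, b, hb, hab, hsim⟩ := hs
    exact Or.inr (C.caseA hZ (fun d hd => (hloc d hd).2) hd ha hb hab hsim)
  · push Not at hs
    exact Or.inl (C.caseB hd hs)

end

end Cfsg.Agent.Lib.Helper90
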