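import Cfsg.Agent.Lib.Helper90.M24Enum
import Cfsg.Agent.Lib.Helper89.M24Cent

/-!
# Centralizers, conjugacy and non-conjugacy in `M24` from the certified search (helper90)
-/

set_option autoImplicit false

namespace Cfsg.Agent.Lib.Helper90.M24CentGlue

open Cfsg Cfsg.Agent.Lib.Helper90.M24Enum Cfsg.Agent.Lib.Helper89 Cfsg.Agent.S5394
open Cfsg.Agent.Lib.Helper7 hiding uT uP

/-- the element of `M24` with the given sift data -/
noncomputable def elt (qs : List ℕ) : ↥M24 := ⟨siftP 0 qs 1, siftP_mem _ _ _ M24.one_mem⟩

/-- its table -/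
def eltT (qs : List ℕ) : List ℕ := siftAux 0 qs idT

theorem elt_matches (qs : List ℕ) : Matches (elt qs).1 (eltT qs) :=
  siftP_matches _ _ _ _ matches_one

theorem eq_of_matches {x y : Equiv.Perm GolayPt} {t : List ℕ} (hx : Matches x t) (hy : Matches y t) :
    x = y := by
  apply Equiv.ext
  intro p
  apply idx_injective
  rw [hx p, hy p]

/-- commutation read off tables -/
theorem mul_eq_of_eqT {a b c d : ↥M24} {ta tb tc td : List ℕ} (ha : Matches a.1 ta)
    (hb : Matches b.1 tb) (hc : Matches c.1 tc) (hd : Matches d.1 td)
    (h : eqT (compT ta tb) (compT tc td) = true) : a * b = c * d := by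
  apply Subtype.ext
  exact eq_of_eqT (matches_mul ha hb) (matches_mul hc hd) h

/-- check on the result of a search: `N` complete tables -/
def chk (L : List (List ℕ)) (N : ℕ) : Bool := L.length == N && L.all fun t => t != []

/-- number of solutions of `h * g = g' * h` in `M24` -/
theorem card_le_of_enum (g g' : ↥M24) {tg tg' : List ℕ} (hg : Matches g.1 tg)
    (hg' : Matches g'.1 tg') (octs : List ℕ) (k n : ℕ) (ps : List ℕ) (N : ℕ)
    (hO : octs.all isOctadMask = true) (hps : ps.all (fun p => decide (p < 24)) = true)
    (hchk : chk (enum [(tg, tg')] [] octs k n ps unkS) N = true) :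
    Nat.card {h : ↥M24 // h * g = g' * h} ≤ N := by
  classical
  simp only [chk, Bool.and_eq_true, beq_iff_eq, List.all_eq_true, bne_iff_ne] at hchk
  obtain ⟨hlen, hfull⟩ := hchk
  set L := enum [(tg, tg')] [] octs k n ps unkS with hL
  have hO' : ∀ m ∈ octs, isOctadMask m = true := List.all_eq_true.mp hO
  have hps' : ∀ p ∈ ps, p < 24 := fun p hp => by
    simpa using List.all_eq_true.mp hps p hp
  have key : ∀ h : {h : ↥M24 // h * g = g' * h}, ∃ t ∈ L, Matches h.1.1 t := by
    intro h
    have hc : h.1.1 * g.1 = g'.1 * h.1.1 := congrArg Subtype.val h.2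
    have hI : ∀ c ∈ [(tg, tg')], Inter h.1.1 c.1 c.2 := by
      intro c hcm
      rw [List.mem_singleton] at hcm
      subst hcm
      exact inter_of_comm hg hg' hc
    have hst : Stab h.1.1 [] := fun m hm => absurd hm List.not_mem_nil
    exact exists_table h.1.2 hI hst hO' k n ps hps' hL.symm hfull
  choose f hf using key
  have hinj : Function.Injective (fun h => (⟨f h, List.mem_toFinset.mpr (hf h).1⟩ : L.toFinset)) := by
    intro a b hab
    have : f a = f b := congrArg Subtype.val hab
    apply Subtype.ext
    apply Subtype.ext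
    exact eq_of_matches (hf a).2 (this ▸ (hf b).2)
  calc Nat.card {h : ↥M24 // h * g = g' * h} ≤ Nat.card L.toFinset :=
        Nat.card_le_card_of_injective _ hinj
    _ = L.toFinset.card := by rw [Nat.card_eq_fintype_card, Fintype.card_coe]
    _ ≤ L.length := List.toFinset_card_le L
    _ = N := hlen

theorem card_centralizer_le (g : ↥M24) {tg : List ℕ} (hg : Matches g.1 tg)
    (octs : List ℕ) (k n : ℕ) (ps : List ℕ) (N : ℕ)
    (hO : octs.all isOctadMask = true) (hps : ps.all (fun p => decide (p < 24)) = true)
    (hchk : chk (enum [(tg, tg)] [] octs k n ps unkS) N = true) :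
    Nat.card (Subgroup.centralizer ({g} : Set ↥M24)) ≤ N := by
  refine le_trans (le_of_eq ?_) (card_le_of_enum g g hg hg octs k n ps N hO hps hchk)
  apply Nat.card_congr
  exact
    { toFun := fun h => ⟨h.1, by
        have := Subgroup.mem_centralizer_iff.mp h.2 g rfl
        exact this.symm⟩
      invFun := fun h => ⟨h.1, by
        rw [Subgroup.mem_centralizer_iff]
        intro x hx
        rw [Set.mem_singleton_iff] at hx
        subst hx
        exact h.2.symm⟩
      left_inv := fun _ => rfl
      right_inv := fun _ => rfl }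

/-- non-conjugacy from an empty search -/
theorem not_isConj_of_enum (g g' : ↥M24) {tg tg' : List ℕ} (hg : Matches g.1 tg)
    (hg' : Matches g'.1 tg') (octs : List ℕ) (k n : ℕ) (ps : List ℕ)
    (hO : octs.all isOctadMask = true) (hps : ps.all (fun p => decide (p < 24)) = true)
    (hchk : chk (enum [(tg, tg')] [] octs k n ps unkS) 0 = true) : ¬ IsConj g g' := by
  intro hc
  rw [isConj_iff] at hc
  obtain ⟨c, hc⟩ := hc
  have h0 := card_le_of_enum g g' hg hg' octs k n ps 0 hO hps hchk
  have hne : Nonempty {h : ↥M24 // h * g = g' * h} := ⟨⟨c, by rw [← hc]; group⟩⟩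
  have : 0 < Nat.card {h : ↥M24 // h * g = g' * h} := Nat.card_pos
  omega

/-- conjugacy from an explicit conjugator -/
theorem isConj_of_eqT (g g' c : ↥M24) {tg tg' tc : List ℕ} (hg : Matches g.1 tg)
    (hg' : Matches g'.1 tg') (hc : Matches c.1 tc)
    (h : eqT (compT tc tg) (compT tg' tc) = true) : IsConj g g' := by
  rw [isConj_iff]
  refine ⟨c, ?_⟩
  have := mul_eq_of_eqT hc hg hg' hc h
  rw [this]
  group

/-- lower bound for a centralizer from explicit elements -/
theorem le_card_centralizer (g : ↥M24) {tg : List ℕ} (hg : Matches g.1 tg) (Q : List (List ℕ))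
    (hcomm : Q.all (fun qs => eqT (compT (eltT qs) tg) (compT tg (eltT qs))) = true)
    (hne : (List.range Q.length).all (fun i => (List.range i).all fun j =>
      !eqT (eltT (Q.getD i [])) (eltT (Q.getD j []))) = true) :
    Q.length ≤ Nat.card (Subgroup.centralizer ({g} : Set ↥M24)) := by
  classical
  have hmem : ∀ i : Fin Q.length, elt (Q.getD i []) ∈ Subgroup.centralizer ({g} : Set ↥M24) := by
    intro i
    rw [Subgroup.mem_centralizer_iff]
    intro x hx
    rw [Set.mem_singleton_iff] at hx
    subst hx
    have hq : Q.getD i [] ∈ Q := by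
      rw [List.getD_eq_getElem _ _ i.2]
      exact List.getElem_mem _
    have := List.all_eq_true.mp hcomm _ hq
    exact (mul_eq_of_eqT (elt_matches _) hg hg (elt_matches _) this).symm
  let f : Fin Q.length → Subgroup.centralizer ({g} : Set ↥M24) := fun i => ⟨elt (Q.getD i []), hmem i⟩
  have hinj : Function.Injective f := by
    intro a b hab
    by_contra hne'
    have hab' : elt (Q.getD a []) = elt (Q.getD b []) := congrArg Subtype.val hab
    have heq : eqT (eltT (Q.getD a [])) (eltT (Q.getD b [])) = true := by
      apply eqT_of_matches (elt_matches _)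
      rw [hab']
      exact elt_matches _
    simp only [List.all_eq_true, List.mem_range, Bool.not_eq_true'] at hne
    rcases Nat.lt_or_gt_of_ne (fun h => hne' (Fin.ext h)) with hlt | hgt
    · have := hne b b.2 a hlt
      have heq' : eqT (eltT (Q.getD b [])) (eltT (Q.getD a [])) = true := by
        apply eqT_of_matches (elt_matches _)
        rw [← hab']
        exact elt_matches _
      rw [heq'] at this
      exact absurd this (by simp)
    · have := hne a a.2 b hgt
      rw [heq] at this
      exact absurd this (by simp)
  have := Nat.card_le_card_of_injective f hinj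
  simpa using this

/-- table of a power -/
def powT (t : List ℕ) : ℕ → List ℕ
  | 0 => idT
  | n + 1 => compT t (powT t n)

theorem matches_pow {g : Equiv.Perm GolayPt} {t : List ℕ} (h : Matches g t) (n : ℕ) :
    Matches (g ^ n) (powT t n) := by
  induction n with
  | zero => simpa [powT] using matches_one
  | succ n ih =>
    rw [pow_succ', powT]
    exact matches_mul h ih

/-- prime order from the table -/
theorem orderOf_eq_of_table (g : ↥M24) {tg : List ℕ} (hg : Matches g.1 tg) (r : ℕ) [hr : Fact r.Prime]
    (h1 : eqT (powT tg r) idT = true) (h2 : eqT tg idT = false) : orderOf g = r := by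
  apply orderOf_eq_prime
  · apply Subtype.ext
    exact eq_of_eqT (matches_pow hg r) matches_one h1
  · intro h
    have : eqT tg idT = true := by
      apply eqT_of_matches hg
      rw [h]
      exact matches_one
    rw [h2] at this
    exact absurd this (by simp)

theorem matches_pow' (g : ↥M24) {tg : List ℕ} (hg : Matches g.1 tg) (n : ℕ) :
    Matches (g ^ n).1 (powT tg n) := by
  have := matches_pow hg n
  simpa using this

theorem matches_inv_of_pow (g : ↥M24) {tg : List ℕ} (hg : Matches g.1 tg) (r : ℕ)
    (hr : orderOf g = r + 1) : Matches (g⁻¹).1 (powT tg r) := by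
  have h1 : g ^ (r + 1) = 1 := by rw [← hr]; exact pow_orderOf_eq_one g
  have h2 : g⁻¹ = g ^ r := by
    apply inv_eq_of_mul_eq_one_right
    rw [← pow_succ', h1]
  rw [h2]
  exact matches_pow' g hg r

end Cfsg.Agent.Lib.Helper90.M24CentGlue
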