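import Cfsg.Agent.Lib.Helper7.M24OctStab

/-!
# A certified backtrack search in `M24` (helper90)

`enum cs ms octs k n ps S` lists tables that contain (the table of) every `h ∈ M24` which
* intertwines each pair of tables `(tg, tg')` of `cs` (that is `h * g = g' * h`),
* maps each set with mask in `ms` into itself,
* extends the partial assignment of the state `S`.
The search branches on the points of `ps` in turn, follows the orbits of the relations for `k` steps,
propagates `n` more rounds and prunes with injectivity, the masks `ms` and the octads `octs` (whose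
image must be an octad).  The state is packed into natural numbers (5 bits per point, `0` = unknown,
`v + 1` = image `v`), so that the kernel evaluates it eagerly.
-/

set_option autoImplicit false

namespace Cfsg.Agent.Lib.Helper90.M24Enum

open Cfsg Cfsg.Agent.Lib.Helper7
open scoped Pointwise

theorem pt_inj {i j : ℕ} (hi : i < 24) (hj : j < 24) (h : pt i = pt j) : i = j := by
  have := congrArg idx h
  rwa [idx_pt hi, idx_pt hj] at this

/-! ### Packed tables -/

/-- the `i`-th 5-bit field -/
def get (X i : ℕ) : ℕ := (X >>> (5 * i)) % 32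

/-- write `v` into the `i`-th field (assumed empty) -/
def put (X i v : ℕ) : ℕ := X ||| (v <<< (5 * i))

theorem testBit_lt32 {v : ℕ} (hv : v < 32) {j : ℕ} (hj : 5 ≤ j) : v.testBit j = false := by
  apply Nat.testBit_lt_two_pow
  calc v < 2 ^ 5 := hv
    _ ≤ 2 ^ j := Nat.pow_le_pow_right (by decide) hj

theorem get_put (X i v k : ℕ) (hv : v < 32) :
    get (put X i v) k = if k = i then get X i ||| v else get X k := by
  unfold get put
  apply Nat.eq_of_testBit_eq
  intro j
  have h32 : (32 : ℕ) = 2 ^ 5 := rfl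
  rw [h32, Nat.testBit_mod_two_pow, Nat.testBit_shiftRight, Nat.testBit_or, Nat.testBit_shiftLeft]
  by_cases hj : j < 5
  · by_cases hki : k = i
    · subst hki
      rw [if_pos rfl, Nat.testBit_or, Nat.testBit_mod_two_pow, Nat.testBit_shiftRight]
      have : 5 * k + j - 5 * k = j := by omega
      simp [hj, this]
    · rw [if_neg hki, Nat.testBit_mod_two_pow, Nat.testBit_shiftRight]
      rcases Nat.lt_or_gt_of_ne hki with hlt | hgt
      · have : ¬ (5 * k + j ≥ 5 * i) := by omega
        simp [hj, this]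
      · have h5 : 5 ≤ 5 * k + j - 5 * i := by omega
        simp [hj, testBit_lt32 hv h5]
  · have hf : decide (j < 5) = false := by simpa using hj
    rw [hf, Bool.false_and]
    split_ifs
    · rw [Nat.testBit_or, Nat.testBit_mod_two_pow, hf, Bool.false_and, Bool.false_or]
      exact (testBit_lt32 hv (by omega)).symm
    · rw [Nat.testBit_mod_two_pow, hf, Bool.false_and]

theorem get_zero (i : ℕ) : get 0 i = 0 := by simp [get]

/-- the table of a packed state -/
def unpack (A : ℕ) : List ℕ := (List.range 24).map fun i => get A i - 1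

theorem getD_unpack (A : ℕ) {i : ℕ} (hi : i < 24) : (unpack A).getD i 0 = get A i - 1 := by
  unfold unpack
  rw [List.getD_eq_getElem _ _ (by simpa using hi)]
  simp

/-! ### States -/

/-- `A` is a correct partial description of `h` -/
def Sat (h : Equiv.Perm GolayPt) (A : ℕ) : Prop :=
  ∀ i < 24, get A i ≠ 0 → get A i ≤ 24 ∧ h (pt i) = pt (get A i - 1)

/-- `Ai` is a correct partial description of `h⁻¹` -/
def SatI (h : Equiv.Perm GolayPt) (Ai : ℕ) : Prop :=
  ∀ j < 24, get Ai j ≠ 0 → get Ai j ≤ 24 ∧ h (pt (get Ai j - 1)) = pt j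

/-- search state: packed table, packed inverse table, mask of known points -/
structure St where
  A : ℕ
  Ai : ℕ
  K : ℕ

/-- the state describes `h` -/
def Inv (h : Equiv.Perm GolayPt) (S : St) : Prop :=
  Sat h S.A ∧ SatI h S.Ai ∧ ∀ i < 24, S.K.testBit i = true → get S.A i ≠ 0

theorem sat_put {h : Equiv.Perm GolayPt} {A : ℕ} (hS : Sat h A) {i j : ℕ} (hj : j < 24)
    (h0 : get A i = 0) (hij : h (pt i) = pt j) : Sat h (put A i (j + 1)) := by
  intro k hk hne
  rw [get_put _ _ _ _ (by omega)] at hne ⊢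
  split_ifs at hne ⊢ with hc
  · subst hc
    rw [h0, Nat.zero_or]
    exact ⟨by omega, by simpa using hij⟩
  · exact hS k hk hne

theorem satI_put {h : Equiv.Perm GolayPt} {Ai : ℕ} (hS : SatI h Ai) {i j : ℕ} (hi : i < 24)
    (h0 : get Ai j = 0) (hij : h (pt i) = pt j) : SatI h (put Ai j (i + 1)) := by
  intro k hk hne
  rw [get_put _ _ _ _ (by omega)] at hne ⊢
  split_ifs at hne ⊢ with hc
  · subst hc
    rw [h0, Nat.zero_or]
    exact ⟨by omega, by simpa using hij⟩
  · exact hS k hk hne

/-- record `h (pt i) = pt j` -/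
def assign (S : St) (i j : ℕ) : Option St :=
  if get S.A i = 0 then
    if get S.Ai j = 0 then some ⟨put S.A i (j + 1), put S.Ai j (i + 1), S.K ||| 2 ^ i⟩
    else none
  else if get S.A i = j + 1 then some S else none

/-- the tables are inverse to each other where known -/
def Sync (S : St) : Prop :=
  ∀ j < 24, get S.Ai j ≠ 0 → get S.A (get S.Ai j - 1) = j + 1

theorem assign_sound {h : Equiv.Perm GolayPt} {S : St} (hS : Inv h S) (hy : Sync S) {i j : ℕ}
    (hi : i < 24) (hj : j < 24) (hij : h (pt i) = pt j) :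
    ∃ S', assign S i j = some S' ∧ Inv h S' ∧ Sync S' := by
  obtain ⟨h1, h2, h4⟩ := hS
  unfold assign
  split_ifs with c1 c2 c3
  · refine ⟨_, rfl, ⟨sat_put h1 hj c1 hij, satI_put h2 hi c2 hij, ?_⟩, ?_⟩
    · intro k hk hK
      simp only [] at hK ⊢
      rw [get_put _ _ _ _ (by omega)]
      split_ifs with hc
      · rw [c1, Nat.zero_or]; omega
      · apply h4 k hk
        rw [Nat.testBit_or, Bool.or_eq_true] at hK
        rcases hK with hK | hK
        · exact hK
        · rw [Nat.testBit_two_pow, decide_eq_true_eq] at hK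
          exact absurd hK.symm hc
    · intro k hk hne
      simp only [] at hne ⊢
      have e1 : get (put S.Ai j (i + 1)) k = if k = j then get S.Ai j ||| (i + 1) else get S.Ai k :=
        get_put _ _ _ _ (by omega)
      rw [e1] at hne ⊢
      by_cases hc : k = j
      · rw [if_pos hc, c2, Nat.zero_or, Nat.add_sub_cancel, get_put _ _ _ _ (by omega), if_pos rfl,
          c1, Nat.zero_or, hc]
      · rw [if_neg hc] at hne ⊢
        have hy' := hy k hk hne
        rw [get_put _ _ _ _ (by omega)]
        split_ifs with hc2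
        · exfalso
          rw [hc2, c1] at hy'
          omega
        · exact hy'
  · exfalso
    obtain ⟨hlt, hv⟩ := h2 j hj c2
    rw [← hij] at hv
    have hlt' : get S.Ai j - 1 < 24 := by omega
    have := pt_inj hlt' hi (h.injective hv)
    have hy' := hy j hj c2
    rw [this, c1] at hy'
    omega
  · exact ⟨_, rfl, ⟨h1, h2, h4⟩, hy⟩
  · exfalso
    obtain ⟨hlt, hv⟩ := h1 i hi c1
    rw [hij] at hv
    have hlt' : get S.A i - 1 < 24 := by omega
    have := pt_inj hj hlt' hv
    omega

/-- `h * g = g' * h` on tables -/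
def Inter (h : Equiv.Perm GolayPt) (tg tg' : List ℕ) : Prop :=
  ∀ i < 24, ∀ v < 24, h (pt i) = pt v →
    tg.getD i 0 < 24 ∧ tg'.getD v 0 < 24 ∧ h (pt (tg.getD i 0)) = pt (tg'.getD v 0)

theorem inter_of_comm {h g g' : Equiv.Perm GolayPt} {tg tg' : List ℕ} (hg : Matches g tg)
    (hg' : Matches g' tg') (hc : h * g = g' * h) : Inter h tg tg' := by
  intro i hi v hv hiv
  have h1 : tg.getD i 0 = idx (g (pt i)) := by
    have := hg (pt i); rw [idx_pt hi] at this; exact this.symm
  have h2 : tg'.getD v 0 = idx (g' (pt v)) := by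
    have := hg' (pt v); rw [idx_pt hv] at this; exact this.symm
  refine ⟨h1 ▸ idx_lt _, h2 ▸ idx_lt _, ?_⟩
  rw [h1, h2, pt_idx, pt_idx, ← hiv, ← Equiv.Perm.mul_apply, ← Equiv.Perm.mul_apply, hc]

/-- follow the orbit of `i` under `tg` for `k` steps -/
def walk (tg tg' : List ℕ) : ℕ → ℕ → ℕ → St → Option St
  | 0, _, _, S => some S
  | k + 1, i, j, S => (assign S i j).bind (walk tg tg' k (tg.getD i 0) (tg'.getD j 0))

theorem walk_sound {h : Equiv.Perm GolayPt} {tg tg' : List ℕ} (hI : Inter h tg tg') :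
    ∀ (k i j : ℕ) (S : St), Inv h S → Sync S → i < 24 → j < 24 → h (pt i) = pt j →
      ∃ S', walk tg tg' k i j S = some S' ∧ Inv h S' ∧ Sync S' := by
  intro k
  induction k with
  | zero => intro i j S hS hy _ _ _; exact ⟨S, rfl, hS, hy⟩
  | succ k ih =>
    intro i j S hS hy hi hj hij
    obtain ⟨S1, e1, hS1, hy1⟩ := assign_sound hS hy hi hj hij
    obtain ⟨a, b, c⟩ := hI i hi j hj hij
    obtain ⟨S2, e2, hS2⟩ := ih _ _ S1 hS1 hy1 a b c
    refine ⟨S2, ?_, hS2⟩
    rw [walk, e1]
    exact e2

/-- follow the orbits under all relations -/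
def walkAll (cs : List (List ℕ × List ℕ)) (k i j : ℕ) (S : St) : Option St :=
  cs.foldlM (fun B c => walk c.1 c.2 k i j B) S

theorem walkAll_sound {h : Equiv.Perm GolayPt} (k : ℕ) {i j : ℕ} (hi : i < 24) (hj : j < 24)
    (hij : h (pt i) = pt j) :
    ∀ (cs : List (List ℕ × List ℕ)), (∀ c ∈ cs, Inter h c.1 c.2) → ∀ S : St, Inv h S → Sync S →
      ∃ S', walkAll cs k i j S = some S' ∧ Inv h S' ∧ Sync S' := by
  intro cs
  induction cs with
  | nil => intro _ S hS hy; exact ⟨S, rfl, hS, hy⟩
  | cons c cs ih =>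
    intro hI S hS hy
    obtain ⟨S1, e1, hS1, hy1⟩ := walk_sound (hI c List.mem_cons_self) k i j S hS hy hi hj hij
    obtain ⟨S2, e2, hS2⟩ := ih (fun c hc => hI c (List.mem_cons_of_mem _ hc)) S1 hS1 hy1
    refine ⟨S2, ?_, hS2⟩
    unfold walkAll
    rw [List.foldlM_cons, e1]
    exact e2

/-- one propagation step at the point `i` -/
def step1 (tg tg' : List ℕ) (B : St) (i : ℕ) : Option St :=
  if get B.A i = 0 then some B else assign B (tg.getD i 0) (tg'.getD (get B.A i - 1) 0)

theorem step1_sound {h : Equiv.Perm GolayPt} {tg tg' : List ℕ} (hI : Inter h tg tg') {B : St}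
    (hS : Inv h B) (hy : Sync B) {i : ℕ} (hi : i < 24) :
    ∃ B', step1 tg tg' B i = some B' ∧ Inv h B' ∧ Sync B' := by
  unfold step1
  split_ifs with h1
  · exact ⟨_, rfl, hS, hy⟩
  · obtain ⟨hlt, hv⟩ := hS.1 i hi h1
    obtain ⟨a, b, c⟩ := hI i hi _ (by omega) hv
    exact assign_sound hS hy a b c

/-- one pass over all points -/
def pass1 (tg tg' : List ℕ) (A : St) : Option St :=
  (List.range 24).foldlM (step1 tg tg') A

theorem foldlM_step1_sound {h : Equiv.Perm GolayPt} {tg tg' : List ℕ} (hI : Inter h tg tg') :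
    ∀ (l : List ℕ), (∀ i ∈ l, i < 24) → ∀ B : St, Inv h B → Sync B →
      ∃ B', l.foldlM (step1 tg tg') B = some B' ∧ Inv h B' ∧ Sync B' := by
  intro l
  induction l with
  | nil => intro _ B hS hy; exact ⟨B, rfl, hS, hy⟩
  | cons x l ih =>
    intro hl B hS hy
    obtain ⟨B1, h1, hS1, hy1⟩ := step1_sound hI hS hy (hl x List.mem_cons_self)
    obtain ⟨B2, h2, hS2⟩ := ih (fun i hi => hl i (List.mem_cons_of_mem _ hi)) B1 hS1 hy1
    refine ⟨B2, ?_, hS2⟩
    rw [List.foldlM_cons, h1]
    exact h2

theorem pass1_sound {h : Equiv.Perm GolayPt} {tg tg' : List ℕ} (hI : Inter h tg tg') {A : St}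
    (hS : Inv h A) (hy : Sync A) : ∃ A', pass1 tg tg' A = some A' ∧ Inv h A' ∧ Sync A' :=
  foldlM_step1_sound hI _ (fun _ hi => List.mem_range.mp hi) A hS hy

/-- one pass for every relation -/
def passAll (cs : List (List ℕ × List ℕ)) (A : St) : Option St :=
  cs.foldlM (fun B c => pass1 c.1 c.2 B) A

theorem passAll_sound {h : Equiv.Perm GolayPt} :
    ∀ (cs : List (List ℕ × List ℕ)), (∀ c ∈ cs, Inter h c.1 c.2) → ∀ A : St, Inv h A → Sync A →
      ∃ A', passAll cs A = some A' ∧ Inv h A' ∧ Sync A' := by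
  intro cs
  induction cs with
  | nil => intro _ A hS hy; exact ⟨A, rfl, hS, hy⟩
  | cons c cs ih =>
    intro hI A hS hy
    obtain ⟨A1, h1, hS1, hy1⟩ := pass1_sound (hI c List.mem_cons_self) hS hy
    obtain ⟨A2, h2, hS2⟩ := ih (fun c hc => hI c (List.mem_cons_of_mem _ hc)) A1 hS1 hy1
    refine ⟨A2, ?_, hS2⟩
    unfold passAll
    rw [List.foldlM_cons, h1]
    exact h2

/-- `n` rounds of propagation -/
def closeN (cs : List (List ℕ × List ℕ)) : ℕ → St → Option St
  | 0, A => some A
  | n + 1, A => (passAll cs A).bind (closeN cs n)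

theorem closeN_sound {h : Equiv.Perm GolayPt} {cs : List (List ℕ × List ℕ)}
    (hI : ∀ c ∈ cs, Inter h c.1 c.2) : ∀ (n : ℕ) (A : St), Inv h A → Sync A →
      ∃ A', closeN cs n A = some A' ∧ Inv h A' ∧ Sync A' := by
  intro n
  induction n with
  | zero => intro A hS hy; exact ⟨A, rfl, hS, hy⟩
  | succ n ih =>
    intro A hS hy
    obtain ⟨A1, h1, hS1, hy1⟩ := passAll_sound cs hI A hS hy
    obtain ⟨A2, h2, hS2⟩ := ih A1 hS1 hy1
    refine ⟨A2, ?_, hS2⟩
    rw [closeN, h1]
    exact h2

/-! ### Pruning tests -/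

/-- `h` maps each of the sets into itself -/
def Stab (h : Equiv.Perm GolayPt) (ms : List ℕ) : Prop :=
  ∀ m ∈ ms, ∀ p, p ∈ setOf m → h p ∈ setOf m

/-- the known images respect the masks -/
def setOK (ms : List ℕ) (A : ℕ) : Bool :=
  ms.all fun m => (List.range 24).all fun i =>
    get A i == 0 || !m.testBit i || m.testBit (get A i - 1)

theorem setOK_sound {h : Equiv.Perm GolayPt} {ms : List ℕ} (hst : Stab h ms) {A : ℕ}
    (hS : Sat h A) : setOK ms A = true := by
  simp only [setOK, List.all_eq_true, List.mem_range, Bool.or_eq_true, beq_iff_eq,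
    Bool.not_eq_true']
  intro m hm i hi
  by_cases h1 : get A i = 0
  · exact Or.inl (Or.inl h1)
  · by_cases h2 : m.testBit i = false
    · exact Or.inl (Or.inr h2)
    · right
      obtain ⟨hlt, hv⟩ := hS i hi h1
      have hp : pt i ∈ setOf m := by
        rw [mem_setOf, idx_pt hi]; simpa using h2
      have := hst m hm _ hp
      rwa [hv, mem_setOf, idx_pt (by omega)] at this

/-- the mask of the image of `m` -/
def imgMask (A : ℕ) (m : ℕ) : ℕ :=
  (List.range 24).foldl (fun acc i => if m.testBit i then acc ||| 2 ^ (get A i - 1) else acc) 0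

theorem testBit_foldl_img (A : ℕ) (m : ℕ) (l : List ℕ) (acc j : ℕ) :
    (l.foldl (fun acc i => if m.testBit i then acc ||| 2 ^ (get A i - 1) else acc) acc).testBit j
      = true ↔ acc.testBit j = true ∨ ∃ i ∈ l, m.testBit i = true ∧ get A i - 1 = j := by
  induction l generalizing acc with
  | nil => simp
  | cons x l ih =>
    rw [List.foldl_cons, ih]
    by_cases hx : m.testBit x = true
    · simp only [hx, if_true, Nat.testBit_or, Bool.or_eq_true, List.mem_cons, exists_eq_or_imp,
        Nat.testBit_two_pow, decide_eq_true_eq, true_and]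
      tauto
    · simp only [hx, List.mem_cons, exists_eq_or_imp]
      simp

theorem testBit_imgMask (A : ℕ) (m j : ℕ) :
    (imgMask A m).testBit j = true ↔ ∃ i < 24, m.testBit i = true ∧ get A i - 1 = j := by
  unfold imgMask
  rw [testBit_foldl_img]
  simp [List.mem_range]

theorem setOf_imgMask {h : Equiv.Perm GolayPt} {A : ℕ} (hS : Sat h A) {m : ℕ}
    (hk : ∀ i < 24, m.testBit i = true → get A i ≠ 0) :
    setOf (imgMask A m) = h • setOf m ∧ imgMask A m < 2 ^ 24 := by
  have key : ∀ i < 24, m.testBit i = true → get A i - 1 < 24 ∧ h (pt i) = pt (get A i - 1) := by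
    intro i hi hm
    obtain ⟨a, b⟩ := hS i hi (hk i hi hm)
    have := hk i hi hm
    exact ⟨by omega, b⟩
  constructor
  · ext p
    rw [mem_setOf, testBit_imgMask, mem_perm_smul_finset, mem_setOf]
    constructor
    · rintro ⟨i, hi, hmi, hij⟩
      obtain ⟨hlt, hv⟩ := key i hi hmi
      have : h (pt i) = p := by rw [hv, hij, pt_idx]
      rw [← this]
      simp only [Equiv.symm_apply_apply]
      rwa [idx_pt hi]
    · intro hp
      refine ⟨idx (h.symm p), idx_lt _, hp, ?_⟩
      obtain ⟨hlt, hv⟩ := key _ (idx_lt _) hp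
      rw [pt_idx, Equiv.apply_symm_apply] at hv
      have := congrArg idx hv
      rw [idx_pt hlt] at this
      exact this.symm
  · apply Nat.lt_pow_two_of_testBit
    intro j hj
    by_contra hne
    rw [Bool.not_eq_false, testBit_imgMask] at hne
    obtain ⟨i, hi, hmi, hij⟩ := hne
    have := (key i hi hmi).1
    omega

/-- Converse of `setOf_mem_octads`. -/
theorem isOctadMask_of_mem' {m : ℕ} (hm : m < 2 ^ 24) (h : setOf m ∈ octads) :
    isOctadMask m = true := by
  obtain ⟨w, hw, hws, h8⟩ := (mem_octads_iff _).mp h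
  obtain ⟨c, hc, rfl⟩ := (mem_golayCode_iff w).mp hw
  rw [support₂_wordOf] at hws
  have hmc : enc c = m := setOf_injOn (enc_lt c) hm hws
  simp only [isOctadMask, Bool.and_eq_true, beq_iff_eq]
  refine ⟨?_, ?_⟩
  · rw [← hmc, enc_mod c hc]
  · rw [← card_setOf, h8]

/-- if the octad `m` is known, its image is an octad -/
def octOK (S : St) (m : ℕ) : Bool := !(S.K &&& m == m) || isOctadMask (imgMask S.A m)

theorem octOK_sound {h : Equiv.Perm GolayPt} (hM : h ∈ M24) {S : St} (hS : Inv h S) {m : ℕ}
    (hm : isOctadMask m = true) : octOK S m = true := by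
  unfold octOK
  by_cases hk : (S.K &&& m == m) = true
  · rw [beq_iff_eq] at hk
    have hk' : ∀ i < 24, m.testBit i = true → get S.A i ≠ 0 := by
      intro i hi hmi
      apply hS.2.2 i hi
      have := congrArg (fun x => x.testBit i) hk
      simp only [Nat.testBit_and, hmi, Bool.and_true] at this
      exact this
    obtain ⟨h1, h2⟩ := setOf_imgMask hS.1 hk'
    rw [Bool.or_eq_true]
    right
    apply isOctadMask_of_mem' h2
    rw [h1]
    exact smul_mem_octads hM (setOf_mem_octads hm)
  · simp [hk]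

/-- the tests on a state -/
def tests (ms octs : List ℕ) (B : St) : Option St :=
  if setOK ms B.A && octs.all (octOK B) then some B else none

theorem tests_sound {h : Equiv.Perm GolayPt} (hM : h ∈ M24) {ms : List ℕ} (hst : Stab h ms)
    {octs : List ℕ} (hO : ∀ m ∈ octs, isOctadMask m = true) {B : St} (hS : Inv h B) :
    tests ms octs B = some B := by
  unfold tests
  rw [if_pos]
  rw [Bool.and_eq_true]
  refine ⟨setOK_sound hst hS.1, ?_⟩
  rw [List.all_eq_true]
  intro m hm
  exact octOK_sound hM hS (hO m hm)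

/-- record `h (pt p) = pt j`, propagate, then test -/
def child (cs : List (List ℕ × List ℕ)) (ms octs : List ℕ) (k n : ℕ) (S : St) (p j : ℕ) :
    Option St :=
  ((walkAll cs k p j S).bind (closeN cs n)).bind (tests ms octs)

theorem child_sound {h : Equiv.Perm GolayPt} (hM : h ∈ M24) {cs : List (List ℕ × List ℕ)}
    (hI : ∀ c ∈ cs, Inter h c.1 c.2) {ms : List ℕ} (hst : Stab h ms) {octs : List ℕ}
    (hO : ∀ m ∈ octs, isOctadMask m = true) (k n : ℕ) {S : St} (hS : Inv h S) (hy : Sync S)
    {p j : ℕ} (hp : p < 24) (hj : j < 24) (hpj : h (pt p) = pt j) :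
    ∃ B, child cs ms octs k n S p j = some B ∧ Inv h B ∧ Sync B := by
  obtain ⟨S1, e1, hS1, hy1⟩ := walkAll_sound k hp hj hpj cs hI S hS hy
  obtain ⟨S2, e2, hS2, hy2⟩ := closeN_sound hI n S1 hS1 hy1
  refine ⟨S2, ?_, hS2, hy2⟩
  unfold child
  rw [e1, Option.bind_some, e2, Option.bind_some]
  exact tests_sound hM hst hO hS2

/-! ### The search -/

/-- the table at a leaf (`[]` if incomplete) -/
def leafT (S : St) : List ℕ := if S.K = allMask then unpack S.A else []

/-- the search: branch on the points of the list in turn -/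
def enum (cs : List (List ℕ × List ℕ)) (ms octs : List ℕ) (k n : ℕ) : List ℕ → St → List (List ℕ)
  | [], S => [leafT S]
  | p :: ps, S =>
    if get S.A p = 0 then
      (List.range 24).flatMap fun j =>
        match child cs ms octs k n S p j with
        | none => []
        | some B => enum cs ms octs k n ps B
    else enum cs ms octs k n ps S

theorem enum_sound {h : Equiv.Perm GolayPt} (hM : h ∈ M24) {cs : List (List ℕ × List ℕ)}
    (hI : ∀ c ∈ cs, Inter h c.1 c.2) {ms : List ℕ} (hst : Stab h ms) {octs : List ℕ}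
    (hO : ∀ m ∈ octs, isOctadMask m = true) (k n : ℕ) :
    ∀ (ps : List ℕ), (∀ p ∈ ps, p < 24) → ∀ S : St, Inv h S → Sync S →
      ∃ S' : St, leafT S' ∈ enum cs ms octs k n ps S ∧ Inv h S' := by
  intro ps
  induction ps with
  | nil => intro _ S hS _; exact ⟨S, List.mem_singleton.mpr rfl, hS⟩
  | cons p ps ih =>
    intro hps S hS hy
    have hps' : ∀ q ∈ ps, q < 24 := fun q hq => hps q (List.mem_cons_of_mem _ hq)
    rw [enum]
    split_ifs with hp
    · have hj : idx (h (pt p)) < 24 := idx_lt _
      obtain ⟨B, hB, hSB, hyB⟩ := child_sound hM hI hst hO k n hS hy (hps p List.mem_cons_self) hj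
        (pt_idx _).symm
      obtain ⟨S', ht, hSt⟩ := ih hps' B hSB hyB
      refine ⟨S', ?_, hSt⟩
      rw [List.mem_flatMap]
      refine ⟨idx (h (pt p)), List.mem_range.mpr hj, ?_⟩
      rw [hB]
      exact ht
    · exact ih hps' S hS hy

/-- the all-unknown state -/
def unkS : St := ⟨0, 0, 0⟩

theorem inv_unkS (h : Equiv.Perm GolayPt) : Inv h unkS ∧ Sync unkS := by
  refine ⟨⟨?_, ?_, ?_⟩, ?_⟩
  · intro i _ hne; exact absurd (get_zero i) hne
  · intro i _ hne; exact absurd (get_zero i) hne
  · intro i _ hK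
    simp [unkS] at hK
  · intro i _ hne; exact absurd (get_zero i) hne

theorem matches_leafT {h : Equiv.Perm GolayPt} {S : St} (hS : Inv h S) (hne : leafT S ≠ []) :
    Matches h (leafT S) := by
  unfold leafT at hne ⊢
  split_ifs at hne ⊢ with hK
  · intro p
    have hi : idx p < 24 := idx_lt p
    rw [getD_unpack _ hi]
    have h0 : get S.A (idx p) ≠ 0 := hS.2.2 _ hi (by rw [hK]; exact testBit_allMask hi)
    obtain ⟨hlt, hv⟩ := hS.1 _ hi h0
    rw [pt_idx] at hv
    rw [hv, idx_pt (by omega)]
  · exact absurd rfl hne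

/-- **Main tool.**  Every element of `M24` satisfying the relations and stabilizing the masks has
its table in the list produced by the search (provided the search produced complete tables). -/
theorem exists_table {h : Equiv.Perm GolayPt} (hM : h ∈ M24) {cs : List (List ℕ × List ℕ)}
    (hI : ∀ c ∈ cs, Inter h c.1 c.2) {ms : List ℕ} (hst : Stab h ms) {octs : List ℕ}
    (hO : ∀ m ∈ octs, isOctadMask m = true) (k n : ℕ) (ps : List ℕ) (hps : ∀ p ∈ ps, p < 24)
    {L : List (List ℕ)} (hL : enum cs ms octs k n ps unkS = L) (hfull : ∀ t ∈ L, t ≠ []) :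
    ∃ t ∈ L, Matches h t := by
  obtain ⟨S', ht, hSt⟩ := enum_sound hM hI hst hO k n ps hps unkS (inv_unkS h).1 (inv_unkS h).2
  rw [hL] at ht
  exact ⟨_, ht, matches_leafT hSt (hfull _ ht)⟩

end Cfsg.Agent.Lib.Helper90.M24Enum
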