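import Cfsg.Agent.Lib.Helper90.M24CentGlue

/-!
# The class of elements of order 11 in `M24`: centralizer, fusion (helper90; generated data,
everything re-checked by the kernel)
-/

set_option autoImplicit false

namespace Cfsg.Agent.Lib.Helper90.M24Odd

open Cfsg Cfsg.Agent.Lib.Helper90.M24Enum Cfsg.Agent.Lib.Helper90.M24CentGlue
open Cfsg.Agent.Lib.Helper89 Cfsg.Agent.S5394
open Cfsg.Agent.Lib.Helper7 hiding uT uP

/-- sift data of the element of order 11 -/
def q11 : List ℕ := [23, 0, 12, 3, 16, 21, 5]

/-- its table -/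
def t11 : List ℕ := [0, 2, 4, 6, 8, 10, 12, 14, 16, 18, 20, 22, 1, 3, 5, 7, 9, 11, 13, 15, 17, 19, 21, 23]

theorem t11_eq : eltT q11 = t11 := by decide +kernel

/-- the element of order 11 -/
noncomputable def g11 : ↥M24 := elt q11

theorem g11_matches : Matches (g11 : ↥M24).1 t11 := t11_eq ▸ elt_matches q11

theorem orderOf_g11 : orderOf g11 = 11 := by
  haveI : Fact (Nat.Prime 11) := ⟨by norm_num⟩
  exact orderOf_eq_of_table g11 g11_matches 11 (by decide +kernel) (by decide +kernel)

set_option maxRecDepth 1000000 in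
theorem card_centralizer_g11 : Nat.card (Subgroup.centralizer ({g11} : Set ↥M24)) ≤ 11 :=
  card_centralizer_le g11 g11_matches [5279, 10558] 11 0 [1, 5, 0, 23] 11
    (by decide +kernel) (by decide) (by decide +kernel)

/-- sift data of a conjugator -/
def c11q : List ℕ := [0, 0, 9, 16, 21, 13, 14]

theorem isConj_g11_sq : IsConj g11 (g11 ^ 2) :=
  isConj_of_eqT g11 (g11 ^ 2) (elt c11q) g11_matches (matches_pow' g11 g11_matches 2)
    (elt_matches c11q) (by decide +kernel)

end Cfsg.Agent.Lib.Helper90.M24Odd
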