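import Cfsg.Agent.Lib.Helper90.M24CentGlue

/-!
# The class of elements of order 23 in `M24`: centralizer, fusion (helper90; generated data,
everything re-checked by the kernel)
-/

set_option autoImplicit false

namespace Cfsg.Agent.Lib.Helper90.M24Odd

open Cfsg Cfsg.Agent.Lib.Helper90.M24Enum Cfsg.Agent.Lib.Helper90.M24CentGlue
open Cfsg.Agent.Lib.Helper89 Cfsg.Agent.S5394
open Cfsg.Agent.Lib.Helper7 hiding uT uP

/-- sift data of the element of order 23 -/
def q23 : List ℕ := [23, 22, 16, 5, 14, 9, 5]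

/-- its table -/
def t23 : List ℕ := [1, 2, 3, 4, 5, 6, 7, 8, 9, 10, 11, 12, 13, 14, 15, 16, 17, 18, 19, 20, 21, 22, 0, 23]

theorem t23_eq : eltT q23 = t23 := by decide +kernel

/-- the element of order 23 -/
noncomputable def g23 : ↥M24 := elt q23

theorem g23_matches : Matches (g23 : ↥M24).1 t23 := t23_eq ▸ elt_matches q23

theorem orderOf_g23 : orderOf g23 = 23 := by
  haveI : Fact (Nat.Prime 23) := ⟨by norm_num⟩
  exact orderOf_eq_of_table g23 g23_matches 23 (by decide +kernel) (by decide +kernel)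

set_option maxRecDepth 1000000 in
theorem card_centralizer_g23 : Nat.card (Subgroup.centralizer ({g23} : Set ↥M24)) ≤ 23 :=
  card_centralizer_le g23 g23_matches [] 23 0 [0, 23] 23
    (by decide +kernel) (by decide) (by decide +kernel)

/-- sift data of a conjugator -/
def c23q : List ℕ := [23, 0, 12, 3, 16, 21, 5]

theorem isConj_g23_sq : IsConj g23 (g23 ^ 2) :=
  isConj_of_eqT g23 (g23 ^ 2) (elt c23q) g23_matches (matches_pow' g23 g23_matches 2)
    (elt_matches c23q) (by decide +kernel)

/-- table of the inverse -/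
def t23i : List ℕ := [22, 0, 1, 2, 3, 4, 5, 6, 7, 8, 9, 10, 11, 12, 13, 14, 15, 16, 17, 18, 19, 20, 21, 23]

theorem t23i_eq : powT t23 22 = t23i := by decide +kernel

theorem g23_inv_matches : Matches (g23⁻¹ : ↥M24).1 t23i :=
  t23i_eq ▸ matches_inv_of_pow g23 g23_matches 22 orderOf_g23

set_option maxRecDepth 1000000 in
theorem not_isConj_g23_inv : ¬ IsConj g23 g23⁻¹ :=
  not_isConj_of_enum g23 g23⁻¹ g23_matches g23_inv_matches [5279] 23 0 [0, 23]
    (by decide +kernel) (by decide) (by decide +kernel)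

end Cfsg.Agent.Lib.Helper90.M24Odd
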