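import Cfsg.Agent.Lib.Helper90.M24CentGlue

/-!
# The class of elements of order 5 in `M24`: centralizer, fusion (helper90; generated data,
everything re-checked by the kernel)
-/

set_option autoImplicit false

namespace Cfsg.Agent.Lib.Helper90.M24Odd

open Cfsg Cfsg.Agent.Lib.Helper90.M24Enum Cfsg.Agent.Lib.Helper90.M24CentGlue
open Cfsg.Agent.Lib.Helper89 Cfsg.Agent.S5394
open Cfsg.Agent.Lib.Helper7 hiding uT uP

/-- sift data of the element of order 5 -/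
def q5 : List ℕ := [17, 6, 9, 4, 13, 11, 5]

/-- its table -/
def t5 : List ℕ := [21, 10, 7, 20, 4, 5, 14, 12, 9, 1, 13, 2, 18, 8, 3, 15, 6, 23, 11, 19, 16, 22, 17, 0]

theorem t5_eq : eltT q5 = t5 := by decide +kernel

/-- the element of order 5 -/
noncomputable def g5 : ↥M24 := elt q5

theorem g5_matches : Matches (g5 : ↥M24).1 t5 := t5_eq ▸ elt_matches q5

theorem orderOf_g5 : orderOf g5 = 5 := by
  haveI : Fact (Nat.Prime 5) := ⟨by norm_num⟩
  exact orderOf_eq_of_table g5 g5_matches 5 (by decide +kernel) (by decide +kernel)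

set_option maxRecDepth 1000000 in
theorem card_centralizer_g5 : Nat.card (Subgroup.centralizer ({g5} : Set ↥M24)) ≤ 60 :=
  card_centralizer_le g5 g5_matches [36294, 10558, 5279, 31554, 140167] 5 0 [0, 1, 2, 3, 4, 5, 15, 19] 60
    (by decide +kernel) (by decide) (by decide +kernel)

/-- sift data of a conjugator -/
def c5q : List ℕ := [22, 22, 1, 9, 12, 10, 5]

theorem isConj_g5_sq : IsConj g5 (g5 ^ 2) :=
  isConj_of_eqT g5 (g5 ^ 2) (elt c5q) g5_matches (matches_pow' g5 g5_matches 2)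
    (elt_matches c5q) (by decide +kernel)

/-- sift data of the 60 elements of the centralizer -/
def cent5Q : List (List ℕ) :=
  [[23, 0, 1, 2, 3, 4, 5],
   [23, 0, 12, 10, 6, 21, 14],
   [23, 0, 3, 4, 18, 16, 17],
   [2, 9, 12, 12, 19, 13, 14],
   [6, 1, 9, 7, 5, 8, 14],
   [8, 20, 14, 14, 8, 16, 17],
   [3, 4, 22, 9, 8, 10, 5],
   [12, 10, 20, 3, 13, 11, 14],
   [1, 5, 10, 2, 20, 13, 17],
   [6, 1, 1, 5, 12, 9, 17],
   [2, 9, 10, 3, 19, 10, 17],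
   [8, 20, 21, 3, 4, 15, 5],
   [12, 10, 9, 6, 9, 13, 17],
   [3, 4, 6, 20, 3, 18, 14],
   [1, 5, 20, 7, 15, 7, 17],
   [9, 7, 5, 13, 19, 10, 5],
   [14, 18, 11, 5, 6, 6, 17],
   [7, 16, 20, 15, 8, 12, 17],
   [12, 10, 15, 17, 19, 19, 5],
   [3, 4, 16, 5, 3, 16, 14],
   [1, 5, 13, 18, 17, 10, 17],
   [9, 7, 9, 22, 8, 16, 14],
   [7, 16, 18, 8, 22, 21, 17],
   [14, 18, 22, 9, 16, 7, 14],
   [11, 5, 13, 19, 5, 19, 5],
   [16, 19, 9, 8, 17, 15, 14],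
   [13, 3, 15, 11, 7, 15, 5],
   [20, 6, 10, 10, 17, 20, 14],
   [18, 10, 2, 20, 21, 21, 5],
   [10, 10, 11, 2, 16, 16, 14],
   [2, 9, 17, 19, 15, 18, 17],
   [6, 1, 8, 20, 22, 21, 17],
   [8, 20, 8, 12, 19, 11, 17],
   [20, 6, 21, 22, 9, 19, 5],
   [18, 10, 3, 12, 7, 16, 14],
   [10, 10, 4, 12, 7, 22, 5],
   [9, 7, 2, 2, 9, 15, 17],
   [14, 18, 12, 9, 11, 6, 5],
   [7, 16, 19, 16, 18, 4, 17],
   [18, 10, 21, 11, 14, 18, 17],
   [20, 6, 4, 5, 6, 15, 17],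
   [10, 10, 22, 5, 12, 13, 14],
   [21, 22, 4, 7, 22, 20, 5],
   [21, 22, 2, 6, 22, 20, 5],
   [21, 22, 13, 5, 21, 12, 14],
   [16, 19, 22, 8, 19, 18, 14],
   [11, 5, 10, 2, 13, 7, 17],
   [13, 3, 4, 7, 5, 22, 14],
   [16, 19, 12, 13, 12, 15, 5],
   [11, 5, 21, 22, 14, 8, 17],
   [13, 3, 7, 21, 14, 6, 5],
   [17, 6, 9, 4, 13, 11, 5],
   [17, 6, 2, 16, 11, 7, 14],
   [17, 6, 18, 13, 19, 10, 14],
   [22, 14, 13, 4, 20, 12, 17],
   [22, 14, 11, 13, 19, 11, 17],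
   [22, 14, 10, 3, 18, 19, 5],
   [0, 12, 7, 16, 12, 19, 14],
   [0, 12, 14, 19, 3, 12, 14],
   [0, 12, 13, 9, 18, 15, 17]]

set_option maxRecDepth 1000000 in
theorem card_centralizer_g5_eq : Nat.card (Subgroup.centralizer ({g5} : Set ↥M24)) = 60 := by
  apply le_antisymm card_centralizer_g5
  have h := le_card_centralizer g5 g5_matches cent5Q (by decide +kernel) (by decide +kernel)
  have hl : cent5Q.length = 60 := by decide
  omega

end Cfsg.Agent.Lib.Helper90.M24Odd
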