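import Cfsg.Agent.Lib.Helper90.M24CentGlue

/-!
# The class of elements of order 7 in `M24`: centralizer, fusion (helper90; generated data,
everything re-checked by the kernel)
-/

set_option autoImplicit false

namespace Cfsg.Agent.Lib.Helper90.M24Odd

open Cfsg Cfsg.Agent.Lib.Helper90.M24Enum Cfsg.Agent.Lib.Helper90.M24CentGlue
open Cfsg.Agent.Lib.Helper89 Cfsg.Agent.S5394
open Cfsg.Agent.Lib.Helper7 hiding uT uP

/-- sift data of the element of order 7 -/
def q7 : List ℕ := [6, 4, 15, 11, 17, 21, 5]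

/-- its table -/
def t7 : List ℕ := [13, 14, 10, 16, 4, 18, 23, 0, 20, 9, 6, 17, 12, 8, 2, 19, 7, 21, 11, 5, 3, 15, 1, 22]

theorem t7_eq : eltT q7 = t7 := by decide +kernel

/-- the element of order 7 -/
noncomputable def g7 : ↥M24 := elt q7

theorem g7_matches : Matches (g7 : ↥M24).1 t7 := t7_eq ▸ elt_matches q7

theorem orderOf_g7 : orderOf g7 = 7 := by
  haveI : Fact (Nat.Prime 7) := ⟨by norm_num⟩
  exact orderOf_eq_of_table g7 g7_matches 7 (by decide +kernel) (by decide +kernel)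

set_option maxRecDepth 1000000 in
theorem card_centralizer_g7 : Nat.card (Subgroup.centralizer ({g7} : Set ↥M24)) ≤ 42 :=
  card_centralizer_le g7 g7_matches [18147, 10558, 36294, 90318] 7 0 [0, 1, 5, 4, 9, 12] 42
    (by decide +kernel) (by decide) (by decide +kernel)

/-- sift data of a conjugator -/
def c7q : List ℕ := [6, 0, 17, 9, 14, 10, 17]

theorem isConj_g7_sq : IsConj g7 (g7 ^ 2) :=
  isConj_of_eqT g7 (g7 ^ 2) (elt c7q) g7_matches (matches_pow' g7 g7_matches 2)
    (elt_matches c7q) (by decide +kernel)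

/-- table of the inverse -/
def t7i : List ℕ := [7, 22, 14, 20, 4, 19, 10, 16, 13, 9, 2, 18, 12, 0, 1, 21, 3, 11, 5, 15, 8, 17, 23, 6]

theorem t7i_eq : powT t7 6 = t7i := by decide +kernel

theorem g7_inv_matches : Matches (g7⁻¹ : ↥M24).1 t7i :=
  t7i_eq ▸ matches_inv_of_pow g7 g7_matches 6 orderOf_g7

set_option maxRecDepth 1000000 in
theorem not_isConj_g7_inv : ¬ IsConj g7 g7⁻¹ :=
  not_isConj_of_enum g7 g7⁻¹ g7_matches g7_inv_matches [90318] 7 0 [0, 1, 5, 4, 9, 12]
    (by decide +kernel) (by decide) (by decide +kernel)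

end Cfsg.Agent.Lib.Helper90.M24Odd
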