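import Cfsg.Agent.Lib.Helper82.OneBlock.Main244823040
import Cfsg.Agent.Lib.Helper90.M24Odd23
import Cfsg.Agent.Lib.Helper90.M24Odd11
import Cfsg.Agent.Lib.Helper90.M24Odd7
import Cfsg.Agent.Lib.Helper90.M24Odd5

/-!
# `M24` has a single 2-block, given the involution-centralizer data (helper90)

Assembly of helper82's abstract criterion `sameBlock_244823040` with the odd-class data of
`Lib/Helper90/M24Odd*.lean`.
-/

set_option autoImplicit false

namespace Cfsg.Agent.Lib.Helper90.M24OneBlock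

open Cfsg Cfsg.Agent.Lib.Helper90.M24Odd

theorem sameBlock_M24_of_hinv
    (hinv : ∀ z : ↥M24, orderOf z = 2 → ∃ x : ↥M24,
      ∃ E : Subgroup (Subgroup.centralizer ({x * z * x⁻¹} : Set ↥M24)), E.Normal ∧ IsPGroup 2 E ∧
        Subgroup.centralizer (E : Set (Subgroup.centralizer ({x * z * x⁻¹} : Set ↥M24))) ≤ E)
    (M : Ideal AlgInt) (hM : IsPModular 2 M) (χ ψ : IrrCharacter ↥M24) :
    SameBlock M (χ : ↥M24 → ℂ) (ψ : ↥M24 → ℂ) :=
  Cfsg.Agent.Lib.Helper82.OneBlock.sameBlock_244823040 Cfsg.Agent.Lib.Helper7.card_M24 M hM hinv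
    g23 g11 g7 g5 orderOf_g23 orderOf_g11 orderOf_g7 orderOf_g5
    card_centralizer_g23 card_centralizer_g11 card_centralizer_g7 card_centralizer_g5_eq
    isConj_g23_sq isConj_g11_sq isConj_g7_sq isConj_g5_sq not_isConj_g23_inv not_isConj_g7_inv χ ψ

end Cfsg.Agent.Lib.Helper90.M24OneBlock
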