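/-
helper90: module OC-[CONSTR-ABS] of helper22's project OC (S2924): a finite group `H` with `E(H) = 1`, an involution `z`
inverting `O(H)` and `E(C_H(z)) = 1` is 2-constrained.
-/
import Mathlib
import Cfsg.Prelude.Def_Local
import Cfsg.Prelude.Def_Balance
import Cfsg.Agent.Lib.Helper22.PConstrained
import Cfsg.Agent.Lib.Helper22.PComponents
import Cfsg.Agent.Lib.Helper22.Components
import Cfsg.Agent.Lib.Helper22.ComponentsMap
import Cfsg.Agent.Lib.Helper22.Coprime
import Cfsg.Agent.Lib.Helper22.PPrimeCore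
import Cfsg.Agent.S1276

set_option autoImplicit false

namespace Cfsg.Agent.Lib.Helper90.OC

open Cfsg Cfsg.Agent.Lib.Helper22

open scoped commutatorElement

section

variable {H : Type*} [Group H] [Finite H]

/-- The inverting involution commutes modulo `C_H(O)` with everything. -/
theorem comm_mem_centralizer_core (z : H) (hinv : ∀ t ∈ pPrimeCore 2 H, z * t * z⁻¹ = t⁻¹) (h : H) :
    z * h * z⁻¹ * h⁻¹ ∈ Subgroup.centralizer ((pPrimeCore 2 H : Subgroup H) : Set H) := by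
  have hinv' : ∀ t ∈ pPrimeCore 2 H, z⁻¹ * t * z = t⁻¹ := by
    intro t ht
    have h1 := hinv t⁻¹ (inv_mem ht)
    rw [inv_inv] at h1
    -- z t⁻¹ z⁻¹ = t  ⇒  z⁻¹ t z = t⁻¹
    calc z⁻¹ * t * z = z⁻¹ * (z * t⁻¹ * z⁻¹) * z := by rw [h1]
      _ = t⁻¹ := by group
  intro t ht
  have hn : (pPrimeCore 2 H).Normal := inferInstance
  -- `t₁ = h⁻¹ t h ∈ O`
  have ht1 : h⁻¹ * t * h ∈ pPrimeCore 2 H := by
    have := hn.conj_mem t ht h⁻¹
    rwa [inv_inv] at this
  have e1 := hinv' _ ht1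
  -- `z (h (z⁻¹ (h⁻¹ t h) z) h⁻¹) z⁻¹ = t`
  have e2 : h * (h⁻¹ * t * h)⁻¹ * h⁻¹ = t⁻¹ := by group
  have e3 := hinv t⁻¹ (inv_mem ht)
  rw [inv_inv] at e3
  calc t * (z * h * z⁻¹ * h⁻¹)
      = z * (h * (z⁻¹ * (h⁻¹ * t * h) * z) * h⁻¹) * z⁻¹ * (z * h * z⁻¹ * h⁻¹) * (z * h * z⁻¹ * h⁻¹)⁻¹ *
          (z * h * z⁻¹ * h⁻¹) := by
        rw [e1, e2, e3]; group
    _ = z * h * z⁻¹ * h⁻¹ * t := by group

/-- The odd core inverted by an element is abelian. -/
theorem core_comm (z : H) (hinv : ∀ t ∈ pPrimeCore 2 H, z * t * z⁻¹ = t⁻¹) :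
    ∀ s ∈ pPrimeCore 2 H, ∀ t ∈ pPrimeCore 2 H, s * t = t * s := by
  intro s hs t ht
  have h1 := hinv (s * t) (mul_mem hs ht)
  have h2 := hinv s hs
  have h3 := hinv t ht
  have : z * (s * t) * z⁻¹ = (z * s * z⁻¹) * (z * t * z⁻¹) := by group
  rw [this, h2, h3, mul_inv_rev] at h1
  -- s⁻¹ t⁻¹ = t⁻¹ s⁻¹
  have h4 : (s⁻¹ * t⁻¹)⁻¹ = (t⁻¹ * s⁻¹)⁻¹ := by rw [h1]
  simpa [mul_inv_rev] using h4.symm

/-- Case 1: a component of `H / O` inside the image of `C_H(O)` comes from a component of `H`. -/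
theorem case_le (z : H) (hE : layer H = ⊥) (hinv : ∀ t ∈ pPrimeCore 2 H, z * t * z⁻¹ = t⁻¹)
    (Lb : Subgroup (H ⧸ pPrimeCore 2 H)) (hLb : IsComponent Lb)
    (hle : Lb ≤ (Subgroup.centralizer ((pPrimeCore 2 H : Subgroup H) : Set H)).map
      (QuotientGroup.mk' (pPrimeCore 2 H))) : False := by
  haveI : Fact (Nat.Prime 2) := ⟨Nat.prime_two⟩
  set O := pPrimeCore 2 H with hO
  set mk := QuotientGroup.mk' O with hmk
  set C₀ := Subgroup.centralizer (O : Set H) with hC₀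
  have hOcomm := core_comm z hinv
  set K := pComponentOver 2 Lb with hKdef
  have hK : IsPComponent 2 K := pComponentOver_isPComponent 2 hLb
  have hKmap : K.map mk = Lb := pComponentOver_map 2 hLb
  have hKperf : ⁅K, K⁆ = K := pComponent_commutator_self 2 hK
  -- `K ≤ C₀ ⊔ O`
  have hKle : K ≤ C₀ ⊔ O := by
    have h1 : K ≤ (K.map mk).comap mk := Subgroup.le_comap_map mk K
    rw [hKmap] at h1
    have h2 : Lb.comap mk ≤ (C₀.map mk).comap mk := Subgroup.comap_mono hle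
    rw [Subgroup.comap_map_eq, QuotientGroup.ker_mk'] at h2
    exact h1.trans h2
  -- `⁅C₀ ⊔ O, C₀ ⊔ O⁆ ≤ C₀`
  have hder : ⁅C₀ ⊔ O, C₀ ⊔ O⁆ ≤ C₀ := by
    set π₀ := QuotientGroup.mk' C₀ with hπ₀
    have hmapsup : (C₀ ⊔ O).map π₀ = O.map π₀ := by
      rw [Subgroup.map_sup]
      have : C₀.map π₀ = ⊥ := by
        rw [eq_bot_iff]
        rintro _ ⟨c, hc, rfl⟩
        rw [Subgroup.mem_bot]
        exact (QuotientGroup.eq_one_iff c).mpr hc
      rw [this, bot_sup_eq]
    rw [Subgroup.commutator_le]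
    intro a ha b hb
    have ha' : π₀ a ∈ O.map π₀ := by rw [← hmapsup]; exact ⟨a, ha, rfl⟩
    have hb' : π₀ b ∈ O.map π₀ := by rw [← hmapsup]; exact ⟨b, hb, rfl⟩
    obtain ⟨t₁, ht₁, e₁⟩ := ha'
    obtain ⟨t₂, ht₂, e₂⟩ := hb'
    have hcomm : π₀ a * π₀ b = π₀ b * π₀ a := by
      rw [← e₁, ← e₂, ← map_mul, ← map_mul, hOcomm t₁ ht₁ t₂ ht₂]
    have : π₀ ⁅a, b⁆ = 1 := by
      rw [commutatorElement_def, map_mul, map_mul, map_mul, map_inv, map_inv, hcomm]
      group
    exact (QuotientGroup.eq_one_iff _).mp this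
  have hKC₀ : K ≤ C₀ := by
    calc K = ⁅K, K⁆ := hKperf.symm
      _ ≤ ⁅C₀ ⊔ O, C₀ ⊔ O⁆ := Subgroup.commutator_mono hKle hKle
      _ ≤ C₀ := hder
  -- `K` centralizes `O(K)`
  have hOK : (oddCore ↥K).map K.subtype ≤ O := pPrimeCore_map_subtype_le_of_isSubnormal 2 hK.1
  have hcen : ⁅K, (oddCore ↥K).map K.subtype⁆ = ⊥ := by
    rw [Subgroup.commutator_eq_bot_iff_le_centralizer]
    exact hKC₀.trans (Subgroup.centralizer_le hOK)
  have hq : IsQuasisimple ↥K := (Cfsg.Agent.S1276.result K hK).mpr hcen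
  have hcomp : IsComponent K := ⟨hK.1, hq⟩
  have hKbot : K = ⊥ := by
    have := component_le_layer hcomp
    rw [hE] at this
    exact le_bot_iff.mp this
  apply component_ne_bot hLb
  rw [← hKmap, hKbot, Subgroup.map_bot]

/-- Powers of an element of square one. -/
theorem zpow_eq_one_or_self {X : Type*} [Group X] (a : X) (ha : a ^ 2 = 1) (k : ℤ) : a ^ k = 1 ∨ a ^ k = a := by
  have h2 : a ^ (2 : ℤ) = 1 := by
    rw [zpow_ofNat]; exact ha
  rcases Int.even_or_odd' k with ⟨j, rfl | rfl⟩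
  · left
    rw [zpow_mul, h2, one_zpow]
  · right
    rw [zpow_add, zpow_mul, h2, one_zpow, one_mul, zpow_one]

/-- Case 2: a component of `H / O` commuting with the image of `C_H(O)` gives a component of `C_H(z)`. -/
theorem case_comm (z : H) (hz : z ^ 2 = 1) (hinv : ∀ t ∈ pPrimeCore 2 H, z * t * z⁻¹ = t⁻¹)
    (hCz : layer ↥(Subgroup.centralizer ({z} : Set H)) = ⊥)
    (Lb : Subgroup (H ⧸ pPrimeCore 2 H)) (hLb : IsComponent Lb)
    (hcomm : ⁅Lb, (Subgroup.centralizer ((pPrimeCore 2 H : Subgroup H) : Set H)).map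
      (QuotientGroup.mk' (pPrimeCore 2 H))⁆ = ⊥) : False := by
  haveI : Fact (Nat.Prime 2) := ⟨Nat.prime_two⟩
  set O := pPrimeCore 2 H with hO
  set mk := QuotientGroup.mk' O with hmk
  set C₀ := Subgroup.centralizer (O : Set H) with hC₀
  have hsurj : Function.Surjective mk := QuotientGroup.mk'_surjective O
  set zb := mk z with hzb
  have hzb2 : zb ^ 2 = 1 := by rw [hzb, ← map_pow, hz, map_one]
  -- (a) `zb` centralizes `Lb`
  have hZL : ⁅Subgroup.zpowers zb, Lb⁆ ≤ C₀.map mk := by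
    rw [Subgroup.commutator_le]
    intro a ha b _
    obtain ⟨k, rfl⟩ := Subgroup.mem_zpowers_iff.mp ha
    rcases zpow_eq_one_or_self zb hzb2 k with h | h
    · rw [h, commutatorElement_one_left]
      exact one_mem _
    · rw [h]
      obtain ⟨h', rfl⟩ := hsurj b
      refine ⟨z * h' * z⁻¹ * h'⁻¹, comm_mem_centralizer_core z hinv h', ?_⟩
      rw [commutatorElement_def, hzb, map_mul, map_mul, map_mul, map_inv, map_inv]
  have h1 : ⁅⁅Subgroup.zpowers zb, Lb⁆, Lb⁆ = ⊥ := by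
    rw [eq_bot_iff, ← hcomm, Subgroup.commutator_comm Lb]
    exact Subgroup.commutator_mono hZL le_rfl
  have h2 : ⁅⁅Lb, Subgroup.zpowers zb⁆, Lb⁆ = ⊥ := by
    rw [Subgroup.commutator_comm Lb (Subgroup.zpowers zb)]
    exact h1
  have h3 : ⁅⁅Lb, Lb⁆, Subgroup.zpowers zb⁆ = ⊥ :=
    Subgroup.commutator_commutator_eq_bot_of_rotate h2 h1
  rw [component_commutator_self hLb, Subgroup.commutator_eq_bot_iff_le_centralizer] at h3
  have hLbC : Lb ≤ Subgroup.centralizer ({zb} : Set (H ⧸ O)) := by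
    intro l hl
    rw [Subgroup.mem_centralizer_singleton_iff]
    exact ((h3 hl) zb (Subgroup.mem_zpowers zb)).symm
  -- (b) the isomorphism `C_H(z) ≃* C_{H/O}(zb)`
  set C := Subgroup.centralizer ({z} : Set H) with hC
  set Cb := Subgroup.centralizer ({zb} : Set (H ⧸ O)) with hCb
  have hmapC : ∀ x : C, mk (x : H) ∈ Cb := by
    intro x
    rw [hCb, Subgroup.mem_centralizer_singleton_iff]
    have := Subgroup.mem_centralizer_singleton_iff.mp x.2
    rw [hzb, ← map_mul, ← map_mul, this]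
  let φ : C →* Cb := (mk.comp C.subtype).codRestrict Cb hmapC
  have hOodd : (Nat.card O).Coprime 2 := pPrimeCore_card_coprime 2
  have hφinj : Function.Injective φ := by
    rw [← MonoidHom.ker_eq_bot_iff, eq_bot_iff]
    intro x hx
    rw [MonoidHom.mem_ker] at hx
    have hx1 : mk (x : H) = 1 := congrArg Subtype.val hx
    have hxO : (x : H) ∈ O := (QuotientGroup.eq_one_iff _).mp hx1
    have e1 := hinv _ hxO
    have e2 : z * (x : H) = (x : H) * z := (Subgroup.mem_centralizer_singleton_iff.mp x.2).symm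
    have e3 : (x : H) = (x : H)⁻¹ := by
      calc (x : H) = (x : H) * z * z⁻¹ := by group
        _ = z * (x : H) * z⁻¹ := by rw [e2]
        _ = (x : H)⁻¹ := e1
    have e4 : (x : H) ^ 2 = 1 := by
      rw [pow_two]
      nth_rewrite 2 [e3]
      exact mul_inv_cancel _
    have d1 : orderOf (x : H) ∣ 2 := orderOf_dvd_of_pow_eq_one e4
    have d2 : orderOf (x : H) ∣ Nat.card O := Subgroup.orderOf_dvd_natCard O hxO
    have d3 : orderOf (x : H) ∣ 1 := by
      have := Nat.dvd_gcd d2 d1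
      rwa [Nat.Coprime.gcd_eq_one hOodd] at this
    rw [Subgroup.mem_bot]
    apply Subtype.ext
    exact orderOf_eq_one_iff.mp (Nat.dvd_one.mp d3)
  have hφsurj : Function.Surjective φ := by
    rintro ⟨y, hy⟩
    obtain ⟨x, rfl⟩ := hsurj y
    have hP : IsPGroup 2 (Subgroup.zpowers z) := by
      rintro ⟨g, hg⟩
      refine ⟨1, ?_⟩
      obtain ⟨k, rfl⟩ := Subgroup.mem_zpowers_iff.mp hg
      apply Subtype.ext
      show (z ^ k) ^ 2 ^ 1 = 1
      rw [pow_one, ← zpow_natCast, ← zpow_mul, mul_comm, zpow_mul, zpow_natCast, hz, one_zpow]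
    have hyz : mk x * zb = zb * mk x := Subgroup.mem_centralizer_singleton_iff.mp hy
    have hinv' : ∀ g ∈ Subgroup.zpowers z, ∀ m ∈ O, x⁻¹ * (g * (x * m) * g⁻¹) ∈ O := by
      intro g hg m hm
      obtain ⟨k, rfl⟩ := Subgroup.mem_zpowers_iff.mp hg
      have hm1 : mk m = 1 := (QuotientGroup.eq_one_iff m).mpr hm
      have hc : Commute (mk x) (zb ^ k) := Commute.zpow_right hyz k
      have key : mk (x⁻¹ * (z ^ k * (x * m) * (z ^ k)⁻¹)) = 1 := by
        rw [map_mul, map_mul, map_mul, map_mul, map_inv, map_inv, hm1, mul_one, map_zpow, ← hzb, ← hc.eq]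
        group
      exact (QuotientGroup.eq_one_iff _).mp key
    obtain ⟨m, hm, hfix⟩ := exists_centralized_mem_coset (Subgroup.zpowers z) O hP hOodd x hinv'
    have hxm : x * m ∈ C := by
      rw [hC, Subgroup.mem_centralizer_singleton_iff]
      exact (hfix z (Subgroup.mem_zpowers z)).symm
    refine ⟨⟨x * m, hxm⟩, Subtype.ext ?_⟩
    have hm1 : mk m = 1 := (QuotientGroup.eq_one_iff m).mpr hm
    show mk (x * m) = mk x
    rw [map_mul, hm1, mul_one]
  let e : C ≃* Cb := MulEquiv.ofBijective φ ⟨hφinj, hφsurj⟩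
  -- (c) transport the component
  have hL' : IsComponent (Lb.subgroupOf Cb) := component_subgroupOf hLb hLbC
  have hbot : (Lb.subgroupOf Cb).map e.symm.toMonoidHom = ⊥ := by
    rcases component_map_of_surjective hL' (f := e.symm.toMonoidHom) e.symm.surjective with h | h
    · exact h
    · have := component_le_layer h
      rw [hCz] at this
      exact le_bot_iff.mp this
  have hbot' : Lb.subgroupOf Cb = ⊥ := by
    rwa [Subgroup.map_eq_bot_iff_of_injective _ e.symm.injective] at hbot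
  apply component_ne_bot hLb
  rw [eq_bot_iff]
  intro l hl
  have : (⟨l, hLbC hl⟩ : Cb) ∈ Lb.subgroupOf Cb := Subgroup.mem_subgroupOf.mpr hl
  rw [hbot', Subgroup.mem_bot] at this
  rw [Subgroup.mem_bot]
  exact congrArg Subtype.val this

end

/-- OC-[CONSTR-ABS]. -/
theorem constrained_of_inverting {H : Type*} [Group H] [Finite H] (z : H) (hz : z ^ 2 = 1)
    (hE : layer H = ⊥) (hinv : ∀ t ∈ pPrimeCore 2 H, z * t * z⁻¹ = t⁻¹)
    (hCz : layer ↥(Subgroup.centralizer ({z} : Set H)) = ⊥) : IsPConstrained 2 H := by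
  haveI : Fact (Nat.Prime 2) := ⟨Nat.prime_two⟩
  rw [isPConstrained_iff_layer_quotient_eq_bot]
  unfold layer
  rw [sSup_eq_bot]
  intro Lb hLb
  exfalso
  have hn : (Subgroup.centralizer ((pPrimeCore 2 H : Subgroup H) : Set H)).Normal := inferInstance
  have hnb : ((Subgroup.centralizer ((pPrimeCore 2 H : Subgroup H) : Set H)).map
      (QuotientGroup.mk' (pPrimeCore 2 H))).Normal :=
    hn.map _ (QuotientGroup.mk'_surjective _)
  rcases component_le_or_commutator_eq_bot hLb (Subgroup.Normal.isSubnormal hnb) with hle | hcomm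
  · exact case_le z hE hinv Lb hLb hle
  · exact case_comm z hz hinv hCz Lb hLb hcomm

end Cfsg.Agent.Lib.Helper90.OC
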