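import Mathlib
import Cfsg.Agent.S5357
set_option autoImplicit false

/-!
Quadratic forms over the field with three elements: existence of vectors of a given norm with
prescribed orthogonality relations (used for the reflection 3-transposition groups).
-/

namespace Cfsg.Agent.Lib.Helper90

open Cfsg Cfsg.Agent.S5357

section
variable {n : ℕ} (Q : QuadraticForm (ZMod 3) (Fin n → ZMod 3))

/-- a vector of prescribed non-zero norm orthogonal to `k ≤ n - 2` pairwise orthogonal non-singular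
vectors -/
theorem exists_norm_orth (hQ : (QuadraticMap.polarBilin Q).Nondegenerate) {k : ℕ} (hk : k + 2 ≤ n)
    (ws : Fin k → (Fin n → ZMod 3))
    (horth : ∀ i j, i ≠ j → QuadraticMap.polar (⇑Q) (ws i) (ws j) = 0) (hns : ∀ i, Q (ws i) ≠ 0)
    (c : ZMod 3) (hc : c ≠ 0) :
    ∃ w, Q w = c ∧ ∀ i, QuadraticMap.polar (⇑Q) (ws i) w = 0 := by
  obtain ⟨z, hz, hzo⟩ := exists_nonsingular_orthogonal Q hQ (k := k) (by omega) ws horth hns
  rcases zmod3_eq_or_neg _ c hz hc with h | h
  · exact ⟨z, h, hzo⟩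
  have horth' : ∀ i j : Fin (k + 1), i ≠ j →
      QuadraticMap.polar (⇑Q) ((Fin.cons z ws : Fin (k + 1) → (Fin n → ZMod 3)) i)
        ((Fin.cons z ws : Fin (k + 1) → (Fin n → ZMod 3)) j) = 0 := by
    intro i j
    refine Fin.cases ?_ (fun i' => ?_) i
    · refine Fin.cases ?_ (fun j' => ?_) j
      · intro h0; exact absurd rfl h0
      · intro _
        rw [Fin.cons_zero, Fin.cons_succ, QuadraticMap.polar_comm]
        exact hzo j'
    · refine Fin.cases ?_ (fun j' => ?_) j
      · intro _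
        rw [Fin.cons_zero, Fin.cons_succ]
        exact hzo i'
      · intro hij
        rw [Fin.cons_succ, Fin.cons_succ]
        apply horth
        intro h0; apply hij; rw [h0]
  have hns' : ∀ i : Fin (k + 1), Q ((Fin.cons z ws : Fin (k + 1) → (Fin n → ZMod 3)) i) ≠ 0 := by
    intro i
    refine Fin.cases ?_ (fun i' => ?_) i
    · rw [Fin.cons_zero]; exact hz
    · rw [Fin.cons_succ]; exact hns i'
  obtain ⟨z', hz', hzo'⟩ := exists_nonsingular_orthogonal Q hQ (k := k + 1) (by omega)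
    (Fin.cons z ws) horth' hns'
  have hzz' : QuadraticMap.polar (⇑Q) z z' = 0 := by
    have := hzo' 0
    rwa [Fin.cons_zero] at this
  have hwz' : ∀ i, QuadraticMap.polar (⇑Q) (ws i) z' = 0 := by
    intro i
    have := hzo' i.succ
    rwa [Fin.cons_succ] at this
  rcases zmod3_eq_or_neg _ c hz' hc with h' | h'
  · exact ⟨z', h', hwz'⟩
  · refine ⟨z + z', ?_, ?_⟩
    · rw [QuadraticMap.map_add (⇑Q), h, h', hzz', add_zero]
      exact zmod3_neg_two_mul c
    · intro i
      rw [QuadraticMap.polar_add_right, hzo i, hwz' i, add_zero]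

theorem zmod3_iso : ∀ p c : ZMod 3, p ≠ 0 → c ≠ 0 → c + (p * c) * (p * c) * c + (p * c) * p = 0 := by
  decide

theorem zmod3_proj : ∀ b c : ZMod 3, c ≠ 0 → b + (b * c) * (2 * c) = 0 := by decide

theorem zmod3_solve : ∀ a c r : ZMod 3, r ≠ 0 → a + ((c - a) * r) * r = c := by decide

theorem zmod3_sq : ∀ r : ZMod 3, r ≠ 0 → r * r = 1 := by decide

theorem zmod3_mul_ne : ∀ p c : ZMod 3, p ≠ 0 → c ≠ 0 → p * c ≠ 0 := by decide


theorem orth_two (a b : Fin n → ZMod 3) (hab : QuadraticMap.polar (⇑Q) a b = 0) :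
    ∀ i j : Fin 2, i ≠ j → QuadraticMap.polar (⇑Q) (![a, b] i) (![a, b] j) = 0 := by
  have hba : QuadraticMap.polar (⇑Q) b a = 0 := by rw [QuadraticMap.polar_comm]; exact hab
  intro i j hij
  fin_cases i <;> fin_cases j
  · exact absurd rfl hij
  · exact hab
  · exact hba
  · exact absurd rfl hij

theorem ns_two (a b : Fin n → ZMod 3) (ha : Q a ≠ 0) (hb : Q b ≠ 0) :
    ∀ i : Fin 2, Q (![a, b] i) ≠ 0 := by
  intro i
  fin_cases i
  · exact ha
  · exact hb

theorem orth_three (a b d : Fin n → ZMod 3) (hab : QuadraticMap.polar (⇑Q) a b = 0)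
    (had : QuadraticMap.polar (⇑Q) a d = 0) (hbd : QuadraticMap.polar (⇑Q) b d = 0) :
    ∀ i j : Fin 3, i ≠ j → QuadraticMap.polar (⇑Q) (![a, b, d] i) (![a, b, d] j) = 0 := by
  have hba : QuadraticMap.polar (⇑Q) b a = 0 := by rw [QuadraticMap.polar_comm]; exact hab
  have hda : QuadraticMap.polar (⇑Q) d a = 0 := by rw [QuadraticMap.polar_comm]; exact had
  have hdb : QuadraticMap.polar (⇑Q) d b = 0 := by rw [QuadraticMap.polar_comm]; exact hbd
  intro i j hij
  fin_cases i <;> fin_cases j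
  · exact absurd rfl hij
  · exact hab
  · exact had
  · exact hba
  · exact absurd rfl hij
  · exact hbd
  · exact hda
  · exact hdb
  · exact absurd rfl hij

theorem ns_three (a b d : Fin n → ZMod 3) (ha : Q a ≠ 0) (hb : Q b ≠ 0) (hd : Q d ≠ 0) :
    ∀ i : Fin 3, Q (![a, b, d] i) ≠ 0 := by
  intro i
  fin_cases i
  · exact ha
  · exact hb
  · exact hd

/-- for non-orthogonal `u`, `v` of norm `c` spanning different lines: an isotropic non-zero
`v' = v + l u` orthogonal to `u`, and a vector `x` orthogonal to `u` with `B(v', x) ≠ 0` -/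
theorem exists_iso_aux (hQ : (QuadraticMap.polarBilin Q).Nondegenerate) (c : ZMod 3) (hc : c ≠ 0)
    (u v : Fin n → ZMod 3) (hu : Q u = c) (hv : Q v = c)
    (huv : QuadraticMap.polar (⇑Q) u v ≠ 0) (h1 : v ≠ u) (h2 : v ≠ -u) :
    ∃ (l : ZMod 3) (x : Fin n → ZMod 3), Q (v + l • u) = 0 ∧
      QuadraticMap.polar (⇑Q) u (v + l • u) = 0 ∧ QuadraticMap.polar (⇑Q) u x = 0 ∧
      QuadraticMap.polar (⇑Q) (v + l • u) x ≠ 0 := by
  set p := QuadraticMap.polar (⇑Q) u v with hp
  set l := p * c with hl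
  have hl0 : l ≠ 0 := zmod3_mul_ne p c huv hc
  have huu : QuadraticMap.polar (⇑Q) u u = 2 * c := by
    rw [QuadraticMap.polar_self, hu]; simp
  have hQv' : Q (v + l • u) = 0 := by
    rw [QuadraticMap.map_add (⇑Q), QuadraticMap.map_smul, hu, hv, QuadraticMap.polar_smul_right,
      QuadraticMap.polar_comm (⇑Q) v u, ← hp, smul_eq_mul, smul_eq_mul]
    exact zmod3_iso p c huv hc
  have huv' : QuadraticMap.polar (⇑Q) u (v + l • u) = 0 := by
    rw [QuadraticMap.polar_add_right, QuadraticMap.polar_smul_right, huu, ← hp, smul_eq_mul]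
    exact zmod3_proj p c hc
  have hv'0 : v + l • u ≠ 0 := by
    intro h0
    rcases zmod3_cases l hl0 with h | h
    · rw [h, one_smul] at h0
      exact h2 (eq_neg_of_add_eq_zero_left h0)
    · rw [h, neg_smul, one_smul, ← sub_eq_add_neg, sub_eq_zero] at h0
      exact h1 h0
  have hex : ∃ y, QuadraticMap.polar (⇑Q) (v + l • u) y ≠ 0 := by
    by_contra hcon
    push Not at hcon
    apply hv'0
    apply hQ.1
    intro y
    rw [QuadraticMap.polarBilin_apply_apply]
    exact hcon y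
  obtain ⟨y, hy⟩ := hex
  set b := QuadraticMap.polar (⇑Q) u y with hb
  refine ⟨l, y + (b * c) • u, hQv', huv', ?_, ?_⟩
  · rw [QuadraticMap.polar_add_right, QuadraticMap.polar_smul_right, huu, ← hb, smul_eq_mul]
    exact zmod3_proj b c hc
  · rw [QuadraticMap.polar_add_right, QuadraticMap.polar_smul_right,
      QuadraticMap.polar_comm (⇑Q) (v + l • u) u, huv', smul_zero, add_zero]
    exact hy

/-- **B1** -/
theorem exists_orth_left_not_right (hQ : (QuadraticMap.polarBilin Q).Nondegenerate) (c : ZMod 3)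
    (hc : c ≠ 0) (u v : Fin n → ZMod 3) (hu : Q u = c) (hv : Q v = c)
    (huv : QuadraticMap.polar (⇑Q) u v ≠ 0) (h1 : v ≠ u) (h2 : v ≠ -u) :
    ∃ w, Q w = c ∧ QuadraticMap.polar (⇑Q) u w = 0 ∧ QuadraticMap.polar (⇑Q) v w ≠ 0 := by
  obtain ⟨l, x, hQv', huv', hux, hv'x⟩ := exists_iso_aux Q hQ c hc u v hu hv huv h1 h2
  set v' := v + l • u with hv'
  set r := QuadraticMap.polar (⇑Q) v' x with hr
  set t := (c - Q x) * r with ht
  have hv'v' : QuadraticMap.polar (⇑Q) v' v' = 0 := by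
    rw [QuadraticMap.polar_self, hQv']; simp
  have huw : QuadraticMap.polar (⇑Q) u (x + t • v') = 0 := by
    rw [QuadraticMap.polar_add_right, QuadraticMap.polar_smul_right, hux, huv', smul_zero, add_zero]
  have hv'w : QuadraticMap.polar (⇑Q) v' (x + t • v') = r := by
    rw [QuadraticMap.polar_add_right, QuadraticMap.polar_smul_right, hv'v', smul_zero, add_zero]
  refine ⟨x + t • v', ?_, huw, ?_⟩
  · rw [QuadraticMap.map_add (⇑Q), QuadraticMap.map_smul, hQv', smul_zero, add_zero,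
      QuadraticMap.polar_smul_right, QuadraticMap.polar_comm (⇑Q) x v', ← hr, smul_eq_mul]
    exact zmod3_solve (Q x) c r hv'x
  · have hvv' : v = v' - l • u := by rw [hv']; abel
    rw [hvv', QuadraticMap.polar_sub_left, QuadraticMap.polar_smul_left, huw, smul_zero, sub_zero,
      hv'w]
    exact hv'x

/-- **B2** -/
theorem exists_orth_left_not_right' (hQ : (QuadraticMap.polarBilin Q).Nondegenerate) (hn : 5 ≤ n)
    (c : ZMod 3) (hc : c ≠ 0) (u v : Fin n → ZMod 3) (hu : Q u = c) (hv : Q v = c)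
    (huv : QuadraticMap.polar (⇑Q) u v = 0) :
    ∃ w, Q w = c ∧ QuadraticMap.polar (⇑Q) u w = 0 ∧ QuadraticMap.polar (⇑Q) v w ≠ 0 ∧
      w ≠ v ∧ w ≠ -v := by
  have hu' : Q u ≠ 0 := hu ▸ hc
  have hv' : Q v ≠ 0 := hv ▸ hc
  have hvu : QuadraticMap.polar (⇑Q) v u = 0 := by rw [QuadraticMap.polar_comm]; exact huv
  have ho2 := orth_two Q u v huv
  have hn2 := ns_two Q u v hu' hv'
  obtain ⟨p, hp, hpo⟩ := exists_norm_orth Q hQ (k := 2) (by omega) ![u, v] ho2 hn2 c hc
  have hup : QuadraticMap.polar (⇑Q) u p = 0 := hpo 0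
  have hvp : QuadraticMap.polar (⇑Q) v p = 0 := hpo 1
  have hp' : Q p ≠ 0 := hp ▸ hc
  have ho3 := orth_three Q u v p huv hup hvp
  have hn3 := ns_three Q u v p hu' hv' hp'
  have hnc : -c ≠ 0 := neg_ne_zero.mpr hc
  obtain ⟨q, hq, hqo⟩ := exists_norm_orth Q hQ (k := 3) (by omega) ![u, v, p] ho3 hn3 (-c) hnc
  have huq : QuadraticMap.polar (⇑Q) u q = 0 := hqo 0
  have hvq : QuadraticMap.polar (⇑Q) v q = 0 := hqo 1
  have hpq : QuadraticMap.polar (⇑Q) p q = 0 := hqo 2
  have hQs : Q (p + q) = 0 := by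
    rw [QuadraticMap.map_add (⇑Q), hp, hq, hpq]; ring
  have hps : QuadraticMap.polar (⇑Q) p (p + q) ≠ 0 := by
    rw [QuadraticMap.polar_add_right, hpq, add_zero]
    exact polar_self_ne_zero Q hp'
  have hvs : QuadraticMap.polar (⇑Q) v (p + q) = 0 := by
    rw [QuadraticMap.polar_add_right, hvp, hvq, add_zero]
  have hus : QuadraticMap.polar (⇑Q) u (p + q) = 0 := by
    rw [QuadraticMap.polar_add_right, hup, huq, add_zero]
  refine ⟨v + (p + q), ?_, ?_, ?_, ?_, ?_⟩
  · rw [QuadraticMap.map_add (⇑Q), hv, hQs, hvs]; ring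
  · rw [QuadraticMap.polar_add_right, huv, hus, add_zero]
  · rw [QuadraticMap.polar_add_right, hvs, add_zero]
    exact polar_self_ne_zero Q hv'
  · intro h
    have hs0 : p + q = 0 := by
      have : v + (p + q) = v + 0 := by rw [add_zero]; exact h
      exact add_left_cancel this
    apply hps
    rw [hs0]
    exact QuadraticMap.polar_zero_right Q p
  · intro h
    -- then `p + q = -v - v`, which is orthogonal to `p`
    have hs : p + q = -v - v := by
      rw [← h]; abel
    apply hps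
    rw [hs, QuadraticMap.polar_sub_right, QuadraticMap.polar_neg_right,
      QuadraticMap.polar_comm (⇑Q) p v, hvp]
    simp

/-- **C**: a common orthogonal vector of norm `c` -/
theorem exists_orth_both (hQ : (QuadraticMap.polarBilin Q).Nondegenerate) (hn : 5 ≤ n)
    (c : ZMod 3) (hc : c ≠ 0) (u v : Fin n → ZMod 3) (hu : Q u = c) (hv : Q v = c)
    (huv : QuadraticMap.polar (⇑Q) u v ≠ 0) (h1 : v ≠ u) (h2 : v ≠ -u) :
    ∃ w, Q w = c ∧ QuadraticMap.polar (⇑Q) u w = 0 ∧ QuadraticMap.polar (⇑Q) v w = 0 := by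
  obtain ⟨l, x, hQv', huv', hux, hv'x⟩ := exists_iso_aux Q hQ c hc u v hu hv huv h1 h2
  set v' := v + l • u with hv'
  set r := QuadraticMap.polar (⇑Q) v' x with hr
  have hu' : Q u ≠ 0 := hu ▸ hc
  have hv'v' : QuadraticMap.polar (⇑Q) v' v' = 0 := by
    rw [QuadraticMap.polar_self, hQv']; simp
  -- isotropic `x'` with `B(v', x') = 1`
  set t := (0 - Q x) * r with ht
  set x' := r • (x + t • v') with hx'
  have hQx1 : Q (x + t • v') = 0 := by
    rw [QuadraticMap.map_add (⇑Q), QuadraticMap.map_smul, hQv', smul_zero, add_zero,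
      QuadraticMap.polar_smul_right, QuadraticMap.polar_comm (⇑Q) x v', ← hr, smul_eq_mul]
    exact zmod3_solve (Q x) 0 r hv'x
  have hQx' : Q x' = 0 := by
    rw [hx', QuadraticMap.map_smul, hQx1, smul_zero]
  have hv'x' : QuadraticMap.polar (⇑Q) v' x' = 1 := by
    rw [hx', QuadraticMap.polar_smul_right, QuadraticMap.polar_add_right,
      QuadraticMap.polar_smul_right, hv'v', smul_zero, add_zero, ← hr, smul_eq_mul]
    exact zmod3_sq r hv'x
  have hux' : QuadraticMap.polar (⇑Q) u x' = 0 := by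
    rw [hx', QuadraticMap.polar_smul_right, QuadraticMap.polar_add_right,
      QuadraticMap.polar_smul_right, hux, huv', smul_zero, add_zero, smul_zero]
  have hx'x' : QuadraticMap.polar (⇑Q) x' x' = 0 := by
    rw [QuadraticMap.polar_self, hQx']; simp
  have hx'v' : QuadraticMap.polar (⇑Q) x' v' = 1 := by
    rw [QuadraticMap.polar_comm]; exact hv'x'
  -- the orthogonal non-singular pair
  have hQh1 : Q (v' + x') = 1 := by
    rw [QuadraticMap.map_add (⇑Q), hQv', hQx', hv'x']; ring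
  have hQh2 : Q (v' - x') = -1 := by
    rw [sub_eq_add_neg, QuadraticMap.map_add (⇑Q), QuadraticMap.map_neg, hQv', hQx',
      QuadraticMap.polar_neg_right, hv'x']; ring
  have hh12 : QuadraticMap.polar (⇑Q) (v' + x') (v' - x') = 0 := by
    rw [QuadraticMap.polar_add_left, QuadraticMap.polar_sub_right, QuadraticMap.polar_sub_right,
      hv'v', hv'x', hx'v', hx'x']; ring
  have huh1 : QuadraticMap.polar (⇑Q) u (v' + x') = 0 := by
    rw [QuadraticMap.polar_add_right, huv', hux', add_zero]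
  have huh2 : QuadraticMap.polar (⇑Q) u (v' - x') = 0 := by
    rw [QuadraticMap.polar_sub_right, huv', hux', sub_zero]
  have e1 : (1 : ZMod 3) ≠ 0 := by decide
  have e2 : (-1 : ZMod 3) ≠ 0 := by decide
  have hh1 : Q (v' + x') ≠ 0 := by rw [hQh1]; exact e1
  have hh2 : Q (v' - x') ≠ 0 := by rw [hQh2]; exact e2
  have ho3 := orth_three Q u (v' + x') (v' - x') huh1 huh2 hh12
  have hn3 := ns_three Q u (v' + x') (v' - x') hu' hh1 hh2
  obtain ⟨w, hw, hwo⟩ := exists_norm_orth Q hQ (k := 3) (by omega) ![u, v' + x', v' - x'] ho3 hn3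
    c hc
  have huw : QuadraticMap.polar (⇑Q) u w = 0 := hwo 0
  have h1w : QuadraticMap.polar (⇑Q) (v' + x') w = 0 := hwo 1
  have h2w : QuadraticMap.polar (⇑Q) (v' - x') w = 0 := hwo 2
  have hv'w : QuadraticMap.polar (⇑Q) v' w = 0 := by
    have e : v' = (2 : ZMod 3) • ((v' + x') + (v' - x')) := by
      have : (v' + x') + (v' - x') = (2 : ZMod 3) • v' := by rw [two_smul]; abel
      rw [this, smul_smul]
      have : (2 : ZMod 3) * 2 = 1 := by decide
      rw [this, one_smul]
    rw [e, QuadraticMap.polar_smul_left, QuadraticMap.polar_add_left, h1w, h2w, add_zero,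
      smul_zero]
  refine ⟨w, hw, huw, ?_⟩
  have hvv' : v = v' - l • u := by rw [hv']; abel
  rw [hvv', QuadraticMap.polar_sub_left, QuadraticMap.polar_smul_left, huw, smul_zero, sub_zero,
    hv'w]

end

end Cfsg.Agent.Lib.Helper90
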