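import Mathlib
import Cfsg.Agent.S5357
import Cfsg.Agent.Lib.Helper90.ReflF3
import Cfsg.Agent.Lib.Helper90.TTSimple
set_option autoImplicit false

/-!
The reflection 3-transposition groups over the field with three elements (dimension at least 5):
`O₂`, `O₃` central, connected commuting graph, hence quasisimple commutator subgroup of index at
most two and primitivity.
-/

namespace Cfsg.Agent.Lib.Helper90

open Cfsg Cfsg.Agent.S5357 Matrix
open scoped commutatorElement

section generic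

universe u

variable {G : Type u} [Group G] [Finite G] {D : Set G}

/-- trivial class for "same commuting behaviour" forces `O₂(G)` central -/
theorem pCore_two_le_center_of_tau (hD : IsThreeTranspositionClass D)
    (hD2 : ∃ a ∈ D, ∃ b ∈ D, a ≠ b) {d : G} (hd : d ∈ D)
    (htau : ∀ v ∈ D, (∀ e ∈ D, Commute v e ↔ Commute d e) → v = d) :
    pCore 2 G ≤ Subgroup.center G := by
  apply le_center_of_fixes_member hD hd (pCore_normal 2 G)
  intro q hq
  have hS := (Cfsg.Agent.S5349.result hD hD2 hd).2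
  have h1 : q * d * q⁻¹ ∈ {v : G | v ∈ D ∧ ∀ e ∈ D, Commute v e ↔ Commute d e} := by
    rw [hS]; exact ⟨q, hq, rfl⟩
  exact htau _ h1.1 h1.2

/-- trivial class for "same commuting partners" forces `O₃(G)` central -/
theorem pCore_three_le_center_of_theta
    (hZs : ∀ H : Subgroup G, Cfsg.Agent.Lib.Helper58.ZStarProd.ZStarHyp ↥H)
    (hD : IsThreeTranspositionClass D) {d : G} (hd : d ∈ D)
    (hth : ∀ w ∈ D, cpart D d = cpart D w → w = d) :
    pCore 3 G ≤ Subgroup.center G := by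
  apply le_center_of_fixes_member hD hd (pCore_normal 3 G)
  intro q hq
  have hS := (wclass_eq hZs (class_to_group hD) hd).2
  have h1 : q * d * q⁻¹ ∈ {w : G | w ∈ D ∧ {y : G | y ∈ D ∧ y ≠ d ∧ Commute d y} =
      {y : G | y ∈ D ∧ y ≠ w ∧ Commute w y}} := by
    rw [hS]; exact ⟨q, hq, rfl⟩
  exact hth _ h1.1 h1.2

/-- structure of a 3-transposition group with central `O₂`, `O₃` and connected commuting graph -/
theorem tt_structure_of_connected
    (hZs : ∀ H : Subgroup G, Cfsg.Agent.Lib.Helper58.ZStarProd.ZStarHyp ↥H)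
    (hD : IsThreeTranspositionClass D) (hD2 : ∃ a ∈ D, ∃ b ∈ D, a ≠ b)
    (h2 : pCore 2 G ≤ Subgroup.center G) (h3 : pCore 3 G ≤ Subgroup.center G)
    (hconn : (commutingGraph D).Connected) :
    IsQuasisimple (commutator G) ∧ (commutator G).index ≤ 2 ∧
      generalizedFittingSubgroup G = Subgroup.center G ⊔ commutator G ∧
      IsPrimitiveUnderConj D := by
  obtain ⟨L, hLn, hLq, hF, -⟩ := tt_component_structure hZs hD hD2 h2 h3
  have hidx := tt_index_le_two_of_connected hZs hD hD2 h2 h3 L hLq hconn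
  have hprim := tt_primitive_of_index_le_two hD hD2 h2 h3 L hLq hF hidx
  obtain ⟨a, ha, -⟩ := hD2
  have htop := sup_zpowers_eq_top_of_index_le_two hD hLn hidx ha
  have hGL : commutator G = L := by
    apply le_antisymm
    · exact commutator_le_of_sup_zpowers hLn htop
    · have h1 : ⁅L, L⁆ = L := Cfsg.Agent.Lib.Helper21.qs_commutator_eq_self hLq
      rw [commutator_def, ← h1]
      exact Subgroup.commutator_mono le_top le_top
  rw [hGL]
  exact ⟨hLq, hidx, by rw [hF, sup_comm], hprim⟩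

end generic

section refl

variable {n : ℕ} (Q : QuadraticForm (ZMod 3) (Fin n → ZMod 3))

theorem zmod3_cases3 : ∀ t : ZMod 3, t = 0 ∨ t = 1 ∨ t = -1 := by decide

theorem vec_add3 (a : Fin n → ZMod 3) : a + a + a = 0 := by
  have h : ∀ x : ZMod 3, x + x + x = 0 := by decide
  ext i
  exact h (a i)

/-- a reflection determines its centre up to sign -/
theorem reflI_inj {a b : Fin n → ZMod 3} (ha : Q a ≠ 0) (hb : Q b ≠ 0)
    (h : reflI Q a ha = reflI Q b hb) : a = b ∨ a = -b := by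
  have h1 : Cfsg.reflectionMatrix (⇑Q) a = Cfsg.reflectionMatrix (⇑Q) b := by
    have := congrArg (fun g : Cfsg.isometryGroup (ZMod 3) (⇑Q) =>
      ((g : GL (Fin n) (ZMod 3)) : Matrix (Fin n) (Fin n) (ZMod 3))) h
    exact this
  have h2 := refl_mulVec_self Q a ha
  rw [h1, refl_mulVec] at h2
  set t := (Q b)⁻¹ * QuadraticMap.polar (⇑Q) b a with ht
  have ha0 : a ≠ 0 := by
    intro h0; apply ha; rw [h0]; exact QuadraticMap.map_zero Q
  have h3a := vec_add3 a
  rcases zmod3_cases3 t with h0 | h0 | h0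
  · exfalso
    rw [h0, zero_smul, sub_zero] at h2
    -- a = -a, so a + a = 0, so a = 0
    apply ha0
    have h4 : a + a = 0 := by
      nth_rewrite 1 [h2]
      exact neg_add_cancel a
    rw [h4, zero_add] at h3a
    exact h3a
  · right
    rw [h0, one_smul] at h2
    have h4 : a + a = b := eq_neg_add_iff_add_eq.mp (sub_eq_iff_eq_add.mp h2)
    rw [← h4]
    exact eq_neg_of_add_eq_zero_left (by rw [← add_assoc]; exact h3a)
  · left
    rw [h0, neg_smul, one_smul, sub_neg_eq_add] at h2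
    have h4 : b = -a - a := eq_sub_of_add_eq' h2
    rw [h4, eq_sub_iff_add_eq, eq_neg_iff_add_eq_zero]
    exact h3a

/-- the class of reflections of norm `c` inside the reflection subgroup -/
abbrev reflD (c : ZMod 3) : Set ↥(Cfsg.reflectionSubgroup (⇑Q) c) :=
  {g | (g : ↥(Cfsg.isometryGroup (ZMod 3) (⇑Q))) ∈ Cfsg.reflectionsOfNorm (⇑Q) c}

/-- the reflection in `v` as a member of the reflection subgroup -/
def mkR (c : ZMod 3) (hc : c ≠ 0) (v : Fin n → ZMod 3) (hv : Q v = c) :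
    ↥(Cfsg.reflectionSubgroup (⇑Q) c) :=
  ⟨reflI Q v (hv ▸ hc), Subgroup.subset_closure (reflI_mem Q c v hv _)⟩

theorem mkR_mem (c : ZMod 3) (hc : c ≠ 0) (v : Fin n → ZMod 3) (hv : Q v = c) :
    mkR Q c hc v hv ∈ reflD Q c := reflI_mem Q c v hv (hv ▸ hc)

theorem exists_mkR (c : ZMod 3) (hc : c ≠ 0) {g : ↥(Cfsg.reflectionSubgroup (⇑Q) c)}
    (hg : g ∈ reflD Q c) : ∃ (v : Fin n → ZMod 3) (hv : Q v = c), g = mkR Q c hc v hv := by
  obtain ⟨v, hv, h⟩ := (mem_reflectionsOfNorm_iff Q c hc g.1).1 hg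
  exact ⟨v, hv, Subtype.ext h⟩

theorem mkR_commute_of_orth (c : ZMod 3) (hc : c ≠ 0) {u v : Fin n → ZMod 3} (hu : Q u = c)
    (hv : Q v = c) (h : QuadraticMap.polar (⇑Q) u v = 0) :
    Commute (mkR Q c hc u hu) (mkR Q c hc v hv) :=
  Subtype.ext (reflI_comm_of_orth Q u v (hu ▸ hc) (hv ▸ hc) h)

theorem mkR_eq_of_commute (c : ZMod 3) (hc : c ≠ 0) {u v : Fin n → ZMod 3} (hu : Q u = c)
    (hv : Q v = c) (h : QuadraticMap.polar (⇑Q) u v ≠ 0)
    (hcom : Commute (mkR Q c hc u hu) (mkR Q c hc v hv)) :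
    mkR Q c hc u hu = mkR Q c hc v hv := by
  have hu' : Q u ≠ 0 := hu ▸ hc
  have hv' : Q v ≠ 0 := hv ▸ hc
  have hcom' : reflI Q u hu' * reflI Q v hv' = reflI Q v hv' * reflI Q u hu' :=
    congrArg Subtype.val hcom.eq
  have hb : reflI Q u hu' * reflI Q v hv' * reflI Q u hu' =
      reflI Q v hv' * reflI Q u hu' * reflI Q v hv' := reflI_braid Q u v hu' (hu.trans hv.symm) h
  have e1 : reflI Q u hu' * reflI Q v hv' * reflI Q u hu' = reflI Q v hv' := by
    rw [hcom', mul_assoc, reflI_mul_self, mul_one]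
  have e2 : reflI Q v hv' * reflI Q u hu' * reflI Q v hv' = reflI Q u hu' := by
    rw [← hcom', mul_assoc, reflI_mul_self, mul_one]
  apply Subtype.ext
  show reflI Q u hu' = reflI Q v hv'
  exact e2.symm.trans (hb.symm.trans e1)

theorem mkR_inj (c : ZMod 3) (hc : c ≠ 0) {u v : Fin n → ZMod 3} (hu : Q u = c)
    (hv : Q v = c) (h : mkR Q c hc u hu = mkR Q c hc v hv) : u = v ∨ u = -v :=
  reflI_inj Q (hu ▸ hc) (hv ▸ hc) (congrArg Subtype.val h)

theorem mkR_congr (c : ZMod 3) (hc : c ≠ 0) {u v : Fin n → ZMod 3} (hu : Q u = c)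
    (hv : Q v = c) (h : u = v ∨ u = -v) : mkR Q c hc u hu = mkR Q c hc v hv :=
  Subtype.ext (reflI_congr Q (hu ▸ hc) (hv ▸ hc) h)

/-- orthogonal centres give different reflections -/
theorem mkR_ne_of_orth (c : ZMod 3) (hc : c ≠ 0) {u v : Fin n → ZMod 3} (hu : Q u = c)
    (hv : Q v = c) (h : QuadraticMap.polar (⇑Q) u v = 0) :
    mkR Q c hc u hu ≠ mkR Q c hc v hv := by
  intro he
  have hu' : Q u ≠ 0 := hu ▸ hc
  have h0 := polar_self_ne_zero Q hu'
  rcases mkR_inj Q c hc hu hv he with h1 | h1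
  · apply h0
    nth_rewrite 2 [h1]
    exact h
  · apply h0
    have : u = -v := h1
    have e : QuadraticMap.polar (⇑Q) u u = -QuadraticMap.polar (⇑Q) u v := by
      nth_rewrite 2 [this]
      rw [QuadraticMap.polar_neg_right]
    rw [e, h, neg_zero]

theorem refl_tau_trivial (hQ : (QuadraticMap.polarBilin Q).Nondegenerate) (hn : 5 ≤ n)
    (c : ZMod 3) (hc : c ≠ 0) {d : ↥(Cfsg.reflectionSubgroup (⇑Q) c)} (hd : d ∈ reflD Q c) :
    ∀ v ∈ reflD Q c, (∀ e ∈ reflD Q c, Commute v e ↔ Commute d e) → v = d := by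
  intro v' hv' hiff
  obtain ⟨u, hu, rfl⟩ := exists_mkR Q c hc hd
  obtain ⟨v, hv, rfl⟩ := exists_mkR Q c hc hv'
  by_contra hne
  by_cases h : QuadraticMap.polar (⇑Q) u v = 0
  · obtain ⟨w, hw, huw, hvw, hwv1, hwv2⟩ := exists_orth_left_not_right' Q hQ hn c hc u v hu hv h
    have h1 : Commute (mkR Q c hc u hu) (mkR Q c hc w hw) := mkR_commute_of_orth Q c hc hu hw huw
    have h2 := (hiff _ (mkR_mem Q c hc w hw)).mpr h1
    have h3 := mkR_eq_of_commute Q c hc hv hw hvw h2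
    rcases mkR_inj Q c hc hv hw h3 with h4 | h4
    · exact hwv1 h4.symm
    · apply hwv2
      rw [h4, neg_neg]
  · have h1 := (hiff _ (mkR_mem Q c hc u hu)).mpr (Commute.refl _)
    have hvu : QuadraticMap.polar (⇑Q) v u ≠ 0 := by rw [QuadraticMap.polar_comm]; exact h
    exact hne (mkR_eq_of_commute Q c hc hv hu hvu h1)

theorem refl_theta_trivial (hQ : (QuadraticMap.polarBilin Q).Nondegenerate)
    (c : ZMod 3) (hc : c ≠ 0) {d : ↥(Cfsg.reflectionSubgroup (⇑Q) c)} (hd : d ∈ reflD Q c) :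
    ∀ w ∈ reflD Q c, cpart (reflD Q c) d = cpart (reflD Q c) w → w = d := by
  intro w' hw' heq
  obtain ⟨u, hu, rfl⟩ := exists_mkR Q c hc hd
  obtain ⟨v, hv, rfl⟩ := exists_mkR Q c hc hw'
  by_contra hne
  by_cases h : QuadraticMap.polar (⇑Q) u v = 0
  · have h1 : mkR Q c hc v hv ∈ cpart (reflD Q c) (mkR Q c hc u hu) :=
      ⟨mkR_mem Q c hc v hv, hne, mkR_commute_of_orth Q c hc hu hv h⟩
    rw [heq] at h1
    exact h1.2.1 rfl
  · have hvu1 : v ≠ u := by
      intro h0; apply hne; exact mkR_congr Q c hc hv hu (Or.inl h0)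
    have hvu2 : v ≠ -u := by
      intro h0; apply hne; exact mkR_congr Q c hc hv hu (Or.inr h0)
    obtain ⟨w, hw, huw, hvw⟩ := exists_orth_left_not_right Q hQ c hc u v hu hv h hvu1 hvu2
    have h1 : mkR Q c hc w hw ∈ cpart (reflD Q c) (mkR Q c hc u hu) :=
      ⟨mkR_mem Q c hc w hw, (mkR_ne_of_orth Q c hc hu hw huw).symm,
        mkR_commute_of_orth Q c hc hu hw huw⟩
    rw [heq] at h1
    exact h1.2.1 (mkR_eq_of_commute Q c hc hv hw hvw h1.2.2).symm

theorem refl_two_members (hQ : (QuadraticMap.polarBilin Q).Nondegenerate) (hn : 5 ≤ n)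
    (c : ZMod 3) (hc : c ≠ 0) : ∃ a ∈ reflD Q c, ∃ b ∈ reflD Q c, a ≠ b := by
  obtain ⟨u, hu⟩ := exists_norm Q hQ (by omega) c hc
  have hu' : Q u ≠ 0 := hu ▸ hc
  have ho : ∀ i j : Fin 1, i ≠ j → QuadraticMap.polar (⇑Q) ((fun _ => u) i) ((fun _ => u) j) = 0 := by
    intro i j hij
    exact absurd (Subsingleton.elim i j) hij
  obtain ⟨w, hw, hwo⟩ := exists_norm_orth Q hQ (k := 1) (by omega) (fun _ => u) ho (fun _ => hu') c hc
  exact ⟨_, mkR_mem Q c hc u hu, _, mkR_mem Q c hc w hw, mkR_ne_of_orth Q c hc hu hw (hwo 0)⟩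

theorem refl_connected (hQ : (QuadraticMap.polarBilin Q).Nondegenerate) (hn : 5 ≤ n)
    (c : ZMod 3) (hc : c ≠ 0) : (commutingGraph (reflD Q c)).Connected := by
  obtain ⟨a, ha, -⟩ := refl_two_members Q hQ hn c hc
  have : Nonempty (reflD Q c) := ⟨⟨a, ha⟩⟩
  have hadj : ∀ {u v : Fin n → ZMod 3} (hu : Q u = c) (hv : Q v = c),
      QuadraticMap.polar (⇑Q) u v = 0 →
      (commutingGraph (reflD Q c)).Adj ⟨mkR Q c hc u hu, mkR_mem Q c hc u hu⟩
        ⟨mkR Q c hc v hv, mkR_mem Q c hc v hv⟩ := by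
    intro u v hu hv h
    unfold commutingGraph
    rw [SimpleGraph.fromRel_adj]
    refine ⟨?_, Or.inl (mkR_commute_of_orth Q c hc hu hv h)⟩
    intro he
    exact mkR_ne_of_orth Q c hc hu hv h (congrArg Subtype.val he)
  refine ⟨?_⟩
  rintro ⟨x, hx⟩ ⟨y, hy⟩
  obtain ⟨u, hu, rfl⟩ := exists_mkR Q c hc hx
  obtain ⟨v, hv, rfl⟩ := exists_mkR Q c hc hy
  by_cases hxy : mkR Q c hc u hu = mkR Q c hc v hv
  · have : (⟨mkR Q c hc u hu, hx⟩ : reflD Q c) = ⟨mkR Q c hc v hv, hy⟩ := Subtype.ext hxy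
    rw [this]
  by_cases h : QuadraticMap.polar (⇑Q) u v = 0
  · exact (hadj hu hv h).reachable
  · have hvu1 : v ≠ u := by
      intro h0; apply hxy; exact (mkR_congr Q c hc hv hu (Or.inl h0)).symm
    have hvu2 : v ≠ -u := by
      intro h0; apply hxy; exact (mkR_congr Q c hc hv hu (Or.inr h0)).symm
    obtain ⟨w, hw, huw, hvw⟩ := exists_orth_both Q hQ hn c hc u v hu hv h hvu1 hvu2
    have hwv : QuadraticMap.polar (⇑Q) w v = 0 := by rw [QuadraticMap.polar_comm]; exact hvw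
    exact (hadj hu hw huw).reachable.trans (hadj hw hv hwv).reachable

/-- **S5360 shape** -/
theorem refl_structure (c : ZMod 3) (hc : c ≠ 0)
    (hZs : ∀ H : Subgroup ↥(Cfsg.reflectionSubgroup (⇑Q) c),
      Cfsg.Agent.Lib.Helper58.ZStarProd.ZStarHyp ↥H)
    (hQ : (QuadraticMap.polarBilin Q).Nondegenerate) (hn : 5 ≤ n) :
    IsQuasisimple (commutator ↥(Cfsg.reflectionSubgroup (⇑Q) c)) ∧
      (commutator ↥(Cfsg.reflectionSubgroup (⇑Q) c)).index ≤ 2 ∧
      generalizedFittingSubgroup ↥(Cfsg.reflectionSubgroup (⇑Q) c) =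
        Subgroup.center ↥(Cfsg.reflectionSubgroup (⇑Q) c) ⊔
          commutator ↥(Cfsg.reflectionSubgroup (⇑Q) c) ∧
      IsPrimitiveUnderConj (reflD Q c) := by
  have hD : IsThreeTranspositionClass (reflD Q c) := Cfsg.Agent.S5357.result n hn Q hQ c hc
  have hD2 := refl_two_members Q hQ hn c hc
  obtain ⟨d, hd, -⟩ := refl_two_members Q hQ hn c hc
  have h2 := pCore_two_le_center_of_tau hD hD2 hd (refl_tau_trivial Q hQ hn c hc hd)
  have h3 := pCore_three_le_center_of_theta hZs hD hd (refl_theta_trivial Q hQ c hc hd)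
  exact tt_structure_of_connected hZs hD hD2 h2 h3 (refl_connected Q hQ hn c hc)

end refl

end Cfsg.Agent.Lib.Helper90
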