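import Mathlib
import Cfsg.Agent.Lib.Helper90.A3Words

set_option autoImplicit false

namespace Cfsg.Agent.Lib.Helper90

section
variable {G : Type*} [Group G]

/-- the four elements of the Klein four-group. -/
def a3V (x x' y : G) : Fin 4 → G :=
  ![1, x * x', (x * x') * (y * (x * x') * y), y * (x * x') * y]

/-- the six elements of `⟨x, y⟩`. -/
def a3S (x y : G) : Fin 6 → G :=
  ![1, x, y, x * y * x, x * y, y * x]

@[simp] theorem a3V_zero (x x' y : G) : a3V x x' y 0 = 1 := rfl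
@[simp] theorem a3V_one (x x' y : G) : a3V x x' y 1 = x * x' := rfl
@[simp] theorem a3V_two (x x' y : G) : a3V x x' y 2 = (x * x') * (y * (x * x') * y) := rfl
@[simp] theorem a3V_three (x x' y : G) : a3V x x' y 3 = y * (x * x') * y := rfl
@[simp] theorem a3S_zero (x y : G) : a3S x y 0 = 1 := rfl
@[simp] theorem a3S_one (x y : G) : a3S x y 1 = x := rfl
@[simp] theorem a3S_two (x y : G) : a3S x y 2 = y := rfl
@[simp] theorem a3S_three (x y : G) : a3S x y 3 = x * y * x := rfl
@[simp] theorem a3S_four (x y : G) : a3S x y 4 = x * y := rfl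
@[simp] theorem a3S_five (x y : G) : a3S x y 5 = y * x := rfl

namespace A3Rel

variable {x x' y : G} (h : A3Rel x x' y)
include h

theorem tst : (x * x') * (y * (x * x') * y) * (x * x') = y * (x * x') * y := by
  rw [h.t_comm_s, mul_assoc, h.t_sq, mul_one]

omit h in
theorem aux_x {x t s : G} (hxt : x * t = t * x) (hxs : x * s = s * t * x) (hts : t * s = s * t)
    (ht2 : t * t = 1) : x * (t * s) = s * x := by
  calc x * (t * s) = (x * t) * s := by simp only [mul_assoc]
    _ = (t * x) * s := by rw [hxt]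
    _ = t * (x * s) := by simp only [mul_assoc]
    _ = t * (s * t * x) := by rw [hxs]
    _ = (t * s) * t * x := by simp only [mul_assoc]
    _ = (s * t) * t * x := by rw [hts]
    _ = s * x := by rw [mul_assoc s t t, ht2, mul_one]

omit h in
theorem aux_y {y t s : G} (hyt : y * t = s * y) (hys : y * s = t * y) (hts : t * s = s * t) :
    y * (t * s) = (t * s) * y := by
  calc y * (t * s) = (y * t) * s := by simp only [mul_assoc]
    _ = (s * y) * s := by rw [hyt]
    _ = s * (y * s) := by simp only [mul_assoc]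
    _ = s * (t * y) := by rw [hys]
    _ = (s * t) * y := by simp only [mul_assoc]
    _ = (t * s) * y := by rw [hts]

theorem V_t (i : Fin 4) : ∃ i' : Fin 4, (x * x') * a3V x x' y i = a3V x x' y i' := by
  fin_cases i
  · exact ⟨1, by simp⟩
  · exact ⟨0, by simpa using h.t_sq⟩
  · refine ⟨3, ?_⟩
    show (x * x') * ((x * x') * (y * (x * x') * y)) = y * (x * x') * y
    rw [← mul_assoc, h.t_sq, one_mul]
  · exact ⟨2, rfl⟩

theorem V_x (i : Fin 4) : ∃ i' : Fin 4, x * a3V x x' y i = a3V x x' y i' * x := by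
  fin_cases i
  · exact ⟨0, by simp⟩
  · exact ⟨1, h.x_mul_t⟩
  · refine ⟨3, ?_⟩
    show x * ((x * x') * (y * (x * x') * y)) = (y * (x * x') * y) * x
    exact aux_x h.x_mul_t h.x_mul_s h.t_comm_s h.t_sq
  · refine ⟨2, ?_⟩
    show x * (y * (x * x') * y) = ((x * x') * (y * (x * x') * y)) * x
    rw [h.x_mul_s, h.t_comm_s]

theorem V_y (i : Fin 4) : ∃ i' : Fin 4, y * a3V x x' y i = a3V x x' y i' * y := by
  fin_cases i
  · exact ⟨0, by simp⟩
  · exact ⟨3, h.y_mul_t⟩
  · refine ⟨2, ?_⟩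
    show y * ((x * x') * (y * (x * x') * y)) = ((x * x') * (y * (x * x') * y)) * y
    exact aux_y h.y_mul_t h.y_mul_s h.t_comm_s
  · exact ⟨1, h.y_mul_s⟩

theorem S_x (j : Fin 6) : ∃ j' : Fin 6, x * a3S x y j = a3S x y j' := by
  fin_cases j
  · exact ⟨1, by simp⟩
  · exact ⟨0, by simpa using h.hx⟩
  · exact ⟨4, rfl⟩
  · refine ⟨5, ?_⟩
    show x * (x * y * x) = y * x
    simp only [mul_assoc, h.hx_t]
  · refine ⟨2, ?_⟩
    show x * (x * y) = y
    simp only [h.hx_t]
  · refine ⟨3, ?_⟩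
    show x * (y * x) = x * y * x
    simp only [mul_assoc]

theorem S_y (j : Fin 6) : ∃ j' : Fin 6, y * a3S x y j = a3S x y j' := by
  fin_cases j
  · exact ⟨2, by simp⟩
  · exact ⟨5, rfl⟩
  · exact ⟨0, by simpa using h.hy⟩
  · refine ⟨4, ?_⟩
    show y * (x * y * x) = x * y
    rw [h.hb]
    simp only [mul_assoc, h.hy_t]
  · refine ⟨3, ?_⟩
    show y * (x * y) = x * y * x
    rw [h.hb]
    simp only [mul_assoc]
  · refine ⟨1, ?_⟩
    show y * (y * x) = x
    simp only [h.hy_t]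

theorem step_t (i : Fin 4) (j : Fin 6) : ∃ (i' : Fin 4) (j' : Fin 6),
    (x * x') * (a3V x x' y i * a3S x y j) = a3V x x' y i' * a3S x y j' := by
  obtain ⟨i', hi'⟩ := h.V_t i
  exact ⟨i', j, by rw [← mul_assoc, hi']⟩

theorem step_x (i : Fin 4) (j : Fin 6) : ∃ (i' : Fin 4) (j' : Fin 6),
    x * (a3V x x' y i * a3S x y j) = a3V x x' y i' * a3S x y j' := by
  obtain ⟨i', hi'⟩ := h.V_x i
  obtain ⟨j', hj'⟩ := h.S_x j
  exact ⟨i', j', by rw [← mul_assoc, hi', mul_assoc, hj']⟩

theorem step_y (i : Fin 4) (j : Fin 6) : ∃ (i' : Fin 4) (j' : Fin 6),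
    y * (a3V x x' y i * a3S x y j) = a3V x x' y i' * a3S x y j' := by
  obtain ⟨i', hi'⟩ := h.V_y i
  obtain ⟨j', hj'⟩ := h.S_y j
  exact ⟨i', j', by rw [← mul_assoc, hi', mul_assoc, hj']⟩

theorem step_x' (i : Fin 4) (j : Fin 6) : ∃ (i' : Fin 4) (j' : Fin 6),
    x' * (a3V x x' y i * a3S x y j) = a3V x x' y i' * a3S x y j' := by
  obtain ⟨i₁, j₁, h₁⟩ := h.step_t i j
  obtain ⟨i₂, j₂, h₂⟩ := h.step_x i₁ j₁
  refine ⟨i₂, j₂, ?_⟩
  rw [← h₂, ← h₁]
  simp only [← mul_assoc, h.hx, one_mul]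

theorem inv_x : x⁻¹ = x := inv_eq_of_mul_eq_one_right h.hx
theorem inv_x' : x'⁻¹ = x' := inv_eq_of_mul_eq_one_right h.hx'
theorem inv_y : y⁻¹ = y := inv_eq_of_mul_eq_one_right h.hy

theorem mem_closure (g : G) (hg : g ∈ Subgroup.closure ({x, x', y} : Set G)) :
    ∃ (i : Fin 4) (j : Fin 6), g = a3V x x' y i * a3S x y j := by
  have hstep : ∀ a ∈ ({x, x', y} : Set G), ∀ (i : Fin 4) (j : Fin 6),
      ∃ (i' : Fin 4) (j' : Fin 6), a * (a3V x x' y i * a3S x y j) =
        a3V x x' y i' * a3S x y j' := by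
    intro a ha i j
    rcases ha with rfl | rfl | rfl
    · exact h.step_x i j
    · exact h.step_x' i j
    · exact h.step_y i j
  have hinv : ∀ a ∈ ({x, x', y} : Set G), a⁻¹ = a := by
    intro a ha
    rcases ha with rfl | rfl | rfl
    · exact h.inv_x
    · exact h.inv_x'
    · exact h.inv_y
  induction hg using Subgroup.closure_induction_left with
  | one => exact ⟨0, 0, by simp⟩
  | mul_left a ha b _ ih =>
    obtain ⟨i, j, rfl⟩ := ih
    obtain ⟨i', j', h'⟩ := hstep a ha i j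
    exact ⟨i', j', h'⟩
  | inv_mul_cancel a ha b _ ih =>
    obtain ⟨i, j, rfl⟩ := ih
    obtain ⟨i', j', h'⟩ := hstep a ha i j
    exact ⟨i', j', by rw [hinv a ha]; exact h'⟩

theorem mem_closure_xy (g : G) (hg : g ∈ Subgroup.closure ({x, y} : Set G)) :
    ∃ j : Fin 6, g = a3S x y j := by
  have hstep : ∀ a ∈ ({x, y} : Set G), ∀ j : Fin 6, ∃ j' : Fin 6, a * a3S x y j = a3S x y j' := by
    intro a ha j
    rcases ha with rfl | rfl
    · exact h.S_x j
    · exact h.S_y j
  have hinv : ∀ a ∈ ({x, y} : Set G), a⁻¹ = a := by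
    intro a ha
    rcases ha with rfl | rfl
    · exact h.inv_x
    · exact h.inv_y
  induction hg using Subgroup.closure_induction_left with
  | one => exact ⟨0, by simp⟩
  | mul_left a ha b _ ih =>
    obtain ⟨j, rfl⟩ := ih
    exact hstep a ha j
  | inv_mul_cancel a ha b _ ih =>
    obtain ⟨j, rfl⟩ := ih
    obtain ⟨j', h'⟩ := hstep a ha j
    exact ⟨j', by rw [hinv a ha]; exact h'⟩

omit h in
theorem a3S_mem_closure (j : Fin 6) : a3S x y j ∈ Subgroup.closure ({x, y} : Set G) := by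
  have hx : x ∈ Subgroup.closure ({x, y} : Set G) := Subgroup.subset_closure (by simp)
  have hy : y ∈ Subgroup.closure ({x, y} : Set G) := Subgroup.subset_closure (by simp)
  fin_cases j
  · exact Subgroup.one_mem _
  · exact hx
  · exact hy
  · exact Subgroup.mul_mem _ (Subgroup.mul_mem _ hx hy) hx
  · exact Subgroup.mul_mem _ hx hy
  · exact Subgroup.mul_mem _ hy hx

end A3Rel

end

end Cfsg.Agent.Lib.Helper90
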