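import Mathlib
import Cfsg.Agent.Lib.Helper90.S4Recog

set_option autoImplicit false

namespace Cfsg.Agent.Lib.Helper90

section
variable {G : Type*} [Group G]

theorem comm_elt_eq {v k c : G} (hv : v * k = c * (k * v)) : v * k * v⁻¹ * k⁻¹ = c := by
  calc v * k * v⁻¹ * k⁻¹ = (v * k) * v⁻¹ * k⁻¹ := rfl
    _ = (c * (k * v)) * v⁻¹ * k⁻¹ := by rw [hv]
    _ = c := by group

/-- abstract relations between `x, y` and the Klein four-group `{1, t, ts, s}`. -/
structure V4S3Rel (x y t s : G) : Prop where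
  ht : t * t = 1
  hs : s * s = 1
  hts : t * s = s * t
  hxt : x * t = t * x
  hxs : x * s = s * t * x
  hyt : y * t = s * y
  hys : y * s = t * y

theorem A3Rel.toV4S3 {x x' y : G} (h : A3Rel x x' y) :
    V4S3Rel x y (x * x') (y * (x * x') * y) :=
  ⟨h.t_sq, h.s_sq, h.t_comm_s, h.x_mul_t, h.x_mul_s, h.y_mul_t, h.y_mul_s⟩

namespace V4S3Rel

variable {x y t s : G} (h : V4S3Rel x y t s)
include h

theorem ht_t (z : G) : t * (t * z) = z := by rw [← mul_assoc, h.ht, one_mul]
theorem hs_t (z : G) : s * (s * z) = z := by rw [← mul_assoc, h.hs, one_mul]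
theorem hts_t (z : G) : t * (s * z) = s * (t * z) := by rw [← mul_assoc, h.hts, mul_assoc]
theorem hxt_t (z : G) : x * (t * z) = t * (x * z) := by rw [← mul_assoc, h.hxt, mul_assoc]
theorem hxs_t (z : G) : x * (s * z) = s * (t * (x * z)) := by
  rw [← mul_assoc, h.hxs]; simp only [mul_assoc]
theorem hyt_t (z : G) : y * (t * z) = s * (y * z) := by rw [← mul_assoc, h.hyt, mul_assoc]
theorem hys_t (z : G) : y * (s * z) = t * (y * z) := by rw [← mul_assoc, h.hys, mul_assoc]

theorem comm_x : s * x = t * (x * s) := by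
  rw [h.hxs]
  simp only [mul_assoc, h.hts_t, h.ht_t]

theorem comm_y : t * y = (t * s) * (y * t) := by
  rw [h.hyt]
  simp only [mul_assoc, h.hs_t]

theorem comm_xyx : t * (x * y * x) = s * ((x * y * x) * t) := by
  simp only [mul_assoc, h.hxt, h.hyt_t, h.hxs_t, h.hs_t]

theorem comm_xy : t * (x * y) = s * ((x * y) * t) := by
  simp only [mul_assoc, h.hyt, h.hxs_t, h.hs_t]

theorem comm_yx : t * (y * x) = (t * s) * ((y * x) * t) := by
  simp only [mul_assoc, h.hxt, h.hyt_t, h.hs_t]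

end V4S3Rel

end

end Cfsg.Agent.Lib.Helper90
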