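import Mathlib
import Cfsg.Agent.Lib.Helper90.S4Recog2

set_option autoImplicit false

namespace Cfsg.Agent.Lib.Helper90

section
variable {G : Type*} [Group G] [Finite G]

/-- Recognition of `S₄`: a group of order at least 24 generated by three involutions satisfying
the Coxeter relations of type `A₃` is isomorphic to the symmetric group of degree 4. -/
theorem a3_recognition {x x' y : G} (h : A3Rel x x' y)
    (hgen : Subgroup.closure ({x, x', y} : Set G) = ⊤) (hcard : 24 ≤ Nat.card G) :
    Nonempty (G ≃* Equiv.Perm (Fin 4)) := by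
  classical
  have h4 := h.toV4S3
  set f : Fin 4 × Fin 6 → G := fun p => a3V x x' y p.1 * a3S x y p.2 with hf
  have hsurj : Function.Surjective f := by
    intro g
    obtain ⟨i, j, hg⟩ := h.mem_closure g (by rw [hgen]; trivial)
    exact ⟨(i, j), hg.symm⟩
  have hc24 : Nat.card (Fin 4 × Fin 6) = 24 := by
    rw [Nat.card_prod, Nat.card_fin, Nat.card_fin]
  have hbij : Function.Bijective f :=
    hsurj.bijective_of_nat_card_le (by rw [hc24]; exact hcard)
  have hinj := hbij.1
  have hcardG : Nat.card G = 24 := by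
    rw [← hc24]
    exact (Nat.card_congr (Equiv.ofBijective f hbij)).symm
  -- the subgroup `S₀ = ⟨x, y⟩`
  set S₀ : Subgroup G := Subgroup.closure ({x, y} : Set G) with hS₀
  have hS₀mem : ∀ g : G, g ∈ S₀ ↔ ∃ j : Fin 6, g = a3S x y j := by
    intro g
    constructor
    · intro hg
      exact h.mem_closure_xy g hg
    · rintro ⟨j, rfl⟩
      exact A3Rel.a3S_mem_closure j
  have hSinj : Function.Injective (a3S x y) := by
    intro j j' hjj
    have : f (0, j) = f (0, j') := by
      show a3V x x' y 0 * a3S x y j = a3V x x' y 0 * a3S x y j'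
      rw [hjj]
    have := hinj this
    exact (Prod.mk.inj this).2
  have hVS : ∀ (i : Fin 4), a3V x x' y i ∈ S₀ → i = 0 := by
    intro i hi
    obtain ⟨j, hj⟩ := (hS₀mem _).mp hi
    have : f (i, 0) = f (0, j) := by
      show a3V x x' y i * a3S x y 0 = a3V x x' y 0 * a3S x y j
      rw [a3S_zero, a3V_zero, mul_one, one_mul, hj]
    have := hinj this
    exact (Prod.mk.inj this).1
  have hcardS : Nat.card S₀ = 6 := by
    have e : Fin 6 ≃ S₀ := Equiv.ofBijective
      (fun j => (⟨a3S x y j, (hS₀mem _).mpr ⟨j, rfl⟩⟩ : S₀)) ⟨by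
        intro j j' hjj
        exact hSinj (congrArg Subtype.val hjj), by
        rintro ⟨g, hg⟩
        obtain ⟨j, rfl⟩ := (hS₀mem _).mp hg
        exact ⟨j, rfl⟩⟩
    rw [← Nat.card_congr e, Nat.card_fin]
  have hindex : S₀.index = 4 := by
    have := S₀.card_mul_index
    rw [hcardS, hcardG] at this
    omega
  -- the core of `S₀` is trivial
  have hcore : S₀.normalCore = ⊥ := by
    rw [eq_bot_iff]
    intro k hk
    rw [Subgroup.mem_bot]
    have hkS : k ∈ S₀ := Subgroup.normalCore_le S₀ hk
    have key : ∀ (v c : G) (i : Fin 4), i ≠ 0 → c = a3V x x' y i → v * k = c * (k * v) → False := by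
      intro v c i hi hci hv
      have h1 : v * k * v⁻¹ ∈ S₀ := hk v
      have h2 : v * k * v⁻¹ * k⁻¹ ∈ S₀ := S₀.mul_mem h1 (S₀.inv_mem hkS)
      rw [comm_elt_eq hv, hci] at h2
      exact hi (hVS i h2)
    obtain ⟨j, rfl⟩ := (hS₀mem _).mp hkS
    fin_cases j
    · rfl
    · exfalso
      exact key (y * (x * x') * y) (x * x') 1 (by decide) rfl h4.comm_x
    · exfalso
      exact key (x * x') ((x * x') * (y * (x * x') * y)) 2 (by decide) rfl h4.comm_y
    · exfalso
      exact key (x * x') (y * (x * x') * y) 3 (by decide) rfl h4.comm_xyx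
    · exfalso
      exact key (x * x') (y * (x * x') * y) 3 (by decide) rfl h4.comm_xy
    · exfalso
      exact key (x * x') ((x * x') * (y * (x * x') * y)) 2 (by decide) rfl h4.comm_yx
  -- the action on the cosets of `S₀`
  set φ : G →* Equiv.Perm (G ⧸ S₀) := MulAction.toPermHom G (G ⧸ S₀) with hφ
  have hker : φ.ker = ⊥ := by rw [hφ, ← Subgroup.normalCore_eq_ker, hcore]
  have hφinj : Function.Injective φ := (MonoidHom.ker_eq_bot_iff φ).mp hker
  have hq : Nat.card (G ⧸ S₀) = 4 := by rw [← Subgroup.index_eq_card]; exact hindex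
  have e : (G ⧸ S₀) ≃ Fin 4 := (Finite.equivFin (G ⧸ S₀)).trans (finCongr hq)
  set ψ : G →* Equiv.Perm (Fin 4) := (e.permCongrHom : _ →* _).comp φ with hψ
  have hψinj : Function.Injective ψ := by
    rw [hψ]
    exact e.permCongrHom.injective.comp hφinj
  have hcP : Nat.card (Equiv.Perm (Fin 4)) = 24 := by
    rw [Nat.card_eq_fintype_card, Fintype.card_perm, Fintype.card_fin]
    rfl
  have hψbij : Function.Bijective ψ :=
    hψinj.bijective_of_nat_card_le (by rw [hcP, hcardG])
  exact ⟨MulEquiv.ofBijective ψ hψbij⟩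

end

end Cfsg.Agent.Lib.Helper90
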