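import Mathlib
import Cfsg.Prelude.Def_Transfer
import Cfsg.Agent.Lib.Helper90.FpfInv

set_option autoImplicit false

namespace Cfsg.Agent.Lib.Helper90

section

variable {G : Type*} [Group G] [Finite G]

/-- If there is no elementary abelian subgroup of order `8`, every elementary abelian `2`-subgroup
has order at most `4`. -/
theorem rank_of_no_E8 (hno : ¬ ∃ E : Subgroup G, Cfsg.IsElementaryAbelian 2 E ∧ Nat.card E = 8)
    (A : Subgroup G) (hcomm : ∀ a ∈ A, ∀ b ∈ A, a * b = b * a) (hsq : ∀ a ∈ A, a * a = 1) :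
    Nat.card A ≤ 4 := by
  by_contra hcon
  push Not at hcon
  haveI : Fact (Nat.Prime 2) := ⟨Nat.prime_two⟩
  have hA : IsPGroup 2 ↥A := by
    intro g
    refine ⟨1, ?_⟩
    apply Subtype.ext
    show ((g ^ 2 ^ 1 : ↥A) : G) = 1
    rw [pow_one, pow_two]
    exact hsq g.1 g.2
  obtain ⟨k, hk⟩ := IsPGroup.iff_card.mp hA
  have hk3 : 3 ≤ k := by
    by_contra h3
    push Not at h3
    have : 2 ^ k ≤ 2 ^ 2 := Nat.pow_le_pow_right (by norm_num) (by omega)
    omega
  have hdvd : 2 ^ 3 ∣ Nat.card ↥A := by rw [hk]; exact pow_dvd_pow 2 hk3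
  obtain ⟨K, hK⟩ := Sylow.exists_subgroup_card_pow_prime 2 hdvd
  apply hno
  refine ⟨K.map A.subtype, ⟨?_, ?_⟩, ?_⟩
  · refine ⟨⟨fun a b => ?_⟩⟩
    obtain ⟨a', _, ha'⟩ := a.2
    obtain ⟨b', _, hb'⟩ := b.2
    apply Subtype.ext
    show (a : G) * b = b * a
    rw [← ha', ← hb']
    exact hcomm _ a'.2 _ b'.2
  · rintro a ⟨a', _, rfl⟩
    rw [pow_two]
    exact hsq _ a'.2
  · rw [Subgroup.card_subtype, hK]; norm_num

/-- An involution commuting with an elementary abelian subgroup `W` of order `4` lies in `W`, when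
the rank is at most two. -/
theorem mem_of_commute_of_rank
    (hrank : ∀ A : Subgroup G, (∀ a ∈ A, ∀ b ∈ A, a * b = b * a) → (∀ a ∈ A, a * a = 1) →
      Nat.card A ≤ 4)
    (W : Subgroup G) (hWc : ∀ a ∈ W, ∀ b ∈ W, a * b = b * a) (hW2 : ∀ a ∈ W, a * a = 1)
    (hW4 : Nat.card W = 4) (t : G) (ht2 : t * t = 1) (htW : ∀ w ∈ W, t * w = w * t) : t ∈ W := by
  by_contra htn
  have hWle : W ≤ Subgroup.centralizer (W : Set G) := by
    intro w hw
    rw [Subgroup.mem_centralizer_iff]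
    intro h hh
    exact hWc h hh w hw
  obtain ⟨E, _, hEc, hE2, _, hEcard, _⟩ :=
    exists_ext_central (Subgroup.centralizer (W : Set G)) W hWle hW2
      (fun y hy x hx => ((Subgroup.mem_centralizer_iff.mp hx) y hy).symm) t
      (by
        rw [Subgroup.mem_centralizer_iff]
        intro h hh
        exact (htW h hh).symm) ht2
  have := hrank E hEc hE2
  rw [hEcard htn, hW4] at this
  omega

/-- `Ω₁(Z(Q))`: the central elements of `Q` of order at most two. -/
def omegaCenter (Q : Subgroup G) : Subgroup G where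
  carrier := {x | x ∈ Q ∧ (∀ y ∈ Q, y * x = x * y) ∧ x * x = 1}
  one_mem' := ⟨Q.one_mem, fun y _ => by group, by group⟩
  mul_mem' := by
    rintro a b ⟨ha, hac, ha2⟩ ⟨hb, hbc, hb2⟩
    refine ⟨Q.mul_mem ha hb, ?_, ?_⟩
    · intro y hy
      calc y * (a * b) = (y * a) * b := by group
        _ = (a * y) * b := by rw [hac y hy]
        _ = a * (y * b) := by group
        _ = a * (b * y) := by rw [hbc y hy]
        _ = a * b * y := by group
    · calc a * b * (a * b) = a * (b * a) * b := by group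
        _ = a * (a * b) * b := by rw [hac b hb]
        _ = (a * a) * (b * b) := by group
        _ = 1 := by rw [ha2, hb2, mul_one]
  inv_mem' := by
    rintro a ⟨ha, hac, ha2⟩
    have hinv : a⁻¹ = a := inv_eq_of_mul_eq_one_left ha2
    rw [hinv]
    exact ⟨ha, hac, ha2⟩

theorem mem_omegaCenter (Q : Subgroup G) (x : G) :
    x ∈ omegaCenter Q ↔ (x ∈ Q ∧ (∀ y ∈ Q, y * x = x * y) ∧ x * x = 1) := Iff.rfl

theorem omegaCenter_conj (Q : Subgroup G) [Q.Normal] {x : G} (hx : x ∈ omegaCenter Q) (g : G) :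
    g * x * g⁻¹ ∈ omegaCenter Q := by
  obtain ⟨hxQ, hxc, hx2⟩ := hx
  refine ⟨Subgroup.Normal.conj_mem inferInstance x hxQ g, ?_, ?_⟩
  · intro y hy
    have hy' : g⁻¹ * y * g⁻¹⁻¹ ∈ Q := Subgroup.Normal.conj_mem inferInstance y hy g⁻¹
    have e := hxc _ hy'
    calc y * (g * x * g⁻¹) = g * ((g⁻¹ * y * g⁻¹⁻¹) * x) * g⁻¹ := by group
      _ = g * (x * (g⁻¹ * y * g⁻¹⁻¹)) * g⁻¹ := by rw [e]
      _ = g * x * g⁻¹ * y := by group
  · calc g * x * g⁻¹ * (g * x * g⁻¹) = g * (x * x) * g⁻¹ := by group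
      _ = 1 := by rw [hx2]; group

/-- Fixed point trick: for an involution `w` normalizing the elementary abelian group `Z`, every
nontrivial `u ∈ Z` yields a nontrivial element of `Z` commuting with `w`, which moreover commutes
with everything that commutes with both `u` and `w`. -/
theorem exists_fixed_of_involution (Z : Subgroup G) (hZc : ∀ a ∈ Z, ∀ b ∈ Z, a * b = b * a)
    (hZ2 : ∀ a ∈ Z, a * a = 1) (w : G) (hw2 : w * w = 1) (hwZ : ∀ a ∈ Z, w * a * w⁻¹ ∈ Z)
    (u : G) (hu : u ∈ Z) (hu1 : u ≠ 1) :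
    ∃ u' ∈ Z, u' ≠ 1 ∧ w * u' = u' * w ∧ ∀ y : G, y * u = u * y → y * w = w * y →
      y * u' = u' * y := by
  have hwinv : w⁻¹ = w := inv_eq_of_mul_eq_one_left hw2
  by_cases hfix : w * u = u * w
  · exact ⟨u, hu, hu1, hfix, fun y hyu _ => hyu⟩
  · refine ⟨u * (w * u * w⁻¹), Z.mul_mem hu (hwZ u hu), ?_, ?_, ?_⟩
    · intro h1
      apply hfix
      have huinv : u⁻¹ = u := inv_eq_of_mul_eq_one_left (hZ2 u hu)
      have h2 : w * u * w⁻¹ = u := by
        calc w * u * w⁻¹ = u⁻¹ * (u * (w * u * w⁻¹)) := by group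
          _ = u⁻¹ := by rw [h1, mul_one]
          _ = u := huinv
      calc w * u = (w * u * w⁻¹) * w := by group
        _ = u * w := by rw [h2]
    · have e := hZc u hu _ (hwZ u hu)
      calc w * (u * (w * u * w⁻¹)) = (w * u * w⁻¹) * (w * w) * u * w⁻¹ := by group
        _ = (w * u * w⁻¹) * u * w⁻¹ := by rw [hw2, mul_one]
        _ = (u * (w * u * w⁻¹)) * w⁻¹ := by rw [e]
        _ = (u * (w * u * w⁻¹)) * w := by rw [hwinv]
    · intro y hyu hyw
      have hyw' : y * w⁻¹ = w⁻¹ * y := by rw [hwinv]; exact hyw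
      calc y * (u * (w * u * w⁻¹)) = (y * u) * (w * u * w⁻¹) := by group
        _ = (u * y) * (w * u * w⁻¹) := by rw [hyu]
        _ = u * ((y * w) * u * w⁻¹) := by group
        _ = u * ((w * y) * u * w⁻¹) := by rw [hyw]
        _ = u * (w * (y * u) * w⁻¹) := by group
        _ = u * (w * (u * y) * w⁻¹) := by rw [hyu]
        _ = u * (w * u * (y * w⁻¹)) := by group
        _ = u * (w * u * (w⁻¹ * y)) := by rw [hyw']
        _ = u * (w * u * w⁻¹) * y := by group

end

end Cfsg.Agent.Lib.Helper90
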