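import Mathlib
import Cfsg.Agent.Lib.Helper90.SixA

set_option autoImplicit false

namespace Cfsg.Agent.Lib.Helper90

section

variable {G : Type*} [Group G] [Finite G]

/-- A four-group `W = {1, z, z', z z'}` with `z' = d z d⁻¹`, permuted cyclically by `d`. -/
structure FourData (d : G) (W : Subgroup G) (z : G) : Prop where
  zW : z ∈ W
  z1 : z ≠ 1
  z2 : z * z = 1
  comm : ∀ a ∈ W, ∀ b ∈ W, a * b = b * a
  sq : ∀ a ∈ W, a * a = 1
  z'z : d * z * d⁻¹ ≠ z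
  cyc : d * (d * z * d⁻¹) * d⁻¹ = z * (d * z * d⁻¹)
  all : ∀ t ∈ W, t = 1 ∨ t = z ∨ t = d * z * d⁻¹ ∨ t = z * (d * z * d⁻¹)
  card : Nat.card W = 4
  norm : d ∈ Subgroup.normalizer (W : Set G)

theorem exists_fourData
    (hrank : ∀ A : Subgroup G, (∀ a ∈ A, ∀ b ∈ A, a * b = b * a) → (∀ a ∈ A, a * a = 1) →
      Nat.card A ≤ 4)
    (d : G) (W : Subgroup G) (hWc : ∀ a ∈ W, ∀ b ∈ W, a * b = b * a) (hW2 : ∀ a ∈ W, a * a = 1)
    (hW1 : W ≠ ⊥) (hdW : d ∈ Subgroup.normalizer (W : Set G))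
    (hfpf : ∀ x ∈ W, d * x = x * d → x = 1) : ∃ z, FourData d W z := by
  have hWp : IsPGroup 2 ↥W := by
    intro g
    refine ⟨1, ?_⟩
    apply Subtype.ext
    show ((g ^ 2 ^ 1 : ↥W) : G) = 1
    rw [pow_one, pow_two]
    exact hW2 g.1 g.2
  have hdata : FpfData d W :=
    { pgroup := hWp
      norm := hdW
      fpf := hfpf
      rank := fun A _ h1 h2 => hrank A h1 h2 }
  obtain ⟨z, hzW, hz1, hz2, _, hz'z, hcyc, hall⟩ := hdata.involutions hW1
  refine ⟨z, hzW, hz1, hz2, hWc, hW2, hz'z, hcyc, fun t ht => hall t ht (hW2 t ht), ?_, hdW⟩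
  -- the cardinality
  have hz'W : d * z * d⁻¹ ∈ W := hdata.conj_mem hzW
  have hle : Subgroup.zpowers z ≤ W := by rw [Subgroup.zpowers_le]; exact hzW
  have hne : Subgroup.zpowers z ≠ W := by
    intro heq
    have : d * z * d⁻¹ ∈ Subgroup.zpowers z := by rw [heq]; exact hz'W
    obtain ⟨k, hk⟩ := Subgroup.mem_zpowers_iff.mp this
    -- `z ^ k` is `1` or `z`
    rcases Int.emod_two_eq_zero_or_one k with h0 | h1
    · have hk2 : k = 2 * (k / 2) := by omega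
      have : z ^ k = 1 := by
        rw [hk2, zpow_mul, zpow_ofNat, pow_two, hz2, one_zpow]
      rw [this] at hk
      apply hz1
      calc z = d⁻¹ * (d * z * d⁻¹) * d := by group
        _ = 1 := by rw [← hk]; group
    · have hk2 : k = 2 * (k / 2) + 1 := by omega
      have : z ^ k = z := by
        rw [hk2, zpow_add, zpow_mul, zpow_ofNat, pow_two, hz2, one_zpow, one_mul, zpow_one]
      rw [this] at hk
      exact hz'z hk.symm
  have hord : orderOf z = 2 := by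
    haveI : Fact (Nat.Prime 2) := ⟨Nat.prime_two⟩
    apply orderOf_eq_prime
    · rw [pow_two]; exact hz2
    · exact hz1
  have h1 := two_mul_card_le_of_lt (lt_of_le_of_ne hle hne)
  rw [Nat.card_zpowers, hord] at h1
  have h2 := hrank W hWc hW2
  omega

namespace FourData

variable {d : G} {W : Subgroup G} {z : G}

theorem z'W (h : FourData d W z) : d * z * d⁻¹ ∈ W :=
  (Subgroup.mem_normalizer_iff.mp h.norm z).mp h.zW

theorem z'2 (h : FourData d W z) : (d * z * d⁻¹) * (d * z * d⁻¹) = 1 := h.sq _ h.z'W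

theorem z'1 (h : FourData d W z) : d * z * d⁻¹ ≠ 1 := by
  intro h1
  apply h.z1
  calc z = d⁻¹ * (d * z * d⁻¹) * d := by group
    _ = 1 := by rw [h1]; group

theorem cyc' (h : FourData d W z) : d * (z * (d * z * d⁻¹)) * d⁻¹ = z := by
  have hzz' : (d * z * d⁻¹) * z = z * (d * z * d⁻¹) := h.comm _ h.z'W _ h.zW
  calc d * (z * (d * z * d⁻¹)) * d⁻¹ = (d * z * d⁻¹) * (d * (d * z * d⁻¹) * d⁻¹) := by group
    _ = (d * z * d⁻¹) * (z * (d * z * d⁻¹)) := by rw [h.cyc]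
    _ = ((d * z * d⁻¹) * z) * (d * z * d⁻¹) := by group
    _ = (z * (d * z * d⁻¹)) * (d * z * d⁻¹) := by rw [hzz']
    _ = z * ((d * z * d⁻¹) * (d * z * d⁻¹)) := by group
    _ = z := by rw [h.z'2, mul_one]

/-- A `d`-invariant subgroup meeting `W` nontrivially contains `W`. -/
theorem le_of_mem (h : FourData d W z) (S : Subgroup G) (hS : ∀ x ∈ S, d * x * d⁻¹ ∈ S)
    (u : G) (huS : u ∈ S) (huW : u ∈ W) (hu1 : u ≠ 1) : W ≤ S := by
  have hzS : z ∈ S := by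
    rcases h.all u huW with h1 | h1 | h1 | h1
    · exact absurd h1 hu1
    · rw [← h1]; exact huS
    · have h2 := hS _ (hS u huS)
      rw [h1, h.cyc, h.cyc'] at h2
      exact h2
    · have h2 := hS u huS
      rw [h1, h.cyc'] at h2
      exact h2
  have hz'S : d * z * d⁻¹ ∈ S := hS z hzS
  intro t ht
  rcases h.all t ht with h1 | h1 | h1 | h1 <;> rw [h1]
  · exact S.one_mem
  · exact hzS
  · exact hz'S
  · exact S.mul_mem hzS hz'S

/-- An element commuting with `z` and `d z d⁻¹` centralizes `W`. -/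
theorem commute_all (h : FourData d W z) (y : G) (hy1 : y * z = z * y)
    (hy2 : y * (d * z * d⁻¹) = (d * z * d⁻¹) * y) : ∀ w ∈ W, y * w = w * y := by
  intro w hw
  rcases h.all w hw with h1 | h1 | h1 | h1 <;> rw [h1]
  · group
  · exact hy1
  · exact hy2
  · calc y * (z * (d * z * d⁻¹)) = (y * z) * (d * z * d⁻¹) := by group
      _ = (z * y) * (d * z * d⁻¹) := by rw [hy1]
      _ = z * (y * (d * z * d⁻¹)) := by group
      _ = z * ((d * z * d⁻¹) * y) := by rw [hy2]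
      _ = z * (d * z * d⁻¹) * y := by group

/-- `W = Ω₁(Z(Q))` for a nontrivial normal `2`-subgroup `Q`, when the rank is at most two. -/
theorem eq_omegaCenter (h : FourData d W z)
    (hrank : ∀ A : Subgroup G, (∀ a ∈ A, ∀ b ∈ A, a * b = b * a) → (∀ a ∈ A, a * a = 1) →
      Nat.card A ≤ 4)
    (Q : Subgroup G) [Q.Normal] (hQ : IsPGroup 2 Q) (hQ1 : Q ≠ ⊥) : W = omegaCenter Q := by
  set Z := omegaCenter Q with hZ
  have hZc : ∀ a ∈ Z, ∀ b ∈ Z, a * b = b * a := by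
    rintro a ⟨haQ, _, _⟩ b ⟨_, hbc, _⟩
    exact hbc a haQ
  have hZ2 : ∀ a ∈ Z, a * a = 1 := fun a ha => ha.2.2
  obtain ⟨u₀, hu₀Q, hu₀1, hu₀2, hu₀c⟩ := exists_central_involution Q hQ hQ1
  have hu₀Z : u₀ ∈ Z := ⟨hu₀Q, hu₀c, hu₀2⟩
  have hnormZ : ∀ (w : G), ∀ a ∈ Z, w * a * w⁻¹ ∈ Z := fun w a ha => omegaCenter_conj Q ha w
  obtain ⟨u₁, hu₁Z, hu₁1, hu₁z, _⟩ :=
    exists_fixed_of_involution Z hZc hZ2 z h.z2 (hnormZ z) u₀ hu₀Z hu₀1
  obtain ⟨u₂, hu₂Z, hu₂1, hu₂z', hu₂c⟩ :=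
    exists_fixed_of_involution Z hZc hZ2 (d * z * d⁻¹) h.z'2 (hnormZ _) u₁ hu₁Z hu₁1
  have hzz' : z * (d * z * d⁻¹) = (d * z * d⁻¹) * z := h.comm _ h.zW _ h.z'W
  have hu₂z : z * u₂ = u₂ * z := hu₂c z hu₁z hzz'
  have hu₂W : u₂ ∈ W := by
    apply mem_of_commute_of_rank hrank W h.comm h.sq h.card u₂ (hZ2 u₂ hu₂Z)
    intro w hw
    exact (h.commute_all u₂ hu₂z.symm hu₂z'.symm w hw)
  have hWZ : W ≤ Z := h.le_of_mem Z (fun x hx => hnormZ d x hx) u₂ hu₂Z hu₂W hu₂1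
  apply le_antisymm hWZ
  intro u hu
  apply mem_of_commute_of_rank hrank W h.comm h.sq h.card u (hZ2 u hu)
  intro w hw
  exact hZc u hu w (hWZ hw)

end FourData

end

end Cfsg.Agent.Lib.Helper90
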