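import Mathlib
import Cfsg.Agent.Lib.Helper90.SixB
import Cfsg.Agent.Lib.Helper90.FpfEnd

set_option autoImplicit false

namespace Cfsg.Agent.Lib.Helper90

section

variable {G : Type*} [Group G] [Finite G]

namespace FourData

variable {d : G} {W : Subgroup G} {z : G}

/-- An element `c` with `c³ = 1` commuting with an involution `t` centralizes the normal four-group
`W` (when the rank is at most two). -/
theorem order_three_centralizes (h : FourData d W z)
    (hrank : ∀ A : Subgroup G, (∀ a ∈ A, ∀ b ∈ A, a * b = b * a) → (∀ a ∈ A, a * a = 1) →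
      Nat.card A ≤ 4)
    (hWn : ∀ g : G, ∀ w ∈ W, g * w * g⁻¹ ∈ W) (c t : G) (hc3 : c ^ 3 = 1) (ht2 : t * t = 1)
    (ht1 : t ≠ 1) (hct : c * t = t * c) : ∀ w ∈ W, c * w = w * c := by
  have hcard : Nat.card W ≤ 4 := le_of_eq h.card
  -- Step 1: a nontrivial element of `W` fixed by `c`
  have hf : ∃ f ∈ W, f ≠ 1 ∧ c * f = f * c := by
    by_cases htW : ∀ w ∈ W, t * w = w * t
    · exact ⟨t, mem_of_commute_of_rank hrank W h.comm h.sq h.card t ht2 htW, ht1, hct⟩
    · push Not at htW
      obtain ⟨w₀, hw₀W, hw₀⟩ := htW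
      obtain ⟨f₀, hf₀W, hf₀1, hf₀t, _⟩ :=
        exists_fixed_of_involution W h.comm h.sq t ht2 (hWn t) z h.zW h.z1
      refine ⟨f₀, hf₀W, hf₀1, ?_⟩
      have hf₁W : c * f₀ * c⁻¹ ∈ W := hWn c f₀ hf₀W
      have hf₁1 : c * f₀ * c⁻¹ ≠ 1 := by
        intro h1
        apply hf₀1
        calc f₀ = c⁻¹ * (c * f₀ * c⁻¹) * c := by group
          _ = 1 := by rw [h1]; group
      have hct' : t * c⁻¹ = c⁻¹ * t := by
        calc t * c⁻¹ = c⁻¹ * (c * t) * c⁻¹ := by group
          _ = c⁻¹ * (t * c) * c⁻¹ := by rw [hct]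
          _ = c⁻¹ * t := by group
      have hf₁t : t * (c * f₀ * c⁻¹) = (c * f₀ * c⁻¹) * t := by
        calc t * (c * f₀ * c⁻¹) = (t * c) * f₀ * c⁻¹ := by group
          _ = (c * t) * f₀ * c⁻¹ := by rw [hct]
          _ = c * (t * f₀) * c⁻¹ := by group
          _ = c * (f₀ * t) * c⁻¹ := by rw [hf₀t]
          _ = c * f₀ * (t * c⁻¹) := by group
          _ = c * f₀ * (c⁻¹ * t) := by rw [hct']
          _ = (c * f₀ * c⁻¹) * t := by group
      by_contra hne
      have hne' : c * f₀ * c⁻¹ ≠ f₀ := by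
        intro heq
        apply hne
        calc c * f₀ = (c * f₀ * c⁻¹) * c := by group
          _ = f₀ * c := by rw [heq]
      apply hw₀
      rcases ClassTwo.four_elements W h.sq h.comm hcard hf₀W hf₁W hf₀1 hf₁1 hne' w₀ hw₀W with
        h1 | h1 | h1 | h1 <;> rw [h1]
      · group
      · exact hf₀t
      · exact hf₁t
      · calc t * (f₀ * (c * f₀ * c⁻¹)) = (t * f₀) * (c * f₀ * c⁻¹) := by group
          _ = (f₀ * t) * (c * f₀ * c⁻¹) := by rw [hf₀t]
          _ = f₀ * (t * (c * f₀ * c⁻¹)) := by group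
          _ = f₀ * ((c * f₀ * c⁻¹) * t) := by rw [hf₁t]
          _ = f₀ * (c * f₀ * c⁻¹) * t := by group
  obtain ⟨f, hfW, hf1, hcf⟩ := hf
  have hcinv : c⁻¹ = c * c := by
    have : c * c * c = 1 := by rw [← hc3, pow_succ, pow_two]
    calc c⁻¹ = c⁻¹ * (c * c * c) := by rw [this, mul_one]
      _ = c * c := by group
  -- Step 2: a second generator
  have hh : ∃ k ∈ W, k ≠ 1 ∧ k ≠ f := by
    by_cases hzf : z = f
    · exact ⟨d * z * d⁻¹, h.z'W, h.z'1, fun heq => h.z'z (heq.trans hzf.symm)⟩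
    · exact ⟨z, h.zW, h.z1, hzf⟩
  obtain ⟨k, hkW, hk1, hkf⟩ := hh
  have hfour := ClassTwo.four_elements W h.sq h.comm hcard hfW hkW hf1 hk1 hkf
  have hck : c * k = k * c := by
    have hkW' : c * k * c⁻¹ ∈ W := hWn c k hkW
    have hcf' : c * f * c⁻¹ = f := by
      calc c * f * c⁻¹ = (c * f) * c⁻¹ := by group
        _ = (f * c) * c⁻¹ := by rw [hcf]
        _ = f := by group
    rcases hfour _ hkW' with h1 | h1 | h1 | h1
    · exfalso
      apply hk1
      calc k = c⁻¹ * (c * k * c⁻¹) * c := by group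
        _ = 1 := by rw [h1]; group
    · exfalso
      apply hkf
      calc k = c⁻¹ * (c * k * c⁻¹) * c := by group
        _ = c⁻¹ * f * c := by rw [h1]
        _ = c⁻¹ * (c * f * c⁻¹) * c := by rw [hcf']
        _ = f := by group
    · calc c * k = (c * k * c⁻¹) * c := by group
        _ = k * c := by rw [h1]
    · exfalso
      -- then `c² k c⁻² = k`, so `c k c⁻¹ = k`
      have h2 : c * (c * k * c⁻¹) * c⁻¹ = k := by
        rw [h1]
        calc c * (f * k) * c⁻¹ = (c * f * c⁻¹) * (c * k * c⁻¹) := by group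
          _ = f * (f * k) := by rw [hcf', h1]
          _ = (f * f) * k := by group
          _ = k := by rw [h.sq f hfW, one_mul]
      have h3 : c * k * c⁻¹ = k := by
        have e : c * (c * k * c⁻¹) * c⁻¹ = c⁻¹ * k * c := by
          rw [hcinv]
          have hc3' : c * c * c = 1 := by rw [← hc3, pow_succ, pow_two]
          calc c * (c * k * (c * c)) * (c * c) = (c * c) * k * ((c * c * c) * c) := by group
            _ = (c * c) * k * c := by rw [hc3', one_mul]
        rw [e] at h2
        calc c * k * c⁻¹ = c * (c⁻¹ * k * c) * c⁻¹ := by rw [h2]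
          _ = k := by group
      apply hf1
      rw [h3] at h1
      calc f = (f * k) * k⁻¹ := by group
        _ = k * k⁻¹ := by rw [← h1]
        _ = 1 := by group
  intro w hw
  rcases hfour w hw with h1 | h1 | h1 | h1 <;> rw [h1]
  · group
  · exact hcf
  · exact hck
  · calc c * (f * k) = (c * f) * k := by group
      _ = (f * c) * k := by rw [hcf]
      _ = f * (c * k) := by group
      _ = f * (k * c) := by rw [hck]
      _ = f * k * c := by group

end FourData

end

end Cfsg.Agent.Lib.Helper90
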