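import Mathlib
import Cfsg.Agent.Lib.Helper90.SixB
import Cfsg.Agent.Lib.Helper90.FpfCore

set_option autoImplicit false

namespace Cfsg.Agent.Lib.Helper90

section

variable {G : Type*} [Group G] [Finite G]

namespace FourData

variable {d : G} {W : Subgroup G} {z : G}

/-- Case `d³ ≠ 1`: `d³` centralizes every `d`-invariant subgroup of the `2`-group `Q` centralizing
`W`. -/
theorem cube_centralizes_of_le (h : FourData d W z)
    (hrank : ∀ A : Subgroup G, (∀ a ∈ A, ∀ b ∈ A, a * b = b * a) → (∀ a ∈ A, a * a = 1) →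
      Nat.card A ≤ 4)
    (Q : Subgroup G) (hQ : IsPGroup 2 Q) (hQW : ∀ x ∈ Q, ∀ w ∈ W, x * w = w * x)
    (n : ℕ) (hd : orderOf d = 3 ^ n) (R : Subgroup G) (hRQ : R ≤ Q)
    (hdR : d ∈ Subgroup.normalizer (R : Set G)) : ∀ x ∈ R, d ^ 3 * x = x * d ^ 3 := by
  induction hk : Nat.card R using Nat.strong_induction_on generalizing R with
  | _ k ih =>
  by_contra hcon
  push Not at hcon
  obtain ⟨x₀, hx₀R, hx₀⟩ := hcon
  have IH : ∀ Q' : Subgroup G, Q' < R → d ∈ Subgroup.normalizer (Q' : Set G) →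
      ∀ x ∈ Q', d ^ 3 * x = x * d ^ 3 := by
    intro Q' hQ' hdQ'
    have hlt : Nat.card Q' < k := by
      have := two_mul_card_le_of_lt hQ'
      have hpos : 0 < Nat.card Q' := Nat.card_pos
      omega
    exact ih (Nat.card Q') hlt Q' (hQ'.le.trans hRQ) hdQ' rfl
  have hall : ∀ t ∈ R, t * t = 1 →
      t = 1 ∨ t = z ∨ t = d * z * d⁻¹ ∨ t = z * (d * z * d⁻¹) := by
    intro t ht ht2
    apply h.all
    exact mem_of_commute_of_rank hrank W h.comm h.sq h.card t ht2 (hQW t (hRQ ht))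
  exact core_contra n hd R (hQ.to_le hRQ) hdR IH x₀ hx₀R hx₀ z h.z2
    (h.comm _ h.z'W _ h.zW) h.cyc hall

/-- Case `d³ ≠ 1` is impossible when `C_G(Q) ≤ Q`. -/
theorem cube_eq_one (h : FourData d W z)
    (hrank : ∀ A : Subgroup G, (∀ a ∈ A, ∀ b ∈ A, a * b = b * a) → (∀ a ∈ A, a * a = 1) →
      Nat.card A ≤ 4)
    (Q : Subgroup G) [Q.Normal] (hQ : IsPGroup 2 Q) (hQW : ∀ x ∈ Q, ∀ w ∈ W, x * w = w * x)
    (hchar : Subgroup.centralizer (Q : Set G) ≤ Q)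
    (n : ℕ) (hd : orderOf d = 3 ^ n) : d ^ 3 = 1 := by
  have hdQ : d ∈ Subgroup.normalizer (Q : Set G) := by
    rw [Subgroup.normalizer_eq_top]; exact Subgroup.mem_top d
  have hcen := h.cube_centralizes_of_le hrank Q hQ hQW n hd Q le_rfl hdQ
  have hbQ : d ^ 3 ∈ Q := by
    apply hchar
    rw [Subgroup.mem_centralizer_iff]
    intro x hx
    exact (hcen x hx).symm
  obtain ⟨j, hj⟩ := hQ ⟨d ^ 3, hbQ⟩
  have h2 : (d ^ 3) ^ (2 ^ j) = 1 := by
    have := congrArg (fun t : ↥Q => (t : G)) hj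
    simpa using this
  have h3 : (d ^ 3) ^ (3 ^ n) = 1 := by
    rw [← pow_mul, mul_comm, pow_mul, ← hd, pow_orderOf_eq_one, one_pow]
  have ho1 : orderOf (d ^ 3) ∣ 3 ^ n := orderOf_dvd_of_pow_eq_one h3
  have ho2 : orderOf (d ^ 3) ∣ 2 ^ j := orderOf_dvd_of_pow_eq_one h2
  have hcop : Nat.Coprime (2 ^ j) (3 ^ n) := Nat.Coprime.pow _ _ (by norm_num)
  have ho : orderOf (d ^ 3) = 1 := Nat.eq_one_of_dvd_coprimes hcop ho2 ho1
  exact orderOf_eq_one_iff.mp ho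

end FourData

end

end Cfsg.Agent.Lib.Helper90
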