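import Mathlib
import Cfsg.Agent.S0058
import Cfsg.Agent.Lib.Helper90.SixB

set_option autoImplicit false

namespace Cfsg.Agent.Lib.Helper90

section

variable {G : Type*} [Group G]

theorem exists_pow_pow_eq {x : G} (hx3 : x ^ 3 = 1) (i : ℕ) (hi : ¬ 3 ∣ i) :
    ∃ k : ℕ, (x ^ i) ^ k = x := by
  have hmod : x ^ i = x ^ (i % 3) := pow_eq_pow_mod i hx3
  have h3 : i % 3 = 1 ∨ i % 3 = 2 := by omega
  rcases h3 with h1 | h2
  · refine ⟨1, ?_⟩
    rw [hmod, h1, pow_one, pow_one]
  · refine ⟨2, ?_⟩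
    rw [hmod, h2, ← pow_mul]
    calc x ^ (2 * 2) = x ^ 3 * x := by rw [pow_succ]
      _ = x := by rw [hx3, one_mul]

theorem closure_pair_form {a d : G} (had : a * d = d * a) (ha3 : a ^ 3 = 1) (hd3 : d ^ 3 = 1) :
    ∀ x ∈ Subgroup.closure ({a, d} : Set G), ∃ i j : ℕ, x = a ^ i * d ^ j := by
  have hc : Commute a d := had
  intro x hx
  induction hx using Subgroup.closure_induction with
  | mem y hy =>
    rcases hy with rfl | hy
    · exact ⟨1, 0, by simp⟩
    · rw [Set.mem_singleton_iff] at hy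
      subst hy
      exact ⟨0, 1, by simp⟩
  | one => exact ⟨0, 0, by simp⟩
  | mul y y' _ _ ih ih' =>
    obtain ⟨i, j, rfl⟩ := ih
    obtain ⟨i', j', rfl⟩ := ih'
    refine ⟨i + i', j + j', ?_⟩
    have h1 : Commute (d ^ j) (a ^ i') := (hc.pow_pow i' j).symm
    calc a ^ i * d ^ j * (a ^ i' * d ^ j') = a ^ i * (d ^ j * a ^ i') * d ^ j' := by group
      _ = a ^ i * (a ^ i' * d ^ j) * d ^ j' := by rw [h1.eq]
      _ = a ^ (i + i') * d ^ (j + j') := by rw [pow_add, pow_add]; group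
  | inv y _ ih =>
    obtain ⟨i, j, rfl⟩ := ih
    refine ⟨2 * i, 2 * j, ?_⟩
    have hainv : a⁻¹ = a ^ 2 := by
      calc a⁻¹ = a⁻¹ * a ^ 3 := by rw [ha3, mul_one]
        _ = a ^ 2 := by group
    have hdinv : d⁻¹ = d ^ 2 := by
      calc d⁻¹ = d⁻¹ * d ^ 3 := by rw [hd3, mul_one]
        _ = d ^ 2 := by group
    have h1 : Commute (d ^ j)⁻¹ (a ^ i)⁻¹ := ((hc.pow_pow i j).symm.inv_inv)
    calc (a ^ i * d ^ j)⁻¹ = (d ^ j)⁻¹ * (a ^ i)⁻¹ := by group
      _ = (a ^ i)⁻¹ * (d ^ j)⁻¹ := h1.eq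
      _ = (a⁻¹) ^ i * (d⁻¹) ^ j := by rw [inv_pow, inv_pow]
      _ = a ^ (2 * i) * d ^ (2 * j) := by rw [hainv, hdinv, ← pow_mul, ← pow_mul]

end

section

variable {G : Type*} [Group G] [Finite G]

namespace FourData

variable {d : G} {W : Subgroup G} {z : G}

/-- Case `d³ = 1`: an element `a` of order three commuting with `d` and centralizing `W`
centralizes every `⟨a, d⟩`-invariant subgroup of `Q`. -/
theorem commuting_centralizes_of_le (h : FourData d W z)
    (hrank : ∀ A : Subgroup G, (∀ a ∈ A, ∀ b ∈ A, a * b = b * a) → (∀ a ∈ A, a * a = 1) →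
      Nat.card A ≤ 4)
    (Q : Subgroup G) (hQ : IsPGroup 2 Q) (hQW : ∀ x ∈ Q, ∀ w ∈ W, x * w = w * x)
    (a : G) (ha3 : a ^ 3 = 1) (had : a * d = d * a) (hd3 : d ^ 3 = 1)
    (haW : ∀ w ∈ W, a * w = w * a)
    (A : Subgroup G) (hA : A = Subgroup.closure ({a, d} : Set G)) [IsMulCommutative A]
    (hAc : ∀ x ∈ A, ∀ y ∈ A, x * y = y * x) (hAcyc : ¬ IsCyclic A)
    (hA3 : ∃ l, Nat.card A = 3 ^ l)
    (R : Subgroup G) (hRQ : R ≤ Q) (hAR : A ≤ Subgroup.normalizer (R : Set G)) :
    ∀ x ∈ R, a * x = x * a := by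
  induction hk : Nat.card R using Nat.strong_induction_on generalizing R with
  | _ k ih =>
  by_contra hcon
  push Not at hcon
  obtain ⟨x₀, hx₀R, hx₀⟩ := hcon
  have haA : a ∈ A := by rw [hA]; exact Subgroup.subset_closure (by simp)
  have hdA : d ∈ A := by rw [hA]; exact Subgroup.subset_closure (by simp)
  have IH : ∀ R' : Subgroup G, R' < R → A ≤ Subgroup.normalizer (R' : Set G) →
      ∀ x ∈ R', a * x = x * a := by
    intro R' hR' hAR'
    have hlt : Nat.card R' < k := by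
      have := two_mul_card_le_of_lt hR'
      have hpos : 0 < Nat.card R' := Nat.card_pos
      omega
    exact ih (Nat.card R') hlt R' (hR'.le.trans hRQ) hAR' rfl
  have hRp : IsPGroup 2 R := hQ.to_le hRQ
  haveI : Fact (Nat.Prime 2) := ⟨Nat.prime_two⟩
  obtain ⟨j, hj⟩ := IsPGroup.iff_card.mp hRp
  obtain ⟨l, hl⟩ := hA3
  have hcop : (Nat.card A).Coprime (Nat.card R) := by
    rw [hj, hl]; exact Nat.Coprime.pow _ _ (by norm_num)
  have hS := Cfsg.Agent.S0058.result A R hAcyc hAR hcop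
  -- some nontrivial element of `A` centralizes `R`
  have hb₀ : ∃ b₀ ∈ A, b₀ ≠ 1 ∧ ∀ x ∈ R, b₀ * x = x * b₀ := by
    by_contra hcon
    push Not at hcon
    apply hx₀
    have hle : (⨆ b ∈ {b : G | b ∈ A ∧ b ≠ 1}, R ⊓ Subgroup.centralizer {b}) ≤
        Subgroup.centralizer {a} := by
      apply iSup₂_le
      rintro b ⟨hbA, hb1⟩
      obtain ⟨x₁, hx₁R, hx₁⟩ := hcon b hbA hb1
      have hlt : R ⊓ Subgroup.centralizer {b} < R := by
        refine lt_of_le_of_ne inf_le_left ?_
        intro heq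
        apply hx₁
        have : x₁ ∈ R ⊓ Subgroup.centralizer {b} := by rw [heq]; exact hx₁R
        have := (Subgroup.mem_inf.mp this).2
        rw [Subgroup.mem_centralizer_singleton_iff] at this
        exact this.symm
      have hAN : A ≤ Subgroup.normalizer ((R ⊓ Subgroup.centralizer {b} : Subgroup G) : Set G) := by
        intro y hy
        apply Subgroup.mem_normalizer_fintype
        intro x hx
        obtain ⟨hxR, hxb⟩ := Subgroup.mem_inf.mp hx
        rw [Subgroup.mem_centralizer_singleton_iff] at hxb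
        refine Subgroup.mem_inf.mpr ⟨(Subgroup.mem_normalizer_iff.mp (hAR hy) x).mp hxR, ?_⟩
        rw [Subgroup.mem_centralizer_singleton_iff]
        have hyb : y * b = b * y := hAc y hy b hbA
        have hyb' : y⁻¹ * b = b * y⁻¹ := by
          calc y⁻¹ * b = y⁻¹ * (b * y) * y⁻¹ := by group
            _ = y⁻¹ * (y * b) * y⁻¹ := by rw [hyb]
            _ = b * y⁻¹ := by group
        calc y * x * y⁻¹ * b = y * x * (y⁻¹ * b) := by group
          _ = y * x * (b * y⁻¹) := by rw [hyb']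
          _ = y * (x * b) * y⁻¹ := by group
          _ = y * (b * x) * y⁻¹ := by rw [hxb]
          _ = (y * b) * x * y⁻¹ := by group
          _ = (b * y) * x * y⁻¹ := by rw [hyb]
          _ = b * (y * x * y⁻¹) := by group
      have hIH := IH _ hlt hAN
      intro x hx
      rw [Subgroup.mem_centralizer_singleton_iff]
      exact (hIH x hx).symm
    rw [hS] at hle
    have := hle hx₀R
    rw [Subgroup.mem_centralizer_singleton_iff] at this
    exact this.symm
  obtain ⟨b₀, hb₀A, hb₀1, hb₀R⟩ := hb₀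
  -- `W ≤ R`
  have hRne : R ≠ ⊥ := by
    intro hbot
    apply hx₀
    rw [hbot, Subgroup.mem_bot] at hx₀R
    rw [hx₀R, mul_one, one_mul]
  obtain ⟨u, huR, hu1, hu2, _⟩ := exists_central_involution R hRp hRne
  have huW : u ∈ W :=
    mem_of_commute_of_rank hrank W h.comm h.sq h.card u hu2 (hQW u (hRQ huR))
  have hWR : W ≤ R :=
    h.le_of_mem R (fun x hx => (Subgroup.mem_normalizer_iff.mp (hAR hdA) x).mp hx) u huR huW hu1
  -- the form of `b₀`
  obtain ⟨i, m, hb₀form⟩ := closure_pair_form had ha3 hd3 b₀ (by rw [← hA]; exact hb₀A)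
  have hc : Commute a d := had
  by_cases hm : 3 ∣ m
  · -- then `b₀ = a ^ i`
    obtain ⟨m', rfl⟩ := hm
    have hdm : d ^ (3 * m') = 1 := by rw [pow_mul, hd3, one_pow]
    rw [hdm, mul_one] at hb₀form
    have hi : ¬ 3 ∣ i := by
      rintro ⟨i', rfl⟩
      apply hb₀1
      rw [hb₀form, pow_mul, ha3, one_pow]
    obtain ⟨k', hk'⟩ := exists_pow_pow_eq ha3 i hi
    apply hx₀
    have hcomm : Commute b₀ x₀ := hb₀R x₀ hx₀R
    have : Commute (b₀ ^ k') x₀ := hcomm.pow_left k'
    rw [hb₀form, hk'] at this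
    exact this.eq
  · -- then `d` centralizes `W`
    obtain ⟨k', hk'⟩ := exists_pow_pow_eq hd3 m hm
    have hdz : Commute d z := by
      have h1 : Commute b₀ z := hb₀R z (hWR h.zW)
      have h2 : Commute (a ^ i) z := (show Commute a z from haW z h.zW).pow_left i
      have h3 : Commute (d ^ m) z := by
        have e : d ^ m = (a ^ i)⁻¹ * b₀ := by rw [hb₀form]; group
        rw [e]
        exact (h2.inv_left).mul_left h1
      have h4 := h3.pow_left k'
      rw [hk'] at h4
      exact h4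
    apply h.z'z
    calc d * z * d⁻¹ = (d * z) * d⁻¹ := by group
      _ = (z * d) * d⁻¹ := by rw [hdz.eq]
      _ = z := by group

end FourData

end

end Cfsg.Agent.Lib.Helper90
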