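import Mathlib

set_option autoImplicit false

namespace Cfsg.Agent.Lib.Helper90

/-- Membership in a conjugate Sylow subgroup. -/
theorem mem_sylow_smul_iff {G : Type*} [Group G] {p : ℕ} (g x : G) (P : Sylow p G) :
    x ∈ (g • P : Sylow p G) ↔ g⁻¹ * x * g ∈ P := by
  rw [← SetLike.mem_coe, Sylow.coe_smul]
  rw [Set.mem_smul_set_iff_inv_smul_mem]
  simp [MulAut.smul_def]

/-- Any 2-subgroup `S` of a subgroup `H` containing the Sylow 2-subgroup `P` of `G` is contained in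
an `H`-conjugate of `P`; so if `z` is central in `P`, some `H`-conjugate of `z` centralizes `S`. -/
theorem exists_conj_central_in {G : Type*} [Group G] [Finite G] (z : G) (P : Sylow 2 G)
    (hzP : ∀ x ∈ P, x * z = z * x) (H : Subgroup G) (hPH : (P : Subgroup G) ≤ H)
    (S : Subgroup G) (hSH : S ≤ H) (hS : IsPGroup 2 S) :
    ∃ k ∈ H, ∀ s ∈ S, s * (k * z * k⁻¹) = (k * z * k⁻¹) * s := by
  have hS' : IsPGroup 2 (S.subgroupOf H) := hS.comap_subtype
  obtain ⟨T, hT⟩ := hS'.exists_le_sylow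
  obtain ⟨k, hk⟩ := MulAction.exists_smul_eq H (P.subtype hPH) T
  refine ⟨k, k.2, ?_⟩
  intro s hs
  have h1 : (⟨s, hSH hs⟩ : H) ∈ T := hT (by
    show s ∈ S
    exact hs)
  rw [← hk, mem_sylow_smul_iff] at h1
  have h2 : ((k⁻¹ * ⟨s, hSH hs⟩ * k : H) : G) ∈ P := by
    have : (k⁻¹ * ⟨s, hSH hs⟩ * k : H) ∈ (P : Subgroup G).subgroupOf H := by
      rw [← Sylow.coe_subtype P hPH]; exact h1
    exact this
  have h3 := hzP _ h2
  simp only [Subgroup.coe_mul, Subgroup.coe_inv] at h3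
  calc s * ((k : G) * z * (k : G)⁻¹) = k * (((k : G)⁻¹ * s * k) * z) * (k : G)⁻¹ := by group
    _ = k * (z * ((k : G)⁻¹ * s * k)) * (k : G)⁻¹ := by rw [h3]
    _ = (k : G) * z * (k : G)⁻¹ * s := by group

/-- Any 2-subgroup `S` of `G` is centralized by a conjugate of a 2-central element `z`. -/
theorem exists_conj_central {G : Type*} [Group G] [Finite G] (z : G) (P : Sylow 2 G)
    (hzP : ∀ x ∈ P, x * z = z * x) (S : Subgroup G) (hS : IsPGroup 2 S) :
    ∃ k : G, ∀ s ∈ S, s * (k * z * k⁻¹) = (k * z * k⁻¹) * s := by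
  obtain ⟨k, _, hk⟩ := exists_conj_central_in z P hzP ⊤ le_top S le_top hS
  exact ⟨k, hk⟩

end Cfsg.Agent.Lib.Helper90
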