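import Mathlib
import Cfsg.Agent.Lib.Helper9.PGroupLemmas
import Cfsg.Agent.Lib.Helper90.SylowConj
import Cfsg.Agent.Lib.Helper90.SixE

set_option autoImplicit false

namespace Cfsg.Agent.Lib.Helper90

section

variable {G : Type*} [Group G] [Finite G]

/-- A nontrivial normal subgroup `C` containing a nontrivial `3`-element, and a `3`-element `d`:
there is an element `a` of order three in `C` commuting with a conjugate... here: commuting with
`d` itself, found in the centre of a Sylow `3`-subgroup containing `d`. -/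
theorem exists_central_order_three (C : Subgroup G) [C.Normal] (d c : G) (hd3 : d ^ 3 = 1)
    (hc3 : c ^ 3 = 1) (hc1 : c ≠ 1) (hcC : c ∈ C) :
    ∃ a ∈ C, a ^ 3 = 1 ∧ a ≠ 1 ∧ a * d = d * a := by
  haveI : Fact (Nat.Prime 3) := ⟨Nat.prime_three⟩
  have hpow : ∀ x : G, x ^ 3 = 1 → IsPGroup 3 (Subgroup.zpowers x) := by
    intro x hx
    rintro ⟨y, hy⟩
    obtain ⟨k, rfl⟩ := Subgroup.mem_zpowers_iff.mp hy
    refine ⟨1, ?_⟩
    apply Subtype.ext
    show (x ^ k) ^ 3 ^ 1 = 1
    rw [pow_one, ← zpow_natCast, ← zpow_mul, mul_comm, zpow_mul, zpow_natCast, hx, one_zpow]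
  obtain ⟨P, hdP⟩ := (hpow d hd3).exists_le_sylow
  obtain ⟨P', hcP'⟩ := (hpow c hc3).exists_le_sylow
  obtain ⟨x, hx⟩ := MulAction.exists_smul_eq G P' P
  have hdP' : d ∈ P := hdP (Subgroup.mem_zpowers d)
  have hc'P : x * c * x⁻¹ ∈ P := by
    rw [← hx, mem_sylow_smul_iff]
    have e : x⁻¹ * (x * c * x⁻¹) * x = c := by group
    rw [e]
    exact hcP' (Subgroup.mem_zpowers c)
  have hc'C : x * c * x⁻¹ ∈ C := Subgroup.Normal.conj_mem inferInstance c hcC x
  have hc'1 : x * c * x⁻¹ ≠ 1 := by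
    intro h1
    apply hc1
    calc c = x⁻¹ * (x * c * x⁻¹) * x := by group
      _ = 1 := by rw [h1]; group
  set N : Subgroup ↥(P : Subgroup G) := C.subgroupOf P with hN
  have hNne : N ≠ ⊥ := by
    intro hbot
    have hmem : (⟨x * c * x⁻¹, hc'P⟩ : ↥(P : Subgroup G)) ∈ N := by
      rw [hN, Subgroup.mem_subgroupOf]; exact hc'C
    rw [hbot, Subgroup.mem_bot] at hmem
    exact hc'1 (congrArg Subtype.val hmem)
  obtain ⟨a₁, ha₁N, ha₁1, ha₁c⟩ :=
    Cfsg.Agent.Lib.Helper9.exists_ne_one_mem_center_of_normal P.isPGroup' N hNne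
  obtain ⟨k, hk⟩ := P.isPGroup' a₁
  obtain ⟨m, _, hm⟩ := (Nat.dvd_prime_pow Nat.prime_three).mp (orderOf_dvd_of_pow_eq_one hk)
  have hm0 : m ≠ 0 := by
    intro h0
    rw [h0, pow_zero, orderOf_eq_one_iff] at hm
    exact ha₁1 hm
  set a₂ := a₁ ^ (3 ^ (m - 1)) with ha₂
  have ho : orderOf a₂ = 3 := by
    rw [ha₂, orderOf_pow_of_dvd (by positivity) (by rw [hm]; exact pow_dvd_pow 3 (by omega)), hm,
      Nat.pow_div (by omega) (by norm_num)]
    have : m - (m - 1) = 1 := by omega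
    rw [this, pow_one]
  have ha₂N : a₂ ∈ N := Subgroup.pow_mem _ ha₁N _
  have ha₂c : a₂ ∈ Subgroup.center ↥(P : Subgroup G) := Subgroup.pow_mem _ ha₁c _
  refine ⟨(a₂ : G), ?_, ?_, ?_, ?_⟩
  · rw [hN, Subgroup.mem_subgroupOf] at ha₂N
    exact ha₂N
  · have : a₂ ^ 3 = 1 := by
      have h0 := pow_orderOf_eq_one a₂
      rw [ho] at h0
      exact h0
    have := congrArg (fun t : ↥(P : Subgroup G) => (t : G)) this
    simpa using this
  · intro h1
    have : a₂ = 1 := Subtype.ext h1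
    rw [this, orderOf_one] at ho
    omega
  · have := Subgroup.mem_center_iff.mp ha₂c ⟨d, hdP'⟩
    have := congrArg (fun t : ↥(P : Subgroup G) => (t : G)) this
    simpa using this.symm

namespace FourData

variable {d : G} {W : Subgroup G} {z : G}

/-- Case `d³ = 1` is impossible. -/
theorem order_three_contra (h : FourData d W z)
    (hrank : ∀ A : Subgroup G, (∀ a ∈ A, ∀ b ∈ A, a * b = b * a) → (∀ a ∈ A, a * a = 1) →
      Nat.card A ≤ 4)
    (hWn : ∀ g : G, ∀ w ∈ W, g * w * g⁻¹ ∈ W)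
    (Q : Subgroup G) [Q.Normal] (hQ : IsPGroup 2 Q) (hQW : ∀ x ∈ Q, ∀ w ∈ W, x * w = w * x)
    (hchar : Subgroup.centralizer (Q : Set G) ≤ Q) (hd3 : d ^ 3 = 1)
    (c : G) (hc3 : c ^ 3 = 1) (hc1 : c ≠ 1) (hcW : ∀ w ∈ W, c * w = w * c) : False := by
  haveI : W.Normal := ⟨fun w hw g => hWn g w hw⟩
  haveI : Fact (Nat.Prime 3) := ⟨Nat.prime_three⟩
  have hcC : c ∈ Subgroup.centralizer (W : Set G) := by
    rw [Subgroup.mem_centralizer_iff]
    intro w hw
    exact (hcW w hw).symm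
  obtain ⟨a, haC, ha3, ha1, had⟩ :=
    exists_central_order_three (Subgroup.centralizer (W : Set G)) d c hd3 hc3 hc1 hcC
  have haW : ∀ w ∈ W, a * w = w * a := fun w hw =>
    ((Subgroup.mem_centralizer_iff.mp haC) w hw).symm
  set A := Subgroup.closure ({a, d} : Set G) with hA
  have hpair : ∀ x ∈ ({a, d} : Set G), ∀ y ∈ ({a, d} : Set G), x * y = y * x := by
    intro x hx y hy
    rcases hx with rfl | hx <;> rcases hy with rfl | hy
    · rfl
    · rw [Set.mem_singleton_iff] at hy; subst hy; exact had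
    · rw [Set.mem_singleton_iff] at hx; subst hx; exact had.symm
    · rw [Set.mem_singleton_iff] at hx hy; subst hx; subst hy; rfl
  haveI hAcomm : IsMulCommutative A := Subgroup.isMulCommutative_closure hpair
  have hAc : ∀ x ∈ A, ∀ y ∈ A, x * y = y * x := fun x hx y hy => setLike_mul_comm hx hy
  have haA : a ∈ A := Subgroup.subset_closure (by simp)
  have hdA : d ∈ A := Subgroup.subset_closure (by simp)
  have hd1 : d ≠ 1 := by
    intro h1
    apply h.z'z
    rw [h1]; group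
  -- every element of `A` has cube one
  have hA3 : ∀ x ∈ A, x ^ 3 = 1 := by
    intro x hx
    obtain ⟨i, j, rfl⟩ := closure_pair_form had ha3 hd3 x hx
    have hc : Commute (a ^ i) (d ^ j) := (show Commute a d from had).pow_pow i j
    rw [hc.mul_pow, ← pow_mul, ← pow_mul, mul_comm i, mul_comm j, pow_mul, pow_mul, ha3, hd3,
      one_pow, one_pow, one_mul]
  have hAp : IsPGroup 3 A := by
    intro x
    refine ⟨1, ?_⟩
    apply Subtype.ext
    show ((x : G)) ^ 3 ^ 1 = 1
    rw [pow_one]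
    exact hA3 x x.2
  have hAcard := IsPGroup.iff_card.mp hAp
  -- `A` is not cyclic
  have hAcyc : ¬ IsCyclic A := by
    intro hcyc
    obtain ⟨γ, hγ⟩ := IsCyclic.exists_generator (α := ↥A)
    have hγ3 : (γ : G) ^ 3 = 1 := hA3 γ γ.2
    have hmem : ∀ x ∈ A, x ∈ Subgroup.zpowers (γ : G) := by
      intro x hx
      obtain ⟨k, hk⟩ := Subgroup.mem_zpowers_iff.mp (hγ ⟨x, hx⟩)
      refine Subgroup.mem_zpowers_iff.mpr ⟨k, ?_⟩
      have := congrArg (fun t : ↥A => (t : G)) hk
      simpa using this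
    have hγ1 : (γ : G) ≠ 1 := by
      intro h1
      have := hmem a haA
      rw [h1, Subgroup.zpowers_one_eq_bot, Subgroup.mem_bot] at this
      exact ha1 this
    have hoγ : orderOf (γ : G) = 3 := orderOf_eq_prime hγ3 hγ1
    have hoa : orderOf a = 3 := orderOf_eq_prime ha3 ha1
    have hle : Subgroup.zpowers a ≤ Subgroup.zpowers (γ : G) := by
      rw [Subgroup.zpowers_le]; exact hmem a haA
    have heq : Subgroup.zpowers a = Subgroup.zpowers (γ : G) := by
      apply Subgroup.eq_of_le_of_card_ge hle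
      rw [Nat.card_zpowers, Nat.card_zpowers, hoγ, hoa]
    have hda : d ∈ Subgroup.zpowers a := by rw [heq]; exact hmem d hdA
    obtain ⟨k, hk⟩ := Subgroup.mem_zpowers_iff.mp hda
    have hdz : Commute d z := by
      rw [← hk]
      exact (show Commute a z from haW z h.zW).zpow_left k
    apply h.z'z
    calc d * z * d⁻¹ = (d * z) * d⁻¹ := by group
      _ = (z * d) * d⁻¹ := by rw [hdz.eq]
      _ = z := by group
  have hAQ : A ≤ Subgroup.normalizer (Q : Set G) := by
    rw [Subgroup.normalizer_eq_top]; exact le_top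
  have hcen := h.commuting_centralizes_of_le hrank Q hQ hQW a ha3 had hd3 haW A hA hAc hAcyc
    hAcard Q le_rfl hAQ
  have haQ : a ∈ Q := by
    apply hchar
    rw [Subgroup.mem_centralizer_iff]
    intro x hx
    exact (hcen x hx).symm
  obtain ⟨j, hj⟩ := hQ ⟨a, haQ⟩
  have h2 : a ^ (2 ^ j) = 1 := by
    have := congrArg (fun t : ↥Q => (t : G)) hj
    simpa using this
  have ho1 : orderOf a ∣ 3 := orderOf_dvd_of_pow_eq_one ha3
  have ho2 : orderOf a ∣ 2 ^ j := orderOf_dvd_of_pow_eq_one h2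
  have hcop : Nat.Coprime (2 ^ j) 3 := Nat.Coprime.pow_left _ (by norm_num)
  have ho : orderOf a = 1 := Nat.eq_one_of_dvd_coprimes hcop ho2 ho1
  exact ha1 (orderOf_eq_one_iff.mp ho)

end FourData

end

end Cfsg.Agent.Lib.Helper90
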