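import Mathlib
import Cfsg.Agent.Lib.Helper32.SLMD.Defs2

/-!
# SLMD-[N-PW-DC] (helper90 hedge): `GG = P ∪ P wE P` for the point stabilizer `P = pSub`.
-/

set_option autoImplicit false
set_option linter.unusedSectionVars false
set_option linter.unusedVariables false

namespace Cfsg.Agent.Lib.Helper32.SLMD

open Matrix Cfsg.Agent.Lib.Helper41 Cfsg.Agent.Lib.Helper39 Module
open scoped LinearAlgebra.Projectivization

universe u v

variable {F : Type*} [Field F] [Fintype F] [DecidableEq F] {k : ℕ}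

namespace PwDc

/-- `wE` moves the point `⟨e₀⟩`. -/
theorem wE_smul_pt0_ne : (wE : GG F k) • (pt0 : ℙ F (Fin 2 ⊕ Fin k → F)) ≠ pt0 := by
  intro h
  unfold pt0 at h
  rw [Projectivization.smul_mk, Projectivization.mk_eq_mk_iff] at h
  obtain ⟨a, ha⟩ := h
  have h1 := congrFun ha (Sum.inl 1)
  have h2 : ((wE : GG F k) • (Pi.single (Sum.inl 0) 1 : Fin 2 ⊕ Fin k → F)) (Sum.inl 1) = 1 := by
    show ((wE : GG F k).1 *ᵥ (Pi.single (Sum.inl 0) 1 : Fin 2 ⊕ Fin k → F)) (Sum.inl 1) = 1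
    rw [Matrix.mulVec_single_one]
    simp [wE, coe_iota, coe_weylW, Matrix.col_apply]
  rw [h2] at h1
  have h3 : (a • (Pi.single (Sum.inl 0) 1 : Fin 2 ⊕ Fin k → F)) (Sum.inl 1) = 0 := by
    rw [Units.smul_def, Pi.smul_apply]
    simp
  rw [h3] at h1
  exact zero_ne_one h1

end PwDc

/-- [N-PW-DC] -/
theorem pSub_double_coset (g : GG F k) :
    g ∈ (pSub : Subgroup (GG F k)) ∨
      ∃ p₁ ∈ (pSub : Subgroup (GG F k)), ∃ p₂ ∈ (pSub : Subgroup (GG F k)), g = p₁ * wE * p₂ := by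
  by_cases hg : g ∈ (pSub : Subgroup (GG F k))
  · exact Or.inl hg
  right
  have h1 : g • (pt0 : ℙ F (Fin 2 ⊕ Fin k → F)) ≠ pt0 :=
    fun h => hg (MulAction.mem_stabilizer_iff.mpr h)
  have h2 : (wE : GG F k) • (pt0 : ℙ F (Fin 2 ⊕ Fin k → F)) ≠ pt0 := PwDc.wE_smul_pt0_ne
  have htr : MulAction.IsMultiplyPretransitive (GG F k) (ℙ F (Fin 2 ⊕ Fin k → F)) 2 :=
    inferInstance
  rw [MulAction.is_two_pretransitive_iff] at htr
  obtain ⟨p, hp1, hp2⟩ := htr (Ne.symm h2) (Ne.symm h1)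
  refine ⟨p, MulAction.mem_stabilizer_iff.mpr hp1, (p * wE)⁻¹ * g, ?_, by group⟩
  rw [pSub, MulAction.mem_stabilizer_iff, mul_smul, inv_smul_eq_iff, mul_smul, hp2]

end Cfsg.Agent.Lib.Helper32.SLMD
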