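/-
helper90: S3043 module [A5b] alt3_psl (hedge), from landed S0742.
-/
import Mathlib
import Cfsg.Agent.S0742
import Cfsg.Agent.Lib.Helper90.TIInvDefs

set_option autoImplicit false

namespace Cfsg.Agent.Lib.Helper90.TIInvA5b

open Cfsg Cfsg.Agent.Lib.Helper90.TIInv

variable {G : Type*} [Group G] [Finite G] {M : Subgroup G} {z : G}

/-- [A5b] -/
theorem alt3_psl (h : Hyp M z) (b : Basic M z) (cz : CzFacts M z)
    (hZ : Cfsg.IsZassenhausGroup G (G ⧸ Nm M))
    (hidx : (Nm M).index = Nat.card M + 1)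
    (hm : Nat.card M = 2 * Nat.card (Hz M z) + 1)
    (ea : ∃ p r : ℕ, p.Prime ∧ (∀ x ∈ M, x ^ p = 1) ∧ Nat.card M = p ^ r) : Alt3 G M := by
  classical
  letI : Fintype (G ⧸ Nm M) := Fintype.ofFinite _
  obtain ⟨c, hcC, hcN⟩ := cz.ex
  have hstab := cz.stab c hcC hcN
  set a : G ⧸ Nm M := ((1 : G) : G ⧸ Nm M) with ha
  set b' : G ⧸ Nm M := ((c : G) : G ⧸ Nm M) with hb'
  have hab : a ≠ b' := by
    intro heq
    rw [ha, hb', QuotientGroup.eq] at heq
    apply hcN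
    simpa using heq
  have hsa : MulAction.stabilizer G a = Nm M := MulAction.stabilizer_quotient (Nm M)
  have hsb : MulAction.stabilizer G b' = cj c (Nm M) := by
    have : b' = c • a := by
      rw [ha, hb', MulAction.Quotient.smul_coe, smul_eq_mul, mul_one]
    rw [this, MulAction.stabilizer_smul_eq_stabilizer_map_conj, hsa]
  have hinf : MulAction.stabilizer G a ⊓ MulAction.stabilizer G b' = Hz M z := by
    rw [hsa, hsb, hstab]
  -- `|H|` is even
  have hzH : z ∈ Hz M z := by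
    rw [Subgroup.mem_inf]
    refine ⟨h.zN, ?_⟩
    rw [Subgroup.mem_centralizer_singleton_iff]
  have h2H : 2 ∣ Nat.card (Hz M z) := by
    have := Subgroup.orderOf_dvd_natCard (Hz M z) hzH
    rwa [h.hz] at this
  have hcardΩ : Fintype.card (G ⧸ Nm M) = Nat.card M + 1 := by
    rw [← Nat.card_eq_fintype_card, ← hidx]
    rfl
  have heven : Even (Nat.card ↥(MulAction.stabilizer G a ⊓ MulAction.stabilizer G b')) := by
    rw [hinf]; exact (even_iff_two_dvd).mpr h2H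
  have hd : 2 * Nat.card ↥(MulAction.stabilizer G a ⊓ MulAction.stabilizer G b') ≤
      Fintype.card (G ⧸ Nm M) - 2 := by
    rw [hinf, hcardΩ]; omega
  obtain ⟨p, f, K, iK, iKt, hp, hp2, hKcard, hΩcard, hiso⟩ :=
    Cfsg.Agent.S0742.result hZ hab heven hd
  have hKm : Fintype.card K = Nat.card M := by
    rw [hKcard]; rw [hcardΩ] at hΩcard; omega
  obtain ⟨p₀, r, hp₀, hexp, hmr⟩ := ea
  -- the characteristic of `K` is `p₀`
  have hchar : CharP K p₀ := by
    obtain ⟨q, hq⟩ := CharP.exists K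
    haveI := hq
    obtain ⟨n, hqp, hn⟩ := FiniteField.card K q
    have h1 : q ∣ p₀ ^ r := by
      rw [← hmr, ← hKm, hn]
      exact dvd_pow_self q n.ne_zero
    have h2 : q = p₀ := (Nat.prime_dvd_prime_iff_eq hqp hp₀).mp (hqp.dvd_of_dvd_pow h1)
    rw [← h2]; exact hq
  have hmod : Fintype.card K % 4 = 1 := by
    rw [hKm, hm]
    obtain ⟨k, hk⟩ := h2H
    rw [hk]; omega
  haveI : Fact p₀.Prime := ⟨hp₀⟩
  refine ⟨K, iK, iKt, p₀, ⟨hp₀⟩, hchar, hKm, ⟨⟨⟨fun x y => Subtype.ext (b.comm x.1 x.2 y.1 y.2)⟩⟩,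
    hexp⟩, Or.inr ⟨hmod, hiso⟩⟩

end Cfsg.Agent.Lib.Helper90.TIInvA5b
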