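/-
helper90: S3043 module [B0] caseB_arith.
-/
import Mathlib
import Cfsg.Agent.Lib.Helper17.ConjCount
import Cfsg.Agent.Lib.Helper90.TIInvDefs

set_option autoImplicit false

namespace Cfsg.Agent.Lib.Helper90.TIInvB0

open Cfsg.Agent.Lib.Helper90.TIInv

variable {G : Type*} [Group G] [Finite G] {M : Subgroup G} {z : G}

/-- the class of `z` consists of involutions -/
theorem card_class_le (hz : orderOf z = 2) :
    Nat.card {y : G // IsConj z y} ≤ Nat.card {g : G // orderOf g = 2} := by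
  apply Nat.card_le_card_of_injective (fun y => (⟨y.1, by
    obtain ⟨c, hc⟩ := y.2
    have : y.1 = (c : G) * z * (c : G)⁻¹ := by
      have h0 := hc.eq  -- c * z = y * c
      rw [h0]; group
    rw [this, ← hz]
    exact (MulEquiv.orderOf_eq (MulAut.conj (c : G)) z)⟩ : {g : G // orderOf g = 2}))
  intro a b hab
  exact Subtype.ext (congrArg (fun t : {g : G // orderOf g = 2} => t.1) hab)

/-- pure arithmetic -/
theorem arith {m n f q J K : ℕ} (h1 : n + m = 1 + f * m) (h2 : J + 2 = m + 2 * n)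
    (h3 : K * f = n * m) (h4 : K ≤ J) (h5 : m = f * q + 1) (hf : 4 ≤ f) (hq : 1 ≤ q) :
    q = 1 ∨ q = 2 := by
  by_contra hcon
  have hq3 : 3 ≤ q := by omega
  have hn : n + f * q = f * m := by
    have : n + (f * q + 1) = 1 + f * m := by rw [← h5]; exact h1
    omega
  -- work in ℤ
  have hnZ : (n : ℤ) = f * m - f * q := by
    have := congrArg (fun t : ℕ => (t : ℤ)) hn
    push_cast at this
    linarith
  have hmZ : (m : ℤ) = f * q + 1 := by exact_mod_cast h5
  have h3Z : (K : ℤ) * f = n * m := by exact_mod_cast h3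
  have hfpos : (0 : ℤ) < f := by exact_mod_cast (by omega : 0 < f)
  have hK : (K : ℤ) = (m - q) * m := by
    have : (K : ℤ) * f = ((m - q) * m) * f := by rw [h3Z, hnZ]; ring
    exact mul_right_cancel₀ hfpos.ne' this
  have h2Z : (J : ℤ) + 2 = m + 2 * n := by exact_mod_cast h2
  have h4Z : (K : ℤ) ≤ J := by exact_mod_cast h4
  have hfZ : (4 : ℤ) ≤ f := by exact_mod_cast hf
  have hqZ : (3 : ℤ) ≤ q := by exact_mod_cast hq3
  -- (m - q) * m ≤ m + 2 f (m - q) - 2
  have key : ((m : ℤ) - q) * m ≤ m + 2 * (f * m - f * q) - 2 := by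
    rw [← hK, ← hnZ]; linarith
  rw [hmZ] at key
  nlinarith [mul_le_mul hfZ hqZ (by norm_num) (by linarith), mul_pos hfpos (by linarith : (0:ℤ) < q),
    mul_le_mul hfZ (le_refl (f:ℤ)) (by linarith) (by linarith),
    mul_le_mul hqZ (le_refl (q:ℤ)) (by linarith) (by linarith)]

/-- [B0] -/
theorem caseB_arith (h : Hyp M z) (b : Basic M z) (ie : IndexEq M z) (ic : InvCount M z)
    {e : ℕ} (hB : CaseB M z e) :
    Nat.card M = 2 ^ e + 1 ∨ Nat.card M = 2 ^ (e + 1) + 1 := by
  obtain ⟨he, hh, hC, _⟩ := hB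
  unfold IndexEq at ie
  unfold InvCount at ic
  rw [hh, hC] at ie
  rw [hh] at ic
  set m := Nat.card M with hm
  set n := (Nm M).index with hn
  set J := Nat.card {g : G // orderOf g = 2} with hJ
  set f := 2 ^ e with hf
  have hfe : 2 ^ (e + 1) = 2 * f := by rw [pow_succ]; ring
  have hf4 : 4 ≤ f := by
    calc 4 = 2 ^ 2 := by norm_num
      _ ≤ 2 ^ e := Nat.pow_le_pow_right (by norm_num) he
  -- class equation
  have hcl := Cfsg.Agent.Lib.Helper17.card_conj_mul_card_centralizer z
  have hG : Nat.card G = n * (m * 2) := by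
    rw [← (Nm M).index_mul_card, b.cardN, hh]
  rw [hC, hG, hfe] at hcl
  set K := Nat.card {y : G // IsConj z y} with hK
  have h3 : K * f = n * m := by nlinarith [hcl]
  have h4 : K ≤ J := card_class_le h.hz
  have h1 : n + m = 1 + f * m := by rw [hfe] at ie; nlinarith [ie]
  have h2 : J + 2 = m + 2 * n := ic
  -- m odd, m ≥ 3
  have hmodd : Odd m := b.oddM
  have hm2 : 1 < m := (Subgroup.one_lt_card_iff_ne_bot M).mpr h.ne
  -- f ∣ m - 1
  have hdvd : f ∣ m - 1 := by
    have hcop : Nat.Coprime f m := by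
      rw [hf]
      apply Nat.Coprime.pow_left
      rw [Nat.coprime_two_left]
      exact hmodd
    -- f ∣ n * m, n = f m - (m - 1)
    have h6 : f ∣ n * m := ⟨K, by rw [← h3]; ring⟩
    have h7 : f ∣ n := hcop.dvd_of_dvd_mul_right h6
    -- n + (m - 1) = f * m
    have h8 : n + (m - 1) = f * m := by omega
    have h9 : f ∣ n + (m - 1) := by rw [h8]; exact dvd_mul_right _ _
    exact (Nat.dvd_add_right h7).mp h9
  obtain ⟨q, hq⟩ := hdvd
  have h5 : m = f * q + 1 := by omega
  have hq1 : 1 ≤ q := by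
    rcases Nat.eq_zero_or_pos q with h0 | h0
    · rw [h0] at h5; omega
    · exact h0
  rcases arith h1 h2 h3 h4 h5 hf4 hq1 with hq' | hq'
  · left; rw [h5, hq']; ring
  · right; rw [h5, hq', hfe]; ring

end Cfsg.Agent.Lib.Helper90.TIInvB0
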