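/-
helper90: S3043 module [B1b] caseB_sl2 (hedge), from landed S2202.
-/
import Mathlib
import Cfsg.Agent.S2202
import Cfsg.Agent.Lib.Helper90.TIInvDefs

set_option autoImplicit false

namespace Cfsg.Agent.Lib.Helper90.TIInvB1b

open Cfsg.Agent.Lib.Helper90.TIInv

variable {G : Type*} [Group G] [Finite G] {M : Subgroup G} {z : G}

theorem eq_one_of_sq_of_odd {A : Type*} [Group A] [Finite A] (hodd : Odd (Nat.card A)) {a : A}
    (ha : a * a = 1) : a = 1 := by
  have h1 : orderOf a ∣ 2 := orderOf_dvd_of_pow_eq_one (by rw [pow_two]; exact ha)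
  have h2 : orderOf a ∣ Nat.card A := orderOf_dvd_natCard a
  have h3 : Nat.Coprime 2 (Nat.card A) := by
    rw [Nat.coprime_two_left]; exact hodd
  have h4 : orderOf a ∣ 1 := by
    have := Nat.dvd_gcd h1 h2
    rwa [h3] at this
  exact orderOf_eq_one_iff.mp (Nat.dvd_one.mp h4)

/-- [B1b] -/
theorem caseB_sl2 (h : Hyp M z) (b : Basic M z) {e : ℕ} (hB : CaseB M z e)
    (hc : ∀ t : G, orderOf t = 2 → ∃ g : G, t = g * z * g⁻¹) :
    ∃ (F : Type) (_ : Field F) (_ : Fintype F), CharP F 2 ∧
      Nonempty (G ≃* Matrix.SpecialLinearGroup (Fin 2) F) := by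
  haveI : Fact (Nat.Prime 2) := ⟨Nat.prime_two⟩
  obtain ⟨he, hh, hC, hexp⟩ := hB
  -- `C(z)` is commutative
  have hCcomm : ∀ c ∈ Cz z, ∀ d ∈ Cz z, c * d = d * c := by
    intro c hc' d hd'
    have h1 := hexp c hc'
    have h2 := hexp d hd'
    have h3 := hexp (c * d) ((Cz z).mul_mem hc' hd')
    have hci : c⁻¹ = c := inv_eq_of_mul_eq_one_right h1
    have hdi : d⁻¹ = d := inv_eq_of_mul_eq_one_right h2
    have : c * d = (c * d)⁻¹ := (inv_eq_of_mul_eq_one_right h3).symm
    rw [this, mul_inv_rev, hci, hdi]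
  have heven : Even (Nat.card G) := by
    have := orderOf_dvd_natCard z
    rw [h.hz] at this
    exact (even_iff_two_dvd).mpr this
  have hab : ∀ t : G, orderOf t = 2 →
      IsMulCommutative ↥(Subgroup.centralizer ({t} : Set G)) := by
    intro t ht
    obtain ⟨g, rfl⟩ := hc t ht
    have key : ∀ x ∈ Subgroup.centralizer ({g * z * g⁻¹} : Set G), g⁻¹ * x * g ∈ Cz z := by
      intro x hx
      rw [Subgroup.mem_centralizer_singleton_iff] at hx ⊢
      -- hx : x * (g z g⁻¹) = (g z g⁻¹) * x  (or the symmetric form)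
      have : g⁻¹ * (x * (g * z * g⁻¹)) * g = g⁻¹ * ((g * z * g⁻¹) * x) * g := by rw [hx]
      calc g⁻¹ * x * g * z = g⁻¹ * (x * (g * z * g⁻¹)) * g := by group
        _ = g⁻¹ * ((g * z * g⁻¹) * x) * g := this
        _ = z * (g⁻¹ * x * g) := by group
    refine ⟨⟨fun x y => ?_⟩⟩
    apply Subtype.ext
    have h1 := hCcomm _ (key x.1 x.2) _ (key y.1 y.2)
    have h2 : g⁻¹ * x.1 * g * (g⁻¹ * y.1 * g) = g⁻¹ * (x.1 * y.1) * g := by group
    have h3 : g⁻¹ * y.1 * g * (g⁻¹ * x.1 * g) = g⁻¹ * (y.1 * x.1) * g := by group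
    rw [h2, h3] at h1
    have h4 := mul_left_cancel (mul_right_cancel h1)
    exact h4
  have hCp : IsPGroup 2 (Cz z) := by
    intro c
    refine ⟨1, ?_⟩
    apply Subtype.ext
    have := hexp c.1 c.2
    simp only [pow_one, pow_two, Subgroup.coe_mul, Subgroup.coe_one]
    exact this
  rcases Cfsg.Agent.S2202.result heven hab with h1 | h1 | h1
  · -- cyclic Sylow 2-subgroups: impossible
    exfalso
    obtain ⟨P, hP⟩ := hCp.exists_le_sylow
    haveI := h1 P
    have hcyc : IsCyclic (Cz z) :=
      isCyclic_of_injective (Subgroup.inclusion hP) (Subgroup.inclusion_injective hP)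
    obtain ⟨⟨c, hcC⟩, hgen⟩ := hcyc.exists_generator
    have hcard : Nat.card (Cz z) = orderOf (⟨c, hcC⟩ : Cz z) :=
      (orderOf_eq_card_of_forall_mem_zpowers hgen).symm
    have hle : orderOf (⟨c, hcC⟩ : Cz z) ≤ 2 := by
      apply Nat.le_of_dvd (by norm_num)
      apply orderOf_dvd_of_pow_eq_one
      apply Subtype.ext
      simp only [pow_two, Subgroup.coe_mul, Subgroup.coe_one]
      exact hexp c hcC
    have hbig : 8 ≤ 2 ^ (e + 1) := by
      calc 8 = 2 ^ 3 := by norm_num
        _ ≤ 2 ^ (e + 1) := Nat.pow_le_pow_right (by norm_num) (by omega)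
    omega
  · -- a normal Sylow 2-subgroup: impossible
    exfalso
    obtain ⟨P⟩ : Nonempty (Sylow 2 G) := inferInstance
    have hPn := h1 P
    haveI := Sylow.unique_of_normal P hPn
    have hmemP : ∀ t : G, orderOf t = 2 → t ∈ (P : Subgroup G) := by
      intro t ht
      have hX : IsPGroup 2 (Subgroup.zpowers t) := by
        apply IsPGroup.of_card (n := 1)
        rw [Nat.card_zpowers, ht, pow_one]
      obtain ⟨Q, hQ⟩ := hX.exists_le_sylow
      have : Q = P := Subsingleton.elim _ _
      rw [this] at hQ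
      exact hQ (Subgroup.mem_zpowers t)
    obtain ⟨a, haM, ha1⟩ : ∃ a ∈ M, a ≠ 1 := by
      by_contra hcon
      push Not at hcon
      apply h.ne
      rw [eq_bot_iff]
      intro x hx
      rw [Subgroup.mem_bot]
      exact hcon x hx
    have hzP := hmemP z h.hz
    have hazP : a * z * a⁻¹ ∈ (P : Subgroup G) := hPn.conj_mem z hzP a
    have hprod : a * z * a⁻¹ * z⁻¹ = a * a := by
      have := b.inv a⁻¹ (M.inv_mem haM)
      rw [inv_inv] at this
      calc a * z * a⁻¹ * z⁻¹ = a * (z * a⁻¹ * z⁻¹) := by group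
        _ = a * a := by rw [this]
    have haaP : a * a ∈ (P : Subgroup G) := by
      rw [← hprod]
      exact (P : Subgroup G).mul_mem hazP ((P : Subgroup G).inv_mem hzP)
    -- `a * a` has 2-power order and odd order
    have haaM : a * a ∈ M := M.mul_mem haM haM
    obtain ⟨k, hk⟩ := P.isPGroup' ⟨a * a, haaP⟩
    have hk' : (a * a) ^ 2 ^ k = 1 := by
      have := congrArg Subtype.val hk
      simpa using this
    have hoddM : Odd (Nat.card M) := b.oddM
    have h1aa : a * a = 1 := by
      have hcop : Nat.Coprime (2 ^ k) (Nat.card M) := by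
        apply Nat.Coprime.pow_left
        rw [Nat.coprime_two_left]; exact hoddM
      have hd1 : orderOf (a * a) ∣ 2 ^ k := orderOf_dvd_of_pow_eq_one hk'
      have hd2 : orderOf (a * a) ∣ Nat.card M := Subgroup.orderOf_dvd_natCard M haaM
      have := Nat.dvd_gcd hd1 hd2
      rw [hcop] at this
      exact orderOf_eq_one_iff.mp (Nat.dvd_one.mp this)
    apply ha1
    have := eq_one_of_sq_of_odd (A := M) hoddM (a := ⟨a, haM⟩) (Subtype.ext h1aa)
    exact congrArg Subtype.val this
  · obtain ⟨F, iF, iFt, A, iA, iAf, hch, hAodd, ⟨φ⟩⟩ := h1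
    refine ⟨F, iF, iFt, hch, ?_⟩
    -- the second component of `φ z` is trivial
    have hz2 : (φ z).2 = 1 := by
      apply eq_one_of_sq_of_odd hAodd
      have h2 : φ z * φ z = 1 := by
        rw [← map_mul]
        have : z * z = 1 := by
          have := pow_orderOf_eq_one z
          rwa [h.hz, pow_two] at this
        rw [this, map_one]
      exact congrArg Prod.snd h2
    have hA1 : ∀ a : A, a = 1 := by
      intro a
      apply eq_one_of_sq_of_odd hAodd
      set g : G := φ.symm (1, a) with hg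
      have hgC : g ∈ Cz z := by
        rw [Subgroup.mem_centralizer_singleton_iff]
        apply φ.injective
        rw [map_mul, map_mul, hg, φ.apply_symm_apply]
        ext
        · simp
        · simp [hz2]
      have h3 := hexp g hgC
      have h4 : φ g * φ g = 1 := by rw [← map_mul, h3, map_one]
      rw [hg, φ.apply_symm_apply] at h4
      exact congrArg Prod.snd h4
    haveI : Unique A := ⟨⟨1⟩, hA1⟩
    exact ⟨φ.trans MulEquiv.prodUnique⟩

end Cfsg.Agent.Lib.Helper90.TIInvB1b
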