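/-
helper90: S3043 module [B2b] caseB_Q (Baer–Suzuki, landed S0199).
-/
import Mathlib
import Cfsg.Agent.S0199
import Cfsg.Agent.Lib.Helper90.TIInvDefs

set_option autoImplicit false

namespace Cfsg.Agent.Lib.Helper90.TIInvB2b

open Cfsg.Agent.Lib.Helper90.TIInv

variable {G : Type*} [Group G] [Finite G] {z : G}

/-- [B2b] -/
theorem caseB_Q
    (hp : ∀ y : G, orderOf y = 2 → (∀ g : G, y ≠ g * z * g⁻¹) → ∀ g : G,
      IsPGroup 2 ↥(Subgroup.zpowers y ⊔ cj g (Subgroup.zpowers y))) :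
    ∃ Q : Subgroup G, Q.Normal ∧ IsPGroup 2 Q ∧
      ∀ y : G, orderOf y = 2 → (∀ g : G, y ≠ g * z * g⁻¹) → y ∈ Q := by
  haveI : Fact (Nat.Prime 2) := ⟨Nat.prime_two⟩
  obtain ⟨P⟩ : Nonempty (Sylow 2 G) := inferInstance
  refine ⟨(P : Subgroup G).normalCore, Subgroup.normalCore_normal _,
    P.isPGroup'.to_le (Subgroup.normalCore_le _), ?_⟩
  intro y hy hyz
  have hX : IsPGroup 2 (Subgroup.zpowers y) := by
    apply IsPGroup.of_card (n := 1)
    rw [Nat.card_zpowers, hy, pow_one]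
  obtain ⟨N', hN'n, hN'p, hle⟩ := Cfsg.Agent.S0199.result (p := 2) (Subgroup.zpowers y) hX
    (fun g => hp y hy hyz g)
  have h1 : N' ≤ (P : Subgroup G).normalCore := by
    haveI := hN'n
    rw [Subgroup.normal_le_normalCore]
    exact hN'p.le_sylow_of_normal P
  exact h1 (hle (Subgroup.mem_zpowers y))

end Cfsg.Agent.Lib.Helper90.TIInvB2b
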