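import Mathlib
import Cfsg.Agent.Lib.Helper90.SylowConj

set_option autoImplicit false
set_option linter.unusedSectionVars false

namespace Cfsg.Agent.Lib.Helper90

/-- Elementwise package: `R = C_L(z)` is a Sylow 2-subgroup of `L`, all commutators and squares of
`R` lie in `{1, z}`, and elements normalizing `R` centralize `z`. -/
structure TS {L : Type*} [Group L] (R : Sylow 2 L) (z : L) : Prop where
  zz : z * z = 1
  z1 : z ≠ 1
  memR : ∀ x : L, x ∈ R ↔ x * z = z * x
  comm : ∀ a ∈ R, ∀ b ∈ R, a * b * a⁻¹ * b⁻¹ = 1 ∨ a * b * a⁻¹ * b⁻¹ = z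
  sq : ∀ a ∈ R, a * a = 1 ∨ a * a = z
  norm : ∀ n : L, (∀ x ∈ R, n * x * n⁻¹ ∈ R) → n * z = z * n

namespace TS

variable {L : Type*} [Group L] {R : Sylow 2 L} {z : L}

theorem zR (hT : TS R z) : z ∈ R := (hT.memR z).mpr rfl

theorem zinv (hT : TS R z) : z⁻¹ = z := inv_eq_of_mul_eq_one_left hT.zz

/-- Conjugating the package. -/
theorem conj (hT : TS R z) (h : L) : TS (h • R) (h * z * h⁻¹) := by
  have hmem : ∀ x : L, x ∈ h • R ↔ h⁻¹ * x * h ∈ R := fun x => mem_sylow_smul_iff h x R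
  refine ⟨?_, ?_, ?_, ?_, ?_, ?_⟩
  · calc h * z * h⁻¹ * (h * z * h⁻¹) = h * (z * z) * h⁻¹ := by group
      _ = 1 := by rw [hT.zz]; group
  · intro hc
    apply hT.z1
    calc z = h⁻¹ * (h * z * h⁻¹) * h := by group
      _ = 1 := by rw [hc]; group
  · intro x
    rw [hmem, hT.memR]
    constructor
    · intro hx
      calc x * (h * z * h⁻¹) = h * ((h⁻¹ * x * h) * z) * h⁻¹ := by group
        _ = h * (z * (h⁻¹ * x * h)) * h⁻¹ := by rw [hx]
        _ = h * z * h⁻¹ * x := by group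
    · intro hx
      calc h⁻¹ * x * h * z = h⁻¹ * (x * (h * z * h⁻¹)) * h := by group
        _ = h⁻¹ * ((h * z * h⁻¹) * x) * h := by rw [hx]
        _ = z * (h⁻¹ * x * h) := by group
  · intro a ha b hb
    rw [hmem] at ha hb
    have e : a * b * a⁻¹ * b⁻¹ =
        h * ((h⁻¹ * a * h) * (h⁻¹ * b * h) * (h⁻¹ * a * h)⁻¹ * (h⁻¹ * b * h)⁻¹) * h⁻¹ := by group
    rcases hT.comm _ ha _ hb with h1 | h1
    · left; rw [e, h1]; group
    · right; rw [e, h1]
  · intro a ha
    rw [hmem] at ha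
    have e : a * a = h * ((h⁻¹ * a * h) * (h⁻¹ * a * h)) * h⁻¹ := by group
    rcases hT.sq _ ha with h1 | h1
    · left; rw [e, h1]; group
    · right; rw [e, h1]
  · intro n hn
    have hn' : ∀ x ∈ R, (h⁻¹ * n * h) * x * (h⁻¹ * n * h)⁻¹ ∈ R := by
      intro x hx
      have h1 : h * x * h⁻¹ ∈ h • R := by
        rw [hmem]
        have : h⁻¹ * (h * x * h⁻¹) * h = x := by group
        rw [this]; exact hx
      have h2 := hn _ h1
      rw [hmem] at h2
      have e : h⁻¹ * (n * (h * x * h⁻¹) * n⁻¹) * h = (h⁻¹ * n * h) * x * (h⁻¹ * n * h)⁻¹ := by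
        group
      rwa [e] at h2
    have h3 := hT.norm _ hn'
    calc n * (h * z * h⁻¹) = h * ((h⁻¹ * n * h) * z) * h⁻¹ := by group
      _ = h * (z * (h⁻¹ * n * h)) * h⁻¹ := by rw [h3]
      _ = h * z * h⁻¹ * n := by group

/-- For `a, b ∈ R`: they commute or `a b a⁻¹ = z b`. -/
theorem conj_or (hT : TS R z) {a b : L} (ha : a ∈ R) (hb : b ∈ R) :
    a * b = b * a ∨ a * b * a⁻¹ = z * b := by
  rcases hT.comm a ha b hb with h1 | h1
  · left
    calc a * b = (a * b * a⁻¹ * b⁻¹) * (b * a) := by group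
      _ = b * a := by rw [h1, one_mul]
  · right
    calc a * b * a⁻¹ = (a * b * a⁻¹ * b⁻¹) * b := by group
      _ = z * b := by rw [h1]

/-- If `R ⊆ h • R` then `h` centralizes `z`. -/
theorem commute_of_le_smul [Finite L] (hT : TS R z) (h : L) (hle : ∀ x ∈ R, x ∈ h • R) :
    h * z = z * h := by
  have heq : ((h • R : Sylow 2 L) : Subgroup L) = (R : Subgroup L) :=
    R.is_maximal' (h • R).isPGroup' (fun x hx => hle x hx)
  apply hT.norm
  intro x hx
  have h1 : h * x * h⁻¹ ∈ h • R := by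
    rw [mem_sylow_smul_iff]
    have : h⁻¹ * (h * x * h⁻¹) * h = x := by group
    rw [this]; exact hx
  have h2 : h * x * h⁻¹ ∈ ((h • R : Sylow 2 L) : Subgroup L) := h1
  rw [heq] at h2
  exact h2

section pair

variable [Finite L] (hT : TS R z) {h c : L} (hc : c = h * z * h⁻¹) (hcz : c * z = z * c)
  (hne : c ≠ z)

include hT hc hcz hne

/-- `c ∈ R`. -/
theorem cR : c ∈ R := (hT.memR c).mpr hcz

theorem cc : c * c = 1 := by
  rw [hc]; exact (hT.conj h).zz

/-- Membership in `C(c) = h • R`. -/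
theorem mem_smul_iff (x : L) : x ∈ h • R ↔ x * c = c * x := by
  rw [hc]; exact (hT.conj h).memR x

/-- Elements of `R` commuting with `c` commute with each other. -/
theorem D_comm {x y : L} (hx : x ∈ R) (hxc : x * c = c * x) (hy : y ∈ R) (hyc : y * c = c * y) :
    x * y = y * x := by
  have hx' : x ∈ h • R := (mem_smul_iff hT hc hcz hne x).mpr hxc
  have hy' : y ∈ h • R := (mem_smul_iff hT hc hcz hne y).mpr hyc
  have h1 := hT.comm x hx y hy
  have h2 := (hT.conj h).comm x hx' y hy'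
  rw [← hc] at h2
  have h3 : x * y * x⁻¹ * y⁻¹ = 1 := by
    rcases h1 with h1 | h1
    · exact h1
    · rcases h2 with h2 | h2
      · exact h2
      · exact absurd (h2.symm.trans h1) hne
  calc x * y = (x * y * x⁻¹ * y⁻¹) * (y * x) := by group
    _ = y * x := by rw [h3, one_mul]

/-- Elements of `R` commuting with `c` are involutions or trivial. -/
theorem D_sq {x : L} (hx : x ∈ R) (hxc : x * c = c * x) : x * x = 1 := by
  have hx' : x ∈ h • R := (mem_smul_iff hT hc hcz hne x).mpr hxc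
  have h1 := hT.sq x hx
  have h2 := (hT.conj h).sq x hx'
  rw [← hc] at h2
  rcases h1 with h1 | h1
  · exact h1
  · rcases h2 with h2 | h2
    · exact h2
    · exact absurd (h2.symm.trans h1) hne

/-- Some element of `R` does not commute with `c`. -/
theorem exists_not_commute : ∃ a ∈ R, a * c ≠ c * a := by
  by_contra hcon
  push Not at hcon
  have hle : ∀ x ∈ R, x ∈ h • R := fun x hx =>
    (mem_smul_iff hT hc hcz hne x).mpr (hcon x hx)
  have h1 := hT.commute_of_le_smul h hle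
  apply hne
  rw [hc]
  calc h * z * h⁻¹ = (h * z) * h⁻¹ := by group
    _ = (z * h) * h⁻¹ := by rw [h1]
    _ = z := by group

/-- An element of `R` not commuting with `c` conjugates `c` to `z c`. -/
theorem conj_c {a : L} (ha : a ∈ R) (hac : a * c ≠ c * a) : a * c * a⁻¹ = z * c := by
  rcases hT.conj_or ha (cR hT hc hcz hne) with h1 | h1
  · exact absurd h1 hac
  · exact h1

/-- `C_R(c)` has index two in `R`. -/
theorem D_index {x y : L} (hx : x ∈ R) (hxc : x * c ≠ c * x) (hy : y ∈ R) (hyc : y * c ≠ c * y) :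
    (x⁻¹ * y) * c = c * (x⁻¹ * y) := by
  have h1 := conj_c hT hc hcz hne hx hxc
  have h2 := conj_c hT hc hcz hne hy hyc
  have hzx : x⁻¹ * z = z * x⁻¹ := by
    have := (hT.memR x).mp hx
    calc x⁻¹ * z = x⁻¹ * (z * x) * x⁻¹ := by group
      _ = x⁻¹ * (x * z) * x⁻¹ := by rw [this]
      _ = z * x⁻¹ := by group
  calc x⁻¹ * y * c = x⁻¹ * (y * c * y⁻¹) * y := by group
    _ = x⁻¹ * (z * c) * y := by rw [h2]
    _ = x⁻¹ * (x * c * x⁻¹) * y := by rw [h1]
    _ = c * (x⁻¹ * y) := by group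

end pair

end TS

end Cfsg.Agent.Lib.Helper90
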