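import Mathlib
import Cfsg.Agent.Lib.Helper90.TSBasic

set_option autoImplicit false
set_option linter.unusedSectionVars false

namespace Cfsg.Agent.Lib.Helper90

/-- Sylow's theorem inside a subgroup `H` containing the Sylow subgroup `P`: every `p`-subgroup of
`H` is contained in an `H`-conjugate of `P`. -/
theorem exists_conj_le_in {G : Type*} [Group G] [Finite G] {p : ℕ} [Fact p.Prime] (P : Sylow p G)
    (H : Subgroup G) (hPH : (P : Subgroup G) ≤ H) (S : Subgroup G) (hSH : S ≤ H)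
    (hS : IsPGroup p S) : ∃ k ∈ H, ∀ s ∈ S, k⁻¹ * s * k ∈ P := by
  have hS' : IsPGroup p (S.subgroupOf H) := hS.comap_subtype
  obtain ⟨T, hT⟩ := hS'.exists_le_sylow
  obtain ⟨k, hk⟩ := MulAction.exists_smul_eq H (P.subtype hPH) T
  refine ⟨k, k.2, ?_⟩
  intro s hs
  have h1 : (⟨s, hSH hs⟩ : H) ∈ T := hT (by
    show s ∈ S
    exact hs)
  rw [← hk, mem_sylow_smul_iff] at h1
  have h2 : ((k⁻¹ * ⟨s, hSH hs⟩ * k : H) : G) ∈ P := by
    have : (k⁻¹ * ⟨s, hSH hs⟩ * k : H) ∈ (P : Subgroup G).subgroupOf H := by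
      rw [← Sylow.coe_subtype P hPH]; exact h1
    exact this
  simpa only [Subgroup.coe_mul, Subgroup.coe_inv] using h2

/-- The centre of the Sylow subgroup `R`, as a subgroup of `L`. -/
def ZR {L : Type*} [Group L] (R : Sylow 2 L) : Subgroup L :=
  (R : Subgroup L) ⊓ Subgroup.centralizer ((R : Subgroup L) : Set L)

theorem mem_ZR {L : Type*} [Group L] (R : Sylow 2 L) (x : L) :
    x ∈ ZR R ↔ (x ∈ R ∧ ∀ r ∈ R, r * x = x * r) := by
  unfold ZR
  rw [Subgroup.mem_inf, Subgroup.mem_centralizer_iff]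
  rfl

namespace TS

variable {L : Type*} [Group L] {R : Sylow 2 L} {z : L}

theorem z_mem_ZR (hT : TS R z) : z ∈ ZR R :=
  (mem_ZR R z).mpr ⟨hT.zR, fun r hr => (hT.memR r).mp hr⟩

section pair

variable [Finite L] (hT : TS R z) {h c : L} (hc : c = h * z * h⁻¹) (hcz : c * z = z * c)
  (hne : c ≠ z)

include hT hc hcz hne

/-- Central elements of `R` commute with `c`. -/
theorem ZR_commute_c {x : L} (hx : x ∈ ZR R) : x * c = c * x :=
  (((mem_ZR R x).mp hx).2 c (cR hT hc hcz hne)).symm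

/-- An element of `C_R(c)` commuting with `a ∉ C_R(c)` is central in `R`. -/
theorem mem_ZR_of_commute {a x : L} (ha : a ∈ R) (hac : a * c ≠ c * a) (hx : x ∈ R)
    (hxc : x * c = c * x) (hxa : x * a = a * x) : x ∈ ZR R := by
  rw [mem_ZR]
  refine ⟨hx, ?_⟩
  intro r hr
  by_cases hrc : r * c = c * r
  · exact D_comm hT hc hcz hne hr hrc hx hxc
  · have h1 := D_index hT hc hcz hne ha hac hr hrc
    have h2 : (a⁻¹ * r) * x = x * (a⁻¹ * r) :=
      D_comm hT hc hcz hne (R.mul_mem (R.inv_mem ha) hr) h1 hx hxc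
    calc r * x = a * ((a⁻¹ * r) * x) := by group
      _ = a * (x * (a⁻¹ * r)) := by rw [h2]
      _ = (a * x) * (a⁻¹ * r) := by group
      _ = (x * a) * (a⁻¹ * r) := by rw [hxa]
      _ = x * r := by group

/-- The centre has index two in `C_R(c)`. -/
theorem ZR_index {x y : L} (hx : x ∈ R) (hxc : x * c = c * x) (hxZ : x ∉ ZR R) (hy : y ∈ R)
    (hyc : y * c = c * y) (hyZ : y ∉ ZR R) : x * y ∈ ZR R := by
  obtain ⟨a, ha, hac⟩ := exists_not_commute hT hc hcz hne
  have hxa : a * x * a⁻¹ = z * x := by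
    rcases hT.conj_or ha hx with h1 | h1
    · exact absurd (mem_ZR_of_commute hT hc hcz hne ha hac hx hxc h1.symm) hxZ
    · exact h1
  have hya : a * y * a⁻¹ = z * y := by
    rcases hT.conj_or ha hy with h1 | h1
    · exact absurd (mem_ZR_of_commute hT hc hcz hne ha hac hy hyc h1.symm) hyZ
    · exact h1
  have hxz : x * z = z * x := (hT.memR x).mp hx
  have hxy : a * (x * y) * a⁻¹ = x * y := by
    calc a * (x * y) * a⁻¹ = (a * x * a⁻¹) * (a * y * a⁻¹) := by group
      _ = z * x * (z * y) := by rw [hxa, hya]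
      _ = z * (x * z) * y := by group
      _ = z * (z * x) * y := by rw [hxz]
      _ = (z * z) * (x * y) := by group
      _ = x * y := by rw [hT.zz, one_mul]
  apply mem_ZR_of_commute hT hc hcz hne ha hac (R.mul_mem hx hy)
  · calc x * y * c = x * (y * c) := by group
      _ = x * (c * y) := by rw [hyc]
      _ = (x * c) * y := by group
      _ = (c * x) * y := by rw [hxc]
      _ = c * (x * y) := by group
  · calc x * y * a = (a * (x * y) * a⁻¹)⁻¹⁻¹ * a := by rw [hxy, inv_inv]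
      _ = a * (x * y) := by group

/-- A conjugate of `z` other than `z` is not central in `R`. -/
theorem c_not_mem_ZR : c ∉ ZR R := by
  intro hcZ
  obtain ⟨a, ha, hac⟩ := exists_not_commute hT hc hcz hne
  exact hac (((mem_ZR R c).mp hcZ).2 a ha)

end pair

/-- Burnside: central elements of `R` conjugate in `L` are equal. -/
theorem burnside [Finite L] (hT : TS R z) {u v k : L} (hu : u ∈ ZR R) (hv : v ∈ ZR R)
    (hk : v = k * u * k⁻¹) : v = u := by
  have : Fact (Nat.Prime 2) := ⟨Nat.prime_two⟩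
  set H := Subgroup.centralizer ({v} : Set L) with hH
  have hRH : (R : Subgroup L) ≤ H := by
    intro r hr
    exact Subgroup.mem_centralizer_singleton_iff.mpr (((mem_ZR R v).mp hv).2 r hr)
  have hkRH : ((k • R : Sylow 2 L) : Subgroup L) ≤ H := by
    intro x hx
    have hx' : k⁻¹ * x * k ∈ R := (mem_sylow_smul_iff k x R).mp hx
    have h1 := ((mem_ZR R u).mp hu).2 _ hx'
    apply Subgroup.mem_centralizer_singleton_iff.mpr
    rw [hk]
    calc x * (k * u * k⁻¹) = k * ((k⁻¹ * x * k) * u) * k⁻¹ := by group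
      _ = k * (u * (k⁻¹ * x * k)) * k⁻¹ := by rw [h1]
      _ = k * u * k⁻¹ * x := by group
  obtain ⟨m, hmH, hm⟩ := exists_conj_le_in (k • R) H hkRH (R : Subgroup L) hRH R.isPGroup'
  have hn : ∀ x ∈ R, (m * k)⁻¹ * x * (m * k)⁻¹⁻¹ ∈ R := by
    intro x hx
    have h1 := hm x hx
    have h2 : k⁻¹ * (m⁻¹ * x * m) * k ∈ R := (mem_sylow_smul_iff k _ R).mp h1
    have e : (m * k)⁻¹ * x * (m * k)⁻¹⁻¹ = k⁻¹ * (m⁻¹ * x * m) * k := by group
    rw [e]; exact h2
  have hnz := hT.norm _ hn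
  have hnR : (m * k)⁻¹ ∈ R := (hT.memR _).mpr hnz
  have hnu := ((mem_ZR R u).mp hu).2 _ hnR
  have hmv : m * v = v * m := Subgroup.mem_centralizer_singleton_iff.mp hmH
  have h3 : m * v * m⁻¹ = u := by
    rw [hk]
    calc m * (k * u * k⁻¹) * m⁻¹ = (m * k) * (u * (m * k)⁻¹) := by group
      _ = (m * k) * ((m * k)⁻¹ * u) := by rw [hnu]
      _ = u := by group
  calc v = (v * m) * m⁻¹ := by group
    _ = (m * v) * m⁻¹ := by rw [hmv]
    _ = u := h3

/-- The only conjugate of `z` in the centre of `R` is `z`. -/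
theorem conj_mem_ZR [Finite L] (hT : TS R z) {h : L} (hc : h * z * h⁻¹ ∈ ZR R) :
    h * z * h⁻¹ = z :=
  hT.burnside hT.z_mem_ZR hc rfl

end TS

end Cfsg.Agent.Lib.Helper90
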