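import Mathlib
import Cfsg.Agent.Lib.Helper90.TSCenter

set_option autoImplicit false
set_option linter.unusedSectionVars false

namespace Cfsg.Agent.Lib.Helper90

namespace TS

variable {L : Type*} [Group L] {R : Sylow 2 L} {z : L}

/-- Two commuting conjugates of `z` in `R`, both different from `z`, are equal or differ by `z`. -/
theorem omega_commute [Finite L] (hT : TS R z) {h h' c c' : L} (hc : c = h * z * h⁻¹)
    (hcz : c * z = z * c) (hne : c ≠ z) (hc' : c' = h' * z * h'⁻¹) (hc'z : c' * z = z * c')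
    (hne' : c' ≠ z) (hcc' : c' * c = c * c') : c' = c ∨ c' = z * c := by
  have hT' : TS (h • R) c := by rw [hc]; exact hT.conj h
  have hc₂ : z = h⁻¹ * c * h⁻¹⁻¹ := by rw [hc]; group
  have hcz₂ : z * c = c * z := hcz.symm
  have hne₂ : z ≠ c := hne.symm
  obtain ⟨b, hb, hbz⟩ := exists_not_commute hT' hc₂ hcz₂ hne₂
  have hcR : c ∈ R := cR hT hc hcz hne
  have hc'R : c' ∈ R := cR hT hc' hc'z hne'
  have hc'mem : c' ∈ h • R := (mem_smul_iff hT hc hcz hne c').mpr hcc'
  rcases hT'.conj_or hb hc'mem with h1 | h1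
  · left
    have hcl : ∀ x ∈ h • R, x ∈ (h' * h⁻¹) • (h • R) := by
      intro x hx
      rw [mul_smul, inv_smul_smul, mem_smul_iff hT hc' hc'z hne']
      have hxc : x * c = c * x := (mem_smul_iff hT hc hcz hne x).mp hx
      by_cases hxz : x * z = z * x
      · exact D_comm hT hc hcz hne ((hT.memR x).mpr hxz) hxc hc'R hcc'
      · have h2 := D_index hT' hc₂ hcz₂ hne₂ hb hbz hx hxz
        have h3 : b⁻¹ * x ∈ R := (hT.memR _).mpr h2
        have h4 : (b⁻¹ * x) * c = c * (b⁻¹ * x) :=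
          (mem_smul_iff hT hc hcz hne _).mp ((h • R).mul_mem ((h • R).inv_mem hb) hx)
        have h5 : (b⁻¹ * x) * c' = c' * (b⁻¹ * x) := D_comm hT hc hcz hne h3 h4 hc'R hcc'
        calc x * c' = b * ((b⁻¹ * x) * c') := by group
          _ = b * (c' * (b⁻¹ * x)) := by rw [h5]
          _ = (b * c') * (b⁻¹ * x) := by group
          _ = (c' * b) * (b⁻¹ * x) := by rw [h1]
          _ = c' * x := by group
    have h6 := hT'.commute_of_le_smul (h' * h⁻¹) hcl
    rw [hc']
    calc h' * z * h'⁻¹ = ((h' * h⁻¹) * (h * z * h⁻¹)) * (h' * h⁻¹)⁻¹ := by group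
      _ = ((h' * h⁻¹) * c) * (h' * h⁻¹)⁻¹ := by rw [← hc]
      _ = (c * (h' * h⁻¹)) * (h' * h⁻¹)⁻¹ := by rw [h6]
      _ = c := by group
  · right
    have hcZ : c ∉ ZR R := c_not_mem_ZR hT hc hcz hne
    have hc'Z : c' ∉ ZR R := c_not_mem_ZR hT hc' hc'z hne'
    have h2 : c * c' ∈ ZR R := ZR_index hT hc hcz hne hcR rfl hcZ hc'R hcc' hc'Z
    have h3 : (b * h') * z * (b * h')⁻¹ = c * c' := by
      calc (b * h') * z * (b * h')⁻¹ = b * (h' * z * h'⁻¹) * b⁻¹ := by group
        _ = b * c' * b⁻¹ := by rw [← hc']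
        _ = c * c' := h1
    have h4 : (b * h') * z * (b * h')⁻¹ = z := by
      apply hT.conj_mem_ZR
      rw [h3]; exact h2
    have h5 : c * c' = z := h3.symm.trans h4
    have hcc := cc hT hc hcz hne
    calc c' = (c * c) * c' := by rw [hcc, one_mul]
      _ = c * (c * c') := by group
      _ = c * z := by rw [h5]
      _ = z * c := hcz

end TS

end Cfsg.Agent.Lib.Helper90
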