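import Mathlib
import Cfsg.Agent.Lib.Helper90.TSOmega
import Cfsg.Agent.Lib.Helper90.ExtTwo

set_option autoImplicit false
set_option linter.unusedSectionVars false

namespace Cfsg.Agent.Lib.Helper90

/-- A maximal subgroup `M` of `R` containing all conjugates of `z` in `R` but not `u`. -/
structure TMax {L : Type*} [Group L] (R : Sylow 2 L) (z u : L) (M : Subgroup L) : Prop where
  le : M ≤ (R : Subgroup L)
  rel : M.relIndex (R : Subgroup L) = 2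
  u_not : u ∉ M
  omega : ∀ (h' c' : L), c' = h' * z * h'⁻¹ → c' * z = z * c' → c' ∈ M

namespace TS

variable {L : Type*} [Group L] {R : Sylow 2 L} {z : L}

/-- Choice of the second generator `a'`. -/
theorem exists_second [Finite L] (hT : TS R z) {h₀ c₀ : L} (hc₀ : c₀ = h₀ * z * h₀⁻¹)
    (hc₀z : c₀ * z = z * c₀) (hne₀ : c₀ ≠ z) (Z₁ : Subgroup L) (hzZ₁ : z ∈ Z₁) :
    ∃ a' ∈ R, a' * c₀ ≠ c₀ * a' ∧ a' * a' ∈ Z₁ ∧
      ∀ (h' c' : L), c' = h' * z * h'⁻¹ → c' * z = z * c' → c' ≠ z → c' * c₀ ≠ c₀ * c' →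
        (c' = a' ∨ c' = z * a') := by
  by_cases hex : ∃ (h' c' : L), c' = h' * z * h'⁻¹ ∧ c' * z = z * c' ∧ c' ≠ z ∧
      c' * c₀ ≠ c₀ * c'
  · obtain ⟨hs, cs, hcs, hcsz, hcsne, hcsc⟩ := hex
    have hcsR := cR hT hcs hcsz hcsne
    have hcscs := cc hT hcs hcsz hcsne
    refine ⟨cs, hcsR, hcsc, by rw [hcscs]; exact Z₁.one_mem, ?_⟩
    intro h' c' hc' hc'z hc'ne hc'c
    have hc'R := cR hT hc' hc'z hc'ne
    have hc'c' := cc hT hc' hc'z hc'ne
    have hd := D_index hT hc₀ hc₀z hne₀ hcsR hcsc hc'R hc'c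
    have hdR : cs⁻¹ * c' ∈ R := R.mul_mem (R.inv_mem hcsR) hc'R
    have hdd := D_sq hT hc₀ hc₀z hne₀ hdR hd
    have hcsinv : cs⁻¹ = cs := inv_eq_of_mul_eq_one_left hcscs
    rw [hcsinv] at hdd
    have hcomm : c' * cs = cs * c' := by
      calc c' * cs = (cs * cs) * (c' * cs) * (c' * c') := by rw [hcscs, hc'c', one_mul, mul_one]
        _ = cs * (cs * c' * (cs * c')) * c' := by group
        _ = cs * c' := by rw [hdd, mul_one]
    exact omega_commute hT hcs hcsz hcsne hc' hc'z hc'ne hcomm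
  · push Not at hex
    obtain ⟨a₀, ha₀, ha₀c⟩ := exists_not_commute hT hc₀ hc₀z hne₀
    refine ⟨a₀, ha₀, ha₀c, ?_, ?_⟩
    · rcases hT.sq a₀ ha₀ with h1 | h1
      · rw [h1]; exact Z₁.one_mem
      · rw [h1]; exact hzZ₁
    · intro h' c' hc' hc'z hc'ne hc'c
      exact absurd (hex h' c' hc' hc'z hc'ne) hc'c

set_option maxHeartbeats 800000 in
/-- Existence of the maximal subgroup for the transfer argument. -/
theorem exists_TMax [Finite L] (hT : TS R z) {h₀ c₀ : L} (hc₀ : c₀ = h₀ * z * h₀⁻¹)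
    (hc₀z : c₀ * z = z * c₀) (hne₀ : c₀ ≠ z) {u : L} (hu : u ∈ ZR R) (hu1 : u ≠ 1)
    (huz : u ≠ z) : ∃ M : Subgroup L, TMax R z u M := by
  have hc₀R : c₀ ∈ R := cR hT hc₀ hc₀z hne₀
  have hc₀c₀ : c₀ * c₀ = 1 := cc hT hc₀ hc₀z hne₀
  have hc₀inv : c₀⁻¹ = c₀ := inv_eq_of_mul_eq_one_left hc₀c₀
  have hc₀Z : c₀ ∉ ZR R := c_not_mem_ZR hT hc₀ hc₀z hne₀
  obtain ⟨hu_R, hu_c⟩ := (mem_ZR R u).mp hu
  have hZcomm : ∀ x ∈ ZR R, ∀ y ∈ ZR R, x * y = y * x := fun x hx y hy =>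
    ((mem_ZR R y).mp hy).2 x ((mem_ZR R x).mp hx).1
  have hZsq : ∀ x ∈ ZR R, x * x = 1 := fun x hx =>
    D_sq hT hc₀ hc₀z hne₀ ((mem_ZR R x).mp hx).1 (ZR_commute_c hT hc₀ hc₀z hne₀ hx)
  obtain ⟨Z₁, hZ₁Z, hzZ₁, huZ₁, hZ₁cov⟩ :=
    exists_hyperplane (ZR R) hZcomm hZsq z u hT.z_mem_ZR hu hu1 huz
  obtain ⟨a', ha'R, ha'c, ha'sq, ha'Ω⟩ := exists_second hT hc₀ hc₀z hne₀ Z₁ hzZ₁
  have hZ₁central : ∀ y ∈ Z₁, ∀ r ∈ R, r * y = y * r := fun y hy r hr =>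
    ((mem_ZR R y).mp (hZ₁Z hy)).2 r hr
  have hZ₁R : ∀ y ∈ Z₁, y ∈ R := fun y hy => ((mem_ZR R y).mp (hZ₁Z hy)).1
  let D₁ : Subgroup L := extTwo Z₁ c₀ (by rw [hc₀c₀]; exact Z₁.one_mem) (by
    intro y hy
    have := hZ₁central y hy c₀ hc₀R
    have e : c₀⁻¹ * y * c₀ = y := by rw [mul_assoc, ← this]; group
    rw [e]; exact hy)
  have hD₁mem : ∀ w, w ∈ D₁ ↔ (w ∈ Z₁ ∨ c₀⁻¹ * w ∈ Z₁) := fun w => Iff.rfl
  have hD₁R : ∀ w ∈ D₁, w ∈ R := by
    intro w hw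
    rcases (hD₁mem w).mp hw with h1 | h1
    · exact hZ₁R w h1
    · have : w = c₀ * (c₀⁻¹ * w) := by group
      rw [this]; exact R.mul_mem hc₀R (hZ₁R _ h1)
  have hD₁c : ∀ w ∈ D₁, w * c₀ = c₀ * w := by
    intro w hw
    rcases (hD₁mem w).mp hw with h1 | h1
    · exact (hZ₁central w h1 c₀ hc₀R).symm
    · have h2 := hZ₁central _ h1 c₀ hc₀R
      calc w * c₀ = c₀ * ((c₀⁻¹ * w) * c₀) := by group
        _ = c₀ * (c₀ * (c₀⁻¹ * w)) := by rw [h2]
        _ = c₀ * w := by group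
  have ha'inv : a'⁻¹ ∈ R := R.inv_mem ha'R
  have ha'invc : a'⁻¹ * c₀ ≠ c₀ * a'⁻¹ := by
    intro h; apply ha'c
    calc a' * c₀ = a' * (c₀ * a'⁻¹) * a' := by group
      _ = a' * (a'⁻¹ * c₀) * a' := by rw [h]
      _ = c₀ * a' := by group
  have hconj_inv : a'⁻¹ * c₀ * a'⁻¹⁻¹ = z * c₀ := conj_c hT hc₀ hc₀z hne₀ ha'inv ha'invc
  have hzc₀inv : c₀⁻¹ * z = z * c₀⁻¹ := by
    rw [hc₀inv]; exact hc₀z
  let M : Subgroup L := extTwo D₁ a' (Or.inl ha'sq) (by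
    intro w hw
    rcases (hD₁mem w).mp hw with h1 | h1
    · left
      have := hZ₁central w h1 a'⁻¹ ha'inv
      have e : a'⁻¹ * w * a' = w := by rw [this]; group
      rw [e]; exact h1
    · right
      have h2 := hZ₁central _ h1 a'⁻¹ ha'inv
      have e1 : a'⁻¹ * w * a' = z * w := by
        calc a'⁻¹ * w * a' = (a'⁻¹ * c₀ * a'⁻¹⁻¹) * ((a'⁻¹ * (c₀⁻¹ * w)) * a') := by group
          _ = (z * c₀) * (((c₀⁻¹ * w) * a'⁻¹) * a') := by rw [hconj_inv, h2]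
          _ = z * w := by group
      have e2 : c₀⁻¹ * (a'⁻¹ * w * a') = z * (c₀⁻¹ * w) := by
        rw [e1, ← mul_assoc, hzc₀inv, mul_assoc]
      rw [e2]; exact Z₁.mul_mem hzZ₁ h1)
  have hMmem : ∀ w, w ∈ M ↔ (w ∈ D₁ ∨ a'⁻¹ * w ∈ D₁) := fun w => Iff.rfl
  have hMR : M ≤ (R : Subgroup L) := by
    intro w hw
    rcases (hMmem w).mp hw with h1 | h1
    · exact hD₁R w h1
    · have : w = a' * (a'⁻¹ * w) := by group
      rw [this]; exact R.mul_mem ha'R (hD₁R _ h1)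
  have huD₁ : u ∉ D₁ := by
    intro h
    rcases (hD₁mem u).mp h with h1 | h1
    · exact huZ₁ h1
    · apply hc₀Z
      have h2 : c₀⁻¹ * u ∈ ZR R := hZ₁Z h1
      have h3 : (c₀⁻¹ * u) * u⁻¹ ∈ ZR R := (ZR R).mul_mem h2 ((ZR R).inv_mem hu)
      have e : (c₀⁻¹ * u) * u⁻¹ = c₀ := by rw [hc₀inv]; group
      rwa [e] at h3
  have huM : u ∉ M := by
    intro h
    rcases (hMmem u).mp h with h1 | h1
    · exact huD₁ h1
    · apply ha'invc
      have h2 := hD₁c _ h1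
      have h3 : c₀ * u = u * c₀ := hu_c c₀ hc₀R
      have h3' : u⁻¹ * c₀ = c₀ * u⁻¹ := by
        calc u⁻¹ * c₀ = u⁻¹ * (c₀ * u) * u⁻¹ := by group
          _ = u⁻¹ * (u * c₀) * u⁻¹ := by rw [h3]
          _ = c₀ * u⁻¹ := by group
      calc a'⁻¹ * c₀ = (a'⁻¹ * u) * (u⁻¹ * c₀) := by group
        _ = (a'⁻¹ * u) * (c₀ * u⁻¹) := by rw [h3']
        _ = ((a'⁻¹ * u) * c₀) * u⁻¹ := by group
        _ = (c₀ * (a'⁻¹ * u)) * u⁻¹ := by rw [h2]
        _ = c₀ * a'⁻¹ := by group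
  have hcover : ∀ d ∈ R, d * c₀ = c₀ * d → (d ∈ D₁ ∨ d * u ∈ D₁) := by
    intro d hd hdc
    have hud : d * u = u * d := hu_c d hd
    by_cases hdZ : d ∈ ZR R
    · rcases hZ₁cov d hdZ with h1 | h1
      · exact Or.inl (Or.inl h1)
      · right; left; rw [hud]; exact h1
    · have h1 : c₀ * d ∈ ZR R := ZR_index hT hc₀ hc₀z hne₀ hc₀R rfl hc₀Z hd hdc hdZ
      rcases hZ₁cov _ h1 with h2 | h2
      · left; right; rw [hc₀inv]; exact h2
      · right; right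
        have e : c₀⁻¹ * (d * u) = u * (c₀ * d) := by
          rw [hc₀inv, hud, ← mul_assoc, ← mul_assoc, hu_c c₀ hc₀R]
        rw [e]; exact h2
  have hrel : M.relIndex (R : Subgroup L) = 2 := by
    rw [Subgroup.relIndex_eq_two_iff]
    refine ⟨u, hu_R, ?_⟩
    intro b hb
    have hone : b * u ∈ M ∨ b ∈ M := by
      by_cases hbc : b * c₀ = c₀ * b
      · rcases hcover b hb hbc with h1 | h1
        · exact Or.inr (Or.inl h1)
        · exact Or.inl (Or.inl h1)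
      · have h1 := D_index hT hc₀ hc₀z hne₀ ha'R ha'c hb hbc
        rcases hcover _ (R.mul_mem ha'inv hb) h1 with h2 | h2
        · exact Or.inr (Or.inr h2)
        · left; right
          have e : a'⁻¹ * (b * u) = a'⁻¹ * b * u := by group
          rw [e]; exact h2
    rcases hone with h1 | h1
    · left
      refine ⟨h1, ?_⟩
      intro h2
      apply huM
      have := M.mul_mem (M.inv_mem h2) h1
      have e : b⁻¹ * (b * u) = u := by group
      rwa [e] at this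
    · right
      refine ⟨h1, ?_⟩
      intro h2
      apply huM
      have := M.mul_mem (M.inv_mem h1) h2
      have e : b⁻¹ * (b * u) = u := by group
      rwa [e] at this
  have hΩM : ∀ (h' c' : L), c' = h' * z * h'⁻¹ → c' * z = z * c' → c' ∈ M := by
    intro h' c' hc' hc'z
    by_cases hc'ne : c' = z
    · rw [hc'ne]; exact Or.inl (Or.inl hzZ₁)
    · by_cases hc'c : c' * c₀ = c₀ * c'
      · rcases omega_commute hT hc₀ hc₀z hne₀ hc' hc'z hc'ne hc'c with h1 | h1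
        · rw [h1]; left; right
          have : c₀⁻¹ * c₀ = 1 := by group
          rw [this]; exact Z₁.one_mem
        · rw [h1]; left; right
          have : c₀⁻¹ * (z * c₀) = z := by rw [← mul_assoc, hzc₀inv]; group
          rw [this]; exact hzZ₁
      · rcases ha'Ω h' c' hc' hc'z hc'ne hc'c with h1 | h1
        · rw [h1]; right; left
          have : a'⁻¹ * a' = 1 := by group
          rw [this]; exact Z₁.one_mem
        · rw [h1]; right; left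
          have hza' : a'⁻¹ * z = z * a'⁻¹ := (hT.memR _).mp ha'inv
          have : a'⁻¹ * (z * a') = z := by rw [← mul_assoc, hza']; group
          rw [this]; exact hzZ₁
  exact ⟨M, hMR, hrel, huM, hΩM⟩

end TS

end Cfsg.Agent.Lib.Helper90
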