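import Mathlib
import Cfsg.Agent.Lib.Helper90.TSMax
import Cfsg.Agent.Lib.Helper90.Klein
import Cfsg.Agent.Lib.Helper90.ESPairX
import Cfsg.Agent.S0111

set_option autoImplicit false
set_option linter.unusedSectionVars false

namespace Cfsg.Agent.Lib.Helper90

/-- An element fixing `z` and mapping `s` into `{s, zs}` normalizes the four-group. -/
theorem conj_mem_kleinFour_left {L : Type*} [Group L] (z s : L) (hzz : z * z = 1) (hss : s * s = 1)
    (hzs : z * s = s * z) {r : L} (hrz : r * z * r⁻¹ = z)
    (hrs : r * s * r⁻¹ = s ∨ r * s * r⁻¹ = z * s) {w : L} (hw : w ∈ kleinFour z s hzz hss hzs) :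
    r * w * r⁻¹ ∈ kleinFour z s hzz hss hzs := by
  rw [mem_kleinFour] at hw ⊢
  have e : r * (z * s) * r⁻¹ = (r * z * r⁻¹) * (r * s * r⁻¹) := by group
  rcases hw with h | h | h | h
  · left; rw [h]; group
  · right; left; rw [h, hrz]
  · rcases hrs with h1 | h1
    · right; right; left; rw [h, h1]
    · right; right; right; rw [h, h1]
  · rcases hrs with h1 | h1
    · right; right; right; rw [h, e, hrz, h1]
    · right; right; left; rw [h, e, hrz, h1, ← mul_assoc, hzz, one_mul]

/-- An element fixing `s` and mapping `z` into `{z, zs}` normalizes the four-group. -/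
theorem conj_mem_kleinFour_right {L : Type*} [Group L] (z s : L) (hzz : z * z = 1)
    (hss : s * s = 1) (hzs : z * s = s * z) {r : L} (hrs : r * s * r⁻¹ = s)
    (hrz : r * z * r⁻¹ = z ∨ r * z * r⁻¹ = z * s) {w : L}
    (hw : w ∈ kleinFour z s hzz hss hzs) : r * w * r⁻¹ ∈ kleinFour z s hzz hss hzs := by
  rw [mem_kleinFour] at hw ⊢
  have e : r * (z * s) * r⁻¹ = (r * z * r⁻¹) * (r * s * r⁻¹) := by group
  rcases hw with h | h | h | h
  · left; rw [h]; group
  · rcases hrz with h1 | h1
    · right; left; rw [h, h1]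
    · right; right; right; rw [h, h1]
  · right; right; left; rw [h, hrs]
  · rcases hrz with h1 | h1
    · right; right; right; rw [h, e, hrs, h1]
    · right; left; rw [h, e, hrs, h1, mul_assoc, hss, mul_one]

namespace TS

variable {L : Type*} [Group L] {R : Sylow 2 L} {z : L}

set_option maxHeartbeats 800000 in
/-- The Thompson transfer argument: the maximal subgroup `M` cannot exist in a group without
normal subgroups of index two. -/
theorem transfer_contra [Finite L] (hT : TS R z)
    (hno2 : ∀ M : Subgroup L, M.Normal → M.index ≠ 2) {u : L} (hu : u ∈ ZR R) (hu1 : u ≠ 1)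
    (huu : u * u = 1) {M : Subgroup L} (hM : TMax R z u M) : False := by
  have : Fact (Nat.Prime 2) := ⟨Nat.prime_two⟩
  obtain ⟨hu_R, hu_c⟩ := (mem_ZR R u).mp hu
  have hord : orderOf u = 2 := orderOf_eq_prime (by rw [pow_two]; exact huu) hu1
  rcases Cfsg.Agent.S0111.result R M hM.le hM.rel u hord hu_R hM.u_not with
    ⟨N, hN, hNidx, _⟩ | ⟨g, hg⟩
  · exact hno2 N hN hNidx
  · have hvR : g * u * g⁻¹ ∈ R := hM.le hg
    by_cases hvZ : g * u * g⁻¹ ∈ ZR R
    · have h1 := hT.burnside hu hvZ rfl
      apply hM.u_not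
      rw [← h1]; exact hg
    · set v := g * u * g⁻¹ with hv
      set H := Subgroup.centralizer ({v} : Set L) with hH
      have hgRH : ((g • R : Sylow 2 L) : Subgroup L) ≤ H := by
        intro x hx
        have hx' : g⁻¹ * x * g ∈ R := (mem_sylow_smul_iff g x R).mp hx
        have h1 := hu_c _ hx'
        apply Subgroup.mem_centralizer_singleton_iff.mpr
        rw [hv]
        calc x * (g * u * g⁻¹) = g * ((g⁻¹ * x * g) * u) * g⁻¹ := by group
          _ = g * (u * (g⁻¹ * x * g)) * g⁻¹ := by rw [h1]
          _ = g * u * g⁻¹ * x := by group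
      obtain ⟨k, hkH, hk⟩ := exists_conj_le_in (g • R) H hgRH ((R : Subgroup L) ⊓ H) inf_le_right
        (R.isPGroup'.to_le inf_le_left)
      have hkv : k * v = v * k := Subgroup.mem_centralizer_singleton_iff.mp hkH
      have hv' : v = (k * g) * u * (k * g)⁻¹ := by
        calc v = (k * v) * k⁻¹ := by rw [hkv]; group
          _ = (k * g) * u * (k * g)⁻¹ := by rw [hv]; group
      have hzS : z ∈ (R : Subgroup L) ⊓ H :=
        ⟨hT.zR, Subgroup.mem_centralizer_singleton_iff.mpr ((hT.memR v).mp hvR).symm⟩
      have h1 := hk z hzS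
      have h2 : g⁻¹ * (k⁻¹ * z * k) * g ∈ R := (mem_sylow_smul_iff g _ R).mp h1
      have h3 := (hT.memR _).mp h2
      have hz'z : ((k * g) * z * (k * g)⁻¹) * z = z * ((k * g) * z * (k * g)⁻¹) := by
        calc ((k * g) * z * (k * g)⁻¹) * z
            = (k * g) * (z * (g⁻¹ * (k⁻¹ * z * k) * g)) * (k * g)⁻¹ := by group
          _ = (k * g) * ((g⁻¹ * (k⁻¹ * z * k) * g) * z) * (k * g)⁻¹ := by rw [h3]
          _ = z * ((k * g) * z * (k * g)⁻¹) := by group
      have hz'ne : (k * g) * z * (k * g)⁻¹ ≠ z := by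
        intro h
        apply hvZ
        have h4 : (k * g) * z = z * (k * g) := by
          calc (k * g) * z = ((k * g) * z * (k * g)⁻¹) * (k * g) := by group
            _ = z * (k * g) := by rw [h]
        have h5 : k * g ∈ R := (hT.memR _).mpr h4
        have h6 := hu_c _ h5
        have h7 : v = u := by
          rw [hv']
          calc (k * g) * u * (k * g)⁻¹ = (u * (k * g)) * (k * g)⁻¹ := by rw [h6]
            _ = u := by group
        rw [h7]; exact hu
      set h' := k * g with hh'
      set z' := h' * z * h'⁻¹ with hz'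
      have hz'M : z' ∈ M := hM.omega h' z' rfl hz'z
      have hzM : z ∈ M := hM.omega 1 z (by group) rfl
      have hT' : TS (h' • R) z' := hT.conj h'
      have hz'R : z' ∈ R := (hT.memR z').mpr hz'z
      have hz'z' : z' * z' = 1 := hT'.zz
      have hzz' : z * z' = z' * z := hz'z.symm
      -- Sylow conjugacy in N = ⟨R, h' • R⟩
      obtain ⟨n, hnN, hn⟩ := exists_conj_le_in R
        ((R : Subgroup L) ⊔ ((h' • R : Sylow 2 L) : Subgroup L)) le_sup_left
        ((h' • R : Sylow 2 L) : Subgroup L) le_sup_right (h' • R).isPGroup'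
      have hnorm : ∀ x ∈ R, (n⁻¹ * h') * x * (n⁻¹ * h')⁻¹ ∈ R := by
        intro x hx
        have h4 : h' * x * h'⁻¹ ∈ h' • R := by
          rw [mem_sylow_smul_iff]
          have : h'⁻¹ * (h' * x * h'⁻¹) * h' = x := by group
          rw [this]; exact hx
        have h5 := hn _ h4
        have e : (n⁻¹ * h') * x * (n⁻¹ * h')⁻¹ = n⁻¹ * (h' * x * h'⁻¹) * n := by group
        rw [e]; exact h5
      have h4 := hT.norm _ hnorm
      have h5 : n⁻¹ * h' ∈ R := (hT.memR _).mpr h4
      have h6 := hu_c _ h5
      have hvn : v = n * u * n⁻¹ := by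
        rw [hv']
        calc h' * u * h'⁻¹ = n * ((n⁻¹ * h') * u) * (n⁻¹ * h')⁻¹ * n⁻¹ := by group
          _ = n * (u * (n⁻¹ * h')) * (n⁻¹ * h')⁻¹ * n⁻¹ := by rw [h6]
          _ = n * u * n⁻¹ := by group
      -- the orbit of `u` under `N`
      set V := kleinFour z z' hT.zz hz'z' hzz' with hV
      have hA : (R : Subgroup L) ≤ Subgroup.normalizer (V : Set L) := by
        rw [Subgroup.le_normalizer_iff]
        intro r hr w hw
        have hrz : r * z * r⁻¹ = z := by rw [(hT.memR r).mp hr]; group
        have hrz' : r * z' * r⁻¹ = z' ∨ r * z' * r⁻¹ = z * z' := by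
          rcases hT.conj_or hr hz'R with h7 | h7
          · left; rw [h7]; group
          · right; exact h7
        exact conj_mem_kleinFour_left z z' hT.zz hz'z' hzz' hrz hrz' hw
      have hzR' : z ∈ h' • R := (hT'.memR z).mpr hzz'
      have hB : ((h' • R : Sylow 2 L) : Subgroup L) ≤ Subgroup.normalizer (V : Set L) := by
        rw [Subgroup.le_normalizer_iff]
        intro r hr w hw
        have hrz' : r * z' * r⁻¹ = z' := by rw [(hT'.memR r).mp hr]; group
        have hrz : r * z * r⁻¹ = z ∨ r * z * r⁻¹ = z * z' := by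
          rcases hT'.conj_or hr hzR' with h7 | h7
          · left; rw [h7]; group
          · right; rw [h7, hzz']
        exact conj_mem_kleinFour_right z z' hT.zz hz'z' hzz' hrz' hrz hw
      have huR' : u ∈ h' • R := (hT'.memR u).mpr (hu_c z' hz'R).symm
      have hAc : ∀ q ∈ (R : Subgroup L), ∀ c ∈ ({u} : Set L), q * c * q⁻¹ * c⁻¹ ∈ V := by
        intro q hq c hc
        rw [Set.mem_singleton_iff] at hc
        rw [hc, hu_c q hq]
        have : u * q * q⁻¹ * u⁻¹ = 1 := by group
        rw [this]; exact V.one_mem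
      have hBc : ∀ q ∈ ((h' • R : Sylow 2 L) : Subgroup L), ∀ c ∈ ({u} : Set L),
          q * c * q⁻¹ * c⁻¹ ∈ V := by
        intro q hq c hc
        rw [Set.mem_singleton_iff] at hc
        rw [hc, hV, mem_kleinFour]
        rcases hT'.comm q hq u huR' with h7 | h7
        · left; exact h7
        · right; right; left; exact h7
      have key := comm_mem_of_sup V (R : Subgroup L) ((h' • R : Sylow 2 L) : Subgroup L)
        ({u} : Set L) hA hB hAc hBc n hnN u rfl
      have hVM : V ≤ M := by
        intro w hw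
        rw [hV, mem_kleinFour] at hw
        rcases hw with h7 | h7 | h7 | h7
        · rw [h7]; exact M.one_mem
        · rw [h7]; exact hzM
        · rw [h7]; exact hz'M
        · rw [h7]; exact M.mul_mem hzM hz'M
      apply hM.u_not
      have h8 : v ∈ M := hg
      have h9 := M.mul_mem (M.inv_mem (hVM key)) h8
      have e : (n * u * n⁻¹ * u⁻¹)⁻¹ * v = u := by rw [hvn]; group
      rwa [e] at h9

end TS

end Cfsg.Agent.Lib.Helper90
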