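import Mathlib
import Cfsg.Prelude.Def_TwoFusion
import Cfsg.Agent.Lib.Helper90.TSTransfer
import Cfsg.Agent.Lib.Helper90.ESCriterion
import Cfsg.Agent.Lib.Helper90.FrattiniAct
import Cfsg.Agent.S1183
import Cfsg.Agent.S3684

set_option autoImplicit false
set_option linter.unusedSectionVars false

namespace Cfsg.Agent.Lib.Helper90

open Cfsg

/-- The package `TS` from the hypotheses "`R = C_L(z)` is a Sylow 2-subgroup with
`Φ(R) = ⟨z⟩`". -/
theorem ts_of_hyps {L : Type*} [Group L] [Finite L] (z : L) (hz : orderOf z = 2) (R : Sylow 2 L)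
    (hR : (R : Subgroup L) = Subgroup.centralizer ({z} : Set L))
    (hΦ : (frattini ↥(R : Subgroup L)).map (R : Subgroup L).subtype = Subgroup.zpowers z) :
    TS R z := by
  have : Fact (Nat.Prime 2) := ⟨Nat.prime_two⟩
  have hz1 : z ≠ 1 := by
    intro hc; rw [hc, orderOf_one] at hz; omega
  have hzz : z * z = 1 := by
    have := pow_orderOf_eq_one z
    rw [hz, pow_two] at this
    exact this
  have hmemΦ : ∀ x : L, x ∈ (frattini ↥(R : Subgroup L)).map (R : Subgroup L).subtype ↔
      (x = 1 ∨ x = z) := by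
    intro x; rw [hΦ]; exact mem_zpowers_of_involution z hzz x
  have hmemR : ∀ x : L, x ∈ R ↔ x * z = z * x := by
    intro x
    have : x ∈ R ↔ x ∈ (R : Subgroup L) := Iff.rfl
    rw [this, hR, Subgroup.mem_centralizer_singleton_iff]
  have h12 := Cfsg.Agent.S0012.result (G := ↥(R : Subgroup L)) 2 R.isPGroup'
  refine ⟨hzz, hz1, hmemR, ?_, ?_, ?_⟩
  · intro a ha b hb
    apply (hmemΦ _).mp
    have h1 : (⟨a, ha⟩ : ↥(R : Subgroup L)) * ⟨b, hb⟩ * (⟨a, ha⟩ : ↥(R : Subgroup L))⁻¹ *
        (⟨b, hb⟩ : ↥(R : Subgroup L))⁻¹ ∈ commutator ↥(R : Subgroup L) := by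
      rw [commutator_def]
      have := Subgroup.commutator_mem_commutator (H₁ := (⊤ : Subgroup ↥(R : Subgroup L)))
        (H₂ := (⊤ : Subgroup ↥(R : Subgroup L))) (g₁ := ⟨a, ha⟩) (g₂ := ⟨b, hb⟩)
        (Subgroup.mem_top _) (Subgroup.mem_top _)
      rwa [commutatorElement_def] at this
    exact ⟨_, h12.1 h1, by simp⟩
  · intro a ha
    apply (hmemΦ _).mp
    have h1 := h12.2 ⟨a, ha⟩
    exact ⟨_, h1, by simp [pow_two]⟩
  · intro n hn
    have hnN : n ∈ Subgroup.normalizer ((R : Subgroup L) : Set L) :=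
      Subgroup.mem_normalizer_fintype (fun x hx => hn x hx)
    have hzΦ : z ∈ (frattini ↥(R : Subgroup L)).map (R : Subgroup L).subtype :=
      (hmemΦ z).mpr (Or.inr rfl)
    have h1 := conj_mem_frattini_map (R : Subgroup L) hnN hzΦ
    rcases (hmemΦ _).mp h1 with h2 | h2
    · exfalso; apply hz1
      calc z = n⁻¹ * (n * z * n⁻¹) * n := by group
        _ = 1 := by rw [h2]; group
    · calc n * z = (n * z * n⁻¹) * n := by group
        _ = z * n := by rw [h2]

/-- A non-abelian finite simple group has no normal subgroup of index two. -/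
theorem no_index_two_of_simple {L : Type*} [Group L] [Finite L] [IsSimpleGroup L]
    (hL : ¬ IsMulCommutative L) : ∀ M : Subgroup L, M.Normal → M.index ≠ 2 := by
  intro M hM hidx
  rcases hM.eq_bot_or_eq_top with h | h
  · -- `L` has order two, hence is commutative
    apply hL
    rw [h, Subgroup.index_bot] at hidx
    have hcyc : IsCyclic L := isCyclic_of_prime_card (p := 2) hidx
    exact IsCyclic.isMulCommutative
  · rw [h, Subgroup.index_top] at hidx
    omega

/-- In a non-abelian finite simple group `O^2(L) = L`. -/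
theorem pResidual_eq_top_of_simple {L : Type*} [Group L] [Finite L] [IsSimpleGroup L]
    (hL : ¬ IsMulCommutative L) : Cfsg.pResidual 2 L = ⊤ := by
  have : Fact (Nat.Prime 2) := ⟨Nat.prime_two⟩
  have hn := Cfsg.Agent.S1183.pResidual_normal 2 L
  rcases hn.eq_bot_or_eq_top with h | h
  · exfalso
    have hP : IsPGroup 2 L := by
      intro c
      obtain ⟨k, m, hm, hkm⟩ := Nat.exists_eq_two_pow_mul_odd (orderOf_pos c).ne'
      refine ⟨k, ?_⟩
      have hmem : c ^ 2 ^ k ∈ Cfsg.pResidual 2 L := by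
        apply Subgroup.subset_closure
        show Nat.Coprime (orderOf (c ^ 2 ^ k)) 2
        have hdvd : orderOf (c ^ 2 ^ k) ∣ m := by
          apply orderOf_dvd_of_pow_eq_one
          rw [← pow_mul, ← hkm, pow_orderOf_eq_one]
        exact Nat.Coprime.coprime_dvd_left hdvd (Nat.coprime_two_right.mpr hm)
      rw [h, Subgroup.mem_bot] at hmem
      exact hmem
    have hnt : Nontrivial (Subgroup.center L) := hP.center_nontrivial
    have hcn : (Subgroup.center L).Normal := inferInstance
    rcases hcn.eq_bot_or_eq_top with h1 | h1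
    · rw [h1] at hnt
      exact not_nontrivial _ hnt
    · apply hL
      refine ⟨⟨fun a b => ?_⟩⟩
      have ha : a ∈ Subgroup.center L := by rw [h1]; exact Subgroup.mem_top a
      exact (Subgroup.mem_center_iff.mp ha b).symm
  · exact h

/-- Under the hypotheses, `z` is not isolated: some conjugate of `z` other than `z` lies in `R`. -/
theorem exists_conj_of_simple {L : Type*} [Group L] [Finite L] [IsSimpleGroup L]
    (hL : ¬ IsMulCommutative L) (z : L) (hz : orderOf z = 2) (R : Sylow 2 L)
    (hR : (R : Subgroup L) = Subgroup.centralizer ({z} : Set L)) :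
    ∃ h : L, (h * z * h⁻¹) * z = z * (h * z * h⁻¹) ∧ h * z * h⁻¹ ≠ z := by
  by_contra hcon
  push Not at hcon
  have hiso : Cfsg.IsIsolatedInvolution z := by
    refine ⟨hz, ?_⟩
    intro g hg
    exact hcon g hg.eq.symm
  have h1 := (Cfsg.Agent.S1183.result z hiso).mp (pResidual_eq_top_of_simple hL)
  -- but the centralizer is a nontrivial 2-group
  have hP : IsPGroup 2 ↥(Subgroup.centralizer ({z} : Set L)) := by
    rw [← hR]; exact R.isPGroup'
  have hbot : Cfsg.pResidual 2 ↥(Subgroup.centralizer ({z} : Set L)) = ⊥ := by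
    unfold Cfsg.pResidual
    rw [Subgroup.closure_eq_bot_iff]
    intro x hx
    rw [Set.mem_singleton_iff]
    obtain ⟨k, hk⟩ := hP x
    have h2 : orderOf x ∣ 2 ^ k := orderOf_dvd_of_pow_eq_one hk
    have h3 : Nat.Coprime (orderOf x) (2 ^ k) := Nat.Coprime.pow_right k hx
    have h4 : orderOf x = 1 := Nat.Coprime.eq_one_of_dvd h3 h2
    exact orderOf_eq_one_iff.mp h4
  rw [hbot] at h1
  have hzC : z ∈ Subgroup.centralizer ({z} : Set L) :=
    Subgroup.mem_centralizer_singleton_iff.mpr rfl
  have h5 : (⟨z, hzC⟩ : ↥(Subgroup.centralizer ({z} : Set L))) ∈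
      (⊥ : Subgroup ↥(Subgroup.centralizer ({z} : Set L))) := by rw [h1]; exact Subgroup.mem_top _
  rw [Subgroup.mem_bot] at h5
  have h6 : z = 1 := congrArg Subtype.val h5
  rw [h6, orderOf_one] at hz
  omega

end Cfsg.Agent.Lib.Helper90
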