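import Mathlib
import Cfsg.Agent.Lib.Helper90.TSFinal

set_option autoImplicit false
set_option linter.unusedSectionVars false

namespace Cfsg.Agent.Lib.Helper90

namespace TS

variable {L : Type*} [Group L] {R : Sylow 2 L} {z : L}

/-- The centre of `R` is `{1, z}` when `L` has no normal subgroup of index two. -/
theorem ZR_eq [Finite L] (hT : TS R z)
    (hno2 : ∀ M : Subgroup L, M.Normal → M.index ≠ 2) {h₀ c₀ : L} (hc₀ : c₀ = h₀ * z * h₀⁻¹)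
    (hc₀z : c₀ * z = z * c₀) (hne₀ : c₀ ≠ z) : ∀ u ∈ ZR R, u = 1 ∨ u = z := by
  intro u hu
  by_contra hcon
  push Not at hcon
  obtain ⟨hu1, huz⟩ := hcon
  have huu : u * u = 1 :=
    D_sq hT hc₀ hc₀z hne₀ ((mem_ZR R u).mp hu).1 (ZR_commute_c hT hc₀ hc₀z hne₀ hu)
  obtain ⟨M, hM⟩ := exists_TMax hT hc₀ hc₀z hne₀ hu hu1 huz
  exact transfer_contra hT hno2 hu hu1 huu hM

/-- An involution of `R` not commuting with `c₀`. -/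
theorem exists_invol_not_commute [Finite L] (hT : TS R z) {h₀ c₀ : L} (hc₀ : c₀ = h₀ * z * h₀⁻¹)
    (hc₀z : c₀ * z = z * c₀) (hne₀ : c₀ ≠ z) :
    ∃ a ∈ R, a * c₀ ≠ c₀ * a ∧ a * a = 1 := by
  obtain ⟨a₀, ha₀, ha₀c⟩ := exists_not_commute hT hc₀ hc₀z hne₀
  have hc₀R : c₀ ∈ R := cR hT hc₀ hc₀z hne₀
  have hc₀c₀ : c₀ * c₀ = 1 := cc hT hc₀ hc₀z hne₀
  rcases hT.sq a₀ ha₀ with h1 | h1
  · exact ⟨a₀, ha₀, ha₀c, h1⟩
  · refine ⟨a₀ * c₀, R.mul_mem ha₀ hc₀R, ?_, ?_⟩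
    · intro h2
      apply ha₀c
      have h3 : a₀ * c₀ * c₀ * c₀ = c₀ * (a₀ * c₀) * c₀ := by rw [h2]
      calc a₀ * c₀ = a₀ * c₀ * (c₀ * c₀) := by rw [hc₀c₀, mul_one]
        _ = a₀ * c₀ * c₀ * c₀ := by group
        _ = c₀ * (a₀ * c₀) * c₀ := h3
        _ = c₀ * a₀ * (c₀ * c₀) := by group
        _ = c₀ * a₀ := by rw [hc₀c₀, mul_one]
    · have h2 := conj_c hT hc₀ hc₀z hne₀ ha₀ ha₀c
      have h3 : a₀ * c₀ = z * c₀ * a₀ := by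
        calc a₀ * c₀ = (a₀ * c₀ * a₀⁻¹) * a₀ := by group
          _ = z * c₀ * a₀ := by rw [h2]
      calc a₀ * c₀ * (a₀ * c₀) = (a₀ * c₀) * a₀ * c₀ := by group
        _ = z * c₀ * a₀ * a₀ * c₀ := by rw [h3]
        _ = z * c₀ * (a₀ * a₀) * c₀ := by group
        _ = z * (c₀ * z) * c₀ := by rw [h1]; group
        _ = z * (z * c₀) * c₀ := by rw [hc₀z]
        _ = (z * z) * (c₀ * c₀) := by group
        _ = 1 := by rw [hT.zz, hc₀c₀, one_mul]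

/-- Normal form of the elements of `R`. -/
theorem normal_form [Finite L] (hT : TS R z) {h₀ c₀ : L} (hc₀ : c₀ = h₀ * z * h₀⁻¹)
    (hc₀z : c₀ * z = z * c₀) (hne₀ : c₀ ≠ z) (hZ : ∀ u ∈ ZR R, u = 1 ∨ u = z)
    {a : L} (ha : a ∈ R) (hac : a * c₀ ≠ c₀ * a) :
    ∀ r ∈ R, ∃ w : L, (w = 1 ∨ w = a) ∧ ∃ v : L, (v = 1 ∨ v = c₀) ∧ ∃ e : L, (e = 1 ∨ e = z) ∧
      r = w * v * e := by
  have hc₀R : c₀ ∈ R := cR hT hc₀ hc₀z hne₀
  have hc₀c₀ : c₀ * c₀ = 1 := cc hT hc₀ hc₀z hne₀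
  have hc₀Z : c₀ ∉ ZR R := c_not_mem_ZR hT hc₀ hc₀z hne₀
  -- elements commuting with c₀
  have hD : ∀ r ∈ R, r * c₀ = c₀ * r → ∃ v : L, (v = 1 ∨ v = c₀) ∧ ∃ e : L, (e = 1 ∨ e = z) ∧
      r = v * e := by
    intro r hr hrc
    by_cases hrZ : r ∈ ZR R
    · exact ⟨1, Or.inl rfl, r, hZ r hrZ, by rw [one_mul]⟩
    · have h1 := ZR_index hT hc₀ hc₀z hne₀ hc₀R rfl hc₀Z hr hrc hrZ
      refine ⟨c₀, Or.inr rfl, c₀ * r, hZ _ h1, ?_⟩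
      calc r = (c₀ * c₀) * r := by rw [hc₀c₀, one_mul]
        _ = c₀ * (c₀ * r) := by group
  intro r hr
  by_cases hrc : r * c₀ = c₀ * r
  · obtain ⟨v, hv, e, he, hre⟩ := hD r hr hrc
    exact ⟨1, Or.inl rfl, v, hv, e, he, by rw [one_mul]; exact hre⟩
  · have h1 := D_index hT hc₀ hc₀z hne₀ ha hac hr hrc
    have h2 : a⁻¹ * r ∈ R := R.mul_mem (R.inv_mem ha) hr
    obtain ⟨v, hv, e, he, hre⟩ := hD _ h2 h1
    refine ⟨a, Or.inr rfl, v, hv, e, he, ?_⟩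
    calc r = a * (a⁻¹ * r) := by group
      _ = a * (v * e) := by rw [hre]
      _ = a * v * e := by group

end TS

end Cfsg.Agent.Lib.Helper90
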