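import Mathlib
import Cfsg.Agent.Lib.Helper90.TSDihedral

set_option autoImplicit false
set_option linter.unusedSectionVars false

namespace Cfsg.Agent.Lib.Helper90

/-- A non-commutative finite `2`-group of order at most `8` has order `8`. -/
theorem card_eq_eight_of_noncomm {G : Type*} [Group G] [Finite G] (hG : IsPGroup 2 G)
    (hle : Nat.card G ≤ 8) {a b : G} (hab : a * b ≠ b * a) : Nat.card G = 8 := by
  have : Fact (Nat.Prime 2) := ⟨Nat.prime_two⟩
  obtain ⟨k, hk⟩ := IsPGroup.iff_card.mp hG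
  have hk3 : k ≤ 3 := by
    by_contra hcon
    push Not at hcon
    have : 2 ^ 4 ≤ 2 ^ k := Nat.pow_le_pow_right (by norm_num) hcon
    omega
  interval_cases k
  · exfalso
    apply hab
    have : Subsingleton G := (Nat.card_eq_one_iff_unique.mp (by simpa using hk)).1
    exact Subsingleton.elim _ _
  · exfalso
    apply hab
    have hcyc : IsCyclic G := isCyclic_of_prime_card (p := 2) (by simpa using hk)
    have : IsMulCommutative G := IsCyclic.isMulCommutative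
    exact mul_comm' a b
  · exfalso
    apply hab
    have : IsMulCommutative G := IsPGroup.isMulCommutative_of_card_eq_prime_sq (p := 2) hk
    exact mul_comm' a b
  · simpa using hk

namespace TS

variable {L : Type*} [Group L] {R : Sylow 2 L} {z : L}

theorem card_le_eight [Finite L] (hT : TS R z) {c₀ a : L} (hc₀R : c₀ ∈ R) (ha : a ∈ R)
    (hnf : ∀ r ∈ R, ∃ w : L, (w = 1 ∨ w = a) ∧ ∃ v : L, (v = 1 ∨ v = c₀) ∧
      ∃ e : L, (e = 1 ∨ e = z) ∧ r = w * v * e) :
    Nat.card ↥(R : Subgroup L) ≤ 8 := by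
  let f : Bool × Bool × Bool → ↥(R : Subgroup L) := fun p =>
    (if p.1 then ⟨a, ha⟩ else 1) * (if p.2.1 then ⟨c₀, hc₀R⟩ else 1) *
      (if p.2.2 then ⟨z, hT.zR⟩ else 1)
  have hb : ∀ (w x : L), (w = 1 ∨ w = x) → ∃ i : Bool, w = if i then x else 1 := by
    intro w x hw
    rcases hw with h | h
    · exact ⟨false, by simp [h]⟩
    · exact ⟨true, by simp [h]⟩
  have hf : Function.Surjective f := by
    intro r
    obtain ⟨w, hw, v, hv, e, he, hr⟩ := hnf r.1 r.2
    obtain ⟨i, hi⟩ := hb w a hw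
    obtain ⟨j, hj⟩ := hb v c₀ hv
    obtain ⟨k, hk⟩ := hb e z he
    refine ⟨(i, j, k), ?_⟩
    apply Subtype.ext
    rw [hr, hi, hj, hk]
    cases i <;> cases j <;> cases k <;> simp [f]
  have h1 := Nat.card_le_card_of_surjective f hf
  have h2 : Nat.card (Bool × Bool × Bool) = 8 := by
    simp [Nat.card_eq_fintype_card]
  omega

/-- Main structural conclusion: `R` is dihedral of order eight. -/
theorem equiv_dihedral [Finite L] (hT : TS R z)
    (hno2 : ∀ M : Subgroup L, M.Normal → M.index ≠ 2) {h₀ c₀ : L} (hc₀ : c₀ = h₀ * z * h₀⁻¹)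
    (hc₀z : c₀ * z = z * c₀) (hne₀ : c₀ ≠ z) :
    Nonempty (↥(R : Subgroup L) ≃* DihedralGroup 4) := by
  have : Fact (Nat.Prime 2) := ⟨Nat.prime_two⟩
  have hZ := ZR_eq hT hno2 hc₀ hc₀z hne₀
  obtain ⟨a, ha, hac, haa⟩ := exists_invol_not_commute hT hc₀ hc₀z hne₀
  have hc₀R := cR hT hc₀ hc₀z hne₀
  have hc₀c₀ := cc hT hc₀ hc₀z hne₀
  have hnf := normal_form hT hc₀ hc₀z hne₀ hZ ha hac
  have hle := card_le_eight hT hc₀R ha hnf
  have hcard : Nat.card ↥(R : Subgroup L) = 8 := by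
    apply card_eq_eight_of_noncomm R.isPGroup' hle (a := ⟨a, ha⟩) (b := ⟨c₀, hc₀R⟩)
    intro h
    exact hac (congrArg Subtype.val h)
  have hainv : a⁻¹ = a := inv_eq_of_mul_eq_one_left haa
  have h2 := conj_c hT hc₀ hc₀z hne₀ ha hac
  rw [hainv] at h2
  have hsq : (c₀ * a) * (c₀ * a) = z := by
    calc (c₀ * a) * (c₀ * a) = c₀ * (a * c₀ * a) := by group
      _ = c₀ * (z * c₀) := by rw [h2]
      _ = (c₀ * z) * c₀ := by group
      _ = z * (c₀ * c₀) := by rw [hc₀z]; group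
      _ = z := by rw [hc₀c₀, mul_one]
  let s : ↥(R : Subgroup L) := ⟨c₀, hc₀R⟩
  let t : ↥(R : Subgroup L) := ⟨a, ha⟩
  let zR : ↥(R : Subgroup L) := ⟨z, hT.zR⟩
  have hss : s * s = 1 := Subtype.ext hc₀c₀
  have htt : t * t = 1 := Subtype.ext haa
  have hst : (s * t) * (s * t) = zR := Subtype.ext hsq
  have hn : (s * t) ^ 4 = 1 := by
    have h4 : (s * t) ^ 4 = ((s * t) * (s * t)) * ((s * t) * (s * t)) := by
      rw [show (4 : ℕ) = 2 + 2 from rfl, pow_add, pow_two]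
    rw [h4, hst]
    exact Subtype.ext hT.zz
  have hgen : Subgroup.zpowers s ⊔ Subgroup.zpowers t = ⊤ := by
    rw [eq_top_iff]
    intro r _
    have hsH : s ∈ Subgroup.zpowers s ⊔ Subgroup.zpowers t :=
      (le_sup_left : Subgroup.zpowers s ≤ _) (Subgroup.mem_zpowers s)
    have htH : t ∈ Subgroup.zpowers s ⊔ Subgroup.zpowers t :=
      (le_sup_right : Subgroup.zpowers t ≤ _) (Subgroup.mem_zpowers t)
    have hzH : zR ∈ Subgroup.zpowers s ⊔ Subgroup.zpowers t := by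
      rw [← hst]
      exact Subgroup.mul_mem _ (Subgroup.mul_mem _ hsH htH) (Subgroup.mul_mem _ hsH htH)
    have hmem : ∀ (w x : L) (hxR : x ∈ R) (hw : w = 1 ∨ w = x),
        (⟨x, hxR⟩ : ↥(R : Subgroup L)) ∈ Subgroup.zpowers s ⊔ Subgroup.zpowers t →
        ∃ hwR : w ∈ R, (⟨w, hwR⟩ : ↥(R : Subgroup L)) ∈ Subgroup.zpowers s ⊔ Subgroup.zpowers t := by
      intro w x hxR hw hx
      rcases hw with h | h
      · refine ⟨by rw [h]; exact R.one_mem, ?_⟩
        have h5 : (⟨w, by rw [h]; exact R.one_mem⟩ : ↥(R : Subgroup L)) = 1 := Subtype.ext h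
        rw [h5]
        exact Subgroup.one_mem _
      · refine ⟨by rw [h]; exact hxR, ?_⟩
        have h5 : (⟨w, by rw [h]; exact hxR⟩ : ↥(R : Subgroup L)) = ⟨x, hxR⟩ := Subtype.ext h
        rw [h5]
        exact hx
    obtain ⟨w, hw, v, hv, e, he, hr⟩ := hnf r.1 r.2
    obtain ⟨hwR, hwH⟩ := hmem w a ha hw htH
    obtain ⟨hvR, hvH⟩ := hmem v c₀ hc₀R hv hsH
    obtain ⟨heR, heH⟩ := hmem e z hT.zR he hzH
    have hr' : r = ⟨w, hwR⟩ * ⟨v, hvR⟩ * ⟨e, heR⟩ := Subtype.ext hr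
    rw [hr']
    exact Subgroup.mul_mem _ (Subgroup.mul_mem _ hwH hvH) heH
  obtain ⟨e⟩ := Cfsg.Agent.S3684.dihedral_equiv s t hss htt 4 (by norm_num) hn hgen
    (by rw [hcard])
  exact ⟨e.symm⟩

end TS

end Cfsg.Agent.Lib.Helper90
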