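/-
helper90: pure group identities used for S5559 (exponent-3 two-generator groups have central
commutator; basic consequences).
-/
import Mathlib

set_option autoImplicit false

namespace Cfsg.Agent.Lib.Helper90.TT232

section Pure
variable {G : Type*} [Group G]

theorem cube_expand {y : G} (hy : y ^ 3 = 1) : y * y * y = 1 := by
  rw [← pow_three', hy]

theorem sq_eq_inv_of_cube {y : G} (hy : y ^ 3 = 1) : y * y = y⁻¹ :=
  eq_inv_of_mul_eq_one_left (cube_expand hy)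

theorem inv_sq_eq_of_cube {y : G} (hy : y ^ 3 = 1) : y⁻¹ * y⁻¹ = y := by
  have h := sq_eq_inv_of_cube hy
  calc y⁻¹ * y⁻¹ = (y * y)⁻¹ := by group
    _ = y := by rw [h, inv_inv]

theorem inv_cube {y : G} (hy : y ^ 3 = 1) : y⁻¹ ^ 3 = 1 := by
  rw [inv_pow, hy, inv_one]

/-- In a group where `y, x*y, x*y⁻¹` all have order dividing 3, the commutator
`x*y*x⁻¹*y⁻¹` commutes with `x`. -/
theorem b23_comm_left {x y : G} (hy : y ^ 3 = 1) (hxy : (x * y) ^ 3 = 1)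
    (hxy' : (x * y⁻¹) ^ 3 = 1) : (x * y * x⁻¹ * y⁻¹) * x = x * (x * y * x⁻¹ * y⁻¹) := by
  have h1 : x⁻¹ * y⁻¹ * x⁻¹ = y * x * y := by
    have h : (x * y) * (x * y) * (x * y) = 1 := cube_expand hxy
    calc x⁻¹ * y⁻¹ * x⁻¹ = x⁻¹ * y⁻¹ * x⁻¹ * ((x * y) * (x * y) * (x * y)) := by rw [h, mul_one]
      _ = y * x * y := by group
  have h2 : y * y = y⁻¹ := sq_eq_inv_of_cube hy
  have key : x * y * (x⁻¹ * y⁻¹ * x⁻¹) * y * x * y⁻¹ = 1 := by
    rw [h1]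
    calc x * y * (y * x * y) * y * x * y⁻¹ = x * (y * y) * x * (y * y) * x * y⁻¹ := by group
      _ = x * y⁻¹ * x * y⁻¹ * x * y⁻¹ := by rw [h2]
      _ = (x * y⁻¹) * (x * y⁻¹) * (x * y⁻¹) := by group
      _ = 1 := cube_expand hxy'
  have h3 : x * (x * y * x⁻¹ * y⁻¹) * x⁻¹ * (x * y * x⁻¹ * y⁻¹)⁻¹
      = x * (x * y * (x⁻¹ * y⁻¹ * x⁻¹) * y * x * y⁻¹) * x⁻¹ := by group
  rw [key] at h3
  have h4 : x * (x * y * x⁻¹ * y⁻¹) * x⁻¹ * (x * y * x⁻¹ * y⁻¹)⁻¹ = 1 := by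
    rw [h3]; group
  have h5 := mul_inv_eq_one.mp h4
  calc (x * y * x⁻¹ * y⁻¹) * x = (x * (x * y * x⁻¹ * y⁻¹) * x⁻¹) * x := by rw [h5]
    _ = x * (x * y * x⁻¹ * y⁻¹) := by group

/-- Same hypotheses (with `x` of order dividing 3): the commutator `x*y*x⁻¹*y⁻¹` commutes
with `y`. -/
theorem b23_comm_right {x y : G} (hx : x ^ 3 = 1) (hxy : (x * y) ^ 3 = 1)
    (hxy' : (x * y⁻¹) ^ 3 = 1) : (x * y * x⁻¹ * y⁻¹) * y = y * (x * y * x⁻¹ * y⁻¹) := by
  have hyx : (y * x) ^ 3 = 1 := by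
    have h : (y * x) * (y * x) * (y * x) = y * ((x * y) * (x * y) * (x * y)) * y⁻¹ := by group
    rw [pow_three', h, cube_expand hxy]; group
  have hyx' : (y * x⁻¹) ^ 3 = 1 := by
    have h : (y * x⁻¹) * (y * x⁻¹) * (y * x⁻¹)
        = ((x * y⁻¹) * (x * y⁻¹) * (x * y⁻¹))⁻¹ := by group
    rw [pow_three', h, cube_expand hxy']; group
  have h : Commute (y * x * y⁻¹ * x⁻¹) y := b23_comm_left (x := y) (y := x) hx hyx hyx'
  have hc : x * y * x⁻¹ * y⁻¹ = (y * x * y⁻¹ * x⁻¹)⁻¹ := by group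
  rw [hc]
  exact h.inv_left.eq

theorem comm_pow_aux {x y z : G} (h1 : y * x = z * x * y) (hzx : Commute z x) (n : ℕ) :
    y * x ^ n = z ^ n * x ^ n * y := by
  induction n with
  | zero => simp
  | succ n ih =>
    calc y * x ^ (n + 1) = (y * x ^ n) * x := by rw [pow_succ, mul_assoc]
      _ = z ^ n * x ^ n * (y * x) := by rw [ih]; simp only [mul_assoc]
      _ = z ^ n * x ^ n * (z * x * y) := by rw [h1]
      _ = z ^ n * (x ^ n * z) * x * y := by simp only [mul_assoc]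
      _ = z ^ n * (z * x ^ n) * x * y := by rw [(hzx.pow_right n).eq]
      _ = z ^ (n + 1) * x ^ (n + 1) * y := by rw [pow_succ, pow_succ]; simp only [mul_assoc]

/-- If `z = y*x*y⁻¹*x⁻¹` commutes with `x` and `x^3 = 1` then `z^3 = 1`. -/
theorem comm_cube {x y z : G} (hz : z = y * x * y⁻¹ * x⁻¹) (hzx : z * x = x * z)
    (hx : x ^ 3 = 1) : z ^ 3 = 1 := by
  have h1 : y * x = z * x * y := by rw [hz]; group
  have h2 := comm_pow_aux h1 hzx 3
  rw [hx, mul_one, mul_one] at h2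
  calc z ^ 3 = (z ^ 3 * y) * y⁻¹ := by group
    _ = 1 := by rw [← h2]; group

end Pure

end Cfsg.Agent.Lib.Helper90.TT232
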