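/-
helper90: S5559, abstract ("A-level") part.  A group `A` generated by a class `D` of involutions
whose pairwise products have order dividing 3 and lie in a 3-subgroup `P`, together with a
lattice-valued "fixed point" function `fix` (fixed points on a coprime abelian module), subject to
the 3-transposition module condition `dag` and the generation lemma `ml`.
-/
import Mathlib
import Cfsg.Agent.Lib.Helper90.Rel54
import Cfsg.Agent.Lib.Helper90.TT232Pure

set_option autoImplicit false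

namespace Cfsg.Agent.Lib.Helper90.TT232

open Subgroup

structure AData (A : Type*) [Group A] (L : Type*) [Lattice L] where
  D : Set A
  P : Subgroup A
  P3 : IsPGroup 3 P
  sq : ∀ s ∈ D, s * s = 1
  inP : ∀ s ∈ D, ∀ t ∈ D, s * t ∈ P
  cube : ∀ s ∈ D, ∀ t ∈ D, (s * t) ^ 3 = 1
  conj : ∀ s ∈ D, ∀ g : A, g * s * g⁻¹ ∈ D
  gen : Subgroup.closure D = ⊤
  two : ∃ s ∈ D, ∃ t ∈ D, s ≠ t
  fix : A → L
  Q : L
  fix_le : ∀ a, fix a ≤ Q
  fix_one : fix 1 = Q
  fix_mul : ∀ a b, fix a ⊓ fix b ≤ fix (a * b)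
  fix_inv : ∀ a, fix a ≤ fix a⁻¹
  fix_conj : ∀ z, (∀ a, z * a = a * z) → ∀ s g, fix z ≤ fix s → fix z ≤ fix (g * s * g⁻¹)
  dag : ∀ s ∈ D, ∀ t ∈ D, s ≠ t → fix (s * t) ≤ fix s
  ml : ∀ z, (∀ a, z * a = a * z) → ∀ a b, fix z ≤ fix (a ^ 3) → fix z ≤ fix (b ^ 3) →
      fix z ≤ fix (a * b * a⁻¹ * b⁻¹) →
      fix z ≤ (fix z ⊓ fix a) ⊔ (fix z ⊓ fix b) ⊔ (fix z ⊓ fix (a * b)) ⊔
        (fix z ⊓ fix (a * b ^ 2))
  faith : ∀ s ∈ D, ¬ Q ≤ fix s

namespace AData

variable {A : Type*} [Group A] {L : Type*} [Lattice L] (M : AData A L)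

/-- The set of `x` with `s * x ∈ D`. -/
def X (s : A) : Set A := {x | s * x ∈ M.D}

variable {M}
variable {s x y : A}

theorem inv_eq (hs : s ∈ M.D) : s⁻¹ = s := inv_eq_of_mul_eq_one_left (M.sq s hs)

theorem X_one (hs : s ∈ M.D) : (1 : A) ∈ M.X s := by
  show s * 1 ∈ M.D
  rwa [mul_one]

theorem mul_X (hs : s ∈ M.D) : s * (s * x) = x := by
  rw [← mul_assoc, M.sq s hs, one_mul]

theorem mem_X_of_mem_D (hs : s ∈ M.D) {t : A} (ht : t ∈ M.D) : s * t ∈ M.X s := by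
  show s * (s * t) ∈ M.D
  rwa [mul_X hs]

theorem X_mem_P (hs : s ∈ M.D) (hx : x ∈ M.X s) : x ∈ M.P := by
  have h := M.inP s hs (s * x) hx
  rwa [mul_X hs] at h

theorem X_inverted (_hs : s ∈ M.D) (hx : x ∈ M.X s) : s * x * s = x⁻¹ := by
  have h := M.sq (s * x) hx
  apply eq_inv_of_mul_eq_one_left
  rw [← h]; group

theorem X_inverted' (hs : s ∈ M.D) (hx : x ∈ M.X s) : s * x * s⁻¹ = x⁻¹ := by
  rw [inv_eq hs, X_inverted hs hx]

theorem X_cube (hs : s ∈ M.D) (hx : x ∈ M.X s) : x ^ 3 = 1 := by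
  have h := M.cube s hs (s * x) hx
  rwa [mul_X hs] at h

theorem X_inv_mem (hs : s ∈ M.D) (hx : x ∈ M.X s) : x⁻¹ ∈ M.X s := by
  have h1 : s * x⁻¹ = s * (s * x) * s⁻¹ := by
    rw [← X_inverted hs hx, inv_eq hs]
    simp only [mul_assoc]
  show s * x⁻¹ ∈ M.D
  rw [h1]
  exact M.conj _ hx s

theorem X_prod_cube (hs : s ∈ M.D) (hx : x ∈ M.X s) (hy : y ∈ M.X s) : (x⁻¹ * y) ^ 3 = 1 := by
  have h := M.cube (s * x) hx (s * y) hy
  have h2 : (s * x) * (s * y) = x⁻¹ * y := by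
    calc (s * x) * (s * y) = (s * x * s) * y := by group
      _ = x⁻¹ * y := by rw [X_inverted hs hx]
  rwa [h2] at h

theorem X_of_inverted (hs : s ∈ M.D) {p : A} (hp : p ∈ M.P) (hinv : s * p * s = p⁻¹) :
    p ∈ M.X s := by
  obtain ⟨k, hk⟩ := M.P3 ⟨p, hp⟩
  have hk' : p ^ (3 ^ k) = 1 := by
    have := congrArg Subtype.val hk
    simpa using this
  obtain ⟨m, hm⟩ : Odd (3 ^ k) := Odd.pow (by decide)
  set r := p ^ (m + 1) with hr
  have hrr : r * r = p := by
    rw [hr, ← pow_add]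
    have : m + 1 + (m + 1) = 3 ^ k + 1 := by omega
    rw [this, pow_succ, hk', one_mul]
  have hrinv : s * r * s = r⁻¹ := by
    have h1 : s * p ^ (m + 1) * s⁻¹ = (s * p * s⁻¹) ^ (m + 1) := (conj_pow).symm
    rw [inv_eq hs] at h1
    rw [hr, h1, hinv, inv_pow]
  have h1 := M.conj s hs r
  have h2 : r * s * r⁻¹ = p * s := by
    rw [← hrinv]
    calc r * s * (s * r * s) = r * (s * s) * r * s := by group
      _ = p * s := by rw [M.sq s hs, mul_one, hrr]
  rw [h2] at h1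
  have h3 := M.conj (p * s) h1 s
  have h4 : s * (p * s) * s⁻¹ = s * p := by group
  rw [h4] at h3
  exact h3

theorem sx_eq_conj (hs : s ∈ M.D) (hx : x ∈ M.X s) : s * x = x * s * x⁻¹ := by
  have h1 := X_inverted hs hx
  have h2 := sq_eq_inv_of_cube (X_cube hs hx)
  calc s * x = (s * x * s) * s⁻¹ := by group
    _ = x⁻¹ * s := by rw [h1, inv_eq hs]
    _ = (x * x) * s := by rw [h2]
    _ = x * s * (s * x * s) := by
        rw [show x * s * (s * x * s) = x * (s * s) * x * s by group, M.sq s hs, mul_one]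
    _ = x * s * x⁻¹ := by rw [h1]

theorem fix_X_le (hs : s ∈ M.D) (hx : x ∈ M.X s) (hx1 : x ≠ 1) : M.fix x ≤ M.fix s := by
  have hne : s ≠ s * x := by
    intro h
    apply hx1
    have : s * 1 = s * x := by rw [mul_one]; exact h
    exact (mul_left_cancel this).symm
  have h := M.dag s hs (s * x) hx hne
  rwa [mul_X hs] at h

/-- Conjugation by `s` as a word identity: `s * (a * b) * s = (s * a * s) * (s * b * s)`. -/
theorem conj_mul_s (hs : s ∈ M.D) (a b : A) : s * (a * b) * s = (s * a * s) * (s * b * s) := by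
  rw [show (s * a * s) * (s * b * s) = s * a * (s * s) * b * s by group, M.sq s hs, mul_one]
  group

theorem conj_inv_s (hs : s ∈ M.D) (a : A) : s * a⁻¹ * s = (s * a * s)⁻¹ := by
  have : (s * a * s)⁻¹ = s⁻¹ * a⁻¹ * s⁻¹ := by group
  rw [this, inv_eq hs]

theorem conj_conj_s (hs : s ∈ M.D) (a : A) : s * (s * a * s) * s = a := by
  rw [show s * (s * a * s) * s = (s * s) * a * (s * s) by group, M.sq s hs, one_mul, mul_one]

/-- K1: the commutator of two elements of `X s` is central in the group they generate, has order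
dividing 3, and is centralised by `s`. -/
theorem K1_x (hs : s ∈ M.D) (hx : x ∈ M.X s) (hy : y ∈ M.X s) :
    (y * x * y⁻¹ * x⁻¹) * x = x * (y * x * y⁻¹ * x⁻¹) := by
  have h1 : (y * x) ^ 3 = 1 := by
    have := X_prod_cube hs (X_inv_mem hs hy) hx
    rwa [inv_inv] at this
  have h2 : (y * x⁻¹) ^ 3 = 1 := by
    have := X_prod_cube hs (X_inv_mem hs hy) (X_inv_mem hs hx)
    rwa [inv_inv] at this
  exact b23_comm_right (X_cube hs hy) h1 h2

theorem K1_y (hs : s ∈ M.D) (hx : x ∈ M.X s) (hy : y ∈ M.X s) :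
    (y * x * y⁻¹ * x⁻¹) * y = y * (y * x * y⁻¹ * x⁻¹) := by
  have h1 : (y * x) ^ 3 = 1 := by
    have := X_prod_cube hs (X_inv_mem hs hy) hx
    rwa [inv_inv] at this
  have h2 : (y * x⁻¹) ^ 3 = 1 := by
    have := X_prod_cube hs (X_inv_mem hs hy) (X_inv_mem hs hx)
    rwa [inv_inv] at this
  exact b23_comm_left (X_cube hs hx) h1 h2

theorem K1_cube (hs : s ∈ M.D) (hx : x ∈ M.X s) (hy : y ∈ M.X s) :
    (y * x * y⁻¹ * x⁻¹) ^ 3 = 1 :=
  comm_cube rfl (K1_x hs hx hy) (X_cube hs hx)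

theorem K1_s (hs : s ∈ M.D) (hx : x ∈ M.X s) (hy : y ∈ M.X s) :
    s * (y * x * y⁻¹ * x⁻¹) * s = y * x * y⁻¹ * x⁻¹ := by
  have e1 : s * (y * x * y⁻¹ * x⁻¹) * s = y⁻¹ * x⁻¹ * y * x := by
    rw [conj_mul_s hs, conj_mul_s hs, conj_mul_s hs, conj_inv_s hs, conj_inv_s hs,
      X_inverted hs hx, X_inverted hs hy, inv_inv, inv_inv]
  rw [e1]
  have hzx := K1_x hs hx hy
  have hzy := K1_y hs hx hy
  set z := y * x * y⁻¹ * x⁻¹ with hz
  have h1 : y * x = z * x * y := by rw [hz]; group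
  have hzx' : Commute z x⁻¹ := (show Commute z x from hzx).inv_right
  have hzy' : Commute z y⁻¹ := (show Commute z y from hzy).inv_right
  calc y⁻¹ * x⁻¹ * y * x = y⁻¹ * x⁻¹ * (y * x) := by group
    _ = y⁻¹ * x⁻¹ * (z * x * y) := by rw [h1]
    _ = y⁻¹ * (x⁻¹ * z) * x * y := by group
    _ = y⁻¹ * (z * x⁻¹) * x * y := by rw [hzx'.eq]
    _ = (y⁻¹ * z) * y := by group
    _ = z * y⁻¹ * y := by rw [hzy'.eq]
    _ = z := by group

/-- F1: two commuting elements of `X s` generate a cyclic group. -/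
theorem F1 (hs : s ∈ M.D) (hx : x ∈ M.X s) (hy : y ∈ M.X s) (hx1 : x ≠ 1)
    (hxy : x * y = y * x) : y = 1 ∨ y = x ∨ y = x⁻¹ := by
  by_contra hcon
  push Not at hcon
  obtain ⟨h1, h2, h3⟩ := hcon
  have hx3 := X_cube hs hx
  have hy3 := X_cube hs hy
  have hc1 : ∀ a : A, (1 : A) * a = a * 1 := by intro a; simp
  have hcomm1 : x * y * x⁻¹ * y⁻¹ = 1 := by rw [hxy]; group
  have hml := M.ml 1 hc1 x y (by rw [hx3]) (by rw [hy3]) (by rw [hcomm1])
  have hxP := X_mem_P hs hx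
  have hyP := X_mem_P hs hy
  have hxinv := X_inverted hs hx
  have hyinv := X_inverted hs hy
  -- x * y ∈ X s
  have hxyX : x * y ∈ M.X s := by
    apply X_of_inverted hs (M.P.mul_mem hxP hyP)
    rw [conj_mul_s hs, hxinv, hyinv, hxy]; group
  have hxy1 : x * y ≠ 1 := by
    intro h
    exact h3 (eq_inv_of_mul_eq_one_right h)
  have hyy : y ^ 2 = y⁻¹ := by rw [pow_two]; exact sq_eq_inv_of_cube hy3
  have hxy2X : x * y ^ 2 ∈ M.X s := by
    rw [hyy]
    apply X_of_inverted hs (M.P.mul_mem hxP (M.P.inv_mem hyP))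
    rw [conj_mul_s hs, conj_inv_s hs, hxinv, hyinv, inv_inv]
    have : x * y⁻¹ = y⁻¹ * x := by
      have hc : Commute x y := hxy
      exact hc.inv_right.eq
    rw [this]; group
  have hxy21 : x * y ^ 2 ≠ 1 := by
    rw [hyy]
    intro h
    apply h2
    have := eq_inv_of_mul_eq_one_left h
    rw [inv_inv] at this
    exact this.symm
  have e1 := fix_X_le hs hx hx1
  have e2 := fix_X_le hs hy h1
  have e3 := fix_X_le hs hxyX hxy1
  have e4 := fix_X_le hs hxy2X hxy21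
  apply M.faith s hs
  rw [← M.fix_one]
  refine hml.trans ?_
  exact sup_le (sup_le (sup_le (inf_le_right.trans e1) (inf_le_right.trans e2))
    (inf_le_right.trans e3)) (inf_le_right.trans e4)

end AData

end Cfsg.Agent.Lib.Helper90.TT232
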