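/-
helper90: S5559, abstract part continued: centre / second centre arguments.
-/
import Mathlib
import Cfsg.Agent.Lib.Helper90.TT232A

set_option autoImplicit false

namespace Cfsg.Agent.Lib.Helper90.TT232

open Subgroup

namespace AData

variable {A : Type*} [Group A] {L : Type*} [Lattice L] (M : AData A L)

/-- `g` commutes with all of `X d`. -/
def cen (d g : A) : Prop := ∀ x ∈ M.X d, g * x = x * g

/-- The subgroup generated by `X d`. -/
def Pc (d : A) : Subgroup A := Subgroup.closure (M.X d)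

/-- commutator word -/
def cm (a b : A) : A := a * b * a⁻¹ * b⁻¹

variable {M}
variable {d g h x y : A}

theorem cm_def (a b : A) : cm a b = a * b * a⁻¹ * b⁻¹ := rfl

theorem cm_eq_one_iff (a b : A) : cm a b = 1 ↔ a * b = b * a := by
  rw [cm_def]
  constructor
  · intro h
    calc a * b = (a * b * a⁻¹ * b⁻¹) * (b * a) := by group
      _ = b * a := by rw [h, one_mul]
  · intro h
    rw [h]; group

theorem Pc_le_P (hd : d ∈ M.D) : M.Pc d ≤ M.P :=
  (Subgroup.closure_le _).2 (fun _ hx => X_mem_P hd hx)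

theorem X_le_Pc (hx : x ∈ M.X d) : x ∈ M.Pc d := Subgroup.subset_closure hx

theorem cen_closure (hg : M.cen d g) : ∀ h ∈ M.Pc d, g * h = h * g := by
  intro h hh
  induction hh using Subgroup.closure_induction with
  | mem x hx => exact hg x hx
  | one => simp
  | mul a b _ _ iha ihb => rw [← mul_assoc, iha, mul_assoc, ihb, ← mul_assoc]
  | inv a _ iha => exact (show Commute g a from iha).inv_right.eq

theorem cen_mul {g₁ g₂ : A} (h₁ : M.cen d g₁) (h₂ : M.cen d g₂) : M.cen d (g₁ * g₂) := by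
  intro x hx
  rw [mul_assoc, h₂ x hx, ← mul_assoc, h₁ x hx, mul_assoc]

theorem cen_inv (h₁ : M.cen d g) : M.cen d g⁻¹ := by
  intro x hx
  exact (show Commute g x from h₁ x hx).inv_left.eq

theorem cen_one : M.cen d 1 := by
  intro x _; simp

theorem conj_d_Pc (hd : d ∈ M.D) (hh : h ∈ M.Pc d) : d * h * d ∈ M.Pc d := by
  induction hh using Subgroup.closure_induction with
  | mem x hx =>
    rw [X_inverted hd hx]
    exact X_le_Pc (X_inv_mem hd hx)
  | one => rw [mul_one, M.sq d hd]; exact one_mem _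
  | mul a b _ _ iha ihb => rw [conj_mul_s hd]; exact mul_mem iha ihb
  | inv a _ iha => rw [conj_inv_s hd]; exact inv_mem iha

theorem eq_one_of_sq_of_mem_P {p : A} (hp : p ∈ M.P) (h2 : p * p = 1) : p = 1 := by
  obtain ⟨k, hk⟩ := M.P3 ⟨p, hp⟩
  have hk' : p ^ (3 ^ k) = 1 := by
    have := congrArg Subtype.val hk
    simpa using this
  have h1 : orderOf p ∣ 2 := orderOf_dvd_of_pow_eq_one (by rw [pow_two, h2])
  have h3 : orderOf p ∣ 3 ^ k := orderOf_dvd_of_pow_eq_one hk'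
  have hcop : Nat.Coprime 2 (3 ^ k) := Nat.Coprime.pow_right k (by decide)
  have : orderOf p = 1 := Nat.eq_one_of_dvd_coprimes hcop h1 h3
  exact orderOf_eq_one_iff.mp this

section C2

variable (hd : d ∈ M.D) (hC2 : ∀ z ∈ M.X d, z ≠ 1 → ¬ M.cen d z)
include hd hC2

theorem d_fix_center (hg : g ∈ M.Pc d) (hc : M.cen d g) : d * g * d = g := by
  have hh : d * g * d ∈ M.Pc d := conj_d_Pc hd hg
  have hch : M.cen d (d * g * d) := by
    intro x hx
    have hx' := hc x⁻¹ (X_inv_mem hd hx)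
    calc (d * g * d) * x = d * g * (d * x * d) * d := by
          rw [show d * g * (d * x * d) * d = d * g * d * x * (d * d) by group, M.sq d hd, mul_one]
      _ = d * (g * x⁻¹) * d := by rw [X_inverted hd hx]; group
      _ = d * (x⁻¹ * g) * d := by rw [hx']
      _ = (d * x⁻¹ * d) * (d * g * d) := by rw [conj_mul_s hd]
      _ = x * (d * g * d) := by rw [conj_inv_s hd, X_inverted hd hx, inv_inv]
  set v := g * (d * g * d)⁻¹ with hv
  have hvPc : v ∈ M.Pc d := mul_mem hg (inv_mem hh)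
  have hvc : M.cen d v := cen_mul hc (cen_inv hch)
  have hvinv : d * v * d = v⁻¹ := by
    rw [hv, conj_mul_s hd, conj_inv_s hd, conj_conj_s hd]; group
  have hvX : v ∈ M.X d := X_of_inverted hd (Pc_le_P hd hvPc) hvinv
  have hv1 : v = 1 := by
    by_contra hne
    exact hC2 v hvX hne hvc
  have := mul_inv_eq_one.mp (hv ▸ hv1)
  exact this.symm

theorem center_central (hg : g ∈ M.Pc d) (hc : M.cen d g) : ∀ a : A, g * a = a * g := by
  have hgd : g * d = d * g := by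
    have h := d_fix_center hd hC2 hg hc
    calc g * d = (d * g * d) * d := by rw [h]
      _ = d * g * (d * d) := by group
      _ = d * g := by rw [M.sq d hd, mul_one]
  intro a
  have ha : a ∈ Subgroup.closure M.D := by rw [M.gen]; exact Subgroup.mem_top a
  induction ha using Subgroup.closure_induction with
  | mem t ht =>
    have hx : d * t ∈ M.X d := mem_X_of_mem_D hd ht
    have h1 := hc _ hx
    calc g * t = g * (d * (d * t)) := by rw [mul_X hd]
      _ = (g * d) * (d * t) := by group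
      _ = d * (g * (d * t)) := by rw [hgd]; group
      _ = d * ((d * t) * g) := by rw [h1]
      _ = (d * (d * t)) * g := by group
      _ = t * g := by rw [mul_X hd]
  | one => simp
  | mul a b _ _ iha ihb => rw [← mul_assoc, iha, mul_assoc, ihb, ← mul_assoc]
  | inv a _ iha => exact (show Commute g a from iha).inv_right.eq

end C2

/-- second centre of `Pc d` -/
def Z2 (M : AData A L) (d g : A) : Prop := g ∈ M.Pc d ∧ ∀ h ∈ M.Pc d, M.cen d (cm g h)

theorem cm_mem_Pc (hg : g ∈ M.Pc d) (hh : h ∈ M.Pc d) : cm g h ∈ M.Pc d :=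
  mul_mem (mul_mem (mul_mem hg hh) (inv_mem hg)) (inv_mem hh)

theorem exists_Z2 [Finite A] (hd : d ∈ M.D)
    (hnonab : ∃ x ∈ M.X d, ∃ x' ∈ M.X d, x * x' ≠ x' * x) :
    ∃ g, M.Z2 d g ∧ ¬ M.cen d g := by
  obtain ⟨x, hx, x', hx', hne⟩ := hnonab
  have h3 : IsPGroup 3 (M.Pc d) := M.P3.to_le (Pc_le_P hd)
  have hxc : (⟨x, X_le_Pc hx⟩ : M.Pc d) ∉ Subgroup.center (M.Pc d) := by
    intro hmem
    rw [Subgroup.mem_center_iff] at hmem
    have := hmem ⟨x', X_le_Pc hx'⟩
    apply hne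
    have h2 := congrArg Subtype.val this
    simpa using h2.symm
  haveI : Nontrivial (M.Pc d ⧸ Subgroup.center (M.Pc d)) := by
    refine ⟨⟨QuotientGroup.mk ⟨x, X_le_Pc hx⟩, 1, ?_⟩⟩
    intro h
    exact hxc ((QuotientGroup.eq_one_iff _).mp h)
  have h3q : IsPGroup 3 (M.Pc d ⧸ Subgroup.center (M.Pc d)) := h3.to_quotient _
  haveI : Fact (Nat.Prime 3) := ⟨Nat.prime_three⟩
  haveI := h3q.center_nontrivial
  obtain ⟨⟨c, hc⟩, hcne⟩ := exists_ne (1 : Subgroup.center (M.Pc d ⧸ Subgroup.center (M.Pc d)))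
  obtain ⟨g', rfl⟩ := QuotientGroup.mk_surjective c
  have hg'ne : g' ∉ Subgroup.center (M.Pc d) := by
    intro hmem
    apply hcne
    apply Subtype.ext
    exact (QuotientGroup.eq_one_iff _).mpr hmem
  refine ⟨(g' : A), ⟨g'.2, ?_⟩, ?_⟩
  · intro h hh
    have hmem : g' * ⟨h, hh⟩ * g'⁻¹ * (⟨h, hh⟩ : M.Pc d)⁻¹ ∈ Subgroup.center (M.Pc d) := by
      rw [← QuotientGroup.eq_one_iff]
      rw [Subgroup.mem_center_iff] at hc
      have h1 := hc (QuotientGroup.mk ⟨h, hh⟩)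
      simp only [QuotientGroup.mk_mul, QuotientGroup.mk_inv]
      rw [← h1]; group
    rw [Subgroup.mem_center_iff] at hmem
    intro x₁ hx₁
    have := hmem ⟨x₁, X_le_Pc hx₁⟩
    have h2 := congrArg Subtype.val this
    simp only [Subgroup.coe_mul, Subgroup.coe_inv] at h2
    rw [cm_def]
    exact h2.symm
  · intro hcen
    apply hg'ne
    rw [Subgroup.mem_center_iff]
    intro k
    apply Subtype.ext
    simp only [Subgroup.coe_mul]
    exact (cen_closure hcen k.1 k.2).symm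

section C2b

variable (hd : d ∈ M.D) (hC2 : ∀ z ∈ M.X d, z ≠ 1 → ¬ M.cen d z)
include hd hC2

theorem Z2_conj_d (hg : M.Z2 d g) : M.Z2 d (d * g * d) := by
  refine ⟨conj_d_Pc hd hg.1, ?_⟩
  intro h hh
  have hh₁ : d * h * d ∈ M.Pc d := conj_d_Pc hd hh
  have hc := hg.2 _ hh₁
  have hcPc : cm g (d * h * d) ∈ M.Pc d := cm_mem_Pc hg.1 hh₁
  have hfix := d_fix_center hd hC2 hcPc hc
  have e : cm (d * g * d) h = d * cm g (d * h * d) * d := by
    rw [cm_def, cm_def, conj_mul_s hd, conj_mul_s hd, conj_mul_s hd, conj_inv_s hd, conj_inv_s hd,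
      conj_conj_s hd]
  rw [e, hfix]
  exact hc

theorem Z2_inv_mul {g₁ g₂ : A} (h₁ : M.Z2 d g₁) (h₂ : M.Z2 d g₂) : M.Z2 d (g₁⁻¹ * g₂) := by
  refine ⟨mul_mem (inv_mem h₁.1) h₂.1, ?_⟩
  intro h hh
  have c1 := h₁.2 h hh
  have c2 := h₂.2 h hh
  have c1g : cm g₁ h * g₁ = g₁ * cm g₁ h := cen_closure c1 g₁ h₁.1
  have c2g : cm g₂ h * g₁⁻¹ = g₁⁻¹ * cm g₂ h := cen_closure c2 g₁⁻¹ (inv_mem h₁.1)
  have e : cm (g₁⁻¹ * g₂) h = cm g₂ h * (cm g₁ h)⁻¹ := by
    have e1 : cm (g₁⁻¹ * g₂) h = g₁⁻¹ * cm g₂ h * (h * g₁ * h⁻¹) := by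
      simp only [cm_def]; group
    have e2 : h * g₁ * h⁻¹ = (cm g₁ h)⁻¹ * g₁ := by simp only [cm_def]; group
    have c1g' : (cm g₁ h)⁻¹ * g₁ = g₁ * (cm g₁ h)⁻¹ :=
      (show Commute (cm g₁ h) g₁ from c1g).inv_left.eq
    rw [e1, e2, c1g', ← c2g]; group
  rw [e]
  exact cen_mul c2 (cen_inv c1)

theorem exists_y [Finite A] (hnonab : ∃ x ∈ M.X d, ∃ x' ∈ M.X d, x * x' ≠ x' * x) :
    ∃ y ∈ M.X d, M.Z2 d y ∧ ¬ M.cen d y := by
  obtain ⟨g, hgZ, hgc⟩ := exists_Z2 hd hnonab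
  set v := g⁻¹ * (d * g * d) with hv
  have hvZ : M.Z2 d v := Z2_inv_mul hd hC2 hgZ (Z2_conj_d hd hC2 hgZ)
  have hvinv : d * v * d = v⁻¹ := by
    rw [hv, conj_mul_s hd, conj_inv_s hd, conj_conj_s hd]; group
  have hvX : v ∈ M.X d := X_of_inverted hd (Pc_le_P hd hvZ.1) hvinv
  refine ⟨v, hvX, hvZ, ?_⟩
  intro hvc
  have hv1 : v = 1 := by
    by_contra hne
    exact hC2 v hvX hne hvc
  have hdg : d * g * d = g := by
    have : g⁻¹ * (d * g * d) = 1 := hv ▸ hv1
    have := inv_mul_eq_one.mp this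
    exact this.symm
  apply hgc
  intro x hx
  have hxPc := X_le_Pc hx
  have hc := hgZ.2 x hxPc
  have hcPc := cm_mem_Pc hgZ.1 hxPc
  have hfix := d_fix_center hd hC2 hcPc hc
  -- d * cm g x * d = cm g x⁻¹
  have e1 : d * cm g x * d = cm g x⁻¹ := by
    rw [cm_def, cm_def, conj_mul_s hd, conj_mul_s hd, conj_mul_s hd, conj_inv_s hd, conj_inv_s hd,
      hdg, X_inverted hd hx]
  -- cm g x⁻¹ = x⁻¹ * (cm g x)⁻¹ * x
  have e2 : cm g x⁻¹ = x⁻¹ * (cm g x)⁻¹ * x := by simp only [cm_def]; group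
  have hcx : cm g x * x = x * cm g x := hc x hx
  have e3 : x⁻¹ * (cm g x)⁻¹ * x = (cm g x)⁻¹ := by
    have : (cm g x)⁻¹ * x = x * (cm g x)⁻¹ := (show Commute (cm g x) x from hcx).inv_left.eq
    rw [mul_assoc, this]; group
  have hsq : cm g x * cm g x = 1 := by
    have : cm g x = (cm g x)⁻¹ := by rw [← e3, ← e2, ← e1, hfix]
    calc cm g x * cm g x = cm g x * (cm g x)⁻¹ := by rw [← this]
      _ = 1 := mul_inv_cancel _
  have h1 := eq_one_of_sq_of_mem_P (Pc_le_P hd hcPc) hsq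
  exact (cm_eq_one_iff g x).mp h1

end C2b

end AData

end Cfsg.Agent.Lib.Helper90.TT232
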