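/-
helper90: S5559, abstract part continued: the element `y` of the second centre.
-/
import Mathlib
import Cfsg.Agent.Lib.Helper90.TT232B

set_option autoImplicit false
set_option linter.unusedSectionVars false

namespace Cfsg.Agent.Lib.Helper90.TT232

open Subgroup

namespace AData

variable {A : Type*} [Group A] {L : Type*} [Lattice L] {M : AData A L}
variable {d x y x' : A}

section Y

variable (hd : d ∈ M.D) (hC2 : ∀ z ∈ M.X d, z ≠ 1 → ¬ M.cen d z)
  (hy : y ∈ M.X d) (hyZ : M.Z2 d y)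
include hd hC2 hy hyZ

theorem cm_hom {h k : A} (hh : h ∈ M.Pc d) (hk : k ∈ M.Pc d) :
    cm y (h * k) = cm y h * cm y k := by
  have hc : cm y k * h = h * cm y k := cen_closure (hyZ.2 k hk) h hh
  calc cm y (h * k) = cm y h * (h * cm y k) * h⁻¹ := by simp only [cm_def]; group
    _ = cm y h * (cm y k * h) * h⁻¹ := by rw [hc]
    _ = cm y h * cm y k := by group

theorem cm_hom_inv {h : A} (hh : h ∈ M.Pc d) : cm y h⁻¹ = (cm y h)⁻¹ := by
  have hc : cm y h * h = h * cm y h := cen_closure (hyZ.2 h hh) h hh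
  have hc' : (cm y h)⁻¹ * h = h * (cm y h)⁻¹ := (show Commute (cm y h) h from hc).inv_left.eq
  calc cm y h⁻¹ = h⁻¹ * ((cm y h)⁻¹ * h) := by simp only [cm_def]; group
    _ = h⁻¹ * (h * (cm y h)⁻¹) := by rw [hc']
    _ = (cm y h)⁻¹ := by group

/-- the commutator `cm y x` is central in `A`. -/
theorem cm_central (hx : x ∈ M.X d) : ∀ a : A, cm y x * a = a * cm y x :=
  center_central hd hC2 (cm_mem_Pc hyZ.1 (X_le_Pc hx)) (hyZ.2 x (X_le_Pc hx))

theorem cm_cube (hx : x ∈ M.X d) : cm y x ^ 3 = 1 := K1_cube hd hx hy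

theorem cm_mem_P (hx : x ∈ M.X d) : cm y x ∈ M.P :=
  Pc_le_P hd (cm_mem_Pc hyZ.1 (X_le_Pc hx))

theorem cm_dfix (hx : x ∈ M.X d) : d * cm y x * d = cm y x := K1_s hd hx hy

/-- (††'): a nontrivial commutator `cm y x` has `fix` contained in every `fix a`. -/
theorem fix_cm_le (hx : x ∈ M.X d) (hz1 : cm y x ≠ 1) : ∀ a : A, M.fix (cm y x) ≤ M.fix a := by
  have hzc := cm_central hd hC2 hy hyZ hx
  set z := cm y x with hz
  have hxy : ¬ (y * x = x * y) := fun h => hz1 ((cm_eq_one_iff y x).mpr h)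
  have hx1 : x ≠ 1 := by
    rintro rfl; exact hxy (by simp)
  have hy1 : y ≠ 1 := by
    rintro rfl; exact hxy (by simp)
  have hx3 := X_cube hd hx
  have hy3 := X_cube hd hy
  have hxP := X_mem_P hd hx
  have hyP := X_mem_P hd hy
  have hxinv := X_inverted hd hx
  have hyinv := X_inverted hd hy
  have h1 : y * x = z * x * y := by rw [hz, cm_def]; group
  have hzinv : x * y * x⁻¹ * y⁻¹ = z⁻¹ := by rw [hz, cm_def]; group
  have hml := M.ml z hzc x y (by rw [hx3, M.fix_one]; exact M.fix_le _)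
    (by rw [hy3, M.fix_one]; exact M.fix_le _) (by rw [hzinv]; exact M.fix_inv z)
  -- third element
  have hc3 : y⁻¹ * x * y⁻¹ = z⁻¹ * (x * y) := by
    have e1 : y⁻¹ * x = z⁻¹ * x * y⁻¹ := by
      have : z⁻¹ * x * y⁻¹ = z⁻¹ * (y⁻¹ * (y * x)) * y⁻¹ := by group
      rw [this, h1]
      have hzy : y⁻¹ * z = z * y⁻¹ := (hzc y⁻¹).symm
      calc y⁻¹ * x = z⁻¹ * (z * y⁻¹) * x := by group
        _ = z⁻¹ * (y⁻¹ * z) * x := by rw [hzy]
        _ = z⁻¹ * (y⁻¹ * (z * x * y)) * y⁻¹ := by group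
    calc y⁻¹ * x * y⁻¹ = z⁻¹ * x * (y⁻¹ * y⁻¹) := by rw [e1]; group
      _ = z⁻¹ * (x * y) := by rw [inv_sq_eq_of_cube hy3]; group
  have hc3X : y⁻¹ * x * y⁻¹ ∈ M.X d := by
    apply X_of_inverted hd (M.P.mul_mem (M.P.mul_mem (M.P.inv_mem hyP) hxP) (M.P.inv_mem hyP))
    rw [conj_mul_s hd, conj_mul_s hd, conj_inv_s hd, hxinv, hyinv]; group
  have hc31 : y⁻¹ * x * y⁻¹ ≠ 1 := by
    intro h
    apply hxy
    have : x = y * y := by
      calc x = y * (y⁻¹ * x * y⁻¹) * y := by group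
        _ = y * y := by rw [h, mul_one]
    rw [this]; group
  have hc4 : y * x * y = z * (x * y ^ 2) := by
    rw [h1, pow_two]; group
  have hc4X : y * x * y ∈ M.X d := by
    apply X_of_inverted hd (M.P.mul_mem (M.P.mul_mem hyP hxP) hyP)
    rw [conj_mul_s hd, conj_mul_s hd, hxinv, hyinv]; group
  have hc41 : y * x * y ≠ 1 := by
    intro h
    apply hxy
    have : x = y⁻¹ * y⁻¹ := by
      calc x = y⁻¹ * (y * x * y) * y⁻¹ := by group
        _ = y⁻¹ * y⁻¹ := by rw [h, mul_one]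
    rw [this]; group
  have e1 := fix_X_le hd hx hx1
  have e2 := fix_X_le hd hy hy1
  have e3 : M.fix z ⊓ M.fix (x * y) ≤ M.fix d := by
    have := M.fix_mul z⁻¹ (x * y)
    rw [← hc3] at this
    exact (inf_le_inf_right _ (M.fix_inv z)).trans (this.trans (fix_X_le hd hc3X hc31))
  have e4 : M.fix z ⊓ M.fix (x * y ^ 2) ≤ M.fix d := by
    have := M.fix_mul z (x * y ^ 2)
    rw [← hc4] at this
    exact this.trans (fix_X_le hd hc4X hc41)
  have hzd : M.fix z ≤ M.fix d :=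
    hml.trans (sup_le (sup_le (sup_le (inf_le_right.trans e1) (inf_le_right.trans e2)) e3) e4)
  have hzD : ∀ t ∈ M.D, M.fix z ≤ M.fix t := by
    intro t ht
    have hx' : d * t ∈ M.X d := mem_X_of_mem_D hd ht
    have h2 := sx_eq_conj hd hx'
    rw [mul_X hd] at h2
    rw [h2]
    exact M.fix_conj z hzc d (d * t) hzd
  intro a
  have ha : a ∈ Subgroup.closure M.D := by rw [M.gen]; exact Subgroup.mem_top a
  induction ha using Subgroup.closure_induction with
  | mem t ht => exact hzD t ht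
  | one => rw [M.fix_one]; exact M.fix_le _
  | mul a b _ _ iha ihb => exact (le_inf iha ihb).trans (M.fix_mul a b)
  | inv a _ iha => exact iha.trans (M.fix_inv a)

/-- r = 1: all commutators `cm y x'` lie in the group generated by one nontrivial one. -/
theorem cm_trichotomy (hx : x ∈ M.X d) (hz1 : cm y x ≠ 1) (hx' : x' ∈ M.X d) :
    cm y x' = 1 ∨ cm y x' = cm y x ∨ cm y x' = (cm y x)⁻¹ := by
  by_contra hcon
  push Not at hcon
  obtain ⟨h1, h2, h3⟩ := hcon
  have hzc := cm_central hd hC2 hy hyZ hx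
  have hzc' := cm_central hd hC2 hy hyZ hx'
  have hz3 := cm_cube hd hC2 hy hyZ hx
  have hz3' := cm_cube hd hC2 hy hyZ hx'
  have hxPc := X_le_Pc hx
  have hxPc' := X_le_Pc hx'
  have hxinv := X_inverted hd hx
  have hxinv' := X_inverted hd hx'
  have hxP := X_mem_P hd hx
  have hxP' := X_mem_P hd hx'
  set z := cm y x with hz
  set z' := cm y x' with hz'
  -- x₃ := x'⁻¹ * x * x'⁻¹
  have hx3X : x'⁻¹ * x * x'⁻¹ ∈ M.X d := by
    apply X_of_inverted hd (M.P.mul_mem (M.P.mul_mem (M.P.inv_mem hxP') hxP) (M.P.inv_mem hxP'))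
    rw [conj_mul_s hd, conj_mul_s hd, conj_inv_s hd, hxinv, hxinv']; group
  have hcm3 : cm y (x'⁻¹ * x * x'⁻¹) = z * z' := by
    rw [cm_hom hd hC2 hy hyZ (mul_mem (inv_mem hxPc') hxPc) (inv_mem hxPc'),
      cm_hom hd hC2 hy hyZ (inv_mem hxPc') hxPc, cm_hom_inv hd hC2 hy hyZ hxPc', ← hz, ← hz']
    have e : z'⁻¹ * z'⁻¹ = z' := inv_sq_eq_of_cube hz3'
    calc z'⁻¹ * z * z'⁻¹ = z * (z'⁻¹ * z'⁻¹) := by rw [← hzc z'⁻¹]; group
      _ = z * z' := by rw [e]
  have hx4X : x' * x * x' ∈ M.X d := by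
    apply X_of_inverted hd (M.P.mul_mem (M.P.mul_mem hxP' hxP) hxP')
    rw [conj_mul_s hd, conj_mul_s hd, hxinv, hxinv']; group
  have hcm4 : cm y (x' * x * x') = z * z' ^ 2 := by
    rw [cm_hom hd hC2 hy hyZ (mul_mem hxPc' hxPc) hxPc',
      cm_hom hd hC2 hy hyZ hxPc' hxPc, ← hz, ← hz', pow_two]
    have e : z' * z * z' = z * (z' * z') := by rw [← hzc z']; group
    exact e
  have hzz1 : z * z' ≠ 1 := by
    intro h
    exact h3 (eq_inv_of_mul_eq_one_right h)
  have hzz2 : z * z' ^ 2 ≠ 1 := by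
    rw [pow_two, sq_eq_inv_of_cube hz3']
    intro h
    apply h2
    have := eq_inv_of_mul_eq_one_left h
    rw [inv_inv] at this
    exact this.symm
  have f1 := fix_cm_le hd hC2 hy hyZ hx hz1 d
  have f2 := fix_cm_le hd hC2 hy hyZ hx' h1 d
  have g3 : cm y (x'⁻¹ * x * x'⁻¹) ≠ 1 := by rw [hcm3]; exact hzz1
  have g4 : cm y (x' * x * x') ≠ 1 := by rw [hcm4]; exact hzz2
  have f3 := fix_cm_le hd hC2 hy hyZ hx3X g3 d
  have f4 := fix_cm_le hd hC2 hy hyZ hx4X g4 d
  rw [← hz] at f1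
  rw [← hz'] at f2
  rw [hcm3] at f3
  rw [hcm4] at f4
  have hc1 : ∀ a : A, (1 : A) * a = a * 1 := by intro a; simp
  have hcomm1 : z * z' * z⁻¹ * z'⁻¹ = 1 := by rw [hzc z']; group
  have hml := M.ml 1 hc1 z z' (by rw [hz3]) (by rw [hz3']) (by rw [hcomm1])
  apply M.faith d hd
  rw [← M.fix_one]
  refine hml.trans ?_
  exact sup_le (sup_le (sup_le (inf_le_right.trans f1) (inf_le_right.trans f2))
    (inf_le_right.trans f3)) (inf_le_right.trans f4)

/-- (i'): an element of `X d` with the same commutator with `y` as `x` lies in `⟨x, y⟩`. -/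
theorem mem_closure_of_cm_eq (hx : x ∈ M.X d) (hz1 : cm y x ≠ 1) (hx' : x' ∈ M.X d)
    (heq : cm y x' = cm y x) : x' ∈ Subgroup.closure ({x, y} : Set A) := by
  have hzc := cm_central hd hC2 hy hyZ hx
  have hz3 := cm_cube hd hC2 hy hyZ hx
  have hxPc := X_le_Pc hx
  have hxPc' := X_le_Pc hx'
  have hxinv := X_inverted hd hx
  have hyinv := X_inverted hd hy
  have hxmem : x ∈ Subgroup.closure ({x, y} : Set A) := Subgroup.subset_closure (by simp)
  have hymem : y ∈ Subgroup.closure ({x, y} : Set A) := Subgroup.subset_closure (by simp)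
  have hzmem : cm y x ∈ Subgroup.closure ({x, y} : Set A) :=
    mul_mem (mul_mem (mul_mem hymem hxmem) (inv_mem hymem)) (inv_mem hxmem)
  have hzd := cm_dfix hd hC2 hy hyZ hx
  have hzP := cm_mem_P hd hC2 hy hyZ hx
  set z := cm y x with hz
  have hxy : ¬ (y * x = x * y) := fun h => hz1 ((cm_eq_one_iff y x).mpr h)
  -- e := d * x
  have he : d * x ∈ M.D := hx
  have hdx : d * x = x⁻¹ * d := by
    calc d * x = (d * x * d) * d⁻¹ := by group
      _ = x⁻¹ * d := by rw [hxinv, inv_eq hd]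
  -- w := x⁻¹ * x'
  have hwX : x⁻¹ * x' ∈ M.X (d * x) := by
    show d * x * (x⁻¹ * x') ∈ M.D
    have : d * x * (x⁻¹ * x') = d * x' := by group
    rw [this]; exact hx'
  -- y_e := y * z⁻¹
  have hyeX : y * z⁻¹ ∈ M.X (d * x) := by
    apply X_of_inverted he (M.P.mul_mem (X_mem_P hd hy) (M.P.inv_mem hzP))
    have e1 : d * x * (y * z⁻¹) * (d * x) = d * (x * (y * z⁻¹) * x⁻¹) * d := by
      rw [show d * x * (y * z⁻¹) * (d * x) = d * x * (y * z⁻¹) * (x⁻¹ * d) by rw [hdx]]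
      group
    have e2 : x * (y * z⁻¹) * x⁻¹ = y * (z⁻¹ * z⁻¹) := by
      have e3 : x * y * x⁻¹ = z⁻¹ * y := by rw [hz, cm_def]; group
      calc x * (y * z⁻¹) * x⁻¹ = (x * y) * (z⁻¹ * x⁻¹) := by group
        _ = (x * y) * (x⁻¹ * z⁻¹) := by rw [hzc x⁻¹ |> fun h => (show Commute z x⁻¹ from h).inv_left.eq]
        _ = (x * y * x⁻¹) * z⁻¹ := by group
        _ = z⁻¹ * y * z⁻¹ := by rw [e3]
        _ = y * (z⁻¹ * z⁻¹) := by
            rw [(show Commute z y from hzc y).inv_left.eq]; group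
    rw [e1, e2, inv_sq_eq_of_cube hz3, conj_mul_s hd, hyinv, hzd]
    rw [mul_inv_rev, inv_inv]
    exact ((hzc y⁻¹).symm)
  have hye1 : y * z⁻¹ ≠ 1 := by
    intro h
    apply hxy
    have : y = z := by
      have := eq_inv_of_mul_eq_one_left h
      rwa [inv_inv] at this
    rw [this]; exact hzc x
  -- w commutes with y_e
  have hcw : cm y (x⁻¹ * x') = 1 := by
    rw [cm_hom hd hC2 hy hyZ (inv_mem hxPc) hxPc', cm_hom_inv hd hC2 hy hyZ hxPc, heq]
    exact inv_mul_cancel _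
  have hyw : y * (x⁻¹ * x') = (x⁻¹ * x') * y := (cm_eq_one_iff _ _).mp hcw
  have hcomm : (y * z⁻¹) * (x⁻¹ * x') = (x⁻¹ * x') * (y * z⁻¹) := by
    have hzw : z⁻¹ * (x⁻¹ * x') = (x⁻¹ * x') * z⁻¹ :=
      (show Commute z (x⁻¹ * x') from hzc _).inv_left.eq
    calc (y * z⁻¹) * (x⁻¹ * x') = y * (z⁻¹ * (x⁻¹ * x')) := by group
      _ = y * ((x⁻¹ * x') * z⁻¹) := by rw [hzw]
      _ = (y * (x⁻¹ * x')) * z⁻¹ := by group
      _ = ((x⁻¹ * x') * y) * z⁻¹ := by rw [hyw]
      _ = (x⁻¹ * x') * (y * z⁻¹) := by group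
  have hF := F1 he hyeX hwX hye1 hcomm
  have hyemem : y * z⁻¹ ∈ Subgroup.closure ({x, y} : Set A) := mul_mem hymem (inv_mem hzmem)
  have hwmem : x⁻¹ * x' ∈ Subgroup.closure ({x, y} : Set A) := by
    rcases hF with h | h | h
    · rw [h]; exact one_mem _
    · rw [h]; exact hyemem
    · rw [h]; exact inv_mem hyemem
  have : x' = x * (x⁻¹ * x') := by group
  rw [this]
  exact mul_mem hxmem hwmem

end Y

end AData

end Cfsg.Agent.Lib.Helper90.TT232
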