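/-
helper90: S5559, abstract part: the main dichotomy.
-/
import Mathlib
import Cfsg.Agent.Lib.Helper90.TT232C

set_option autoImplicit false

namespace Cfsg.Agent.Lib.Helper90.TT232

open Subgroup

namespace AData

variable {A : Type*} [Group A] {L : Type*} [Lattice L]

theorem main [Finite A] (M : AData A L) {d : A} (hd : d ∈ M.D) :
    (∃ t ∈ M.D, t ≠ d ∧ Subgroup.closure ({d, t} : Set A) = ⊤) ∨
    (∃ x y z : A, Rel54 x y z d ∧ Subgroup.closure ({x, y, d} : Set A) = ⊤ ∧ z ≠ 1 ∧
      x ∈ M.P ∧ y ∈ M.P ∧ x * y ≠ y * x) := by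
  -- a second element of D
  obtain ⟨t₀, ht₀, hne₀⟩ : ∃ t₀ ∈ M.D, t₀ ≠ d := by
    obtain ⟨s, hs, t, ht, hst⟩ := M.two
    by_cases h : s = d
    · exact ⟨t, ht, fun h' => hst (h.trans h'.symm)⟩
    · exact ⟨s, hs, h⟩
  have hx₀ : d * t₀ ∈ M.X d := mem_X_of_mem_D hd ht₀
  have hx₀1 : d * t₀ ≠ 1 := by
    intro h
    apply hne₀
    have h2 : d * (d * t₀) = d * 1 := by rw [h]
    rw [mul_X hd, mul_one] at h2
    exact h2
  by_cases hC : ∃ z ∈ M.X d, z ≠ 1 ∧ M.cen d z
  · -- Case 1: S3
    left
    obtain ⟨z, hz, hz1, hzc⟩ := hC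
    refine ⟨d * z, hz, ?_, ?_⟩
    · intro h
      apply hz1
      have h2 : d * (d * z) = d * d := by rw [h]
      rwa [mul_X hd, M.sq d hd] at h2
    · have hdmem : d ∈ Subgroup.closure ({d, d * z} : Set A) := Subgroup.subset_closure (by simp)
      have htmem : d * z ∈ Subgroup.closure ({d, d * z} : Set A) :=
        Subgroup.subset_closure (by simp)
      have hzmem : z ∈ Subgroup.closure ({d, d * z} : Set A) := by
        have h := mul_mem hdmem htmem
        rwa [mul_X hd] at h
      rw [eq_top_iff, ← M.gen, Subgroup.closure_le]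
      intro t' ht'
      have hx' : d * t' ∈ M.X d := mem_X_of_mem_D hd ht'
      have hF := F1 hd hz hx' hz1 (hzc _ hx')
      have : t' = d * (d * t') := (mul_X hd).symm
      rw [this]
      rcases hF with h | h | h
      · rw [h, mul_one]; exact hdmem
      · rw [h]; exact htmem
      · rw [h]; exact mul_mem hdmem (inv_mem hzmem)
  · -- Case 2
    right
    push Not at hC
    have hC2 : ∀ z ∈ M.X d, z ≠ 1 → ¬ M.cen d z := hC
    have hnonab : ∃ x ∈ M.X d, ∃ x' ∈ M.X d, x * x' ≠ x' * x := by
      have h := hC2 _ hx₀ hx₀1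
      unfold cen at h
      push Not at h
      obtain ⟨x', hx', hne⟩ := h
      exact ⟨_, hx₀, x', hx', hne⟩
    obtain ⟨y, hy, hyZ, hyc⟩ := exists_y hd hC2 hnonab
    have hyc' := hyc
    unfold cen at hyc'
    push Not at hyc'
    obtain ⟨x, hx, hxy⟩ := hyc'
    have hz1 : cm y x ≠ 1 := fun h => hxy ((cm_eq_one_iff y x).mp h)
    have hzc := cm_central hd hC2 hy hyZ hx
    have hz3 := cm_cube hd hC2 hy hyZ hx
    have hy1 : y ≠ 1 := by rintro rfl; exact hxy (by simp)
    have hxmem : x ∈ Subgroup.closure ({x, y} : Set A) := Subgroup.subset_closure (by simp)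
    have hymem : y ∈ Subgroup.closure ({x, y} : Set A) := Subgroup.subset_closure (by simp)
    -- X ⊆ closure {x, y}
    have hXsub : ∀ x' ∈ M.X d, x' ∈ Subgroup.closure ({x, y} : Set A) := by
      intro x' hx'
      rcases cm_trichotomy hd hC2 hy hyZ hx hz1 hx' with h | h | h
      · have hcomm : y * x' = x' * y := (cm_eq_one_iff y x').mp h
        rcases F1 hd hy hx' hy1 hcomm with h' | h' | h'
        · rw [h']; exact one_mem _
        · rw [h']; exact hymem
        · rw [h']; exact inv_mem hymem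
      · exact mem_closure_of_cm_eq hd hC2 hy hyZ hx hz1 hx' h
      · have hxi : x⁻¹ ∈ M.X d := X_inv_mem hd hx
        have hci : cm y x⁻¹ = (cm y x)⁻¹ := cm_hom_inv hd hC2 hy hyZ (X_le_Pc hx)
        have hci1 : cm y x⁻¹ ≠ 1 := by rw [hci]; exact inv_ne_one.mpr hz1
        have h2 := mem_closure_of_cm_eq hd hC2 hy hyZ hxi hci1 hx' (h.trans hci.symm)
        have hle : Subgroup.closure ({x⁻¹, y} : Set A) ≤ Subgroup.closure ({x, y} : Set A) := by
          rw [Subgroup.closure_le]
          intro g hg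
          rcases hg with rfl | rfl
          · exact inv_mem hxmem
          · exact hymem
        exact hle h2
    have hle3 : Subgroup.closure ({x, y} : Set A) ≤ Subgroup.closure ({x, y, d} : Set A) := by
      apply Subgroup.closure_mono
      intro g hg
      rcases hg with rfl | rfl
      · simp
      · simp
    have hdmem : d ∈ Subgroup.closure ({x, y, d} : Set A) := Subgroup.subset_closure (by simp)
    have hgen : Subgroup.closure ({x, y, d} : Set A) = ⊤ := by
      rw [eq_top_iff, ← M.gen, Subgroup.closure_le]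
      intro t' ht'
      have hx' : d * t' ∈ M.X d := mem_X_of_mem_D hd ht'
      have : t' = d * (d * t') := (mul_X hd).symm
      rw [this]
      exact mul_mem hdmem (hle3 (hXsub _ hx'))
    have hdx : ∀ {w : A}, w ∈ M.X d → d * w = w⁻¹ * d := by
      intro w hw
      calc d * w = (d * w * d) * d⁻¹ := by group
        _ = w⁻¹ * d := by rw [X_inverted hd hw, inv_eq hd]
    refine ⟨x, y, cm y x, ?_, hgen, hz1, X_mem_P hd hx, X_mem_P hd hy, fun h => hxy h.symm⟩
    refine ⟨X_cube hd hx, X_cube hd hy, hz3, by rw [pow_two]; exact M.sq d hd, hzc x, hzc y,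
      hzc d, ?_, hdx hx, hdx hy⟩
    have h1 : y * x = cm y x * x * y := by rw [cm_def]; group
    rw [h1, hzc x, mul_assoc, hzc y, ← mul_assoc]

end AData

end Cfsg.Agent.Lib.Helper90.TT232
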