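/-
helper90: S5559, concrete ("H-level") part: a finite group `H` with a class `E` of
3-transpositions, a surjection `π : H → A` with abelian 2-group kernel, such that `A` has a normal
3-subgroup of 2-power index.  We construct the abstract data `AData A (Subgroup H)`.
-/
import Mathlib
import Cfsg.Agent.Lib.Helper90.TT232D

set_option autoImplicit false
set_option linter.style.haveILetI false

namespace Cfsg.Agent.Lib.Helper90.TT232

open Subgroup

/-- Norm decomposition of a cube for two commuting endomorphisms of order dividing 3 of a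
commutative group. -/
theorem cube_decomp {U : Type*} [CommGroup U] (α β : U →* U) (hαβ : ∀ w, β (α w) = α (β w))
    (hα : ∀ w, α (α (α w)) = w) (hβ : ∀ w, β (β (β w)) = w) (u : U) :
    ∃ n₁ n₂ n₃ n₄ n₅ : U, α n₁ = n₁ ∧ β n₂ = n₂ ∧ α (β n₃) = n₃ ∧ α (β (β n₄)) = n₄ ∧
      α n₅ = n₅ ∧ u ^ 3 = n₁ * n₂ * n₃ * n₄ * n₅⁻¹ := by
  refine ⟨u * α u * α (α u), u * β u * β (β u), u * α (β u) * α (α (β (β u))),
    u * α (β (β u)) * α (α (β u)),
    (u * β u * β (β u)) * α (u * β u * β (β u)) * α (α (u * β u * β (β u))), ?_, ?_, ?_, ?_, ?_, ?_⟩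
  · simp only [map_mul, hα]
    ac_rfl
  · simp only [map_mul, hβ]
    ac_rfl
  · simp only [map_mul, hαβ, hα, hβ]
    ac_rfl
  · simp only [map_mul, hαβ, hα, hβ]
    ac_rfl
  · simp only [map_mul, hα]
    ac_rfl
  · simp only [map_mul, pow_three']
    rw [eq_mul_inv_iff_mul_eq]
    ac_rfl

/-- In a finite `p`-group generated by a conjugacy class, the class is a singleton. -/
theorem class_singleton_of_pgroup {T : Type*} [Group T] [Finite T] {p : ℕ} [Fact p.Prime]
    (hT : IsPGroup p T) (C : Set T) (c : T) (hC : ∀ t ∈ C, ∃ g, t = g * c * g⁻¹)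
    (hgen : Subgroup.closure C = ⊤) : ∀ t ∈ C, t = c := by
  have key : Subgroup.zpowers c = ⊤ := by
    by_contra hne
    obtain ⟨Mx, hMx, hle⟩ := (eq_top_or_exists_le_coatom (Subgroup.zpowers c)).resolve_left hne
    haveI := hT.isNilpotent
    have hn : Mx.Normal := NormalizerCondition.normal_of_coatom _ Group.normalizerCondition_of_isNilpotent hMx
    have hCM : C ⊆ Mx := by
      intro t ht
      obtain ⟨g, rfl⟩ := hC t ht
      exact hn.conj_mem c (hle (Subgroup.mem_zpowers c)) g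
    have : (⊤ : Subgroup T) ≤ Mx := by
      rw [← hgen, Subgroup.closure_le]; exact hCM
    exact hMx.1 (eq_top_iff.mpr this)
  intro t ht
  obtain ⟨g, rfl⟩ := hC t ht
  have hg : g ∈ Subgroup.zpowers c := by rw [key]; exact Subgroup.mem_top g
  obtain ⟨n, rfl⟩ := hg
  have hcomm : Commute (c ^ n) c := (Commute.refl c).zpow_left n
  rw [hcomm.eq]; group

theorem eq_one_of_sq_of_isPGroup3 {A : Type*} [Group A] {P : Subgroup A} (hP : IsPGroup 3 P)
    {p : A} (hp : p ∈ P) (h2 : p * p = 1) : p = 1 := by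
  obtain ⟨k, hk⟩ := hP ⟨p, hp⟩
  have hk' : p ^ (3 ^ k) = 1 := by
    have := congrArg Subtype.val hk
    simpa using this
  have h1 : orderOf p ∣ 2 := orderOf_dvd_of_pow_eq_one (by rw [pow_two, h2])
  have h3 : orderOf p ∣ 3 ^ k := orderOf_dvd_of_pow_eq_one hk'
  have hcop : Nat.Coprime 2 (3 ^ k) := Nat.Coprime.pow_right k (by decide)
  have : orderOf p = 1 := Nat.eq_one_of_dvd_coprimes hcop h1 h3
  exact orderOf_eq_one_iff.mp this

structure HData (H A : Type*) [Group H] [Group A] where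
  π : H →* A
  surj : Function.Surjective π
  E : Set H
  Esq : ∀ e ∈ E, e * e = 1
  Ett : ∀ e ∈ E, ∀ f ∈ E, (e * f) ^ 2 = 1 ∨ (e * f) ^ 3 = 1
  Econj : ∀ e ∈ E, ∀ g : H, g * e * g⁻¹ ∈ E
  Etrans : ∀ e ∈ E, ∀ f ∈ E, ∃ g : H, f = g * e * g⁻¹
  Egen : Subgroup.closure E = ⊤
  Ene : E.Nonempty
  K2 : IsPGroup 2 π.ker
  Kab : ∀ a ∈ π.ker, ∀ b ∈ π.ker, a * b = b * a
  P : Subgroup A
  Pn : P.Normal
  P3 : IsPGroup 3 P
  k : ℕ
  idx : P.index = 2 ^ k
  faith : ∃ e ∈ E, ∃ q ∈ π.ker, e * q ≠ q * e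

namespace HData

variable {H A : Type*} [Group H] [Group A] (N : HData H A)

theorem Einv {e : H} (he : e ∈ N.E) : e⁻¹ = e := inv_eq_of_mul_eq_one_left (N.Esq e he)

theorem step1 [Finite H] {e f : H} (he : e ∈ N.E) (hf : f ∈ N.E) : N.π (e * f) ∈ N.P := by
  haveI := N.Pn
  haveI : Finite A := Finite.of_surjective N.π N.surj
  have hT : IsPGroup 2 (A ⧸ N.P) := by
    apply IsPGroup.of_card (n := N.k)
    rw [← Subgroup.index_eq_card, N.idx]
  let ρ : H →* A ⧸ N.P := (QuotientGroup.mk' N.P).comp N.π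
  have hρ : Function.Surjective ρ := (QuotientGroup.mk'_surjective N.P).comp N.surj
  haveI : Fact (Nat.Prime 2) := ⟨Nat.prime_two⟩
  have hC : ∀ t ∈ ρ '' N.E, ∃ g, t = g * ρ e * g⁻¹ := by
    rintro t ⟨e', he', rfl⟩
    obtain ⟨g, rfl⟩ := N.Etrans e he e' he'
    exact ⟨ρ g, by simp⟩
  have hgen : Subgroup.closure (ρ '' N.E) = ⊤ := by
    rw [← MonoidHom.map_closure, N.Egen, ← MonoidHom.range_eq_map, MonoidHom.range_eq_top]
    exact hρ
  have h1 := class_singleton_of_pgroup hT (ρ '' N.E) (ρ e) hC hgen (ρ f) ⟨f, hf, rfl⟩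
  have h2 : ρ (e * f) = 1 := by
    rw [map_mul, h1, ← map_mul, N.Esq e he, map_one]
  exact (QuotientGroup.eq_one_iff _).mp h2

theorem step2a [Finite H] {e f : H} (he : e ∈ N.E) (hf : f ∈ N.E) (hc : e * f = f * e) :
    N.π e = N.π f := by
  have h1 := N.step1 he hf
  have h2 : N.π (e * f) * N.π (e * f) = 1 := by
    rw [← map_mul]
    have : e * f * (e * f) = (e * e) * (f * f) := by
      calc e * f * (e * f) = e * (f * e) * f := by group
        _ = e * (e * f) * f := by rw [hc]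
        _ = (e * e) * (f * f) := by group
    rw [this, N.Esq e he, N.Esq f hf, mul_one, map_one]
  have h3 := eq_one_of_sq_of_isPGroup3 N.P3 h1 h2
  rw [map_mul] at h3
  have h4 : N.π f * N.π f = 1 := by rw [← map_mul, N.Esq f hf, map_one]
  calc N.π e = N.π e * (N.π f * N.π f) := by rw [h4, mul_one]
    _ = (N.π e * N.π f) * N.π f := by group
    _ = N.π f := by rw [h3, one_mul]

theorem sq_of_mem_ker {e f : H} (he : e ∈ N.E) (hf : f ∈ N.E) (hk : e * f ∈ N.π.ker) :
    (e * f) * (e * f) = 1 := by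
  rcases N.Ett e he f hf with h | h
  · rwa [pow_two] at h
  · obtain ⟨m, hm⟩ := N.K2 ⟨e * f, hk⟩
    have hm' : (e * f) ^ (2 ^ m) = 1 := by
      have := congrArg Subtype.val hm
      simpa using this
    have h1 : orderOf (e * f) ∣ 3 := orderOf_dvd_of_pow_eq_one h
    have h2 : orderOf (e * f) ∣ 2 ^ m := orderOf_dvd_of_pow_eq_one hm'
    have hcop : Nat.Coprime 3 (2 ^ m) := Nat.Coprime.pow_right m (by decide)
    have : orderOf (e * f) = 1 := Nat.eq_one_of_dvd_coprimes hcop h1 h2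
    rw [orderOf_eq_one_iff.mp this, one_mul]

theorem step2b {e f : H} (he : e ∈ N.E) (hf : f ∈ N.E) (h : N.π e = N.π f) :
    e * f = f * e := by
  have hk : e * f ∈ N.π.ker := by
    rw [MonoidHom.mem_ker, map_mul, h, ← map_mul, N.Esq f hf, map_one]
  have h2 := N.sq_of_mem_ker he hf hk
  have h3 : e * f = (e * f)⁻¹ := eq_inv_of_mul_eq_one_left h2
  rw [h3, mul_inv_rev, N.Einv he, N.Einv hf]

/-- the module condition (†) -/
theorem dagger {e f q : H} (he : e ∈ N.E) (hf : f ∈ N.E) (hne : e * f ≠ f * e)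
    (hq : q ∈ N.π.ker) (hcomm : q * (e * f) = (e * f) * q) : q * e = e * q := by
  haveI : N.π.ker.Normal := N.π.normal_ker
  have hx3 : (e * f) ^ 3 = 1 := by
    rcases N.Ett e he f hf with h | h
    · exfalso
      apply hne
      rw [pow_two] at h
      have h3 : e * f = (e * f)⁻¹ := eq_inv_of_mul_eq_one_left h
      rw [h3, mul_inv_rev, N.Einv he, N.Einv hf]
    · exact h
  -- f' := q⁻¹ f q ∈ E
  have hf' : q⁻¹ * f * q ∈ N.E := by
    have := N.Econj f hf q⁻¹
    rwa [inv_inv] at this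
  -- u := f * f'
  have huk : f * (q⁻¹ * f * q) ∈ N.π.ker := by
    have h1 : f * q⁻¹ * f⁻¹ ∈ N.π.ker := Subgroup.Normal.conj_mem inferInstance q⁻¹ (inv_mem hq) f
    have : f * (q⁻¹ * f * q) = (f * q⁻¹ * f⁻¹) * q := by rw [N.Einv hf]; group
    rw [this]
    exact mul_mem h1 hq
  have hu2 := N.sq_of_mem_ker hf hf' huk
  set u := f * (q⁻¹ * f * q) with hu
  -- x := e * f commutes with u
  have hfx : f * (e * f) * f = (e * f)⁻¹ := by
    rw [mul_inv_rev, N.Einv he, N.Einv hf]
    calc f * (e * f) * f = f * e * (f * f) := by group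
      _ = f * e := by rw [N.Esq f hf, mul_one]
  have hxu : (e * f) * u = u * (e * f) := by
    have hq' : q⁻¹ * (e * f) = (e * f) * q⁻¹ := (show Commute q (e * f) from hcomm).inv_left.eq
    have hfxf : f * (e * f) = (e * f)⁻¹ * f := by
      calc f * (e * f) = (f * (e * f) * f) * f⁻¹ := by group
        _ = (e * f)⁻¹ * f := by rw [hfx, N.Einv hf]
    have hfxi : f * (e * f)⁻¹ = (e * f) * f := by
      rw [mul_inv_rev, N.Einv he, N.Einv hf]
      calc f * (f * e) = (f * f) * e := by group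
        _ = e := by rw [N.Esq f hf, one_mul]
        _ = e * (f * f) := by rw [N.Esq f hf, mul_one]
        _ = e * f * f := by group
    have hqi : q⁻¹ * (e * f)⁻¹ = (e * f)⁻¹ * q⁻¹ :=
      (show Commute q (e * f) from hcomm).inv_left.inv_right.eq
    have hcomm' : q * (e * f) = (e * f) * q := hcomm
    calc (e * f) * u = (e * f) * f * (q⁻¹ * f * q) := by rw [hu]; group
      _ = f * (e * f)⁻¹ * (q⁻¹ * f * q) := by rw [hfxi]
      _ = f * ((e * f)⁻¹ * q⁻¹) * f * q := by group
      _ = f * (q⁻¹ * (e * f)⁻¹) * f * q := by rw [hqi]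
      _ = f * q⁻¹ * ((e * f)⁻¹ * f) * q := by group
      _ = f * q⁻¹ * (f * (e * f)) * q := by rw [hfxf]
      _ = f * q⁻¹ * f * ((e * f) * q) := by group
      _ = f * q⁻¹ * f * (q * (e * f)) := by rw [hcomm']
      _ = u * (e * f) := by rw [hu]; group
  -- e * f' = x * u
  have hef' : e * (q⁻¹ * f * q) = (e * f) * u := by
    rw [hu]
    calc e * (q⁻¹ * f * q) = e * (f * f) * (q⁻¹ * f * q) := by rw [N.Esq f hf, mul_one]
      _ = e * f * (f * (q⁻¹ * f * q)) := by group
  have hxu' : Commute (e * f) u := hxu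
  have hu2' : u ^ 2 = 1 := by rw [pow_two]; exact hu2
  have hu1 : u = 1 := by
    rcases N.Ett e he _ hf' with h | h
    · exfalso
      rw [hef', hxu'.mul_pow, hu2', mul_one] at h
      have hx1 : e * f = 1 := by
        calc e * f = (e * f) ^ 3 * ((e * f) ^ 2)⁻¹ := by group
          _ = 1 := by rw [hx3, h]; group
      apply hne
      have hfe : f = e⁻¹ := eq_inv_of_mul_eq_one_right hx1
      rw [hfe]; group
    · rw [hef', hxu'.mul_pow, hx3, one_mul] at h
      calc u = u ^ 3 * (u ^ 2)⁻¹ := by group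
        _ = 1 := by rw [h, hu2']; group
  -- q commutes with f
  have hqf : q * f = f * q := by
    have h1 : f * (q⁻¹ * f * q) = 1 := hu ▸ hu1
    have h2 : q⁻¹ * f * q = f⁻¹ := eq_inv_of_mul_eq_one_right h1
    rw [N.Einv hf] at h2
    calc q * f = q * (q⁻¹ * f * q) := by rw [h2]
      _ = f * q := by group
  calc q * e = q * (e * f) * f⁻¹ := by group
    _ = (e * f) * q * f⁻¹ := by rw [hcomm]
    _ = (e * f) * (q * f) := by rw [N.Einv hf]; group
    _ = (e * f) * (f * q) := by rw [hqf]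
    _ = e * (f * f) * q := by group
    _ = e * q := by rw [N.Esq f hf, mul_one]

end HData

end Cfsg.Agent.Lib.Helper90.TT232
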