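/-
helper90: S5559, concrete part continued: the fixed point function and the abstract data.
-/
import Mathlib
import Cfsg.Agent.Lib.Helper90.TT232H

set_option autoImplicit false
set_option linter.style.haveILetI false

namespace Cfsg.Agent.Lib.Helper90.TT232

open Subgroup

namespace HData

variable {H A : Type*} [Group H] [Group A] (N : HData H A)

/-- fixed points of `a : A` in the kernel -/
def fixQ (a : A) : Subgroup H where
  carrier := {q | q ∈ N.π.ker ∧ ∀ h, N.π h = a → q * h = h * q}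
  mul_mem' := by
    rintro q₁ q₂ ⟨h1, h1'⟩ ⟨h2, h2'⟩
    refine ⟨mul_mem h1 h2, fun h hh => ?_⟩
    rw [mul_assoc, h2' h hh, ← mul_assoc, h1' h hh, mul_assoc]
  one_mem' := ⟨one_mem _, fun h _ => by simp⟩
  inv_mem' := by
    rintro q ⟨h1, h1'⟩
    exact ⟨inv_mem h1, fun h hh => (show Commute q h from h1' h hh).inv_left.eq⟩

theorem mem_fixQ {a : A} {q : H} :
    q ∈ N.fixQ a ↔ q ∈ N.π.ker ∧ ∀ h, N.π h = a → q * h = h * q := Iff.rfl

theorem mem_fixQ_mk {h₀ q : H} : q ∈ N.fixQ (N.π h₀) ↔ q ∈ N.π.ker ∧ q * h₀ = h₀ * q := by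
  constructor
  · rintro ⟨h1, h2⟩; exact ⟨h1, h2 h₀ rfl⟩
  · rintro ⟨h1, h2⟩
    refine ⟨h1, fun h hh => ?_⟩
    have hk : h₀⁻¹ * h ∈ N.π.ker := by
      rw [MonoidHom.mem_ker, map_mul, map_inv, hh, inv_mul_cancel]
    have hc := N.Kab q h1 _ hk
    calc q * h = (q * h₀) * (h₀⁻¹ * h) := by group
      _ = h₀ * (q * (h₀⁻¹ * h)) := by rw [h2]; group
      _ = h₀ * ((h₀⁻¹ * h) * q) := by rw [hc]
      _ = h * q := by group

theorem fixQ_le (a : A) : N.fixQ a ≤ N.π.ker := fun _ hq => hq.1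

theorem fixQ_one : N.fixQ 1 = N.π.ker := by
  ext q
  constructor
  · exact fun hq => hq.1
  · exact fun hq => ⟨hq, fun h hh => N.Kab q hq h (MonoidHom.mem_ker.mpr hh)⟩

theorem fixQ_mul (a b : A) : N.fixQ a ⊓ N.fixQ b ≤ N.fixQ (a * b) := by
  rintro q ⟨⟨hq, ha⟩, ⟨_, hb⟩⟩
  refine ⟨hq, fun h hh => ?_⟩
  obtain ⟨h_a, rfl⟩ := N.surj a
  have hb' : N.π (h_a⁻¹ * h) = b := by rw [map_mul, map_inv, hh]; group
  have c1 := ha h_a rfl
  have c2 := hb _ hb'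
  calc q * h = (q * h_a) * (h_a⁻¹ * h) := by group
    _ = h_a * (q * (h_a⁻¹ * h)) := by rw [c1]; group
    _ = h_a * ((h_a⁻¹ * h) * q) := by rw [c2]
    _ = h * q := by group

theorem fixQ_inv (a : A) : N.fixQ a ≤ N.fixQ a⁻¹ := by
  rintro q ⟨hq, ha⟩
  refine ⟨hq, fun h hh => ?_⟩
  have h1 : N.π h⁻¹ = a := by rw [map_inv, hh, inv_inv]
  have h2 := ha _ h1
  have := (show Commute q h⁻¹ from h2).inv_right
  rw [inv_inv] at this
  exact this.eq

/-- for central `z`, `fixQ z` is invariant under conjugation -/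
theorem conj_mem_fixQ_central {z : A} (hz : ∀ a, z * a = a * z) {u : H} (hu : u ∈ N.fixQ z)
    (g : H) : g * u * g⁻¹ ∈ N.fixQ z := by
  haveI : N.π.ker.Normal := N.π.normal_ker
  refine ⟨Subgroup.Normal.conj_mem inferInstance u hu.1 g, fun h hh => ?_⟩
  have h1 : N.π (g⁻¹ * h * g) = z := by
    rw [map_mul, map_mul, map_inv, hh, ← hz, mul_assoc, inv_mul_cancel, mul_one]
  have h2 := hu.2 _ h1
  calc g * u * g⁻¹ * h = g * (u * (g⁻¹ * h * g)) * g⁻¹ := by group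
    _ = g * ((g⁻¹ * h * g) * u) * g⁻¹ := by rw [h2]
    _ = h * (g * u * g⁻¹) := by group

theorem fixQ_conj (z : A) (hz : ∀ a, z * a = a * z) (s g : A) (hle : N.fixQ z ≤ N.fixQ s) :
    N.fixQ z ≤ N.fixQ (g * s * g⁻¹) := by
  intro q hq
  obtain ⟨g', rfl⟩ := N.surj g
  have hq' : g'⁻¹ * q * g' ∈ N.fixQ z := by
    have := N.conj_mem_fixQ_central hz hq g'⁻¹
    rwa [inv_inv] at this
  have hs := hle hq'
  refine ⟨hq.1, fun h hh => ?_⟩
  have h1 : N.π (g'⁻¹ * h * g') = s := by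
    rw [map_mul, map_mul, map_inv, hh]; group
  have h2 := hs.2 _ h1
  calc q * h = g' * ((g'⁻¹ * q * g') * (g'⁻¹ * h * g')) * g'⁻¹ := by group
    _ = g' * ((g'⁻¹ * h * g') * (g'⁻¹ * q * g')) * g'⁻¹ := by rw [h2]
    _ = h * q := by group

theorem fixQ_dag [Finite H] : ∀ s ∈ N.π '' N.E, ∀ t ∈ N.π '' N.E, s ≠ t →
    N.fixQ (s * t) ≤ N.fixQ s := by
  rintro _ ⟨e, he, rfl⟩ _ ⟨f, hf, rfl⟩ hne q hq
  rw [← map_mul] at hq
  rw [mem_fixQ_mk] at hq ⊢
  have hne' : e * f ≠ f * e := fun h => hne (N.step2a he hf h)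
  exact ⟨hq.1, N.dagger he hf hne' hq.1 hq.2⟩

theorem fixQ_faith : ∀ s ∈ N.π '' N.E, ¬ N.π.ker ≤ N.fixQ s := by
  rintro _ ⟨e, he, rfl⟩ hle
  haveI : N.π.ker.Normal := N.π.normal_ker
  obtain ⟨e₀, he₀, q, hq, hne⟩ := N.faith
  obtain ⟨g, rfl⟩ := N.Etrans e he e₀ he₀
  have hq' : g⁻¹ * q * g ∈ N.π.ker := by
    have := Subgroup.Normal.conj_mem (inferInstance : N.π.ker.Normal) q hq g⁻¹
    rwa [inv_inv] at this
  have h1 := (N.mem_fixQ_mk.mp (hle hq')).2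
  apply hne
  calc g * e * g⁻¹ * q = g * (e * (g⁻¹ * q * g)) * g⁻¹ := by group
    _ = g * ((g⁻¹ * q * g) * e) * g⁻¹ := by rw [h1]
    _ = q * (g * e * g⁻¹) := by group

theorem D_two : ∃ s ∈ N.π '' N.E, ∃ t ∈ N.π '' N.E, s ≠ t := by
  by_contra hcon
  push Not at hcon
  obtain ⟨e, he, q, _, hne⟩ := N.faith
  apply hne
  have hall : ∀ h : H, e * h = h * e := by
    intro h
    have hh : h ∈ Subgroup.closure N.E := by rw [N.Egen]; exact Subgroup.mem_top h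
    induction hh using Subgroup.closure_induction with
    | mem f hf => exact N.step2b he hf (hcon _ ⟨e, he, rfl⟩ _ ⟨f, hf, rfl⟩)
    | one => simp
    | mul a b _ _ iha ihb => rw [← mul_assoc, iha, mul_assoc, ihb, ← mul_assoc]
    | inv a _ iha => exact (show Commute e a from iha).inv_right.eq
  exact hall q

theorem D_sq : ∀ s ∈ N.π '' N.E, s * s = 1 := by
  rintro _ ⟨e, he, rfl⟩
  rw [← map_mul, N.Esq e he, map_one]

theorem D_inP [Finite H] : ∀ s ∈ N.π '' N.E, ∀ t ∈ N.π '' N.E, s * t ∈ N.P := by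
  rintro _ ⟨e, he, rfl⟩ _ ⟨f, hf, rfl⟩
  rw [← map_mul]
  exact N.step1 he hf

theorem D_cube [Finite H] : ∀ s ∈ N.π '' N.E, ∀ t ∈ N.π '' N.E, (s * t) ^ 3 = 1 := by
  rintro _ ⟨e, he, rfl⟩ _ ⟨f, hf, rfl⟩
  rcases N.Ett e he f hf with h | h
  · have hc : e * f = f * e := by
      rw [pow_two] at h
      have h3 : e * f = (e * f)⁻¹ := eq_inv_of_mul_eq_one_left h
      rw [h3, mul_inv_rev, N.Einv he, N.Einv hf]
    rw [N.step2a he hf hc, ← map_mul, N.Esq f hf, map_one, one_pow]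
  · rw [← map_mul, ← map_pow, h, map_one]

theorem D_conj : ∀ s ∈ N.π '' N.E, ∀ g : A, g * s * g⁻¹ ∈ N.π '' N.E := by
  rintro _ ⟨e, he, rfl⟩ g
  obtain ⟨g', rfl⟩ := N.surj g
  exact ⟨g' * e * g'⁻¹, N.Econj e he g', by simp⟩

theorem D_gen : Subgroup.closure (N.π '' N.E) = ⊤ := by
  rw [← MonoidHom.map_closure, N.Egen, ← MonoidHom.range_eq_map, MonoidHom.range_eq_top]
  exact N.surj

end HData

end Cfsg.Agent.Lib.Helper90.TT232
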