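/-
helper90: S5559, concrete part continued: the generation lemma (ML) and the core theorem.
-/
import Mathlib
import Cfsg.Agent.Lib.Helper90.TT232I

set_option autoImplicit false
set_option linter.style.haveILetI false

namespace Cfsg.Agent.Lib.Helper90.TT232

open Subgroup

theorem comm_of_conj_eq {G : Type*} [Group G] {g w : G} (h : g * w * g⁻¹ = w) : w * g = g * w := by
  calc w * g = (g * w * g⁻¹) * g := by rw [h]
    _ = g * w := by group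

namespace HData

variable {H A : Type*} [Group H] [Group A] (N : HData H A)

theorem fixQ_ml (z : A) (hz : ∀ a, z * a = a * z) (a b : A)
    (h1 : N.fixQ z ≤ N.fixQ (a ^ 3)) (h2 : N.fixQ z ≤ N.fixQ (b ^ 3))
    (h3 : N.fixQ z ≤ N.fixQ (a * b * a⁻¹ * b⁻¹)) :
    N.fixQ z ≤ (N.fixQ z ⊓ N.fixQ a) ⊔ (N.fixQ z ⊓ N.fixQ b) ⊔ (N.fixQ z ⊓ N.fixQ (a * b)) ⊔
      (N.fixQ z ⊓ N.fixQ (a * b ^ 2)) := by
  obtain ⟨a', rfl⟩ := N.surj a
  obtain ⟨b', rfl⟩ := N.surj b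
  set S := (N.fixQ z ⊓ N.fixQ (N.π a')) ⊔ (N.fixQ z ⊓ N.fixQ (N.π b')) ⊔
    (N.fixQ z ⊓ N.fixQ (N.π a' * N.π b')) ⊔ (N.fixQ z ⊓ N.fixQ (N.π a' * N.π b' ^ 2)) with hS
  letI : CommGroup (N.fixQ z) :=
    { (inferInstance : Group (N.fixQ z)) with
      mul_comm := fun u v => Subtype.ext (N.Kab u.1 u.2.1 v.1 v.2.1) }
  let α : N.fixQ z →* N.fixQ z :=
    { toFun := fun u => ⟨a' * u.1 * a'⁻¹, N.conj_mem_fixQ_central hz u.2 a'⟩
      map_one' := by apply Subtype.ext; simp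
      map_mul' := fun u v => by apply Subtype.ext; simp }
  let β : N.fixQ z →* N.fixQ z :=
    { toFun := fun u => ⟨b' * u.1 * b'⁻¹, N.conj_mem_fixQ_central hz u.2 b'⟩
      map_one' := by apply Subtype.ext; simp
      map_mul' := fun u v => by apply Subtype.ext; simp }
  have hαv : ∀ w : N.fixQ z, ((α w : N.fixQ z) : H) = a' * w.1 * a'⁻¹ := fun _ => rfl
  have hβv : ∀ w : N.fixQ z, ((β w : N.fixQ z) : H) = b' * w.1 * b'⁻¹ := fun _ => rfl
  have hαβ : ∀ w, β (α w) = α (β w) := by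
    intro w
    apply Subtype.ext
    rw [hβv, hαv, hαv, hβv]
    -- κ := a' b' a'⁻¹ b'⁻¹ commutes with β (α w)
    have hw' : (β (α w) : N.fixQ z).1 ∈ N.fixQ (N.π a' * N.π b' * (N.π a')⁻¹ * (N.π b')⁻¹) :=
      h3 (β (α w)).2
    have hκ : N.π (a' * b' * a'⁻¹ * b'⁻¹) = N.π a' * N.π b' * (N.π a')⁻¹ * (N.π b')⁻¹ := by simp
    have hc := hw'.2 _ hκ
    rw [hβv, hαv] at hc
    calc b' * (a' * w.1 * a'⁻¹) * b'⁻¹
        = (b' * (a' * w.1 * a'⁻¹) * b'⁻¹ * (a' * b' * a'⁻¹ * b'⁻¹)) * (a' * b' * a'⁻¹ * b'⁻¹)⁻¹ := by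
          group
      _ = ((a' * b' * a'⁻¹ * b'⁻¹) * (b' * (a' * w.1 * a'⁻¹) * b'⁻¹)) * (a' * b' * a'⁻¹ * b'⁻¹)⁻¹ := by
          rw [hc]
      _ = a' * (b' * w.1 * b'⁻¹) * a'⁻¹ := by group
  have hα : ∀ w, α (α (α w)) = w := by
    intro w
    apply Subtype.ext
    rw [hαv, hαv, hαv]
    have hw' := h1 w.2
    have hκ : N.π (a' * a' * a') = N.π a' ^ 3 := by simp [pow_three']
    have hc := hw'.2 _ hκ
    calc a' * (a' * (a' * w.1 * a'⁻¹) * a'⁻¹) * a'⁻¹ = (a' * a' * a') * w.1 * (a' * a' * a')⁻¹ := by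
          group
      _ = (w.1 * (a' * a' * a')) * (a' * a' * a')⁻¹ := by rw [hc]
      _ = w.1 := by group
  have hβ : ∀ w, β (β (β w)) = w := by
    intro w
    apply Subtype.ext
    rw [hβv, hβv, hβv]
    have hw' := h2 w.2
    have hκ : N.π (b' * b' * b') = N.π b' ^ 3 := by simp [pow_three']
    have hc := hw'.2 _ hκ
    calc b' * (b' * (b' * w.1 * b'⁻¹) * b'⁻¹) * b'⁻¹ = (b' * b' * b') * w.1 * (b' * b' * b')⁻¹ := by
          group
      _ = (w.1 * (b' * b' * b')) * (b' * b' * b')⁻¹ := by rw [hc]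
      _ = w.1 := by group
  intro u hu
  obtain ⟨n₁, n₂, n₃, n₄, n₅, e₁, e₂, e₃, e₄, e₅, hcube⟩ := cube_decomp α β hαβ hα hβ ⟨u, hu⟩
  -- memberships
  have l₁ : N.fixQ z ⊓ N.fixQ (N.π a') ≤ S := le_sup_of_le_left (le_sup_of_le_left le_sup_left)
  have l₂ : N.fixQ z ⊓ N.fixQ (N.π b') ≤ S := le_sup_of_le_left (le_sup_of_le_left le_sup_right)
  have l₃ : N.fixQ z ⊓ N.fixQ (N.π a' * N.π b') ≤ S := le_sup_of_le_left le_sup_right
  have l₄ : N.fixQ z ⊓ N.fixQ (N.π a' * N.π b' ^ 2) ≤ S := le_sup_right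
  have m₁ : n₁.1 ∈ S := by
    have : n₁.1 ∈ N.fixQ z ⊓ N.fixQ (N.π a') := by
      refine ⟨n₁.2, N.mem_fixQ_mk.mpr ⟨n₁.2.1, ?_⟩⟩
      have h := congrArg Subtype.val e₁
      rw [hαv] at h
      exact comm_of_conj_eq h
    exact l₁ this
  have m₅ : n₅.1 ∈ S := by
    have : n₅.1 ∈ N.fixQ z ⊓ N.fixQ (N.π a') := by
      refine ⟨n₅.2, N.mem_fixQ_mk.mpr ⟨n₅.2.1, ?_⟩⟩
      have h := congrArg Subtype.val e₅
      rw [hαv] at h
      exact comm_of_conj_eq h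
    exact l₁ this
  have m₂ : n₂.1 ∈ S := by
    have : n₂.1 ∈ N.fixQ z ⊓ N.fixQ (N.π b') := by
      refine ⟨n₂.2, N.mem_fixQ_mk.mpr ⟨n₂.2.1, ?_⟩⟩
      have h := congrArg Subtype.val e₂
      rw [hβv] at h
      exact comm_of_conj_eq h
    exact l₂ this
  have m₃ : n₃.1 ∈ S := by
    have : n₃.1 ∈ N.fixQ z ⊓ N.fixQ (N.π a' * N.π b') := by
      rw [← map_mul]
      refine ⟨n₃.2, N.mem_fixQ_mk.mpr ⟨n₃.2.1, ?_⟩⟩
      have h := congrArg Subtype.val e₃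
      rw [hαv, hβv] at h
      apply comm_of_conj_eq
      calc (a' * b') * n₃.1 * (a' * b')⁻¹ = a' * (b' * n₃.1 * b'⁻¹) * a'⁻¹ := by group
        _ = n₃.1 := h
    exact l₃ this
  have m₄ : n₄.1 ∈ S := by
    have : n₄.1 ∈ N.fixQ z ⊓ N.fixQ (N.π a' * N.π b' ^ 2) := by
      rw [← map_pow, ← map_mul]
      refine ⟨n₄.2, N.mem_fixQ_mk.mpr ⟨n₄.2.1, ?_⟩⟩
      have h := congrArg Subtype.val e₄
      rw [hαv, hβv, hβv] at h
      rw [pow_two]
      apply comm_of_conj_eq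
      calc (a' * (b' * b')) * n₄.1 * (a' * (b' * b'))⁻¹
          = a' * (b' * (b' * n₄.1 * b'⁻¹) * b'⁻¹) * a'⁻¹ := by group
        _ = n₄.1 := h
    exact l₄ this
  have hcubeS : u ^ 3 ∈ S := by
    have h := congrArg Subtype.val hcube
    simp only [Subgroup.coe_pow, Subgroup.coe_mul, Subgroup.coe_inv] at h
    rw [h]
    exact mul_mem (mul_mem (mul_mem (mul_mem m₁ m₂) m₃) m₄) (inv_mem m₅)
  -- u is a power of u^3
  obtain ⟨m, hm⟩ := N.K2 ⟨u, hu.1⟩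
  have hm' : u ^ (2 ^ m) = 1 := by
    have := congrArg Subtype.val hm
    simpa using this
  have hdvd : orderOf u ∣ 2 ^ m := orderOf_dvd_of_pow_eq_one hm'
  have hcop : Nat.Coprime 3 (orderOf u) :=
    Nat.Coprime.coprime_dvd_right hdvd (Nat.Coprime.pow_right m (by decide))
  obtain ⟨j, hj⟩ := exists_pow_eq_self_of_coprime hcop
  rw [← hj]
  exact pow_mem hcubeS j

/-- The abstract data attached to `N`. -/
def toAData [Finite H] : AData A (Subgroup H) where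
  D := N.π '' N.E
  P := N.P
  P3 := N.P3
  sq := N.D_sq
  inP := N.D_inP
  cube := N.D_cube
  conj := N.D_conj
  gen := N.D_gen
  two := N.D_two
  fix := N.fixQ
  Q := N.π.ker
  fix_le := N.fixQ_le
  fix_one := N.fixQ_one
  fix_mul := N.fixQ_mul
  fix_inv := N.fixQ_inv
  fix_conj := N.fixQ_conj
  dag := N.fixQ_dag
  ml := N.fixQ_ml
  faith := N.fixQ_faith

/-- Core theorem. -/
theorem core [Finite H] {e : H} (he : e ∈ N.E) :
    (∃ t ∈ N.π '' N.E, t ≠ N.π e ∧ Subgroup.closure ({N.π e, t} : Set A) = ⊤) ∨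
    (∃ x y z : A, Rel54 x y z (N.π e) ∧ Subgroup.closure ({x, y, N.π e} : Set A) = ⊤ ∧ z ≠ 1 ∧
      x ∈ N.P ∧ y ∈ N.P ∧ x * y ≠ y * x) := by
  haveI : Finite A := Finite.of_surjective N.π N.surj
  exact AData.main N.toAData (d := N.π e) ⟨e, he, rfl⟩

end HData

end Cfsg.Agent.Lib.Helper90.TT232
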