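/-
helper90: S5559, reduction: from a 3-transposition group `H` with `F*(H) = O₂(H)` and
`H/O₂(H)` = normal 3-group by 2-group, to the core theorem applied to `H/O₂(H)'`.
-/
import Mathlib
import Cfsg.Prelude.Def_SporadicB
import Cfsg.Prelude.Def_Local
import Cfsg.Prelude.Def_Solvable
import Cfsg.Agent.Lib.Helper90.TT232J
import Cfsg.Agent.Lib.Helper90.Basic
import Cfsg.Agent.Lib.Helper22.FStar
import Cfsg.Agent.S0577

set_option autoImplicit false
set_option linter.style.haveILetI false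

namespace Cfsg.Agent.Lib.Helper90.TT232

open Subgroup Cfsg

section Red

variable {H : Type*} [Group H]

/-- basic consequences of being a class of 3-transpositions -/
theorem ttc_sq {E : Set H} (hE : Cfsg.IsThreeTranspositionClass E) : ∀ e ∈ E, e * e = 1 := by
  intro e he
  have h := hE.1.1 e he
  have := pow_orderOf_eq_one e
  rwa [h, pow_two] at this

theorem ttc_conj {E : Set H} (hE : Cfsg.IsThreeTranspositionClass E) :
    ∀ e ∈ E, ∀ g : H, g * e * g⁻¹ ∈ E := by
  obtain ⟨d, _, hEd⟩ := hE.2.1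
  intro e he g
  rw [hEd] at he ⊢
  have he' : IsConj d e := he
  show IsConj d (g * e * g⁻¹)
  exact he'.trans (isConj_iff.mpr ⟨g, rfl⟩)

theorem ttc_trans {E : Set H} (hE : Cfsg.IsThreeTranspositionClass E) :
    ∀ e ∈ E, ∀ f ∈ E, ∃ g : H, f = g * e * g⁻¹ := by
  obtain ⟨d, _, hEd⟩ := hE.2.1
  intro e he f hf
  rw [hEd] at he hf
  have he' : IsConj d e := he
  have hf' : IsConj d f := hf
  obtain ⟨g, hg⟩ := isConj_iff.mp (he'.symm.trans hf')
  exact ⟨g, hg.symm⟩

variable [Finite H]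

/-- the quotient map `H ⧸ ⁅Q,Q⁆ → H ⧸ Q` for `Q = O₂(H)` -/
noncomputable def redMap (H : Type*) [Group H] :
    letI := pCore_normal 2 H
    H ⧸ ⁅Cfsg.pCore 2 H, Cfsg.pCore 2 H⁆ →* H ⧸ Cfsg.pCore 2 H :=
  letI := pCore_normal 2 H
  QuotientGroup.lift ⁅Cfsg.pCore 2 H, Cfsg.pCore 2 H⁆ (QuotientGroup.mk' (Cfsg.pCore 2 H))
    (fun x hx => by
      have hle : ⁅Cfsg.pCore 2 H, Cfsg.pCore 2 H⁆ ≤ Cfsg.pCore 2 H := Subgroup.commutator_le_left _ _
      exact (QuotientGroup.eq_one_iff x).mpr (hle hx))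

end Red

section Red2

variable {H : Type*} [Group H]

theorem redMap_mk (h : H) :
    letI := pCore_normal 2 H
    redMap H (QuotientGroup.mk h) = (QuotientGroup.mk h : H ⧸ Cfsg.pCore 2 H) := rfl

theorem redMap_surj : Function.Surjective (redMap H) := by
  letI := pCore_normal 2 H
  intro a
  obtain ⟨h, rfl⟩ := QuotientGroup.mk_surjective a
  exact ⟨QuotientGroup.mk h, rfl⟩

theorem mem_ker_redMap {x : H ⧸ ⁅Cfsg.pCore 2 H, Cfsg.pCore 2 H⁆} :
    x ∈ (redMap H).ker ↔ ∃ q ∈ Cfsg.pCore 2 H, (QuotientGroup.mk q : H ⧸ ⁅Cfsg.pCore 2 H, Cfsg.pCore 2 H⁆) = x := by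
  letI := pCore_normal 2 H
  constructor
  · intro hx
    obtain ⟨h, rfl⟩ := QuotientGroup.mk_surjective x
    rw [MonoidHom.mem_ker, redMap_mk] at hx
    exact ⟨h, (QuotientGroup.eq_one_iff h).mp hx, rfl⟩
  · rintro ⟨q, hq, rfl⟩
    rw [MonoidHom.mem_ker, redMap_mk]
    exact (QuotientGroup.eq_one_iff q).mpr hq

end Red2


end Cfsg.Agent.Lib.Helper90.TT232

namespace Cfsg.Agent.Lib.Helper90.TT232

open Subgroup Cfsg
open scoped commutatorElement

section Red3

variable {H : Type*} [Group H] [Finite H]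

/-- If all of `E` acts trivially on `Q/Q'` (Q = O₂(H) = F*(H)), then `E` is a singleton. -/
theorem faith_aux {E : Set H} (hE : Cfsg.IsThreeTranspositionClass E)
    (hF : Cfsg.generalizedFittingSubgroup H = Cfsg.pCore 2 H)
    (P : Sylow 3 (H ⧸ Cfsg.pCore 2 H)) (k : ℕ) (hidx : (P : Subgroup (H ⧸ Cfsg.pCore 2 H)).index = 2 ^ k)
    (hno : ∀ e ∈ E, ∀ q ∈ Cfsg.pCore 2 H, e * q * e⁻¹ * q⁻¹ ∈ ⁅Cfsg.pCore 2 H, Cfsg.pCore 2 H⁆) :
    ∀ a ∈ E, ∀ b ∈ E, a = b := by
  haveI hQn := pCore_normal 2 H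
  have hQ2 := pCore_isPGroup 2 H
  set Q := Cfsg.pCore 2 H with hQ
  haveI : Fact (Nat.Prime 2) := ⟨Nat.prime_two⟩
  haveI : Fact (Nat.Prime 3) := ⟨Nat.prime_three⟩
  -- Step A: every h acts trivially on Q/Q'
  have hA : ∀ h : H, ∀ q ∈ Q, h * q * h⁻¹ * q⁻¹ ∈ ⁅Q, Q⁆ := by
    intro h
    have hh : h ∈ Subgroup.closure E := by rw [hE.2.2]; exact Subgroup.mem_top h
    induction hh using Subgroup.closure_induction with
    | mem e he => exact hno e he
    | one => intro q _; simp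
    | mul a b _ _ iha ihb =>
      intro q hq
      have h1 := ihb q hq
      have hq' : b * q * b⁻¹ ∈ Q := hQn.conj_mem q hq b
      have h2 := iha _ hq'
      have : a * b * q * (a * b)⁻¹ * q⁻¹ = (a * (b * q * b⁻¹) * a⁻¹ * (b * q * b⁻¹)⁻¹) *
          (b * q * b⁻¹ * q⁻¹) := by group
      rw [this]
      exact mul_mem h2 h1
    | inv a _ iha =>
      intro q hq
      have hq' : a⁻¹ * q * a ∈ Q := by
        have := hQn.conj_mem q hq a⁻¹
        rwa [inv_inv] at this
      have h1 := iha _ hq'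
      have : a⁻¹ * q * a⁻¹⁻¹ * q⁻¹ = (a * (a⁻¹ * q * a) * a⁻¹ * (a⁻¹ * q * a)⁻¹)⁻¹ := by group
      rw [this]
      exact inv_mem h1
  -- Step B: a Sylow 3-subgroup centralizes Q
  obtain ⟨S⟩ : Nonempty (Sylow 3 H) := inferInstance
  have hQnil : Group.IsNilpotent Q := hQ2.isNilpotent
  have hQ3 : ¬ 3 ∣ Nat.card Q := by
    obtain ⟨n, hn⟩ := (IsPGroup.iff_card).mp hQ2
    rw [hn]
    intro h3
    have := (Nat.Prime.dvd_of_dvd_pow Nat.prime_three h3)
    omega
  have hSQ : (S : Subgroup H) ≤ Subgroup.normalizer (Q : Set H) := by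
    rw [Subgroup.normalizer_eq_top]; exact le_top
  have hcomm : ⁅Q, (S : Subgroup H)⁆ ≤ (commutator Q).map Q.subtype := by
    rw [Subgroup.map_subtype_commutator, Subgroup.commutator_le]
    intro q hq s _
    have h1 := hA s q hq
    have : ⁅q, s⁆ = (s * q * s⁻¹ * q⁻¹)⁻¹ := by rw [commutatorElement_def]; group
    rw [this]
    exact inv_mem h1
  have hcent := Cfsg.Agent.S0577.le_centralizer_of_commutator_le_commutator (S : Subgroup H) Q
    S.isPGroup' hQnil hQ3 hSQ hcomm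
  -- Step C: S ≤ C(Q) ≤ Q
  have hSle : (S : Subgroup H) ≤ Q := by
    have h1 : (S : Subgroup H) ≤ Subgroup.centralizer (Q : Set H) :=
      Subgroup.le_centralizer_iff.mp hcent
    have h2 := Cfsg.Agent.Lib.Helper22.centralizer_generalizedFittingSubgroup_le (G := H)
    rw [hF] at h2
    exact h1.trans h2
  have hS1 : Nat.card (S : Subgroup H) = 1 := by
    obtain ⟨n, hn⟩ := (IsPGroup.iff_card).mp hQ2
    obtain ⟨m, hm⟩ := (IsPGroup.iff_card).mp S.isPGroup'
    have hdvd : Nat.card (S : Subgroup H) ∣ Nat.card Q := Subgroup.card_dvd_of_le hSle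
    rw [hn, hm] at hdvd
    rw [hm]
    have hcop : Nat.Coprime (3 ^ m) (2 ^ n) := Nat.Coprime.pow m n (by decide)
    exact Nat.Coprime.eq_one_of_dvd hcop hdvd
  have h3H : ¬ 3 ∣ Nat.card H := by
    intro h3
    have := S.dvd_card_of_dvd_card h3
    rw [hS1] at this
    omega
  -- Step E: H is a 2-group
  have hHQ : ¬ 3 ∣ Nat.card (H ⧸ Q) := by
    intro h3
    apply h3H
    have := Subgroup.card_eq_card_quotient_mul_card_subgroup Q
    rw [this]
    exact Dvd.dvd.mul_right h3 _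
  have hP1 : Nat.card (P : Subgroup (H ⧸ Q)) = 1 := by
    by_contra hne
    obtain ⟨m, hm⟩ := (IsPGroup.iff_card).mp P.isPGroup'
    apply hHQ
    have hm0 : m ≠ 0 := by
      rintro rfl
      exact hne (by rw [hm, pow_zero])
    have h3P : 3 ∣ Nat.card (P : Subgroup (H ⧸ Q)) := by
      rw [hm]; exact dvd_pow_self 3 hm0
    exact h3P.trans (Subgroup.card_subgroup_dvd_card _)
  have hcardHQ : Nat.card (H ⧸ Q) = 2 ^ k := by
    have := Subgroup.card_mul_index (P : Subgroup (H ⧸ Q))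
    rw [hP1, one_mul, hidx] at this
    exact this.symm
  have hH2 : IsPGroup 2 H := by
    obtain ⟨n, hn⟩ := (IsPGroup.iff_card).mp hQ2
    apply IsPGroup.of_card (n := k + n)
    rw [Subgroup.card_eq_card_quotient_mul_card_subgroup Q, hcardHQ, hn, pow_add]
  -- Step F
  obtain ⟨d, hd, hEd⟩ := hE.2.1
  have hC : ∀ t ∈ E, ∃ g, t = g * d * g⁻¹ := fun t ht => ttc_trans hE d hd t ht
  have hsing := class_singleton_of_pgroup hH2 E d hC hE.2.2
  intro a ha b hb
  rw [hsing a ha, hsing b hb]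

end Red3

end Cfsg.Agent.Lib.Helper90.TT232

namespace Cfsg.Agent.Lib.Helper90.TT232

open Subgroup Cfsg
open scoped commutatorElement

section Red4

variable {H A : Type*} [Group H] [Group A]

theorem HData.D_ne_one (N : HData H A) : ∀ s ∈ N.π '' N.E, s ≠ 1 := by
  intro s hs h1
  apply N.fixQ_faith s hs
  rw [h1, N.fixQ_one]

theorem HData.D_tts [Finite H] (N : HData H A) : Cfsg.IsThreeTranspositionSet (N.π '' N.E) := by
  refine ⟨fun s hs => ?_, fun s hs t ht => Or.inr (N.D_cube s hs t ht)⟩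
  haveI : Fact (Nat.Prime 2) := ⟨Nat.prime_two⟩
  apply orderOf_eq_prime
  · rw [pow_two]; exact N.D_sq s hs
  · exact N.D_ne_one s hs

theorem HData.D_not_commute [Finite H] (N : HData H A) {s t : A} (hs : s ∈ N.π '' N.E)
    (ht : t ∈ N.π '' N.E) (hne : t ≠ s) : ¬ Commute s t := by
  intro hc
  apply hne
  have h3 := N.D_cube s hs t ht
  have h2 : (s * t) ^ 2 = 1 := by
    rw [hc.mul_pow, pow_two, pow_two, N.D_sq s hs, N.D_sq t ht, one_mul]
  have h1 : s * t = 1 := by
    calc s * t = (s * t) ^ 3 * ((s * t) ^ 2)⁻¹ := by group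
      _ = 1 := by rw [h3, h2]; group
  have h4 : t = s⁻¹ := eq_inv_of_mul_eq_one_right h1
  rw [h4]
  exact inv_eq_of_mul_eq_one_left (N.D_sq s hs)

end Red4

section Red5

variable {H : Type*} [Group H] [Finite H]

/-- The data for the core theorem attached to `H`. -/
noncomputable def redData {E : Set H} (hE : Cfsg.IsThreeTranspositionClass E)
    (hE2 : ∃ a ∈ E, ∃ b ∈ E, a ≠ b)
    (hF : Cfsg.generalizedFittingSubgroup H = Cfsg.pCore 2 H)
    (P : Sylow 3 (H ⧸ Cfsg.pCore 2 H)) (hPn : (P : Subgroup (H ⧸ Cfsg.pCore 2 H)).Normal) (k : ℕ)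
    (hidx : (P : Subgroup (H ⧸ Cfsg.pCore 2 H)).index = 2 ^ k) :
    HData (H ⧸ ⁅Cfsg.pCore 2 H, Cfsg.pCore 2 H⁆) (H ⧸ Cfsg.pCore 2 H) :=
  letI := pCore_normal 2 H
  { π := redMap H
    surj := redMap_surj
    E := (QuotientGroup.mk' ⁅Cfsg.pCore 2 H, Cfsg.pCore 2 H⁆) '' E
    Esq := by
      rintro _ ⟨e, he, rfl⟩
      rw [← map_mul, ttc_sq hE e he, map_one]
    Ett := by
      rintro _ ⟨e, he, rfl⟩ _ ⟨f, hf, rfl⟩
      rcases hE.1.2 e he f hf with h | h
      · left; rw [← map_mul, ← map_pow, h, map_one]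
      · right; rw [← map_mul, ← map_pow, h, map_one]
    Econj := by
      rintro _ ⟨e, he, rfl⟩ g
      obtain ⟨g', rfl⟩ := QuotientGroup.mk'_surjective _ g
      exact ⟨g' * e * g'⁻¹, ttc_conj hE e he g', by simp⟩
    Etrans := by
      rintro _ ⟨e, he, rfl⟩ _ ⟨f, hf, rfl⟩
      obtain ⟨g, rfl⟩ := ttc_trans hE e he f hf
      exact ⟨QuotientGroup.mk' _ g, by simp⟩
    Egen := by
      rw [← MonoidHom.map_closure, hE.2.2, ← MonoidHom.range_eq_map, MonoidHom.range_eq_top]
      exact QuotientGroup.mk'_surjective _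
    Ene := by
      obtain ⟨a, ha, _⟩ := hE2
      exact ⟨_, ⟨a, ha, rfl⟩⟩
    K2 := by
      rintro ⟨x, hx⟩
      obtain ⟨q, hq, rfl⟩ := mem_ker_redMap.mp hx
      obtain ⟨n, hn⟩ := pCore_isPGroup 2 H ⟨q, hq⟩
      refine ⟨n, ?_⟩
      apply Subtype.ext
      have hn' : q ^ (2 ^ n) = 1 := by
        have := congrArg Subtype.val hn
        simpa using this
      show (QuotientGroup.mk q : H ⧸ ⁅Cfsg.pCore 2 H, Cfsg.pCore 2 H⁆) ^ (2 ^ n) = 1
      rw [← QuotientGroup.mk_pow, hn']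
      rfl
    Kab := by
      intro a ha b hb
      obtain ⟨q, hq, rfl⟩ := mem_ker_redMap.mp ha
      obtain ⟨r, hr, rfl⟩ := mem_ker_redMap.mp hb
      rw [← QuotientGroup.mk_mul, ← QuotientGroup.mk_mul, QuotientGroup.eq]
      have : (q * r)⁻¹ * (r * q) = ⁅r⁻¹, q⁻¹⁆ := by rw [commutatorElement_def]; group
      rw [this]
      exact Subgroup.commutator_mem_commutator (inv_mem hr) (inv_mem hq)
    P := P
    Pn := hPn
    P3 := P.isPGroup'
    k := k
    idx := hidx
    faith := by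
      by_contra hno
      push Not at hno
      obtain ⟨a, ha, b, hb, hab⟩ := hE2
      apply hab
      apply faith_aux hE hF P k hidx _ a ha b hb
      intro e he q hq
      have h1 := hno _ ⟨e, he, rfl⟩ _ (mem_ker_redMap.mpr ⟨q, hq, rfl⟩)
      rw [← QuotientGroup.eq_one_iff]
      simp only [QuotientGroup.mk'_apply] at h1
      simp only [QuotientGroup.mk_mul, QuotientGroup.mk_inv]
      rw [h1]; group }

end Red5

end Cfsg.Agent.Lib.Helper90.TT232

namespace Cfsg.Agent.Lib.Helper90.TT232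

open Subgroup Cfsg

theorem card_eq_54 {A : Type*} [Group A] [Finite A] {x y d : A} (P : Subgroup A)
    (hP3 : IsPGroup 3 P) (hx : x ∈ P) (hy : y ∈ P) (hxy : x * y ≠ y * x) (hd1 : d ≠ 1)
    (hd2 : d * d = 1) (hle : Nat.card A ≤ 54) : Nat.card A = 54 := by
  haveI : Fact (Nat.Prime 2) := ⟨Nat.prime_two⟩
  haveI : Fact (Nat.Prime 3) := ⟨Nat.prime_three⟩
  have h2 : 2 ∣ Nat.card A := by
    have : orderOf d = 2 := orderOf_eq_prime (by rw [pow_two]; exact hd2) hd1
    rw [← this]; exact orderOf_dvd_natCard d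
  obtain ⟨n, hn⟩ := (IsPGroup.iff_card).mp hP3
  have hncomm : ¬ ∀ a b : P, a * b = b * a := by
    intro h
    apply hxy
    have := h ⟨x, hx⟩ ⟨y, hy⟩
    have h2 := congrArg Subtype.val this
    simpa using h2
  have hn3 : 3 ≤ n := by
    by_contra hlt
    push Not at hlt
    apply hncomm
    interval_cases n
    · -- card 1
      have : Subsingleton P := (Nat.card_eq_one_iff_unique.mp (by rw [hn, pow_zero])).1
      intro a b; rw [Subsingleton.elim a b]
    · -- card 3
      have hp : (Nat.card P).Prime := by rw [hn, pow_one]; exact Nat.prime_three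
      haveI : Fact (Nat.card P).Prime := ⟨hp⟩
      haveI : IsCyclic P := isCyclic_of_prime_card rfl
      haveI : IsMulCommutative P := IsCyclic.isMulCommutative
      intro a b
      exact mul_comm' a b
    · haveI : IsMulCommutative P := IsPGroup.isMulCommutative_of_card_eq_prime_sq hn
      intro a b
      exact mul_comm' a b
  have h27 : 27 ∣ Nat.card A := by
    have h1 : 27 ∣ Nat.card P := by
      rw [hn]
      have : (27 : ℕ) = 3 ^ 3 := by norm_num
      rw [this]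
      exact pow_dvd_pow 3 hn3
    exact h1.trans (Subgroup.card_subgroup_dvd_card P)
  have h54 : 54 ∣ Nat.card A := by
    have hcop : Nat.Coprime 2 27 := by decide
    have := hcop.mul_dvd_of_dvd_of_dvd h2 h27
    simpa using this
  have hpos : 0 < Nat.card A := Nat.card_pos
  exact le_antisymm hle (Nat.le_of_dvd hpos h54)

end Cfsg.Agent.Lib.Helper90.TT232
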