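import Mathlib
import Cfsg.Agent.Lib.Helper90.A3Words

set_option autoImplicit false

namespace Cfsg.Agent.Lib.Helper90

section
variable {G : Type*} [Group G]

/-- `(a, a')` is a commuting pair of distinct members of `D`, and no other member of `D`
commutes with `a` or with `a'`. -/
def IsTPair (D : Set G) (a a' : G) : Prop :=
  a ∈ D ∧ a' ∈ D ∧ a' ≠ a ∧ a * a' = a' * a ∧
    ∀ z ∈ D, (a * z = z * a ∨ a' * z = z * a') → (z = a ∨ z = a')

/-- A conjugation-invariant set of 3-transpositions in which every member commutes with exactly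
one other member, which has the same commuting set. -/
structure TT4Data (D : Set G) : Prop where
  inv : ∀ a ∈ D, a * a = 1
  ne_one : ∀ a ∈ D, a ≠ 1
  braid : ∀ a ∈ D, ∀ b ∈ D, a * b = b * a ∨ a * b * a = b * a * b
  conj : ∀ a ∈ D, ∀ g : G, g * a * g⁻¹ ∈ D
  pair : ∀ a ∈ D, ∃ a', IsTPair D a a'

theorem IsTPair.symm {D : Set G} {a a' : G} (h : IsTPair D a a') : IsTPair D a' a := by
  obtain ⟨h1, h2, h3, h4, h5⟩ := h
  refine ⟨h2, h1, h3.symm, h4.symm, ?_⟩
  intro z hz hcz
  rcases h5 z hz hcz.symm with h6 | h6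
  · exact Or.inr h6
  · exact Or.inl h6

namespace TT4Data

variable {D : Set G} (hD : TT4Data D)
include hD

theorem isTPair_of_comm {a b : G} (ha : a ∈ D) (hb : b ∈ D) (hba : b ≠ a) (hab : a * b = b * a) :
    IsTPair D a b := by
  obtain ⟨a', ha'⟩ := hD.pair a ha
  rcases ha'.2.2.2.2 b hb (Or.inl hab) with h1 | h1
  · exact absurd h1 hba
  · rw [h1]; exact ha'

theorem inv_eq {a : G} (ha : a ∈ D) : a⁻¹ = a := inv_eq_of_mul_eq_one_right (hD.inv a ha)

theorem conj_mem' {a : G} (ha : a ∈ D) {g : G} (hg : g * g = 1) : g * a * g ∈ D := by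
  have := hD.conj a ha g
  rwa [inv_eq_of_mul_eq_one_right hg] at this

theorem a3rel {a a' z : G} (hp : IsTPair D a a') (hz : z ∈ D) (hza : z ≠ a) (hza' : z ≠ a') :
    A3Rel a a' z := by
  obtain ⟨h1, h2, h3, h4, h5⟩ := hp
  refine ⟨hD.inv a h1, hD.inv a' h2, hD.inv z hz, h4, ?_, ?_⟩
  · rcases hD.braid a h1 z hz with h6 | h6
    · rcases h5 z hz (Or.inl h6) with h7 | h7
      · exact absurd h7 hza
      · exact absurd h7 hza'
    · exact h6
  · rcases hD.braid a' h2 z hz with h6 | h6
    · rcases h5 z hz (Or.inr h6) with h7 | h7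
      · exact absurd h7 hza
      · exact absurd h7 hza'
    · exact h6

/-- the key lemma: `t = a a'` conjugates every other member of `D` to its partner. -/
theorem conj_partner {a a' z : G} (hp : IsTPair D a a') (hz : z ∈ D) (hza : z ≠ a)
    (hza' : z ≠ a') : IsTPair D z ((a * a') * z * (a * a')) := by
  have hr := hD.a3rel hp hz hza hza'
  have hw : (a * a') * z * (a * a') ∈ D := hD.conj_mem' hz hr.t_sq
  refine hD.isTPair_of_comm hz hw ?_ ?_
  · intro heq
    -- `a z a = a' z a'`
    have h1 : a' * z * a' = a * z * a := by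
      calc a' * z * a' = a * ((a * a') * z * (a * a')) * a := by
            simp only [mul_assoc, hr.hx_t, hr.hc_t, hr.hx, mul_one]
        _ = a * z * a := by rw [heq]
    rw [hr.hb, hr.hb'] at h1
    have h2 : a' = a := by
      have := mul_left_cancel (mul_right_cancel h1)
      exact this
    exact hp.2.2.1 h2
  · have := hr.t_comm_s
    calc z * ((a * a') * z * (a * a')) = (z * (a * a') * z) * (a * a') := by simp only [mul_assoc]
      _ = (a * a') * (z * (a * a') * z) := this.symm
      _ = (a * a') * z * (a * a') * z := by simp only [mul_assoc]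

omit hD in
theorem pair_disjoint {a a' b b' : G} (hp : IsTPair D a a') (hq : IsTPair D b b')
    (hba : b ≠ a) (hba' : b ≠ a') : b' ≠ a ∧ b' ≠ a' := by
  constructor
  · intro h1
    rcases hp.2.2.2.2 b hq.1 (Or.inl (by rw [← h1]; exact hq.2.2.2.1.symm)) with h2 | h2
    · exact hba h2
    · exact hba' h2
  · intro h1
    rcases hp.2.2.2.2 b hq.1 (Or.inr (by rw [← h1]; exact hq.2.2.2.1.symm)) with h2 | h2
    · exact hba h2
    · exact hba' h2

/-- `D` has at most six members. -/
theorem mem_six {x x' y : G} (hp : IsTPair D x x') (hy : y ∈ D) (hyx : y ≠ x) (hyx' : y ≠ x')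
    (z : G) (hz : z ∈ D) :
    z = x ∨ z = x' ∨ z = y ∨ z = (x * x') * y * (x * x') ∨ z = y * x * y ∨ z = y * x' * y := by
  by_contra hcon
  push Not at hcon
  obtain ⟨n1, n2, n3, n4, n5, n6⟩ := hcon
  have hr := hD.a3rel hp hy hyx hyx'
  have hpy := hD.conj_partner hp hy hyx hyx'
  have hu : y * x * y ∈ D := hD.conj_mem' hp.1 hr.hy
  have hu' : y * x' * y ∈ D := hD.conj_mem' hp.2.1 hr.hy
  have hpu : IsTPair D (y * x * y) (y * x' * y) := by
    refine hD.isTPair_of_comm hu hu' ?_ hr.u_comm
    intro h1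
    exact hp.2.2.1 (mul_left_cancel (mul_right_cancel h1))
  -- `z₁`
  have hp1 := hD.conj_partner hpy hz n3 n4
  set r := y * ((x * x') * y * (x * x')) with hrdef
  set z₁ := r * z * r with hz₁
  have hz₁D : z₁ ∈ D := hp1.2.1
  have hz₁x : z₁ ≠ x ∧ z₁ ≠ x' := pair_disjoint hp hp1 n1 n2
  have hp2 := hD.conj_partner hp hz₁D hz₁x.1 hz₁x.2
  -- `z = z₂`
  have hzz : z = (x * x') * z₁ * (x * x') := by
    rcases hp2.2.2.2.2 z hz (Or.inl hp1.2.2.2.1.symm) with h1 | h1
    · exact absurd h1.symm hp1.2.2.1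
    · exact h1
  -- `s = t r = r t`
  have hs1 : (y * x * y) * (y * x' * y) = (x * x') * r := by
    rw [← hr.s_eq, hrdef]
    have := hr.t_comm_s
    calc y * (x * x') * y = (y * (x * x') * y) * ((x * x') * (x * x')) := by
          rw [hr.t_sq, mul_one]
      _ = ((y * (x * x') * y) * (x * x')) * (x * x') := by simp only [mul_assoc]
      _ = ((x * x') * (y * (x * x') * y)) * (x * x') := by rw [this]
      _ = (x * x') * (y * ((x * x') * y * (x * x'))) := by simp only [mul_assoc]
  have hs2 : (y * x * y) * (y * x' * y) = r * (x * x') := by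
    rw [← hr.s_eq, hrdef]
    calc y * (x * x') * y = (y * (x * x') * y) * ((x * x') * (x * x')) := by
          rw [hr.t_sq, mul_one]
      _ = y * ((x * x') * y * (x * x')) * (x * x') := by simp only [mul_assoc]
  have hp3 := hD.conj_partner hpu hz n5 n6
  apply hp3.2.2.1
  have key : ∀ s : G, s = (x * x') * r → s = r * (x * x') → s * z * s = z := by
    intro s e1 e2
    calc s * z * s = ((x * x') * r) * z * (r * (x * x')) := by rw [← e1, ← e2]
      _ = (x * x') * z₁ * (x * x') := by rw [hz₁]; simp only [mul_assoc]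
      _ = z := hzz.symm
  exact key _ hs1 hs2

end TT4Data

end

end Cfsg.Agent.Lib.Helper90
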