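import Mathlib
import Cfsg.Agent.Lib.Helper90.TT4Pair
import Cfsg.Agent.Lib.Helper90.S4Recog3

set_option autoImplicit false

namespace Cfsg.Agent.Lib.Helper90

section
variable {G : Type*} [Group G]

/-- A lower bound for the order of a group from a set of conjugates of `x` and a set of elements
centralizing `x`. -/
theorem card_ge_of_conj_centralizer [Finite G] (x : G) (A H : Finset G)
    (hA : ∀ a ∈ A, ∃ c : G, c * x * c⁻¹ = a) (hH : ∀ k ∈ H, k * x = x * k) :
    A.card * H.card ≤ Nat.card G := by
  classical
  have := Fintype.ofFinite G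
  choose! c hc using hA
  rw [Nat.card_eq_fintype_card, ← Finset.card_univ, ← Finset.card_product]
  apply Finset.card_le_card_of_injOn (fun p => c p.1 * p.2)
  · intro p _
    exact Finset.mem_univ _
  · rintro ⟨a, k⟩ hp ⟨a', k'⟩ hp' heq
    simp only [Finset.mem_coe, Finset.mem_product] at hp hp'
    have e : c a * k = c a' * k' := heq
    have h1 : (c a * k) * x * (c a * k)⁻¹ = a := by
      have := hH k hp.2
      calc (c a * k) * x * (c a * k)⁻¹ = c a * (k * x) * k⁻¹ * (c a)⁻¹ := by group
        _ = c a * (x * k) * k⁻¹ * (c a)⁻¹ := by rw [this]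
        _ = c a * x * (c a)⁻¹ := by group
        _ = a := hc a hp.1
    have h2 : (c a' * k') * x * (c a' * k')⁻¹ = a' := by
      have := hH k' hp'.2
      calc (c a' * k') * x * (c a' * k')⁻¹ = c a' * (k' * x) * k'⁻¹ * (c a')⁻¹ := by group
        _ = c a' * (x * k') * k'⁻¹ * (c a')⁻¹ := by rw [this]
        _ = c a' * x * (c a')⁻¹ := by group
        _ = a' := hc a' hp'.1
    rw [e, h2] at h1
    subst h1
    have : k = k' := mul_left_cancel e
    rw [this]

namespace TT4Data

variable {D : Set G} (hD : TT4Data D)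
include hD

theorem six_distinct {x x' y : G} (hp : IsTPair D x x') (hy : y ∈ D) (hyx : y ≠ x)
    (hyx' : y ≠ x') :
    (x ≠ x' ∧ x ≠ y ∧ x ≠ (x * x') * y * (x * x') ∧ x ≠ y * x * y ∧ x ≠ y * x' * y) ∧
    (x' ≠ y ∧ x' ≠ (x * x') * y * (x * x') ∧ x' ≠ y * x * y ∧ x' ≠ y * x' * y) ∧
    (y ≠ (x * x') * y * (x * x') ∧ y ≠ y * x * y ∧ y ≠ y * x' * y) ∧
    ((x * x') * y * (x * x') ≠ y * x * y ∧ (x * x') * y * (x * x') ≠ y * x' * y) ∧
    y * x * y ≠ y * x' * y := by
  have hr := hD.a3rel hp hy hyx hyx'
  have hpy := hD.conj_partner hp hy hyx hyx'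
  have hu : y * x * y ∈ D := hD.conj_mem' hp.1 hr.hy
  have hu' : y * x' * y ∈ D := hD.conj_mem' hp.2.1 hr.hy
  have hpu : IsTPair D (y * x * y) (y * x' * y) := by
    refine hD.isTPair_of_comm hu hu' ?_ hr.u_comm
    intro h1
    exact hp.2.2.1 (mul_left_cancel (mul_right_cancel h1))
  have hy' := pair_disjoint hp hpy hyx hyx'
  -- `x` and `y` do not commute
  have hnc : x * y ≠ y * x := by
    intro h1
    rcases hp.2.2.2.2 y hy (Or.inl h1) with h2 | h2
    · exact hyx h2
    · exact hyx' h2
  have hux : y * x * y ≠ x := by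
    intro h1
    apply hnc
    calc x * y = (y * x * y) * y := by rw [h1]
      _ = y * x := by simp only [mul_assoc, hr.hy, mul_one]
  have hux' : y * x * y ≠ x' := by
    intro h1
    apply hyx'
    rw [← hr.hb] at h1
    calc y = x * (x * y * x) * x := by simp only [mul_assoc, hr.hx_t, hr.hx, mul_one]
      _ = x * x' * x := by rw [h1]
      _ = x' := by rw [hr.hc]; simp only [mul_assoc, hr.hx, mul_one]
  have hu'x := pair_disjoint hp hpu hux hux'
  have huy : y * x * y ≠ y := by
    intro h1
    apply hyx
    have h2 : x * y = 1 := by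
      have : y * (x * y) = y * 1 := by rw [mul_one, ← mul_assoc]; exact h1
      exact mul_left_cancel this
    have h3 : x = y⁻¹ := eq_inv_of_mul_eq_one_left h2
    rw [hr.inv_y] at h3
    exact h3.symm
  have huy' : y * x * y ≠ (x * x') * y * (x * x') := by
    intro h1
    apply hnc
    have h2 := hpy.2.2.2.1
    rw [← h1] at h2
    calc x * y = y * (y * x * y) := by simp only [mul_assoc, hr.hy_t]
      _ = (y * x * y) * y := h2
      _ = y * x := by simp only [mul_assoc, hr.hy, mul_one]
  have hu'y := pair_disjoint hpy hpu huy huy'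
  refine ⟨⟨hp.2.2.1.symm, hyx.symm, hy'.1.symm, hux.symm, hu'x.1.symm⟩,
    ⟨hyx'.symm, hy'.2.symm, hux'.symm, hu'x.2.symm⟩,
    ⟨hpy.2.2.1.symm, huy.symm, hu'y.1.symm⟩, ⟨huy'.symm, hu'y.2.symm⟩, hpu.2.2.1.symm⟩

/-- the main theorem: `G ≅ S₄`. -/
theorem tt4_main [Finite G] (hconjD : ∀ a ∈ D, ∀ b ∈ D, ∃ c : G, c * a * c⁻¹ = b)
    (hgen : Subgroup.closure D = ⊤) {x x' y : G} (hp : IsTPair D x x') (hy : y ∈ D)
    (hyx : y ≠ x) (hyx' : y ≠ x') : Nonempty (G ≃* Equiv.Perm (Fin 4)) := by
  classical
  have hr := hD.a3rel hp hy hyx hyx'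
  have hpy := hD.conj_partner hp hy hyx hyx'
  have hu : y * x * y ∈ D := hD.conj_mem' hp.1 hr.hy
  have hu' : y * x' * y ∈ D := hD.conj_mem' hp.2.1 hr.hy
  apply a3_recognition hr
  · -- generation
    rw [eq_top_iff, ← hgen, Subgroup.closure_le]
    have hxm : x ∈ Subgroup.closure ({x, x', y} : Set G) := Subgroup.subset_closure (by simp)
    have hxm' : x' ∈ Subgroup.closure ({x, x', y} : Set G) := Subgroup.subset_closure (by simp)
    have hym : y ∈ Subgroup.closure ({x, x', y} : Set G) := Subgroup.subset_closure (by simp)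
    intro z hz
    rcases hD.mem_six hp hy hyx hyx' z hz with rfl | rfl | rfl | rfl | rfl | rfl
    · exact hxm
    · exact hxm'
    · exact hym
    · exact Subgroup.mul_mem _ (Subgroup.mul_mem _ (Subgroup.mul_mem _ hxm hxm') hym)
        (Subgroup.mul_mem _ hxm hxm')
    · exact Subgroup.mul_mem _ (Subgroup.mul_mem _ hym hxm) hym
    · exact Subgroup.mul_mem _ (Subgroup.mul_mem _ hym hxm') hym
  · -- cardinality
    obtain ⟨⟨a1, a2, a3, a4, a5⟩, ⟨b1, b2, b3, b4⟩, ⟨c1, c2, c3⟩, ⟨d1, d2⟩, e1⟩ :=
      hD.six_distinct hp hy hyx hyx'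
    set A : Finset G := {x, x', y, (x * x') * y * (x * x'), y * x * y, y * x' * y} with hA
    have hAcard : A.card = 6 := by
      rw [hA, Finset.card_insert_of_notMem, Finset.card_insert_of_notMem,
        Finset.card_insert_of_notMem, Finset.card_insert_of_notMem,
        Finset.card_insert_of_notMem, Finset.card_singleton]
      · simp only [Finset.mem_singleton]; exact e1
      · simp only [Finset.mem_insert, Finset.mem_singleton]; tauto
      · simp only [Finset.mem_insert, Finset.mem_singleton]; tauto
      · simp only [Finset.mem_insert, Finset.mem_singleton]; tauto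
      · simp only [Finset.mem_insert, Finset.mem_singleton]; tauto
    have hx1 : x ≠ 1 := hD.ne_one x hp.1
    have hx'1 : x' ≠ 1 := hD.ne_one x' hp.2.1
    set H : Finset G := {1, x, x', x * x'} with hH
    have hHcard : H.card = 4 := by
      rw [hH, Finset.card_insert_of_notMem, Finset.card_insert_of_notMem,
        Finset.card_insert_of_notMem, Finset.card_singleton]
      · simp only [Finset.mem_singleton]
        intro h1
        apply hx1
        calc x = x * (x' * x') := by rw [hr.hx', mul_one]
          _ = (x * x') * x' := by rw [mul_assoc]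
          _ = 1 := by rw [← h1, hr.hx']
      · simp only [Finset.mem_insert, Finset.mem_singleton]
        rintro (h1 | h1)
        · exact a1 h1
        · apply hx'1
          have : x * 1 = x * x' := by rw [mul_one]; exact h1
          exact (mul_left_cancel this).symm
      · simp only [Finset.mem_insert, Finset.mem_singleton]
        rintro (h1 | h1 | h1)
        · exact hx1 h1.symm
        · exact hx'1 h1.symm
        · apply a1
          have : x * x = x * x' := by rw [hr.hx]; exact h1
          exact mul_left_cancel this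
    have hmain := card_ge_of_conj_centralizer x A H ?_ ?_
    · rw [hAcard, hHcard] at hmain
      exact hmain
    · intro a ha
      rw [hA] at ha
      simp only [Finset.mem_insert, Finset.mem_singleton] at ha
      apply hconjD x hp.1
      rcases ha with rfl | rfl | rfl | rfl | rfl | rfl
      · exact hp.1
      · exact hp.2.1
      · exact hy
      · exact hpy.2.1
      · exact hu
      · exact hu'
    · intro k hk
      rw [hH] at hk
      simp only [Finset.mem_insert, Finset.mem_singleton] at hk
      rcases hk with rfl | rfl | rfl | rfl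
      · rw [one_mul, mul_one]
      · rfl
      · exact hr.hc.symm
      · exact hr.x_mul_t.symm

end TT4Data

end

end Cfsg.Agent.Lib.Helper90
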