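import Mathlib
import Cfsg.Prelude.Def_SporadicB
import Cfsg.Agent.Lib.Helper90.TT4Main

set_option autoImplicit false

namespace Cfsg.Agent.Lib.Helper90

section
variable {G : Type*} [Group G]

theorem IsTPair.conj {D : Set G} (hconj : ∀ a ∈ D, ∀ g : G, g * a * g⁻¹ ∈ D) {a a' : G}
    (h : IsTPair D a a') (c : G) : IsTPair D (c * a * c⁻¹) (c * a' * c⁻¹) := by
  obtain ⟨h1, h2, h3, h4, h5⟩ := h
  refine ⟨hconj a h1 c, hconj a' h2 c, ?_, ?_, ?_⟩
  · intro h6
    exact h3 (mul_left_cancel (mul_right_cancel h6))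
  · calc c * a * c⁻¹ * (c * a' * c⁻¹) = c * (a * a') * c⁻¹ := by group
      _ = c * (a' * a) * c⁻¹ := by rw [h4]
      _ = c * a' * c⁻¹ * (c * a * c⁻¹) := by group
  · intro z hz hcz
    have hz' : c⁻¹ * z * c⁻¹⁻¹ ∈ D := hconj z hz c⁻¹
    rw [inv_inv] at hz'
    have hcz' : a * (c⁻¹ * z * c) = (c⁻¹ * z * c) * a ∨ a' * (c⁻¹ * z * c) = (c⁻¹ * z * c) * a' := by
      rcases hcz with h6 | h6
      · left
        calc a * (c⁻¹ * z * c) = c⁻¹ * ((c * a * c⁻¹) * z) * c := by group
          _ = c⁻¹ * (z * (c * a * c⁻¹)) * c := by rw [h6]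
          _ = (c⁻¹ * z * c) * a := by group
      · right
        calc a' * (c⁻¹ * z * c) = c⁻¹ * ((c * a' * c⁻¹) * z) * c := by group
          _ = c⁻¹ * (z * (c * a' * c⁻¹)) * c := by rw [h6]
          _ = (c⁻¹ * z * c) * a' := by group
    rcases h5 _ hz' hcz' with h7 | h7
    · left
      calc z = c * (c⁻¹ * z * c) * c⁻¹ := by group
        _ = c * a * c⁻¹ := by rw [h7]
    · right
      calc z = c * (c⁻¹ * z * c) * c⁻¹ := by group
        _ = c * a' * c⁻¹ := by rw [h7]

variable [Finite G]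

/-- S5355: a class of 3-transpositions in which `d` commutes with exactly one other member, which
has the same commuting set, generates `S₄`. -/
theorem tt4_of_class {D : Set G} (hD : Cfsg.IsThreeTranspositionClass D) {d : G} (hd : d ∈ D)
    (hV : {y : G | y ∈ D ∧ Commute d y} =
      {v : G | v ∈ D ∧ ∀ e ∈ D, Commute v e ↔ Commute d e})
    (hm : {y : G | y ∈ D ∧ Commute d y}.ncard = 2) : Nonempty (G ≃* Equiv.Perm (Fin 4)) := by
  obtain ⟨⟨hord, h23⟩, ⟨d₀, hd₀, hDc⟩, hgen⟩ := hD
  -- conjugacy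
  have hmemD : ∀ a : G, a ∈ D ↔ IsConj d₀ a := by
    intro a
    rw [hDc]
    exact Iff.rfl
  have hconj : ∀ a ∈ D, ∀ g : G, g * a * g⁻¹ ∈ D := by
    intro a ha g
    rw [hmemD] at ha ⊢
    exact ha.trans (isConj_iff.mpr ⟨g, rfl⟩)
  have hconjD : ∀ a ∈ D, ∀ b ∈ D, ∃ c : G, c * a * c⁻¹ = b := by
    intro a ha b hb
    rw [hmemD] at ha hb
    exact isConj_iff.mp (ha.symm.trans hb)
  have hinv : ∀ a ∈ D, a * a = 1 := by
    intro a ha
    have := pow_orderOf_eq_one a
    rw [hord a ha, pow_two] at this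
    exact this
  have hne1 : ∀ a ∈ D, a ≠ 1 := by
    intro a ha h1
    have := hord a ha
    rw [h1, orderOf_one] at this
    omega
  have hbraid : ∀ a ∈ D, ∀ b ∈ D, a * b = b * a ∨ a * b * a = b * a * b := by
    intro a ha b hb
    have ha2 := hinv a ha
    have hb2 := hinv b hb
    have hai : a⁻¹ = a := inv_eq_of_mul_eq_one_right ha2
    have hbi : b⁻¹ = b := inv_eq_of_mul_eq_one_right hb2
    rcases h23 a ha b hb with h1 | h1
    · left
      rw [pow_two] at h1
      have h2 : a * b = (a * b)⁻¹ := eq_inv_of_mul_eq_one_left h1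
      rw [mul_inv_rev, hai, hbi] at h2
      exact h2
    · right
      have h2 : (a * b * a) * (b * a * b) = 1 := by
        rw [pow_succ, pow_two] at h1
        calc (a * b * a) * (b * a * b) = a * b * (a * b) * (a * b) := by simp only [mul_assoc]
          _ = 1 := h1
      have h3 : a * b * a = (b * a * b)⁻¹ := eq_inv_of_mul_eq_one_left h2
      rw [mul_inv_rev, mul_inv_rev, hai, hbi, ← mul_assoc] at h3
      exact h3
  -- the pair `(d, e)`
  obtain ⟨p, q, hpq, hset⟩ := Set.ncard_eq_two.mp hm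
  have hdmem : d ∈ {y : G | y ∈ D ∧ Commute d y} := ⟨hd, Commute.refl d⟩
  have hex : ∃ e : G, e ≠ d ∧ {y : G | y ∈ D ∧ Commute d y} = {d, e} := by
    rw [hset] at hdmem
    rcases hdmem with h1 | h1
    · exact ⟨q, by rw [h1]; exact hpq.symm, by rw [hset, h1]⟩
    · have h1' : d = q := h1
      exact ⟨p, by rw [h1']; exact hpq, by rw [hset, h1', Set.pair_comm]⟩
  obtain ⟨e, hed, hset'⟩ := hex
  have hemem : e ∈ {y : G | y ∈ D ∧ Commute d y} := by rw [hset']; simp
  have hemem' := hemem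
  rw [hV] at hemem'
  have hpair : IsTPair D d e := by
    refine ⟨hd, hemem.1, hed, hemem.2.eq, ?_⟩
    intro z hz hcz
    have hdz : Commute d z := by
      rcases hcz with h1 | h1
      · exact h1
      · exact (hemem'.2 z hz).mp h1
    have : z ∈ {y : G | y ∈ D ∧ Commute d y} := ⟨hz, hdz⟩
    rw [hset'] at this
    exact this
  have hdata : TT4Data D := by
    refine ⟨hinv, hne1, hbraid, hconj, ?_⟩
    intro a ha
    obtain ⟨c, hc⟩ := hconjD d hd a ha
    refine ⟨c * e * c⁻¹, ?_⟩
    rw [← hc]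
    exact hpair.conj hconj c
  -- a third element
  have hy : ∃ y ∈ D, y ≠ d ∧ y ≠ e := by
    by_contra hcon
    push Not at hcon
    -- `d` is central
    have hcen : Subgroup.closure D ≤ Subgroup.centralizer {d} := by
      rw [Subgroup.closure_le]
      intro z hz
      rw [SetLike.mem_coe, Subgroup.mem_centralizer_singleton_iff]
      by_cases hzd : z = d
      · rw [hzd]
      · have := hcon z hz hzd
        rw [this]
        exact hemem.2.eq.symm
    obtain ⟨c, hc⟩ := hconjD d hd e hemem.1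
    have hcc : c ∈ Subgroup.centralizer {d} := hcen (by rw [hgen]; trivial)
    rw [Subgroup.mem_centralizer_singleton_iff] at hcc
    apply hed
    rw [← hc, hcc]
    group
  obtain ⟨y, hyD, hyd, hye⟩ := hy
  exact hdata.tt4_main hconjD hgen hpair hyD hyd hye

end

end Cfsg.Agent.Lib.Helper90
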