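/-
helper21: project TWOUT (helper91), module TWOUT-[D4-SYL]: `U ∩ G¹` is a Sylow `p`-subgroup of `G¹ = ³D₄(q)`
(`|U ∩ G¹| = q¹²`, `|G¹| = q¹² (q² - 1)(q⁶ - 1)(q⁸ + q⁴ + 1)`, `q` a power of `p`).
-/
import Cfsg.Agent.Lib.Helper91.TwOut.D4Defs
import Cfsg.Agent.Lib.Helper18.TwOrdD4
import Cfsg.Agent.Lib.Helper18.Tw8

set_option autoImplicit false

namespace Cfsg.Agent.Lib.Helper90.TwOutSyl

open Cfsg Cfsg.Lie Cfsg.Agent.Lib.Helper18 Cfsg.Agent.Lib.Helper17 Cfsg.Agent.Lib.Helper91.TwOut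

universe u

/-- A natural number whose cube is a power of the prime `p` is a power of `p`. -/
theorem exists_pow_of_pow_three {p q n : ℕ} (hp : p.Prime) (h : q ^ 3 = p ^ n) : ∃ k : ℕ, q = p ^ k := by
  have hdvd : q ∣ p ^ n := by
    rw [← h]
    exact dvd_pow_self q (by norm_num)
  obtain ⟨k, -, hk⟩ := (Nat.dvd_prime_pow hp).1 hdvd
  exact ⟨k, hk⟩

/-- If `p ∣ q` then `p` does not divide `(q² - 1)(q⁶ - 1)(q⁸ + q⁴ + 1)`. -/
theorem not_dvd_cofactor {p q : ℕ} (hp : p.Prime) (hpq : p ∣ q) (hq : 2 ≤ q) :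
    ¬ p ∣ (q ^ 2 - 1) * (q ^ 6 - 1) * (q ^ 8 + q ^ 4 + 1) := by
  intro h
  have h1 : ∀ j : ℕ, 0 < j → ¬ p ∣ q ^ j - 1 := by
    intro j hj hd
    have hqj : p ∣ q ^ j := dvd_trans hpq (dvd_pow_self q hj.ne')
    have hpos : 1 ≤ q ^ j := Nat.one_le_pow _ _ (by omega)
    have : p ∣ q ^ j - (q ^ j - 1) := Nat.dvd_sub hqj hd
    have h1 : q ^ j - (q ^ j - 1) = 1 := by omega
    rw [h1] at this
    exact hp.one_lt.ne' (Nat.dvd_one.1 this)
  rcases (hp.dvd_mul).1 h with h2 | h2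
  · rcases (hp.dvd_mul).1 h2 with h3 | h3
    · exact h1 2 (by norm_num) h3
    · exact h1 6 (by norm_num) h3
  · have h8 : p ∣ q ^ 8 + q ^ 4 := dvd_add (dvd_trans hpq (dvd_pow_self q (by norm_num)))
      (dvd_trans hpq (dvd_pow_self q (by norm_num)))
    have : p ∣ 1 := (Nat.dvd_add_right h8).1 h2
    exact hp.one_lt.ne' (Nat.dvd_one.1 this)

variable {K : Type u} [Field K] [Fintype K] (φ : K ≃+* K)

/-- [D4-SYL] `U ∩ G¹` is a Sylow `p`-subgroup of `G¹ = ³D₄(q)`. -/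
theorem sylow_D4 (p : ℕ) [Fact p.Prime] [CharP K p] (q : ℕ) (hφ : ∀ t : K, φ t = t ^ q)
    (hK : Fintype.card K = q ^ 3) (hq : 2 ≤ q) :
    IsPGroup p ↥((chevD4.posUnipotent K).subgroupOf (GD4 φ)) ∧
      ¬ p ∣ ((chevD4.posUnipotent K).subgroupOf (GD4 φ)).index := by
  have hp : p.Prime := Fact.out
  -- `q` is a power of `p`
  obtain ⟨n, hn⟩ := FiniteField.card K p
  have hq3 : q ^ 3 = p ^ (n : ℕ) := by rw [← hK, hn.2]
  obtain ⟨k, hk⟩ := exists_pow_of_pow_three hp hq3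
  have hk0 : k ≠ 0 := by
    rintro rfl
    rw [pow_zero] at hk
    omega
  have hpq : p ∣ q := by
    rw [hk]
    exact dvd_pow_self p hk0
  -- the two cardinalities
  have hm : twCfg_D4.m = 3 := by decide
  have hU : Nat.card ↥(chevD4.posUnipotent K ⊓ GD4 φ) = q ^ 12 := by
    have h := card_posUnipotent_inf_Gtw hD4 chevData_D4.{u} twCfg_D4 φ twCfg_D4_ok' q hq
      (by rw [hm]; exact hK) hφ
    have h12 : chevD4.nroots / 2 = 12 := by decide
    rw [h12] at h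
    exact h
  have hG : Nat.card ↥(GD4 φ) = q ^ 12 * (q ^ 2 - 1) * (q ^ 6 - 1) * (q ^ 8 + q ^ 4 + 1) :=
    card_twD4 q φ hφ hK hq
  have hsub : Nat.card ↥((chevD4.posUnipotent K).subgroupOf (GD4 φ)) = q ^ 12 := by
    rw [← Subgroup.inf_subgroupOf_right, ← hU]
    exact Nat.card_congr (Subgroup.subgroupOfEquivOfLe inf_le_right).toEquiv
  constructor
  · refine IsPGroup.of_card (n := 12 * k) ?_
    rw [hsub, hk, ← pow_mul, Nat.mul_comm]
  · have hmul := Subgroup.card_mul_index ((chevD4.posUnipotent K).subgroupOf (GD4 φ))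
    rw [hsub, hG] at hmul
    have hpos : 0 < q ^ 12 := Nat.pos_of_ne_zero (pow_ne_zero _ (by omega))
    have hidx : ((chevD4.posUnipotent K).subgroupOf (GD4 φ)).index
        = (q ^ 2 - 1) * (q ^ 6 - 1) * (q ^ 8 + q ^ 4 + 1) := by
      apply Nat.eq_of_mul_eq_mul_left hpos
      rw [hmul]
      simp only [Nat.mul_assoc]
    rw [hidx]
    exact not_dvd_cofactor hp hpq hq

end Cfsg.Agent.Lib.Helper90.TwOutSyl
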