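import Mathlib
import Cfsg.Prelude.Def_MonsterType
import Cfsg.Agent.Lib.Helper90.OrderTwo

set_option autoImplicit false

namespace Cfsg.Agent.Lib.Helper90

open Cfsg

/-- If `C_G(Q) = Z(Q)` has order two with generator `z`, then `z` is central in every
2-subgroup `T` containing `Q`. -/
theorem center_gen_central_of_two_overgroup {G : Type*} [Group G] [Finite G] (Q : Subgroup G)
    (hL2 : Subgroup.centralizer (Q : Set G) = ((Subgroup.center ↥Q).map Q.subtype))
    (z : G) (hzZ : z ∈ (Subgroup.center ↥Q).map Q.subtype) (hz1 : z ≠ 1)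
    (hall : ∀ x ∈ (Subgroup.center ↥Q).map Q.subtype, x = 1 ∨ x = z)
    (T : Subgroup G) (hT : IsPGroup 2 T) (hQT : Q ≤ T) : ∀ t ∈ T, t * z = z * t := by
  have hzQ : z ∈ Q := Subgroup.map_subtype_le _ hzZ
  have : Nontrivial T := ⟨⟨⟨z, hQT hzQ⟩, 1, fun h => hz1 (congrArg Subtype.val h)⟩⟩
  have : Nontrivial (Subgroup.center T) := hT.center_nontrivial
  obtain ⟨c, hc⟩ := exists_ne (1 : Subgroup.center T)
  have hcT : ∀ t ∈ T, t * (c : T).1 = (c : T).1 * t := by
    intro t ht
    have := Subgroup.mem_center_iff.mp c.2 ⟨t, ht⟩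
    exact congrArg Subtype.val this
  have hcC : ((c : T) : G) ∈ Subgroup.centralizer (Q : Set G) := by
    rw [Subgroup.mem_centralizer_iff]
    intro q hq
    exact hcT q (hQT hq)
  rw [hL2] at hcC
  have hcz : ((c : T) : G) = z := by
    rcases hall _ hcC with h | h
    · exfalso; apply hc
      apply Subtype.ext; apply Subtype.ext; exact h
    · exact h
  intro t ht
  rw [← hcz]; exact hcT t ht

/-- If `C_G(Q) = Z(Q)` has order two and `C_G(Z(Q)) ≤ N_G(Q)`, then the normalizer of every
2-subgroup containing `Q` normalizes `Q`. -/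
theorem normalizer_two_overgroup_le {G : Type*} [Group G] [Finite G] (Q : Subgroup G)
    (hcard : Nat.card (Subgroup.center ↥Q) = 2)
    (hL2 : Subgroup.centralizer (Q : Set G) = ((Subgroup.center ↥Q).map Q.subtype))
    (hL3 : Subgroup.centralizer (((Subgroup.center ↥Q).map Q.subtype) : Set G)
      ≤ Subgroup.normalizer (Q : Set G))
    (T : Subgroup G) (hT : IsPGroup 2 T) (hQT : Q ≤ T) :
    Subgroup.normalizer (T : Set G) ≤ Subgroup.normalizer (Q : Set G) := by
  obtain ⟨z, hzZ, hz1, hzz, hall⟩ :=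
    exists_gen_of_card_two ((Subgroup.center ↥Q).map Q.subtype) (by rw [card_center_map]; exact hcard)
  have hzQ : z ∈ Q := Subgroup.map_subtype_le _ hzZ
  have hcen := center_gen_central_of_two_overgroup Q hL2 z hzZ hz1 hall T hT hQT
  intro n hn
  apply hL3
  have hnz : n * z * n⁻¹ = z := by
    have h1 : n * z * n⁻¹ ∈ T := (hn z).mp (hQT hzQ)
    have h2 : n * z * n⁻¹ ∈ Subgroup.centralizer (Q : Set G) := by
      rw [Subgroup.mem_centralizer_iff]
      intro q hq
      have hq' : n⁻¹ * q * n ∈ T := by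
        have := (Subgroup.mem_normalizer_iff''.mp hn q).mp (hQT hq)
        exact this
      have h3 := hcen _ hq'
      calc q * (n * z * n⁻¹) = n * ((n⁻¹ * q * n) * z) * n⁻¹ := by group
        _ = n * (z * (n⁻¹ * q * n)) * n⁻¹ := by rw [h3]
        _ = n * z * n⁻¹ * q := by group
    rw [hL2] at h2
    rcases hall _ h2 with h | h
    · exfalso; apply hz1
      have : n * z * n⁻¹ = n * 1 * n⁻¹ := by rw [h]; group
      have h4 := mul_right_cancel this
      exact mul_left_cancel h4
    · exact h
  rw [Subgroup.mem_centralizer_iff]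
  intro x hx
  rcases hall x hx with h | h
  · rw [h]; group
  · rw [h]
    calc z * n = (n * z * n⁻¹) * n := by rw [hnz]
      _ = n * z := by group

end Cfsg.Agent.Lib.Helper90
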